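import Cfsg.Agent.HN.A12Sq

/-! A subgroup `A12` of the presented Harada-Norton group: ten words satisfying Carmichael's relations (checked in the
133-dimensional representation over the field with 31 elements). -/

set_option autoImplicit false

namespace Cfsg.Agent.HN.A12

open Cfsg.Agent.Lib.PackMat Cfsg.Agent.Lib.PackMatGroup Cfsg.Agent.Lib.PackMatMul Cfsg.Agent.HN.RepData
open Cfsg.Agent.HN.Rep (L LG gens rho)
open Cfsg.Agent.HN.A12Step Cfsg.Agent.HN.A12Sq Cfsg.Agent.HN.A12Data

/-- straight line program computing the ten elements (results: newest first) -/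
def ws : List (ℕ × List ℕ) :=
  [(2, [0, 3, 3, 4, 2, 2, 2, 4, 3, 1, 3]),
    (3, [1, 3, 6, 4, 4, 4, 6, 3, 3, 2, 4]),
    (4, [2, 4, 4, 3, 4]),
    (6, [3, 6, 6, 4, 6]),
    (8, [10]),
    (12, [10]),
    (12, [10]),
    (12, [14]),
    (8, [10, 8, 11, 11, 8, 10, 10, 8, 11]),
    (11, [10, 12, 12, 10, 11, 11, 10, 12, 10]),
    (4, [8, 5, 9]),
    (3, [9, 4, 10]),
    (7, [10, 6, 11]),
    (6, [11, 5, 12]),
    (13, []),
    (5, [14, 6]),
    (12, [0, 13]),
    (13, [0, 14]),
    (14, [0, 15]),
    (15, [0, 16])]

theorem red_ok : (L.all fun A => redC C A) = true := by decide +kernel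

theorem forall_red {LG : List (U C)} {L : List ℕ} (h : List.Forall₂ (Codes C) LG L)
    (hL : (L.all fun A => redC C A) = true) : List.Forall₂ (CodesR C) LG L := by
  induction h with
  | nil => exact .nil
  | cons h1 _ ih =>
    rw [List.all_cons, Bool.and_eq_true] at hL
    exact .cons (Codes.red (good_of_check Rep.good) h1 hL.1) (ih hL.2)

theorem codesR : List.Forall₂ (CodesR C) LG L0 := forall_red Rep.codes red_ok

/-- one step -/
theorem step {i : ℕ} {w : List ℕ} {LG : List (U C)} {L : List ℕ} {D : ℕ}
    (h : List.Forall₂ (CodesR C) LG L) (hc : chkStep (i, w) L D = true) (k : ℕ) (hk : L.length = k)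
    (hi : i < k) (hw : okW k w = true) :
    List.Forall₂ (CodesR C) (evG LG (i :: w) :: LG) (D :: L) := by
  subst hk
  have h1 := codesR_ev (good_of_check Rep.good) h hi hw
  unfold chkStep at hc
  rw [withM_eq, runS_cons, runS_nil] at hc
  have h2 : evL (mulM C) L w (get L i) = D := Nat.eq_of_beq_eq_true hc
  rw [h2] at h1
  exact .cons h1 h

/-- results so far in the matrix group -/
noncomputable def G0 : List (U C) := LG
/-- results so far in the matrix group -/
noncomputable def G1 : List (U C) := evG G0 (2 :: [0, 3, 3, 4, 2, 2, 2, 4, 3, 1, 3]) :: G0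
/-- results so far in the matrix group -/
noncomputable def G2 : List (U C) := evG G1 (3 :: [1, 3, 6, 4, 4, 4, 6, 3, 3, 2, 4]) :: G1
/-- results so far in the matrix group -/
noncomputable def G3 : List (U C) := evG G2 (4 :: [2, 4, 4, 3, 4]) :: G2
/-- results so far in the matrix group -/
noncomputable def G4 : List (U C) := evG G3 (6 :: [3, 6, 6, 4, 6]) :: G3
/-- results so far in the matrix group -/
noncomputable def G5 : List (U C) := evG G4 (8 :: [10]) :: G4
/-- results so far in the matrix group -/
noncomputable def G6 : List (U C) := evG G5 (12 :: [10]) :: G5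
/-- results so far in the matrix group -/
noncomputable def G7 : List (U C) := evG G6 (12 :: [10]) :: G6
/-- results so far in the matrix group -/
noncomputable def G8 : List (U C) := evG G7 (12 :: [14]) :: G7
/-- results so far in the matrix group -/
noncomputable def G9 : List (U C) := evG G8 (8 :: [10, 8, 11, 11, 8, 10, 10, 8, 11]) :: G8
/-- results so far in the matrix group -/
noncomputable def G10 : List (U C) := evG G9 (11 :: [10, 12, 12, 10, 11, 11, 10, 12, 10]) :: G9
/-- results so far in the matrix group -/
noncomputable def G11 : List (U C) := evG G10 (4 :: [8, 5, 9]) :: G10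
/-- results so far in the matrix group -/
noncomputable def G12 : List (U C) := evG G11 (3 :: [9, 4, 10]) :: G11
/-- results so far in the matrix group -/
noncomputable def G13 : List (U C) := evG G12 (7 :: [10, 6, 11]) :: G12
/-- results so far in the matrix group -/
noncomputable def G14 : List (U C) := evG G13 (6 :: [11, 5, 12]) :: G13
/-- results so far in the matrix group -/
noncomputable def G15 : List (U C) := evG G14 (13 :: []) :: G14
/-- results so far in the matrix group -/
noncomputable def G16 : List (U C) := evG G15 (5 :: [14, 6]) :: G15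
/-- results so far in the matrix group -/
noncomputable def G17 : List (U C) := evG G16 (12 :: [0, 13]) :: G16
/-- results so far in the matrix group -/
noncomputable def G18 : List (U C) := evG G17 (13 :: [0, 14]) :: G17
/-- results so far in the matrix group -/
noncomputable def G19 : List (U C) := evG G18 (14 :: [0, 15]) :: G18
/-- results so far in the matrix group -/
noncomputable def G20 : List (U C) := evG G19 (15 :: [0, 16]) :: G19

theorem k0 : List.Forall₂ (CodesR C) G0 L0 := codesR
theorem k1 : List.Forall₂ (CodesR C) G1 L1 := step k0 s0 8 rfl (by decide) (by decide)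
theorem k2 : List.Forall₂ (CodesR C) G2 L2 := step k1 s1 9 rfl (by decide) (by decide)
theorem k3 : List.Forall₂ (CodesR C) G3 L3 := step k2 s2 10 rfl (by decide) (by decide)
theorem k4 : List.Forall₂ (CodesR C) G4 L4 := step k3 s3 11 rfl (by decide) (by decide)
theorem k5 : List.Forall₂ (CodesR C) G5 L5 := step k4 s4 12 rfl (by decide) (by decide)
theorem k6 : List.Forall₂ (CodesR C) G6 L6 := step k5 s5 13 rfl (by decide) (by decide)
theorem k7 : List.Forall₂ (CodesR C) G7 L7 := step k6 s6 14 rfl (by decide) (by decide)
theorem k8 : List.Forall₂ (CodesR C) G8 L8 := step k7 s7 15 rfl (by decide) (by decide)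
theorem k9 : List.Forall₂ (CodesR C) G9 L9 := step k8 s8 16 rfl (by decide) (by decide)
theorem k10 : List.Forall₂ (CodesR C) G10 L10 := step k9 s9 17 rfl (by decide) (by decide)
theorem k11 : List.Forall₂ (CodesR C) G11 L11 := step k10 s10 18 rfl (by decide) (by decide)
theorem k12 : List.Forall₂ (CodesR C) G12 L12 := step k11 s11 19 rfl (by decide) (by decide)
theorem k13 : List.Forall₂ (CodesR C) G13 L13 := step k12 s12 20 rfl (by decide) (by decide)
theorem k14 : List.Forall₂ (CodesR C) G14 L14 := step k13 s13 21 rfl (by decide) (by decide)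
theorem k15 : List.Forall₂ (CodesR C) G15 L15 := step k14 s14 22 rfl (by decide) (by decide)
theorem k16 : List.Forall₂ (CodesR C) G16 L16 := step k15 s15 23 rfl (by decide) (by decide)
theorem k17 : List.Forall₂ (CodesR C) G17 L17 := step k16 s16 24 rfl (by decide) (by decide)
theorem k18 : List.Forall₂ (CodesR C) G18 L18 := step k17 s17 25 rfl (by decide) (by decide)
theorem k19 : List.Forall₂ (CodesR C) G19 L19 := step k18 s18 26 rfl (by decide) (by decide)
theorem k20 : List.Forall₂ (CodesR C) G20 L20 := step k19 s19 27 rfl (by decide) (by decide)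

theorem runG_eq : runG ws LG = G20 := rfl

/-- The results of the program. -/
theorem results : List.Forall₂ (CodesR C) (runG ws LG) L20 := k20

end Cfsg.Agent.HN.A12
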