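import Cfsg.Agent.HN.A12Step

/-! Kernel checks for `Cfsg.Agent.HN.A12`, part 0. -/

set_option autoImplicit false

namespace Cfsg.Agent.HN.A12Sq

open Cfsg.Agent.HN.A12Data Cfsg.Agent.HN.A12Step

theorem s0 : chkStep (2, [0, 3, 3, 4, 2, 2, 2, 4, 3, 1, 3]) L0 D0 = true := by decide +kernel
theorem s1 : chkStep (3, [1, 3, 6, 4, 4, 4, 6, 3, 3, 2, 4]) L1 D1 = true := by decide +kernel

end Cfsg.Agent.HN.A12Sq
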