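import Cfsg.Agent.HN.A12Step

/-! Kernel checks for `Cfsg.Agent.HN.A12`, part 1. -/

set_option autoImplicit false

namespace Cfsg.Agent.HN.A12Sq

open Cfsg.Agent.HN.A12Data Cfsg.Agent.HN.A12Step

theorem s2 : chkStep (4, [2, 4, 4, 3, 4]) L2 D2 = true := by decide +kernel
theorem s3 : chkStep (6, [3, 6, 6, 4, 6]) L3 D3 = true := by decide +kernel
theorem s4 : chkStep (8, [10]) L4 D4 = true := by decide +kernel
theorem s5 : chkStep (12, [10]) L5 D5 = true := by decide +kernel
theorem s6 : chkStep (12, [10]) L6 D6 = true := by decide +kernel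
theorem s7 : chkStep (12, [14]) L7 D7 = true := by decide +kernel
theorem s8 : chkStep (8, [10, 8, 11, 11, 8, 10, 10, 8, 11]) L8 D8 = true := by decide +kernel

end Cfsg.Agent.HN.A12Sq
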