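import Cfsg.Agent.HN.A12Step

/-! Kernel checks for `Cfsg.Agent.HN.A12`, part 2. -/

set_option autoImplicit false

namespace Cfsg.Agent.HN.A12Sq

open Cfsg.Agent.HN.A12Data Cfsg.Agent.HN.A12Step

theorem s9 : chkStep (11, [10, 12, 12, 10, 11, 11, 10, 12, 10]) L9 D9 = true := by decide +kernel
theorem s10 : chkStep (4, [8, 5, 9]) L10 D10 = true := by decide +kernel
theorem s11 : chkStep (3, [9, 4, 10]) L11 D11 = true := by decide +kernel
theorem s12 : chkStep (7, [10, 6, 11]) L12 D12 = true := by decide +kernel
theorem s13 : chkStep (6, [11, 5, 12]) L13 D13 = true := by decide +kernel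
theorem s14 : chkStep (13, []) L14 D14 = true := by decide +kernel
theorem s15 : chkStep (5, [14, 6]) L15 D15 = true := by decide +kernel

end Cfsg.Agent.HN.A12Sq
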