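import Cfsg.Agent.HN.A12Step

/-! Kernel checks for `Cfsg.Agent.HN.A12`, part 3. -/

set_option autoImplicit false

namespace Cfsg.Agent.HN.A12Sq

open Cfsg.Agent.HN.A12Data Cfsg.Agent.HN.A12Step

theorem s16 : chkStep (12, [0, 13]) L16 D16 = true := by decide +kernel
theorem s17 : chkStep (13, [0, 14]) L17 D17 = true := by decide +kernel
theorem s18 : chkStep (14, [0, 15]) L18 D18 = true := by decide +kernel
theorem s19 : chkStep (15, [0, 16]) L19 D19 = true := by decide +kernel
theorem c0 : chkCube 0 = true := by decide +kernel
theorem c1 : chkCube 1 = true := by decide +kernel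
theorem c2 : chkCube 2 = true := by decide +kernel
theorem c3 : chkCube 3 = true := by decide +kernel
theorem c4 : chkCube 4 = true := by decide +kernel
theorem c5 : chkCube 5 = true := by decide +kernel
theorem c6 : chkCube 6 = true := by decide +kernel
theorem c7 : chkCube 7 = true := by decide +kernel

end Cfsg.Agent.HN.A12Sq
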