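import Cfsg.Agent.HN.A12Step

/-! Kernel checks for `Cfsg.Agent.HN.A12`, part 4. -/

set_option autoImplicit false

namespace Cfsg.Agent.HN.A12Sq

open Cfsg.Agent.HN.A12Data Cfsg.Agent.HN.A12Step

theorem c8 : chkCube 8 = true := by decide +kernel
theorem c9 : chkCube 9 = true := by decide +kernel
theorem q0_1 : chkSq 0 1 = true := by decide +kernel
theorem q0_2 : chkSq 0 2 = true := by decide +kernel
theorem q1_2 : chkSq 1 2 = true := by decide +kernel
theorem q0_3 : chkSq 0 3 = true := by decide +kernel
theorem q1_3 : chkSq 1 3 = true := by decide +kernel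
theorem q2_3 : chkSq 2 3 = true := by decide +kernel
theorem q0_4 : chkSq 0 4 = true := by decide +kernel
theorem q1_4 : chkSq 1 4 = true := by decide +kernel
theorem q2_4 : chkSq 2 4 = true := by decide +kernel
theorem q3_4 : chkSq 3 4 = true := by decide +kernel

end Cfsg.Agent.HN.A12Sq
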