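import Cfsg.Agent.HN.A12Step

/-! Kernel checks for `Cfsg.Agent.HN.A12`, part 5. -/

set_option autoImplicit false

namespace Cfsg.Agent.HN.A12Sq

open Cfsg.Agent.HN.A12Data Cfsg.Agent.HN.A12Step

theorem q0_5 : chkSq 0 5 = true := by decide +kernel
theorem q1_5 : chkSq 1 5 = true := by decide +kernel
theorem q2_5 : chkSq 2 5 = true := by decide +kernel
theorem q3_5 : chkSq 3 5 = true := by decide +kernel
theorem q4_5 : chkSq 4 5 = true := by decide +kernel
theorem q0_6 : chkSq 0 6 = true := by decide +kernel
theorem q1_6 : chkSq 1 6 = true := by decide +kernel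
theorem q2_6 : chkSq 2 6 = true := by decide +kernel
theorem q3_6 : chkSq 3 6 = true := by decide +kernel
theorem q4_6 : chkSq 4 6 = true := by decide +kernel
theorem q5_6 : chkSq 5 6 = true := by decide +kernel
theorem q0_7 : chkSq 0 7 = true := by decide +kernel

end Cfsg.Agent.HN.A12Sq
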