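import Cfsg.Agent.HN.A12Step

/-! Kernel checks for `Cfsg.Agent.HN.A12`, part 6. -/

set_option autoImplicit false

namespace Cfsg.Agent.HN.A12Sq

open Cfsg.Agent.HN.A12Data Cfsg.Agent.HN.A12Step

theorem q1_7 : chkSq 1 7 = true := by decide +kernel
theorem q2_7 : chkSq 2 7 = true := by decide +kernel
theorem q3_7 : chkSq 3 7 = true := by decide +kernel
theorem q4_7 : chkSq 4 7 = true := by decide +kernel
theorem q5_7 : chkSq 5 7 = true := by decide +kernel
theorem q6_7 : chkSq 6 7 = true := by decide +kernel
theorem q0_8 : chkSq 0 8 = true := by decide +kernel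
theorem q1_8 : chkSq 1 8 = true := by decide +kernel
theorem q2_8 : chkSq 2 8 = true := by decide +kernel
theorem q3_8 : chkSq 3 8 = true := by decide +kernel
theorem q4_8 : chkSq 4 8 = true := by decide +kernel
theorem q5_8 : chkSq 5 8 = true := by decide +kernel

end Cfsg.Agent.HN.A12Sq
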