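import Cfsg.Agent.HN.A12Step

/-! Kernel checks for `Cfsg.Agent.HN.A12`, part 7. -/

set_option autoImplicit false

namespace Cfsg.Agent.HN.A12Sq

open Cfsg.Agent.HN.A12Data Cfsg.Agent.HN.A12Step

theorem q6_8 : chkSq 6 8 = true := by decide +kernel
theorem q7_8 : chkSq 7 8 = true := by decide +kernel
theorem q0_9 : chkSq 0 9 = true := by decide +kernel
theorem q1_9 : chkSq 1 9 = true := by decide +kernel
theorem q2_9 : chkSq 2 9 = true := by decide +kernel
theorem q3_9 : chkSq 3 9 = true := by decide +kernel
theorem q4_9 : chkSq 4 9 = true := by decide +kernel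
theorem q5_9 : chkSq 5 9 = true := by decide +kernel
theorem q6_9 : chkSq 6 9 = true := by decide +kernel
theorem q7_9 : chkSq 7 9 = true := by decide +kernel
theorem q8_9 : chkSq 8 9 = true := by decide +kernel

end Cfsg.Agent.HN.A12Sq
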