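import Cfsg.Prelude.Def_Sporadic
import Cfsg.Agent.HN.A12
import Cfsg.Agent.Lib.AltCarmichael

/-! If the presented Harada-Norton group is simple, then it contains a subgroup isomorphic to the alternating group of
degree 12. -/

set_option autoImplicit false

namespace Cfsg.Agent.HN.A12Group

open Cfsg.Agent.Lib.PackMat Cfsg.Agent.Lib.PackMatGroup Cfsg.Agent.Lib.PackMatMul Cfsg.Agent.HN.RepData
open Cfsg.Agent.HN.Rep (L LG gens rho)
open Cfsg.Agent.HN.A12 (ws results)
open Cfsg.Agent.HN.A12Step (L20 chkSq chkCube)
open Cfsg.Agent.HN.A12Sq (cube sq ne4)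

/-- the codes of the generators (used by `XIds`) -/
theorem codesR : List.Forall₂ (CodesR C) LG L := A12.codesR

/-- the results in the matrix group -/
noncomputable def a (i : ℕ) : U C := (runG ws LG).getD (9 - i) 1

/-- the results in the presented group -/
noncomputable def e (i : ℕ) : Cfsg.Spor.HN := (runG ws gens).getD (9 - i) 1

theorem rho_e (i : ℕ) : rho (e i) = a i := by
  unfold e a
  rw [← Rep.gens_map, runG_map, List.getD_eq_getElem?_getD, List.getD_eq_getElem?_getD, List.getElem?_map]
  cases (runG ws gens)[9 - i]? with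
  | none => simp
  | some b => simp

theorem length_runG (ws : List (ℕ × List ℕ)) {G : Type*} [Group G] (LG : List G) :
    (runG ws LG).length = ws.length + LG.length := by
  induction ws generalizing LG with
  | nil => rw [runG_nil, List.length_nil, zero_add]
  | cons w ws ih =>
    rw [runG_cons, ih, List.length_cons, List.length_cons]
    omega

/-- the relations in the matrix group -/
theorem rel_a : (∀ i < 10, a i * a i * a i = 1) ∧ (∀ j < 10, ∀ i < j, a i * a j * (a i * a j) = 1) ∧ a 4 ≠ 1 := by
  have hC : Good C := good_of_check Rep.good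
  have hlen : L20.length = 28 := rfl
  have h1 : CodesR C 1 (oneM C) := codesR_one hC (by decide)
  have hc : ∀ i, CodesR C (a i) (get L20 (9 - i)) := fun i => codesR_get results (by omega)
  refine ⟨?_, ?_, ?_⟩
  · intro i hi
    have h2 := cube i hi
    unfold chkCube at h2
    rw [withM_eq, force_eq, force_eq, force_eq] at h2
    exact (((hc i).mul hC (hc i)).mul hC (hc i)).eq h1 (Nat.eq_of_beq_eq_true h2)
  · intro j hj i hi
    have h2 := sq j hj i hi
    unfold chkSq at h2
    rw [withM_eq, force_eq, force_eq] at h2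
    have h3 := (hc i).mul hC (hc j)
    exact (h3.mul hC h3).eq h1 (Nat.eq_of_beq_eq_true h2)
  · intro h
    have h2 := hc 4
    rw [h] at h2
    have h3 : get L20 5 = oneM C := h2.code_eq h1
    have hb := ne4
    rw [h3, Nat.beq_refl] at hb
    exact absurd hb (by simp)

theorem e4_ne : e 4 ≠ 1 := by
  intro h
  apply rel_a.2.2
  rw [← rho_e, h, map_one]

theorem rho_injective [IsSimpleGroup Cfsg.Spor.HN] : Function.Injective rho := by
  rw [← MonoidHom.ker_eq_bot_iff]
  rcases (inferInstance : rho.ker.Normal).eq_bot_or_eq_top with h | h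
  · exact h
  · exfalso
    apply rel_a.2.2
    rw [← rho_e, ← MonoidHom.mem_ker, h]
    exact Subgroup.mem_top _

theorem rel_e [IsSimpleGroup Cfsg.Spor.HN] : Cfsg.Agent.Lib.AltCarmichael.Rel 10 e where
  cube := by
    intro i hi
    apply rho_injective
    rw [map_pow, rho_e, map_one, pow_succ, pow_two]
    exact rel_a.1 i hi
  sq := by
    intro i hi j hj hij
    have key : ∀ i j, i < j → j < 10 → (e i * e j) ^ 2 = 1 := by
      intro i j hij hj
      apply rho_injective
      rw [map_pow, map_mul, rho_e, rho_e, map_one, pow_two]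
      exact rel_a.2.1 j hj i hij
    rcases lt_or_gt_of_ne hij with h | h
    · exact key i j h hj
    · exact Cfsg.Agent.Lib.AltCarmichael.swap_rel (key j i h hi)

/-- The subgroup `A12`. -/
theorem exists_alternating [IsSimpleGroup Cfsg.Spor.HN] :
    ∃ K : Subgroup Cfsg.Spor.HN, Nonempty (K ≃* alternatingGroup (Fin 12)) :=
  ⟨_, Cfsg.Agent.Lib.AltCarmichael.nonempty_gen_equiv (m := 10) (by norm_num) rel_e ⟨4, by norm_num, e4_ne⟩⟩

/-- The realization of the Harada-Norton group as a transitive permutation group of degree 1140000. -/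
theorem exists_perm_group (h : Cfsg.IsHN Cfsg.Spor.HN) :
    ∃ K : Subgroup Cfsg.Spor.HN, K.index = 1140000 ∧ Nonempty (K ≃* alternatingGroup (Fin 12)) := by
  obtain ⟨h1, h2⟩ := h
  have := h1
  obtain ⟨K, ⟨f⟩⟩ := exists_alternating
  refine ⟨K, ?_, ⟨f⟩⟩
  have h3 : Nat.card K = 239500800 := by
    rw [Nat.card_congr f.toEquiv, nat_card_alternatingGroup, Nat.card_eq_fintype_card, Fintype.card_fin]
    decide
  have h4 := K.card_mul_index
  rw [h3, h2] at h4
  omega

end Cfsg.Agent.HN.A12Group
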