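import Cfsg.Agent.HN.A12Chk0
import Cfsg.Agent.HN.A12Chk1
import Cfsg.Agent.HN.A12Chk2
import Cfsg.Agent.HN.A12Chk3
import Cfsg.Agent.HN.A12Chk4
import Cfsg.Agent.HN.A12Chk5
import Cfsg.Agent.HN.A12Chk6
import Cfsg.Agent.HN.A12Chk7

/-! Carmichael's relations for the ten elements: collected. -/

set_option autoImplicit false

namespace Cfsg.Agent.HN.A12Sq

open Cfsg.Agent.Lib.PackMat Cfsg.Agent.Lib.PackMatGroup Cfsg.Agent.Lib.PackMatMul Cfsg.Agent.HN.RepData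
  Cfsg.Agent.HN.A12Data Cfsg.Agent.HN.A12Step

/-- the fourth element is not the identity -/
theorem ne4 : Nat.beq (get L20 5) (oneM C) = false := by decide +kernel

theorem cube : ∀ i < 10, chkCube i = true := by
  intro i hi
  match i, hi with
  | 0, _ => exact c0
  | 1, _ => exact c1
  | 2, _ => exact c2
  | 3, _ => exact c3
  | 4, _ => exact c4
  | 5, _ => exact c5
  | 6, _ => exact c6
  | 7, _ => exact c7
  | 8, _ => exact c8
  | 9, _ => exact c9

theorem sq : ∀ j < 10, ∀ i < j, chkSq i j = true := by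
  intro j hj i hi
  match j, hj, i, hi with
  | 1, _, 0, _ => exact q0_1
  | 2, _, 0, _ => exact q0_2
  | 2, _, 1, _ => exact q1_2
  | 3, _, 0, _ => exact q0_3
  | 3, _, 1, _ => exact q1_3
  | 3, _, 2, _ => exact q2_3
  | 4, _, 0, _ => exact q0_4
  | 4, _, 1, _ => exact q1_4
  | 4, _, 2, _ => exact q2_4
  | 4, _, 3, _ => exact q3_4
  | 5, _, 0, _ => exact q0_5
  | 5, _, 1, _ => exact q1_5
  | 5, _, 2, _ => exact q2_5
  | 5, _, 3, _ => exact q3_5
  | 5, _, 4, _ => exact q4_5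
  | 6, _, 0, _ => exact q0_6
  | 6, _, 1, _ => exact q1_6
  | 6, _, 2, _ => exact q2_6
  | 6, _, 3, _ => exact q3_6
  | 6, _, 4, _ => exact q4_6
  | 6, _, 5, _ => exact q5_6
  | 7, _, 0, _ => exact q0_7
  | 7, _, 1, _ => exact q1_7
  | 7, _, 2, _ => exact q2_7
  | 7, _, 3, _ => exact q3_7
  | 7, _, 4, _ => exact q4_7
  | 7, _, 5, _ => exact q5_7
  | 7, _, 6, _ => exact q6_7
  | 8, _, 0, _ => exact q0_8
  | 8, _, 1, _ => exact q1_8
  | 8, _, 2, _ => exact q2_8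
  | 8, _, 3, _ => exact q3_8
  | 8, _, 4, _ => exact q4_8
  | 8, _, 5, _ => exact q5_8
  | 8, _, 6, _ => exact q6_8
  | 8, _, 7, _ => exact q7_8
  | 9, _, 0, _ => exact q0_9
  | 9, _, 1, _ => exact q1_9
  | 9, _, 2, _ => exact q2_9
  | 9, _, 3, _ => exact q3_9
  | 9, _, 4, _ => exact q4_9
  | 9, _, 5, _ => exact q5_9
  | 9, _, 6, _ => exact q6_9
  | 9, _, 7, _ => exact q7_9
  | 9, _, 8, _ => exact q8_9

end Cfsg.Agent.HN.A12Sq
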