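import Cfsg.Agent.HN.Rep
import Cfsg.Agent.HN.A12Data
import Cfsg.Agent.Lib.PackMatMul

/-! The straight line program for a subgroup `A12` of the presented Harada-Norton group in the 133-dimensional
representation: one kernel check per step (the memory of a check grows with the number of products). -/

set_option autoImplicit false

namespace Cfsg.Agent.HN.A12Step

open Cfsg.Agent.Lib.PackMat Cfsg.Agent.Lib.PackMatGroup Cfsg.Agent.Lib.PackMatMul Cfsg.Agent.HN.RepData
  Cfsg.Agent.HN.A12Data
open Cfsg.Agent.HN.Rep (L)

/-- check of one step -/
noncomputable def chkStep (w : ℕ × List ℕ) (L : List ℕ) (D : ℕ) : Bool :=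
  withM C fun f => runS f [w] L fun L' => Nat.beq (get L' 0) D

/-- results so far -/
def L0 : List ℕ := L
/-- results so far -/
def L1 : List ℕ := D0 :: L0
/-- results so far -/
def L2 : List ℕ := D1 :: L1
/-- results so far -/
def L3 : List ℕ := D2 :: L2
/-- results so far -/
def L4 : List ℕ := D3 :: L3
/-- results so far -/
def L5 : List ℕ := D4 :: L4
/-- results so far -/
def L6 : List ℕ := D5 :: L5
/-- results so far -/
def L7 : List ℕ := D6 :: L6
/-- results so far -/
def L8 : List ℕ := D7 :: L7
/-- results so far -/
def L9 : List ℕ := D8 :: L8
/-- results so far -/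
def L10 : List ℕ := D9 :: L9
/-- results so far -/
def L11 : List ℕ := D10 :: L10
/-- results so far -/
def L12 : List ℕ := D11 :: L11
/-- results so far -/
def L13 : List ℕ := D12 :: L12
/-- results so far -/
def L14 : List ℕ := D13 :: L13
/-- results so far -/
def L15 : List ℕ := D14 :: L14
/-- results so far -/
def L16 : List ℕ := D15 :: L15
/-- results so far -/
def L17 : List ℕ := D16 :: L16
/-- results so far -/
def L18 : List ℕ := D17 :: L17
/-- results so far -/
def L19 : List ℕ := D18 :: L18
/-- results so far -/
def L20 : List ℕ := D19 :: L19

/-- the square of the product of the `i`-th and the `j`-th element is the identity -/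
noncomputable def chkSq (i j : ℕ) : Bool :=
  withM C fun f => force (oneM C) fun one =>
    force (f (get L20 (9 - i)) (get L20 (9 - j))) fun b => Nat.beq (f b b) one

/-- the cube of the `i`-th element is the identity -/
noncomputable def chkCube (i : ℕ) : Bool :=
  withM C fun f => force (oneM C) fun one =>
    force (get L20 (9 - i)) fun a => force (f a a) fun b => Nat.beq (f b a) one

end Cfsg.Agent.HN.A12Step
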