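import Cfsg.Agent.HN.Local

/-!
# Finite facts about `A8` used in the local argument
-/

set_option autoImplicit false

namespace Cfsg.Agent.HN.A8Facts

open Equiv Cfsg.Agent.HN.Local

theorem comm_apply {a b : A8} (h : Commute a b) (i : Fin 8) :
    (a : Perm (Fin 8)) ((b : Perm (Fin 8)) i) = (b : Perm (Fin 8)) ((a : Perm (Fin 8)) i) := by
  have h1 : (a * b : A8) = b * a := h.eq
  exact congrArg (fun s : A8 => (s : Perm (Fin 8)) i) h1

theorem ext8 {a b : A8} (h : ∀ i, (a : Perm (Fin 8)) i = (b : Perm (Fin 8)) i) : a = b :=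
  Subtype.ext (Equiv.ext h)

/-- If `l` commutes with `a` and `b`, it fixes the unique point fixed by `a` and moved by `b`. -/
theorem fix_of {l a b : A8} (ha : Commute l a) (hb : Commute l b) (j : Fin 8)
    (hj : (a : Perm (Fin 8)) j = j) (hj' : (b : Perm (Fin 8)) j ≠ j)
    (hu : ∀ i, (a : Perm (Fin 8)) i = i → (b : Perm (Fin 8)) i ≠ i → i = j) : (l : Perm (Fin 8)) j = j := by
  apply hu
  · rw [← comm_apply ha, hj]
  · intro h
    rw [← comm_apply hb] at h
    exact hj' ((l : Perm (Fin 8)).injective h)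

theorem cen4 {l : A8} (h1 : Commute l c2) (h2 : Commute l c3) (h3 : Commute l d6) (h4 : Commute l d7) : l = 1 := by
  have e3 := fix_of h1 h2 3 (by decide) (by decide) (by decide)
  have e2 := fix_of h2 h1 2 (by decide) (by decide) (by decide)
  have e7 := fix_of h3 h4 7 (by decide) (by decide) (by decide)
  have e6 := fix_of h4 h3 6 (by decide) (by decide) (by decide)
  have e0 : (l : Perm (Fin 8)) 0 = 0 := by
    have := comm_apply h2 3
    rw [e3] at this
    exact this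
  have e1 : (l : Perm (Fin 8)) 1 = 1 := by
    have := comm_apply h2 0
    rw [e0] at this
    exact this
  have e4 : (l : Perm (Fin 8)) 4 = 4 := by
    have := comm_apply h4 7
    rw [e7] at this
    exact this
  have e5 : (l : Perm (Fin 8)) 5 = 5 := by
    have := comm_apply h4 4
    rw [e4] at this
    exact this
  apply ext8
  intro i
  fin_cases i
  · exact e0
  · exact e1
  · exact e2
  · exact e3
  · exact e4
  · exact e5
  · exact e6
  · exact e7

theorem cube_apply {s : A8} (h : s ^ 3 = 1) (i : Fin 8) :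
    (s : Perm (Fin 8)) ((s : Perm (Fin 8)) ((s : Perm (Fin 8)) i)) = i :=
  congrArg (fun s : A8 => (s : Perm (Fin 8)) i) h

theorem pair_fix {s : A8} (h : s ^ 3 = 1) {i j : Fin 8} (hij : i ≠ j)
    (hi : (s : Perm (Fin 8)) i = i ∨ (s : Perm (Fin 8)) i = j)
    (hj : (s : Perm (Fin 8)) j = i ∨ (s : Perm (Fin 8)) j = j) : (s : Perm (Fin 8)) i = i := by
  rcases hi with hi | hi
  · exact hi
  · exfalso
    rcases hj with hj | hj
    · have := cube_apply h i
      rw [hi, hj, hi] at this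
      exact hij this.symm
    · exact hij ((s : Perm (Fin 8)).injective (hi.trans hj.symm))

theorem no3 {s : A8} (h : s ^ 3 = 1) (h1 : Commute s f1) (h2 : Commute s b0) : s = 1 := by
  have key : ∀ i : Fin 8, ((f1 : Perm (Fin 8)) i = i ↔ (f1 : Perm (Fin 8)) ((s : Perm (Fin 8)) i) = (s : Perm (Fin 8)) i) ∧
      ((b0 : Perm (Fin 8)) i = i ↔ (b0 : Perm (Fin 8)) ((s : Perm (Fin 8)) i) = (s : Perm (Fin 8)) i) := by
    intro i
    rw [← comm_apply h1, ← comm_apply h2]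
    exact ⟨⟨fun h => by rw [h], fun h => (s : Perm (Fin 8)).injective h⟩,
      ⟨fun h => by rw [h], fun h => (s : Perm (Fin 8)).injective h⟩⟩
  have dec : ∀ i k : Fin 8, ((f1 : Perm (Fin 8)) i = i ↔ (f1 : Perm (Fin 8)) k = k) →
      ((b0 : Perm (Fin 8)) i = i ↔ (b0 : Perm (Fin 8)) k = k) → k / 2 = i / 2 := by decide
  have h3 : ∀ i, (s : Perm (Fin 8)) i / 2 = i / 2 := fun i => dec _ _ (key i).1 (key i).2
  have dec2 : ∀ i k : Fin 8, k / 2 = i / 2 → ∀ j : Fin 8, j / 2 = i / 2 → i ≠ j → k = i ∨ k = j := by decide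
  have dec3 : ∀ i : Fin 8, ∃ j : Fin 8, j / 2 = i / 2 ∧ i ≠ j := by decide
  apply ext8
  intro i
  obtain ⟨j, hj1, hj2⟩ := dec3 i
  have a1 := dec2 i _ (h3 i) j hj1 hj2
  have a2 := dec2 i _ ((h3 j).trans hj1) j hj1 hj2
  exact pair_fix h hj2 a1 a2

/-- A self map of the eight points fixing 4, 5, 6. -/
def tab (a b c d e : Fin 8) : Fin 8 → Fin 8 := ![a, b, c, d, 4, 5, 6, e]

set_option synthInstance.maxHeartbeats 400000 in
set_option synthInstance.maxSize 4000 in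
theorem uniq {s : A8} (h : s ^ 3 = 1) (h1 : (c2 * s) ^ 2 = 1) (h2 : (c3 * s) ^ 2 = 1) (h3 : Commute s d6) :
    s = c7 := by
  have k1 : ∀ i, (c2 : Perm (Fin 8)) ((s : Perm (Fin 8)) ((c2 : Perm (Fin 8)) ((s : Perm (Fin 8)) i))) = i :=
    fun i => congrArg (fun s : A8 => (s : Perm (Fin 8)) i) h1
  have k2 : ∀ i, (c3 : Perm (Fin 8)) ((s : Perm (Fin 8)) ((c3 : Perm (Fin 8)) ((s : Perm (Fin 8)) i))) = i :=
    fun i => congrArg (fun s : A8 => (s : Perm (Fin 8)) i) h2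
  have k3 := cube_apply h
  -- `s` fixes 4, 5, 6
  have m4 : ∀ i : Fin 8, (d6 : Perm (Fin 8)) i ≠ i → (d6 : Perm (Fin 8)) ((s : Perm (Fin 8)) i) ≠ (s : Perm (Fin 8)) i := by
    intro i hi h
    rw [← comm_apply h3] at h
    exact hi ((s : Perm (Fin 8)).injective h)
  have dec : ∀ i : Fin 8, (d6 : Perm (Fin 8)) i ≠ i → (c2 : Perm (Fin 8)) i = i := by decide
  have f456 : ∀ i : Fin 8, (d6 : Perm (Fin 8)) i ≠ i → (s : Perm (Fin 8)) i = i := by
    intro i hi
    have a1 := m4 i hi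
    have a2 := m4 _ a1
    have a3 := k1 i
    rw [dec _ a1, dec _ a2] at a3
    have a4 := k3 i
    rw [a3] at a4
    exact a4
  have e4 := f456 4 (by decide)
  have e5 := f456 5 (by decide)
  have e6 := f456 6 (by decide)
  -- the remaining five points
  have inj := (s : Perm (Fin 8)).injective
  have n0 : ∀ i : Fin 8, i ≠ 4 → i ≠ 5 → i ≠ 6 → (s : Perm (Fin 8)) i ≠ 4 ∧ (s : Perm (Fin 8)) i ≠ 5 ∧
      (s : Perm (Fin 8)) i ≠ 6 := by
    intro i h4 h5 h6
    exact ⟨fun h => h4 (inj (h.trans e4.symm)), fun h => h5 (inj (h.trans e5.symm)),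
      fun h => h6 (inj (h.trans e6.symm))⟩
  have main : ∀ a : Fin 8, (a ≠ 4 ∧ a ≠ 5 ∧ a ≠ 6) → ∀ b : Fin 8, (b ≠ 4 ∧ b ≠ 5 ∧ b ≠ 6) → a ≠ b →
      ∀ c : Fin 8, (c ≠ 4 ∧ c ≠ 5 ∧ c ≠ 6) → a ≠ c → b ≠ c → ∀ d : Fin 8, (d ≠ 4 ∧ d ≠ 5 ∧ d ≠ 6) → a ≠ d → b ≠ d →
      c ≠ d → ∀ e : Fin 8, (e ≠ 4 ∧ e ≠ 5 ∧ e ≠ 6) → a ≠ e → b ≠ e → c ≠ e → d ≠ e →
      (∀ i, (c2 : Perm (Fin 8)) (tab a b c d e ((c2 : Perm (Fin 8)) (tab a b c d e i))) = i) →
      (∀ i, (c3 : Perm (Fin 8)) (tab a b c d e ((c3 : Perm (Fin 8)) (tab a b c d e i))) = i) →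
      (∀ i, tab a b c d e (tab a b c d e (tab a b c d e i)) = i) →
      ∀ i, tab a b c d e i = (c7 : Perm (Fin 8)) i := by decide +kernel
  have ht : ∀ i, tab ((s : Perm (Fin 8)) 0) ((s : Perm (Fin 8)) 1) ((s : Perm (Fin 8)) 2) ((s : Perm (Fin 8)) 3)
      ((s : Perm (Fin 8)) 7) i = (s : Perm (Fin 8)) i := by
    intro i
    fin_cases i
    · rfl
    · rfl
    · rfl
    · rfl
    · exact e4.symm
    · exact e5.symm
    · exact e6.symm
    · rfl
  have hij : ∀ i j : Fin 8, i ≠ j → (s : Perm (Fin 8)) i ≠ (s : Perm (Fin 8)) j := fun i j h h' => h (inj h')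
  have fin := main ((s : Perm (Fin 8)) 0) (n0 0 (by decide) (by decide) (by decide))
    ((s : Perm (Fin 8)) 1) (n0 1 (by decide) (by decide) (by decide)) (hij _ _ (by decide))
    ((s : Perm (Fin 8)) 2) (n0 2 (by decide) (by decide) (by decide)) (hij _ _ (by decide)) (hij _ _ (by decide))
    ((s : Perm (Fin 8)) 3) (n0 3 (by decide) (by decide) (by decide)) (hij _ _ (by decide)) (hij _ _ (by decide))
      (hij _ _ (by decide))
    ((s : Perm (Fin 8)) 7) (n0 7 (by decide) (by decide) (by decide)) (hij _ _ (by decide)) (hij _ _ (by decide))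
      (hij _ _ (by decide)) (hij _ _ (by decide))
    (by intro i; rw [ht, ht]; exact k1 i) (by intro i; rw [ht, ht]; exact k2 i)
    (by intro i; rw [ht, ht, ht]; exact k3 i)
  apply ext8
  intro i
  rw [← ht]
  exact fin i

/-! ### Generation of the point stabiliser -/

/-- `(0 1 4)` -/
def c4 : A8 := mk (swap 0 1 * swap 1 4) (by decide)
/-- `(0 1 5)` -/
def c5 : A8 := mk (swap 0 1 * swap 1 5) (by decide)

theorem sift (S : Subgroup A8) (j : Fin 8)
    (T : ∀ i : Fin 8, i ≤ j → ∃ g ∈ S, (g : Perm (Fin 8)) i = j ∧ ∀ k > j, (g : Perm (Fin 8)) k = k)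
    (s : A8) (hs : ∀ k > j, (s : Perm (Fin 8)) k = k) :
    ∃ g ∈ S, ∀ k ≥ j, ((g * s : A8) : Perm (Fin 8)) k = k := by
  have h1 : (s : Perm (Fin 8)) j ≤ j := by
    by_contra h
    have h2 := hs _ (not_le.mp h)
    exact h ((s : Perm (Fin 8)).injective h2).le
  obtain ⟨g, hg, hg1, hg2⟩ := T _ h1
  refine ⟨g, hg, ?_⟩
  intro k hk
  rcases hk.lt_or_eq with hk | hk
  · show (g : Perm (Fin 8)) ((s : Perm (Fin 8)) k) = k
    rw [hs k hk, hg2 k hk]
  · subst hk
    exact hg1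

theorem stab_le (S : Subgroup A8) (h1 : f1 ∈ S) (h2 : f2 ∈ S) (h3 : c2 ∈ S) (h4 : d6 ∈ S) (h5 : b0 ∈ S)
    (h6 : rho ∈ S) (s : A8) (hs : (s : Perm (Fin 8)) 7 = 7) : s ∈ S := by
  have g2 : c2 ∈ S := h3
  have g3 : c3 ∈ S := by
    have : c3 = (f1 * c2 * f1)⁻¹ := by decide
    rw [this]
    exact S.inv_mem (S.mul_mem (S.mul_mem h1 h3) h1)
  have g4 : c4 ∈ S := by
    have : c4 = f2 * (rho * c2 * rho⁻¹) * f2 := by decide
    rw [this]
    exact S.mul_mem (S.mul_mem h2 (S.mul_mem (S.mul_mem h6 h3) (S.inv_mem h6))) h2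
  have g5 : c5 ∈ S := by
    have : c5 = (b0 * c4 * b0)⁻¹ := by decide
    rw [this]
    exact S.inv_mem (S.mul_mem (S.mul_mem h5 g4) h5)
  have g6 : c6 ∈ S := by
    have : c6 = d6 * c5 * d6⁻¹ := by decide
    rw [this]
    exact S.mul_mem (S.mul_mem h4 g5) (S.inv_mem h4)
  have i2 := S.inv_mem g2
  have i3 := S.inv_mem g3
  have i4 := S.inv_mem g4
  have i5 := S.inv_mem g5
  have i6 := S.inv_mem g6
  -- sift
  obtain ⟨x6, hx6, s6⟩ := sift S 6 (by
    intro i hi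
    have : ∀ i : Fin 8, i ≤ 6 → i = 0 ∨ i = 1 ∨ i = 2 ∨ i = 3 ∨ i = 4 ∨ i = 5 ∨ i = 6 := by decide
    rcases this i hi with rfl | rfl | rfl | rfl | rfl | rfl | rfl
    · exact ⟨c6⁻¹, i6, by decide, by decide⟩
    · exact ⟨c6, g6, by decide, by decide⟩
    · exact ⟨c6⁻¹ * c2, S.mul_mem i6 g2, by decide, by decide⟩
    · exact ⟨c6⁻¹ * c3, S.mul_mem i6 g3, by decide, by decide⟩
    · exact ⟨c6⁻¹ * c4, S.mul_mem i6 g4, by decide, by decide⟩
    · exact ⟨c6⁻¹ * c5, S.mul_mem i6 g5, by decide, by decide⟩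
    · exact ⟨1, S.one_mem, rfl, fun k _ => rfl⟩) s (by
    intro k hk
    have : ∀ k : Fin 8, k > 6 → k = 7 := by decide
    rw [this k hk, hs])
  obtain ⟨x5, hx5, s5⟩ := sift S 5 (by
    intro i hi
    have : ∀ i : Fin 8, i ≤ 5 → i = 0 ∨ i = 1 ∨ i = 2 ∨ i = 3 ∨ i = 4 ∨ i = 5 := by decide
    rcases this i hi with rfl | rfl | rfl | rfl | rfl | rfl
    · exact ⟨c5⁻¹, i5, by decide, by decide⟩
    · exact ⟨c5, g5, by decide, by decide⟩
    · exact ⟨c5⁻¹ * c2, S.mul_mem i5 g2, by decide, by decide⟩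
    · exact ⟨c5⁻¹ * c3, S.mul_mem i5 g3, by decide, by decide⟩
    · exact ⟨c5⁻¹ * c4, S.mul_mem i5 g4, by decide, by decide⟩
    · exact ⟨1, S.one_mem, rfl, fun k _ => rfl⟩) (x6 * s) (by
    intro k hk
    have : ∀ k : Fin 8, k > 5 → k ≥ 6 := by decide
    exact s6 k (this k hk))
  obtain ⟨x4, hx4, s4⟩ := sift S 4 (by
    intro i hi
    have : ∀ i : Fin 8, i ≤ 4 → i = 0 ∨ i = 1 ∨ i = 2 ∨ i = 3 ∨ i = 4 := by decide
    rcases this i hi with rfl | rfl | rfl | rfl | rfl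
    · exact ⟨c4⁻¹, i4, by decide, by decide⟩
    · exact ⟨c4, g4, by decide, by decide⟩
    · exact ⟨c4⁻¹ * c2, S.mul_mem i4 g2, by decide, by decide⟩
    · exact ⟨c4⁻¹ * c3, S.mul_mem i4 g3, by decide, by decide⟩
    · exact ⟨1, S.one_mem, rfl, fun k _ => rfl⟩) (x5 * (x6 * s)) (by
    intro k hk
    have : ∀ k : Fin 8, k > 4 → k ≥ 5 := by decide
    exact s5 k (this k hk))
  obtain ⟨x3, hx3, s3⟩ := sift S 3 (by
    intro i hi
    have : ∀ i : Fin 8, i ≤ 3 → i = 0 ∨ i = 1 ∨ i = 2 ∨ i = 3 := by decide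
    rcases this i hi with rfl | rfl | rfl | rfl
    · exact ⟨c3⁻¹, i3, by decide, by decide⟩
    · exact ⟨c3, g3, by decide, by decide⟩
    · exact ⟨c3⁻¹ * c2, S.mul_mem i3 g2, by decide, by decide⟩
    · exact ⟨1, S.one_mem, rfl, fun k _ => rfl⟩) (x4 * (x5 * (x6 * s))) (by
    intro k hk
    have : ∀ k : Fin 8, k > 3 → k ≥ 4 := by decide
    exact s4 k (this k hk))
  obtain ⟨x2, hx2, s2⟩ := sift S 2 (by
    intro i hi
    have : ∀ i : Fin 8, i ≤ 2 → i = 0 ∨ i = 1 ∨ i = 2 := by decide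
    rcases this i hi with rfl | rfl | rfl
    · exact ⟨c2⁻¹, i2, by decide, by decide⟩
    · exact ⟨c2, g2, by decide, by decide⟩
    · exact ⟨1, S.one_mem, rfl, fun k _ => rfl⟩) (x3 * (x4 * (x5 * (x6 * s)))) (by
    intro k hk
    have : ∀ k : Fin 8, k > 2 → k ≥ 3 := by decide
    exact s3 k (this k hk))
  set w : A8 := x2 * (x3 * (x4 * (x5 * (x6 * s)))) with hw
  have w1 : w = 1 := by
    have winj := (w : Perm (Fin 8)).injective
    have h01 : ∀ i : Fin 8, ¬ i ≥ 2 → (w : Perm (Fin 8)) i = 0 ∨ (w : Perm (Fin 8)) i = 1 := by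
      intro i hi
      have h01 : ∀ k : Fin 8, ¬ k ≥ 2 → k = 0 ∨ k = 1 := by decide
      apply h01
      intro hk
      have := s2 _ hk
      rw [winj this] at hk
      exact hi hk
    have cov : ∀ i : Fin 8, i = 0 ∨ i = 1 ∨ i ≥ 2 := by decide
    rcases h01 0 (by decide) with h0 | h0
    · have h1' : (w : Perm (Fin 8)) 1 = 1 := by
        rcases h01 1 (by decide) with h1' | h1'
        · exact absurd (winj (h0.trans h1'.symm)) (by decide)
        · exact h1'
      apply ext8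
      intro i
      rcases cov i with rfl | rfl | hi
      · exact h0
      · exact h1'
      · exact s2 i hi
    · exfalso
      have h1' : (w : Perm (Fin 8)) 1 = 0 := by
        rcases h01 1 (by decide) with h1' | h1'
        · exact h1'
        · exact absurd (winj (h0.trans h1'.symm)) (by decide)
      have hw' : (w : Perm (Fin 8)) = swap 0 1 := by
        apply Equiv.ext
        intro i
        rcases cov i with rfl | rfl | hi
        · rw [h0]; decide
        · rw [h1']; decide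
        · rw [s2 i hi]
          revert i
          decide
      have hsgn := Perm.mem_alternatingGroup.mp w.2
      rw [hw'] at hsgn
      exact absurd hsgn (by decide)
  have : s = x6⁻¹ * (x5⁻¹ * (x4⁻¹ * (x3⁻¹ * (x2⁻¹ * w)))) := by rw [hw]; group
  rw [this, w1, mul_one]
  exact S.mul_mem (S.inv_mem hx6) (S.mul_mem (S.inv_mem hx5) (S.mul_mem (S.inv_mem hx4)
    (S.mul_mem (S.inv_mem hx3) (S.inv_mem hx2))))

end Cfsg.Agent.HN.A8Facts
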