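import Cfsg.Prelude.Def_SporadicB
import Cfsg.Agent.HN.HS100
import Cfsg.Agent.SporadicRecognition.HSAssemble

set_option autoImplicit false

/-!
`K` (even part of `H0 = ⟨x, y, z⟩`) is a non-split double cover of the Higman–Sims group as soon as
`|H0| = 177408000` and `x² ≠ 1`.
-/

namespace Cfsg.Agent.HN.DoubleCover

open Cfsg.Agent.HN.Pres Cfsg.Agent.HN.HS100 Cfsg.Agent.SporadicRecognition MulAction Equiv
open scoped commutatorElement

theorem comm_rel {A : Type*} [Group A] (hc : ∀ a b : A, a * b = b * a) (z u : A) :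
    z⁻¹ * u⁻¹ * z * u = 1 := by
  rw [mul_assoc z⁻¹ u⁻¹ z, hc u⁻¹ z]
  group

theorem rank_Q : RankThree.IsRankThree Q (0 : Fin 100) (2 : Fin 100) (1 : Fin 100) 22 77 :=
  ⟨trans_Q, by rw [Nat.card_eq_fintype_card, Fintype.card_fin], orbit22, orbit77, by norm_num, by norm_num,
    by norm_num⟩

/-- the kernel of the action. -/
theorem ker_le : φ.ker ≤ K := by
  intro g hg
  change Perm.sign (φ g) = 1
  rw [MonoidHom.mem_ker.1 hg, map_one]

/-- the restriction to `K` -/
noncomputable def φK : K →* Q := φ.subgroupMap K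

theorem φK_surj : Function.Surjective φK := φ.subgroupMap_surjective K

theorem φK_coe (g : K) : ((φK g : Q) : Perm (Fin 100)) = φ g := rfl

section

variable (hcard : Nat.card H0 = 177408000) (hx : gx ^ 2 ≠ 1)

include hcard

theorem finite_H0 : Finite H0 := Nat.finite_of_card_ne_zero (by rw [hcard]; norm_num)

theorem card_K : Nat.card K = 88704000 := by
  have h := K.card_mul_index
  rw [K_index, hcard] at h
  omega

theorem card_mul : Nat.card φK.ker * Nat.card Q = 88704000 := by
  have h1 := φK.ker.card_mul_index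
  rw [Subgroup.index_ker, MonoidHom.range_eq_top.2 φK_surj, Subgroup.card_top, card_K hcard] at h1
  exact h1

include hx

theorem card_ker : Nat.card φK.ker = 2 := by
  have := finite_H0 hcard
  have h1 := card_mul hcard
  have h2 := card_Q_ge
  have h3 : Nat.card φK.ker ≤ 2 := by
    by_contra h
    push Not at h
    have : 3 * 44352000 ≤ Nat.card φK.ker * Nat.card Q := Nat.mul_le_mul h h2
    omega
  have h4 : 1 < Nat.card φK.ker := by
    rw [Finite.one_lt_card_iff_nontrivial]
    have hmem : (⟨gx ^ 2, K.pow_mem gx_mem 2⟩ : K) ∈ φK.ker := by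
      rw [MonoidHom.mem_ker]
      apply Subtype.ext
      rw [φK_coe]
      change φ (gx ^ 2) = 1
      rw [map_pow, φ_gx, X_sq]
    exact ⟨⟨_, hmem⟩, 1, fun h => hx (congrArg (fun g : φK.ker => ((g : K) : H0)) h)⟩
  omega

theorem card_Q : Nat.card Q = 44352000 := by
  have h1 := card_mul hcard
  rw [card_ker hcard hx] at h1
  omega

theorem nonempty_Q : Nonempty (Q ≃* Cfsg.Spor.HS) ∧ IsSimpleGroup Q := by
  obtain ⟨H, Y, i1, i2, i3, i4, a', b', c', hr, hH, hs, ⟨f⟩⟩ := HSAssemble.hs_rank
  obtain ⟨f'⟩ := HSAssemble.nonempty_of_rank rank_Q hr (card_Q hcard hx) hH hs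
  refine ⟨⟨f'.trans f⟩, ?_⟩
  have : Nontrivial Q := f'.toEquiv.nontrivial
  exact IsSimpleGroup.isSimpleGroup_of_surjective f'.symm.toMonoidHom f'.symm.surjective

theorem center_Q : Subgroup.center Q = ⊥ := by
  have hs := (nonempty_Q hcard hx).2
  rcases hs.eq_bot_or_eq_top_of_normal (Subgroup.center Q) inferInstance with h | h
  · exact h
  · exfalso
    let _ : CommGroup Q := Group.commGroupOfCenterEqTop h
    have hf : Finite Q := Nat.finite_of_card_ne_zero (by rw [card_Q hcard hx]; norm_num)
    have hp := IsSimpleGroup.prime_card (α := Q)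
    rw [card_Q hcard hx] at hp
    exact absurd hp (by norm_num)

theorem center_K : Subgroup.center K = φK.ker := by
  have := finite_H0 hcard
  apply le_antisymm
  · intro g hg
    rw [MonoidHom.mem_ker]
    have h1 : φK g ∈ Subgroup.center Q := by
      rw [Subgroup.mem_center_iff] at hg ⊢
      intro q
      obtain ⟨k, rfl⟩ := φK_surj q
      rw [← map_mul, ← map_mul, hg k]
    rw [center_Q hcard hx, Subgroup.mem_bot] at h1
    exact h1
  · -- a normal subgroup of order 2 is central
    have hc := card_ker hcard hx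
    intro g hg
    rw [Subgroup.mem_center_iff]
    intro k
    by_cases hg1 : g = 1
    · rw [hg1, mul_one, one_mul]
    have h1 : k * g * k⁻¹ ∈ φK.ker := (MonoidHom.normal_ker φK).conj_mem g hg k
    have h2 : k * g * k⁻¹ ≠ 1 := by
      intro h
      exact hg1 (conj_eq_one_iff.1 h)
    have h3 : ∀ a b : φK.ker, a ≠ 1 → b ≠ 1 → a = b := by
      intro a b ha hb
      obtain ⟨u, v, huv, huniv⟩ := Nat.card_eq_two_iff.1 hc
      have hone : (1 : φK.ker) ∈ ({u, v} : Set φK.ker) := by rw [huniv]; trivial
      have hA : a ∈ ({u, v} : Set φK.ker) := by rw [huniv]; trivial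
      have hB : b ∈ ({u, v} : Set φK.ker) := by rw [huniv]; trivial
      rcases hone with h | h <;> rcases hA with h' | h' <;> rcases hB with h'' | h''
      · exact absurd (h'.trans h.symm) ha
      · exact absurd (h'.trans h.symm) ha
      · exact absurd (h''.trans h.symm) hb
      · exact h'.trans h''.symm
      · exact h'.trans h''.symm
      · exact absurd (h''.trans h.symm) hb
      · exact absurd (h'.trans h.symm) ha
      · exact absurd (h'.trans h.symm) ha
    have h4 := h3 ⟨k * g * k⁻¹, h1⟩ ⟨g, hg⟩ (fun h => h2 (congrArg Subtype.val h))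
      (fun h => hg1 (congrArg Subtype.val h))
    have h5 : k * g * k⁻¹ = g := congrArg Subtype.val h4
    rw [mul_inv_eq_iff_eq_mul] at h5
    exact h5

/-- the quotient by the centre is the Higman–Sims group. -/
theorem nonempty_quot : Nonempty (K ⧸ Subgroup.center K ≃* Cfsg.Spor.HS) := by
  obtain ⟨⟨f⟩, -⟩ := nonempty_Q hcard hx
  have e1 : K ⧸ Subgroup.center K ≃* K ⧸ φK.ker :=
    QuotientGroup.quotientMulEquivOfEq (center_K hcard hx)
  exact ⟨(e1.trans (QuotientGroup.quotientKerEquivOfSurjective φK φK_surj)).trans f⟩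

theorem no_complement (L : Subgroup K) : ¬ (Subgroup.center K).IsComplement' L := by
  intro hL
  have hfin := finite_H0 hcard
  obtain ⟨⟨f⟩, hs⟩ := nonempty_Q hcard hx
  -- `L` is isomorphic to `Q`
  have hbot : Subgroup.center K ⊓ L = ⊥ := hL.disjoint.eq_bot
  have hsup : Subgroup.center K ⊔ L = ⊤ := hL.sup_eq_top
  -- `L` is normal in `K`
  have hcardL : Nat.card L = 44352000 := by
    have h1 := hL.card_mul_card
    rw [card_K hcard, center_K hcard hx, card_ker hcard hx] at h1
    omega
  have hLsimple : IsSimpleGroup L := by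
    have hinj : Function.Injective (φK.comp L.subtype) := by
      rw [← MonoidHom.ker_eq_bot_iff, eq_bot_iff]
      intro g hg
      rw [Subgroup.mem_bot]
      have h1 : (g : K) ∈ Subgroup.center K := by
        rw [center_K hcard hx]
        exact hg
      have h2 : (g : K) ∈ Subgroup.center K ⊓ L := ⟨h1, g.2⟩
      rw [hbot, Subgroup.mem_bot] at h2
      exact Subtype.ext h2
    have hfQ : Finite Q := Nat.finite_of_card_ne_zero (by rw [card_Q hcard hx]; norm_num)
    have hbij : Function.Bijective (φK.comp L.subtype) := by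
      rw [Nat.bijective_iff_injective_and_card]
      exact ⟨hinj, by rw [hcardL, card_Q hcard hx]⟩
    have e : L ≃* Q := MulEquiv.ofBijective _ hbij
    have : Nontrivial L := e.toEquiv.nontrivial
    exact IsSimpleGroup.isSimpleGroup_of_surjective e.symm.toMonoidHom e.symm.surjective
  -- the commutator subgroup of `K` is `L`
  have hLperf : ⁅L, L⁆ = L := by
    have h1 : (commutator L) = ⊥ ∨ commutator L = ⊤ :=
      hLsimple.eq_bot_or_eq_top_of_normal _ inferInstance
    rcases h1 with h1 | h1
    · exfalso
      have h2 : ∀ a b : L, a * b = b * a := by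
        intro a b
        have : ⁅a, b⁆ ∈ commutator L := Subgroup.commutator_mem_commutator (Subgroup.mem_top a)
          (Subgroup.mem_top b)
        rw [h1, Subgroup.mem_bot] at this
        exact commutatorElement_eq_one_iff_mul_comm.1 this
      let _ : CommGroup L := { (inferInstance : Group L) with mul_comm := h2 }
      have hp := IsSimpleGroup.prime_card (α := L)
      rw [hcardL] at hp
      exact absurd hp (by norm_num)
    · have h2 := congrArg (Subgroup.map L.subtype) h1
      rw [commutator_def, Subgroup.map_commutator, ← MonoidHom.range_eq_map, Subgroup.range_subtype] at h2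
      exact h2
  have hKL : commutator K = L := by
    apply le_antisymm
    · -- K = Z L
      rw [commutator_def, Subgroup.commutator_le]
      intro a _ b _
      have ha : a ∈ Subgroup.center K ⊔ L := by rw [hsup]; trivial
      have hb : b ∈ Subgroup.center K ⊔ L := by rw [hsup]; trivial
      rw [Subgroup.mem_sup_of_normal_left] at ha hb
      obtain ⟨c, hc, l, hl, rfl⟩ := ha
      obtain ⟨c', hc', l', hl', rfl⟩ := hb
      rw [Subgroup.mem_center_iff] at hc hc'
      have h1 : ⁅c * l, c' * l'⁆ = ⁅l, l'⁆ := by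
        have e1 : ∀ g, c * g = g * c := fun g => (hc g).symm
        have e2 : ∀ g, c' * g = g * c' := fun g => (hc' g).symm
        rw [commutatorElement_def, commutatorElement_def, mul_inv_rev, mul_inv_rev]
        have e3 : c * l * (c' * l') * (l⁻¹ * c⁻¹) * (l'⁻¹ * c'⁻¹) =
            (c * (l * (c' * l') * l⁻¹) * c⁻¹) * (l'⁻¹ * c'⁻¹) := by group
        rw [e3, e1, mul_inv_cancel_right]
        have e4 : l * (c' * l') * l⁻¹ * (l'⁻¹ * c'⁻¹) = (l * c') * (l' * l⁻¹ * l'⁻¹) * c'⁻¹ := by group
        rw [e4, ← e2 l, mul_assoc c' l, e2, mul_inv_cancel_right]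
        group
      rw [h1]
      exact L.mul_mem (L.mul_mem (L.mul_mem hl hl') (L.inv_mem hl)) (L.inv_mem hl')
    · conv_lhs => rw [← hLperf]
      exact Subgroup.commutator_mono le_top le_top
  -- the image of `L` in `H0` is normal of index 4
  set M : Subgroup H0 := (commutator K).map K.subtype with hM
  have hMn : M.Normal := by
    rw [hM, commutator_def, Subgroup.map_commutator, ← MonoidHom.range_eq_map, Subgroup.range_subtype]
    infer_instance
  have hMcard : Nat.card M = 44352000 := by
    rw [hM, Subgroup.card_map_of_injective K.subtype_injective, hKL, hcardL]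
  have hMidx : M.index = 4 := by
    have h1 := M.card_mul_index
    rw [hMcard, hcard] at h1
    omega
  have hq : Nat.card (H0 ⧸ M) = 2 ^ 2 := by
    rw [← Subgroup.index_eq_card, hMidx]
    norm_num
  have hcomm : ∀ a b : H0 ⧸ M, a * b = b * a := by
    have : Fact (Nat.Prime 2) := ⟨Nat.prime_two⟩
    let _ := IsPGroup.commGroupOfCardEqPrimeSq hq
    exact fun a b => mul_comm a b
  -- x ^ 2 is a commutator
  have hx2 : gx ^ 2 ∈ M := by
    rw [← QuotientGroup.eq_one_iff]
    have h9 := congrArg (QuotientGroup.mk' M) rels_H0.r9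
    simp only [map_mul, map_inv, map_pow, map_one] at h9
    rw [comm_rel hcomm, one_mul, inv_eq_one] at h9
    exact h9
  obtain ⟨k, hk, hk2⟩ := hx2
  have h11 : k ∈ Subgroup.center K := by
    rw [center_K hcard hx, MonoidHom.mem_ker]
    apply Subtype.ext
    rw [φK_coe]
    have : (k : H0) = gx ^ 2 := hk2
    rw [this]
    change φ (gx ^ 2) = 1
    rw [map_pow, φ_gx, X_sq]
  have hk' : k ∈ commutator K := hk
  rw [hKL] at hk'
  have h12 : k ∈ Subgroup.center K ⊓ L := ⟨h11, hk'⟩
  rw [hbot, Subgroup.mem_bot] at h12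
  apply hx
  rw [← hk2, h12]
  rfl

/-- **The even part of `H0` is a non-split double cover of the Higman–Sims group.** -/
theorem exists_double_cover : ∃ K' : Subgroup H0, K'.Normal ∧ K'.index = 2 ∧
    Cfsg.IsNonsplitDoubleCover K' Cfsg.Spor.HS :=
  ⟨K, K_normal, K_index, by rw [center_K hcard hx, card_ker hcard hx], nonempty_quot hcard hx,
    no_complement hcard hx⟩

end

end Cfsg.Agent.HN.DoubleCover
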