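import Cfsg.Agent.HN.FixPoint
import Cfsg.Agent.HN.DoubleCover

set_option autoImplicit false

/-!
Every automorphism of the Higman–Sims group `Q` (on 100 points) is conjugation by a unique permutation,
which is an automorphism of the graph.
-/

namespace Cfsg.Agent.HN.AutHS

open Cfsg.Agent.SporadicA.PermTab Cfsg.Agent.HN.Pres Cfsg.Agent.HN.HS100 Cfsg.Agent.HN.SrgHS Equiv
open Cfsg.Agent.HN.AutBound Cfsg.Agent.HN.FixPoint

theorem finite_Q : Finite Q := inferInstance

/-- the centraliser of `Q` is trivial. -/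
theorem eq_one_of_comm {p : Perm (Fin 100)} (h : ∀ q ∈ Q, p * q = q * p) : p = 1 := by
  have h0 : ∀ q ∈ Q, q 0 = 0 → q (p 0) = p 0 := by
    intro q hq h0
    have h1 := congrArg (fun r : Perm (Fin 100) => r 0) (h q hq)
    simp only [Perm.mul_apply, h0] at h1
    exact h1.symm
  have hp0 : p 0 = 0 := by
    by_contra hne
    rcases ad_zero_or_one 0 (p 0) with h1 | h1
    · -- the orbit would have 77 points
      obtain ⟨g, hg, hg1⟩ := orb77 hne h1
      have h77 : ∀ v : Fin 100, v ≠ 0 → ad 0 v = 0 → v = p 0 := by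
        intro v hv0 hv
        obtain ⟨k, hk, rfl⟩ := orb77 hv0 hv
        have h2 : (k * g⁻¹) (p 0) = p 0 :=
          h0 _ (Q.mul_mem hk.1 (Q.inv_mem hg.1)) (by
            rw [Perm.mul_apply, Perm.inv_eq_iff_eq.2 hg.2.symm, hk.2])
        rw [Perm.mul_apply, Perm.inv_eq_iff_eq.2 hg1.symm] at h2
        exact h2
      have h2 := card_77
      have h3 : ({v : Fin 100 | v ≠ 0 ∧ ad 0 v = 0} : Set (Fin 100)) ⊆ {p 0} := fun v hv => h77 v hv.1 hv.2
      have h4 := Set.ncard_le_ncard h3 (Set.toFinite _)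
      rw [h2, Set.ncard_singleton] at h4
      exact absurd h4 (by norm_num)
    · obtain ⟨g, hg, hg1⟩ := orb22 h1
      have h22 : ∀ v : Fin 100, ad 0 v = 1 → v = p 0 := by
        intro v hv
        obtain ⟨k, hk, rfl⟩ := orb22 hv
        have h2 : (k * g⁻¹) (p 0) = p 0 :=
          h0 _ (Q.mul_mem hk.1 (Q.inv_mem hg.1)) (by
            rw [Perm.mul_apply, Perm.inv_eq_iff_eq.2 hg.2.symm, hk.2])
        rw [Perm.mul_apply, Perm.inv_eq_iff_eq.2 hg1.symm] at h2
        exact h2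
      have h2 := card_22
      have h3 : ({v : Fin 100 | ad 0 v = 1} : Set (Fin 100)) ⊆ {p 0} := fun v hv => h22 v hv
      have h4 := Set.ncard_le_ncard h3 (Set.toFinite _)
      rw [h2, Set.ncard_singleton] at h4
      exact absurd h4 (by norm_num)
  refine Equiv.ext fun v => ?_
  obtain ⟨g, hg, rfl⟩ := exists_map 0 v
  have h1 := congrArg (fun r : Perm (Fin 100) => r 0) (h g hg)
  simp only [Perm.mul_apply, hp0] at h1
  exact h1

/-- the orbit of `v` under the stabiliser of `u` -/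
def orb (u v : Fin 100) : Set (Fin 100) := {w | ∃ g ∈ Q, g u = u ∧ g v = w}

theorem orb_map {g : Perm (Fin 100)} (hg : g ∈ Q) (u v : Fin 100) : orb (g u) (g v) = g '' orb u v := by
  ext w
  constructor
  · rintro ⟨k, hk, h1, h2⟩
    refine ⟨g⁻¹ w, ⟨g⁻¹ * k * g, Q.mul_mem (Q.mul_mem (Q.inv_mem hg) hk) hg, ?_, ?_⟩, ?_⟩
    · rw [Perm.mul_apply, Perm.mul_apply, h1]
      exact g.symm_apply_apply u
    · rw [Perm.mul_apply, Perm.mul_apply, h2]
    · exact g.apply_symm_apply w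
  · rintro ⟨_, ⟨k, hk, h1, rfl⟩, rfl⟩
    refine ⟨g * k * g⁻¹, Q.mul_mem (Q.mul_mem hg hk) (Q.inv_mem hg), ?_, ?_⟩
    · rw [Perm.mul_apply, Perm.mul_apply, show g⁻¹ (g u) = u from g.symm_apply_apply u, h1]
    · rw [Perm.mul_apply, Perm.mul_apply, show g⁻¹ (g v) = v from g.symm_apply_apply v]

theorem ncard_orb_zero (v : Fin 100) : (orb 0 v).ncard = 22 ↔ ad 0 v = 1 := by
  by_cases hv : v = 0
  · subst hv
    have h1 : orb 0 0 = {0} := by
      ext w
      rw [Set.mem_singleton_iff]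
      constructor
      · rintro ⟨g, -, h1, rfl⟩
        exact h1
      · rintro rfl
        exact ⟨1, Q.one_mem, rfl, rfl⟩
    rw [h1, Set.ncard_singleton, ad_self]
    decide
  rcases ad_zero_or_one 0 v with h | h
  · have h1 : orb 0 v = {w : Fin 100 | w ≠ 0 ∧ ad 0 w = 0} := by
      ext w
      constructor
      · rintro ⟨g, hg, h1, rfl⟩
        refine ⟨fun h2 => hv ?_, ?_⟩
        · rw [← h1] at h2
          exact g.injective h2
        · have h3 := ad_map_Q hg 0 v
          rw [h1] at h3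
          rw [h3, h]
      · rintro ⟨h1, h2⟩
        obtain ⟨g, hg, rfl⟩ := orb77 h1 h2
        obtain ⟨k, hk, rfl⟩ := orb77 hv h
        refine ⟨g * k⁻¹, Q.mul_mem hg.1 (Q.inv_mem hk.1), ?_, ?_⟩
        · rw [Perm.mul_apply, Perm.inv_eq_iff_eq.2 hk.2.symm, hg.2]
        · rw [Perm.mul_apply, show k⁻¹ (k 1) = 1 from k.symm_apply_apply 1]
    rw [h1, card_77, h]
    decide
  · have h1 : orb 0 v = {w : Fin 100 | ad 0 w = 1} := by
      ext w
      constructor
      · rintro ⟨g, hg, h1, rfl⟩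
        have h3 := ad_map_Q hg 0 v
        rw [h1] at h3
        change ad 0 (g v) = 1
        rw [h3, h]
      · intro h2
        obtain ⟨g, hg, rfl⟩ := orb22 h2
        obtain ⟨k, hk, rfl⟩ := orb22 h
        refine ⟨g * k⁻¹, Q.mul_mem hg.1 (Q.inv_mem hk.1), ?_, ?_⟩
        · rw [Perm.mul_apply, Perm.inv_eq_iff_eq.2 hk.2.symm, hg.2]
        · rw [Perm.mul_apply, show k⁻¹ (k 2) = 2 from k.symm_apply_apply 2]
    rw [h1, card_22, h]
    decide

theorem ncard_orb (u v : Fin 100) : (orb u v).ncard = 22 ↔ ad u v = 1 := by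
  obtain ⟨g, hg, rfl⟩ := exists_map 0 u
  obtain ⟨v, rfl⟩ := g.surjective v
  rw [orb_map hg, Set.ncard_image_of_injective _ g.injective, ad_map_Q hg]
  exact ncard_orb_zero v

/-- a permutation normalising `Q` preserves the graph. -/
theorem mem_autG_of_normalizes {p : Perm (Fin 100)} (h : ∀ q, p * q * p⁻¹ ∈ Q ↔ q ∈ Q) :
    p ∈ autG 100 adjA := by
  have horb : ∀ u v, orb (p u) (p v) = p '' orb u v := by
    intro u v
    ext w
    constructor
    · rintro ⟨k, hk, h1, h2⟩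
      refine ⟨p⁻¹ w, ⟨p⁻¹ * k * p, (h _).1 ?_, ?_, ?_⟩, ?_⟩
      · have : p * (p⁻¹ * k * p) * p⁻¹ = k := by group
        rw [this]
        exact hk
      · rw [Perm.mul_apply, Perm.mul_apply, h1]
        exact p.symm_apply_apply u
      · rw [Perm.mul_apply, Perm.mul_apply, h2]
      · exact p.apply_symm_apply w
    · rintro ⟨_, ⟨k, hk, h1, rfl⟩, rfl⟩
      refine ⟨p * k * p⁻¹, (h k).2 hk, ?_, ?_⟩
      · rw [Perm.mul_apply, Perm.mul_apply, show p⁻¹ (p u) = u from p.symm_apply_apply u, h1]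
      · rw [Perm.mul_apply, Perm.mul_apply, show p⁻¹ (p v) = v from p.symm_apply_apply v]
  intro u v
  have h1 : (orb (p u) (p v)).ncard = (orb u v).ncard := by
    rw [horb, Set.ncard_image_of_injective _ p.injective]
  have h2 : ad (p u) (p v) = 1 ↔ ad u v = 1 := by
    rw [← ncard_orb, ← ncard_orb, h1]
  change ad (p u) (p v) = ad u v
  rcases ad_zero_or_one (p u) (p v) with h3 | h3 <;> rcases ad_zero_or_one u v with h4 | h4
  · rw [h3, h4]
  · rw [h2.2 h4] at h3
    exact absurd h3 (by norm_num)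
  · rw [h2.1 h3] at h4
    exact absurd h4 (by norm_num)
  · rw [h3, h4]

/-- **Every automorphism of `Q` is conjugation by an automorphism of the graph.** -/
theorem exists_perm (σ : Q ≃* Q) : ∃ p ∈ autG 100 adjA, ∀ q : Q, ((σ q : Q) : Perm (Fin 100)) = p * q * p⁻¹ := by
  -- the image of the stabiliser of `0`
  let S : Subgroup Q := Q1.subgroupOf Q
  let T : Subgroup (Perm (Fin 100)) := (S.map σ.toMonoidHom).map Q.subtype
  have hT : T ≤ Q := by
    rintro _ ⟨q, -, rfl⟩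
    exact q.2
  have hTc : Nat.card T = 443520 := by
    rw [Subgroup.card_map_of_injective Q.subtype_injective, Subgroup.card_map_of_injective σ.injective]
    exact (Nat.card_congr (Subgroup.subgroupOfEquivOfLe (ps_le Q 0)).toEquiv).trans card_Q1
  obtain ⟨δ, hδ⟩ := exists_fixed T hT hTc
  have hfix : ∀ q : Q, (q : Perm (Fin 100)) 0 = 0 → ((σ q : Q) : Perm (Fin 100)) δ = δ := by
    intro q hq
    exact hδ _ ⟨σ q, ⟨q, ⟨q.2, hq⟩, rfl⟩, rfl⟩
  choose r hr using fun v => (by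
    obtain ⟨g, hg, h⟩ := exists_map 0 v
    exact ⟨⟨g, hg⟩, h⟩ : ∃ g : Q, (g : Perm (Fin 100)) 0 = v)
  let f : Fin 100 → Fin 100 := fun v => ((σ (r v) : Q) : Perm (Fin 100)) δ
  have hf : ∀ (q : Q) (v : Fin 100), f ((q : Perm (Fin 100)) v) = ((σ q : Q) : Perm (Fin 100)) (f v) := by
    intro q v
    have h1 : (((r ((q : Perm (Fin 100)) v))⁻¹ * q * r v : Q) : Perm (Fin 100)) 0 = 0 := by
      change ((r ((q : Perm (Fin 100)) v) : Perm (Fin 100)))⁻¹
        ((q : Perm (Fin 100)) ((r v : Perm (Fin 100)) 0)) = 0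
      rw [hr, Perm.inv_eq_iff_eq, hr]
    have h2 := hfix _ h1
    rw [map_mul, map_mul, map_inv] at h2
    change ((σ (r ((q : Perm (Fin 100)) v)) : Q) : Perm (Fin 100))⁻¹
        (((σ q : Q) : Perm (Fin 100)) (((σ (r v) : Q) : Perm (Fin 100)) δ)) = δ at h2
    rw [Perm.inv_eq_iff_eq] at h2
    exact h2.symm
  have hsurj : Function.Surjective f := by
    intro w
    obtain ⟨g, hg, h⟩ := exists_map (f 0) w
    refine ⟨((σ.symm ⟨g, hg⟩ : Q) : Perm (Fin 100)) 0, ?_⟩
    rw [hf, MulEquiv.apply_symm_apply]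
    exact h
  have hbij : Function.Bijective f := Finite.surjective_iff_bijective.1 hsurj
  let p : Perm (Fin 100) := Equiv.ofBijective f hbij
  have hp : ∀ q : Q, ((σ q : Q) : Perm (Fin 100)) = p * q * p⁻¹ := by
    intro q
    rw [eq_mul_inv_iff_mul_eq]
    refine Equiv.ext fun v => ?_
    rw [Perm.mul_apply, Perm.mul_apply]
    exact (hf q v).symm
  refine ⟨p, mem_autG_of_normalizes fun q => ⟨fun h => ?_, fun h => ?_⟩, hp⟩
  · have h1 := hp (σ.symm ⟨p * q * p⁻¹, h⟩)
    rw [MulEquiv.apply_symm_apply] at h1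
    have h2 : q = ((σ.symm ⟨p * q * p⁻¹, h⟩ : Q) : Perm (Fin 100)) := by
      have h3 : p * q * p⁻¹ = p * ((σ.symm ⟨p * q * p⁻¹, h⟩ : Q) : Perm (Fin 100)) * p⁻¹ := h1
      exact mul_left_cancel (mul_right_cancel h3)
    rw [h2]
    exact Subtype.property _
  · rw [← hp ⟨q, h⟩]
    exact Subtype.property _

/-! ### simplicity of `Q` -/

open Cfsg.Agent.SporadicRecognition in
theorem nonempty_Q : Nonempty (Q ≃* Cfsg.Spor.HS) ∧ IsSimpleGroup Q := by
  obtain ⟨H, Y, i1, i2, i3, i4, a', b', c', hr, hH, hs, ⟨f⟩⟩ := HSAssemble.hs_rank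
  obtain ⟨f'⟩ := HSAssemble.nonempty_of_rank DoubleCover.rank_Q hr card_Q hH hs
  refine ⟨⟨f'.trans f⟩, ?_⟩
  have : Nontrivial Q := f'.toEquiv.nontrivial
  exact IsSimpleGroup.isSimpleGroup_of_surjective f'.symm.toMonoidHom f'.symm.surjective

end Cfsg.Agent.HN.AutHS
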