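import Mathlib
import Cfsg.Agent.Lib.AltCarmichael

/-!
# Automorphisms of the alternating group of degree 8

Every injective homomorphism from `alternatingGroup (Fin 8)` to `Perm (Fin 8)` is conjugation by a permutation; in
particular every automorphism of `alternatingGroup (Fin 8)` is conjugation by an element of the symmetric group.
-/

set_option autoImplicit false

namespace Cfsg.Agent.HN.S8Aut

open Equiv Equiv.Perm Subgroup Function

/-- the three-cycle `p → q → r → p` -/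
def c3 (p q r : Fin 8) : Perm (Fin 8) := swap p q * swap q r

theorem c3_def (p q r : Fin 8) : c3 p q r = swap p q * swap q r := rfl

theorem conj_c3 (g : Perm (Fin 8)) (p q r : Fin 8) : g * c3 p q r * g⁻¹ = c3 (g p) (g q) (g r) := by
  rw [c3_def, c3_def, swap_apply_apply g p q, swap_apply_apply g q r]
  group

theorem c3_isThreeCycle {p q r : Fin 8} (h1 : p ≠ q) (h2 : p ≠ r) (h3 : q ≠ r) : (c3 p q r).IsThreeCycle := by
  have := isThreeCycle_swap_mul_swap_same (a := q) (b := p) (c := r) h1.symm h3 h2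
  rwa [swap_comm q p] at this

theorem exists_c3 {σ : Perm (Fin 8)} (h : σ.IsThreeCycle) :
    ∃ p q r : Fin 8, p ≠ q ∧ p ≠ r ∧ q ≠ r ∧ σ = c3 p q r := by
  have h0 : (c3 0 1 2).IsThreeCycle := c3_isThreeCycle (by decide) (by decide) (by decide)
  have hc : IsConj (c3 0 1 2) σ := by
    rw [isConj_iff_cycleType_eq, h0.cycleType, h.cycleType]
  obtain ⟨g, hg⟩ := isConj_iff.mp hc
  rw [conj_c3] at hg
  exact ⟨g 0, g 1, g 2, fun e => absurd (g.injective e) (by decide), fun e => absurd (g.injective e) (by decide),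
    fun e => absurd (g.injective e) (by decide), hg.symm⟩

/-- An element of order 3 commuting with an element of order 5 is a three-cycle. -/
theorem isThreeCycle_of_commute {σ τ : Perm (Fin 8)} (hσ : σ ^ 3 = 1) (hσ1 : σ ≠ 1) (hτ : orderOf τ = 5)
    (h : Commute σ τ) : σ.IsThreeCycle := by
  have hp : Nat.Prime 5 := by norm_num
  obtain ⟨n, hn⟩ := cycleType_prime_order (σ := τ) (by rw [hτ]; exact hp)
  rw [hτ] at hn
  have hs := sum_cycleType τ
  have hle : τ.support.card ≤ 8 := by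
    have := Finset.card_le_univ τ.support
    simpa using this
  have hn0 : n = 0 := by
    rw [hn, Multiset.sum_replicate, smul_eq_mul] at hs
    omega
  subst hn0
  have hcyc : τ.IsCycle := by
    rw [← card_cycleType_eq_one, hn]; simp
  have hcard : τ.support.card = 5 := by
    rw [← hs, hn]; simp
  have hfix : ∀ x, x ∈ τ.support → σ x = x := by
    intro x hx
    have hx' : τ x ≠ x := mem_support.mp hx
    have hsx : τ (σ x) ≠ σ x := by
      intro e
      have h1 : σ (τ x) = σ x := by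
        have := congrArg (fun f : Perm (Fin 8) => f x) h.eq
        simp only [Perm.mul_apply] at this
        rw [this, e]
      exact hx' (σ.injective h1)
    obtain ⟨k, hk⟩ := hcyc.exists_pow_eq hx' hsx
    have hcomm : ∀ y, σ (τ y) = τ (σ y) := fun y => by
      have := congrArg (fun f : Perm (Fin 8) => f y) h.eq
      simpa only [Perm.mul_apply] using this
    have hcommk : Commute σ (τ ^ k) := h.pow_right k
    have hk2 : σ ((τ ^ k) x) = (τ ^ k) (σ x) := by
      have := congrArg (fun f : Perm (Fin 8) => f x) hcommk.eq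
      simpa only [Perm.mul_apply] using this
    have hk3 : σ ((τ ^ k) (σ x)) = (τ ^ k) (σ (σ x)) := by
      have := congrArg (fun f : Perm (Fin 8) => f (σ x)) hcommk.eq
      simpa only [Perm.mul_apply] using this
    have e2 : σ (σ x) = (τ ^ k) ((τ ^ k) x) := by
      rw [← hk] at *
      rw [hk2, ← hk]
    have e3 : σ (σ (σ x)) = (τ ^ (3 * k)) x := by
      have : σ (σ x) = (τ ^ k) (σ x) := by
        conv_lhs => rw [← hk]
        rw [hk2]
      rw [this, hk3, this, ← hk]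
      simp only [← Perm.mul_apply, ← pow_add]
      congr 2; ring
    have e4 : σ (σ (σ x)) = x := by
      have := congrArg (fun f : Perm (Fin 8) => f x) hσ
      simpa only [pow_succ, pow_zero, one_mul, Perm.mul_apply, Perm.one_apply] using this
    rw [e4] at e3
    have h5 : τ ^ (3 * k) = 1 := (hcyc.pow_eq_one_iff' hx').mpr e3.symm
    have h6 : 5 ∣ 3 * k := by
      rw [← hτ]; exact orderOf_dvd_of_pow_eq_one h5
    have h7 : 5 ∣ k := (Nat.Coprime.dvd_mul_left (by norm_num)).mp h6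
    have h8 : τ ^ k = 1 := by
      obtain ⟨m, rfl⟩ := h7
      rw [pow_mul, ← hτ, pow_orderOf_eq_one, one_pow]
    rw [h8] at hk
    simpa using hk.symm
  have hsub : σ.support ⊆ τ.supportᶜ := by
    intro x hx
    rw [Finset.mem_compl]
    intro hx2
    exact (mem_support.mp hx) (hfix x hx2)
  have hc3 : σ.support.card ≤ 3 := by
    have := Finset.card_le_card hsub
    rw [Finset.card_compl, hcard] at this
    simpa using this
  rw [← card_support_eq_three_iff]
  have h3 : orderOf σ = 3 := orderOf_eq_prime hσ hσ1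
  obtain ⟨m, hm⟩ := cycleType_prime_order (σ := σ) (by rw [h3]; norm_num)
  have hs' := sum_cycleType σ
  rw [hm, h3, Multiset.sum_replicate, smul_eq_mul] at hs'
  omega

/-- conclusion of `dec1` -/
def Conc1 (u v w : Fin 8) : Prop :=
  ∃ s, s ≠ 0 ∧ s ≠ 6 ∧ s ≠ 7 ∧ (c3 u v w = c3 s 6 7 ∨ c3 u v w = c3 s 7 0 ∨ c3 u v w = c3 s 0 6)

instance (u v w : Fin 8) : Decidable (Conc1 u v w) := by unfold Conc1; infer_instance

/-- conclusion of `dec2` -/
def Conc2 (u v w : Fin 8) : Prop := ∃ s, s ≠ 6 ∧ s ≠ 7 ∧ c3 u v w = c3 s 6 7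

instance (u v w : Fin 8) : Decidable (Conc2 u v w) := by unfold Conc2; infer_instance

/-- hypothesis of `dec1`, `dec2` -/
def Hyp (s u v w : Fin 8) : Prop := (c3 s 6 7 * c3 u v w) ^ 2 = 1 ∧ c3 s 6 7 * c3 u v w ≠ 1

instance (s u v w : Fin 8) : Decidable (Hyp s u v w) := by unfold Hyp; infer_instance

set_option maxRecDepth 100000 in
theorem dec1 : ∀ u v w : Fin 8, u ≠ v → u ≠ w → v ≠ w → Hyp 0 u v w → Conc1 u v w := by
  decide +kernel

set_option maxRecDepth 100000 in
theorem dec2 : ∀ u v w : Fin 8, u ≠ v → u ≠ w → v ≠ w → Hyp 0 u v w → Hyp 1 u v w → Conc2 u v w := by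
  decide +kernel

/-- `alternatingGroup (Fin 8)` is generated by the three-cycles `c3 i 6 7`, `i < 6`. -/
theorem hom_ext {H : Type*} [Group H] (f g : alternatingGroup (Fin 8) →* H)
    (h : ∀ (i : ℕ) (hi : i < 6), f ⟨Lib.AltCarmichael.cyc 6 i, Lib.AltCarmichael.cyc_mem 6 i hi⟩ =
      g ⟨Lib.AltCarmichael.cyc 6 i, Lib.AltCarmichael.cyc_mem 6 i hi⟩) : f = g := by
  ext x
  obtain ⟨y, hy⟩ := x
  have hgen := Lib.AltCarmichael.gen_cyc 6 (by norm_num)
  have hy' : y ∈ Lib.AltCarmichael.gen 6 (Lib.AltCarmichael.cyc 6) := by rw [hgen]; exact hy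
  rw [Lib.AltCarmichael.gen_def] at hy'
  have key : ∀ y (_ : y ∈ Subgroup.closure {g | ∃ i < 6, g = Lib.AltCarmichael.cyc 6 i}),
      ∀ hy2 : y ∈ alternatingGroup (Fin 8), f ⟨y, hy2⟩ = g ⟨y, hy2⟩ := by
    intro y hy1
    have hle : Subgroup.closure {g | ∃ i < 6, g = Lib.AltCarmichael.cyc 6 i} ≤ alternatingGroup (Fin 8) := by
      rw [← Lib.AltCarmichael.gen_def, hgen]
    induction hy1 using Subgroup.closure_induction with
    | mem y hy3 =>
      obtain ⟨i, hi, rfl⟩ := hy3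
      intro hy2
      exact h i hi
    | one =>
      intro hy2
      have : (⟨1, hy2⟩ : alternatingGroup (Fin 8)) = 1 := rfl
      rw [this, map_one, map_one]
    | mul a b ha hb iha ihb =>
      intro hy2
      have : (⟨a * b, hy2⟩ : alternatingGroup (Fin 8)) = ⟨a, hle ha⟩ * ⟨b, hle hb⟩ := rfl
      rw [this, map_mul, map_mul, iha (hle ha), ihb (hle hb)]
    | inv a ha iha =>
      intro hy2
      have : (⟨a⁻¹, hy2⟩ : alternatingGroup (Fin 8)) = ⟨a, hle ha⟩⁻¹ := rfl
      rw [this, map_inv, map_inv, iha (hle ha)]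
  exact key y hy' hy

/-- generators -/
def xg (i : Fin 8) : Perm (Fin 8) := c3 i 6 7

theorem xg_mem {i : Fin 8} (h6 : i ≠ 6) (h7 : i ≠ 7) : xg i ∈ alternatingGroup (Fin 8) :=
  (c3_isThreeCycle h6 h7 (by decide)).mem_alternatingGroup

/-- an injective homomorphism maps three-cycles to three-cycles -/
theorem map_isThreeCycle (φ : alternatingGroup (Fin 8) →* Perm (Fin 8)) (hφ : Injective φ)
    {g : alternatingGroup (Fin 8)} (hg : (g : Perm (Fin 8)).IsThreeCycle) : (φ g).IsThreeCycle := by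
  -- a standard commuting pair
  have key : ∃ a b : alternatingGroup (Fin 8), (a : Perm (Fin 8)).IsThreeCycle ∧ orderOf b = 5 ∧ Commute a b := by
    let b : Perm (Fin 8) := swap 1 2 * swap 2 3 * (swap 3 4 * swap 4 5)
    have hb : b ∈ alternatingGroup (Fin 8) := by
      rw [mem_alternatingGroup]
      show Perm.sign b = 1
      decide
    refine ⟨⟨xg 0, xg_mem (by decide) (by decide)⟩, ⟨b, hb⟩, c3_isThreeCycle (by decide) (by decide) (by decide), ?_, ?_⟩
    · have : Fact (Nat.Prime 5) := ⟨by norm_num⟩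
      apply orderOf_eq_prime
      · apply Subtype.ext
        show b ^ 5 = 1
        decide
      · intro h
        have : b = 1 := congrArg Subtype.val h
        revert this
        decide
    · apply Subtype.ext
      show xg 0 * b = b * xg 0
      decide
  obtain ⟨a, b, ha, hb, hab⟩ := key
  have h1 : (φ a).IsThreeCycle := by
    apply isThreeCycle_of_commute (τ := φ b)
    · rw [← map_pow]
      have : a ^ 3 = 1 := by
        apply Subtype.ext
        have := pow_orderOf_eq_one (a : Perm (Fin 8))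
        rw [ha.orderOf] at this
        simpa using this
      rw [this, map_one]
    · intro h
      have h2 : a = 1 := hφ (by rw [h, map_one])
      rw [h2] at ha
      have := ha.orderOf
      rw [OneMemClass.coe_one, orderOf_one] at this
      omega
    · rw [orderOf_injective φ hφ, hb]
    · exact hab.map φ
  have hc : IsConj a g := alternatingGroup.isThreeCycle_isConj (by simp) ha hg
  obtain ⟨c, hc⟩ := isConj_iff.mp hc
  have : IsConj (φ a) (φ g) := isConj_iff.mpr ⟨φ c, by rw [← hc, map_mul, map_mul, map_inv]⟩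
  rw [isConj_iff_cycleType_eq] at this
  show (φ g).cycleType = {3}
  rw [← this]
  exact h1

theorem c3_apply_last (p q r : Fin 8) (_h : p ≠ q) (_h2 : p ≠ r) (_h3 : q ≠ r) : c3 p q r r = p := by
  rw [c3_def, Perm.mul_apply, swap_apply_right, swap_apply_right]

/-- Every injective homomorphism `A_8 → S_8` is conjugation by a permutation. -/
theorem exists_conj (φ : alternatingGroup (Fin 8) →* Perm (Fin 8)) (hφ : Injective φ) :
    ∃ p : Perm (Fin 8), ∀ g : alternatingGroup (Fin 8), φ g = p * (g : Perm (Fin 8)) * p⁻¹ := by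
  classical
  -- normalise the image of the first generator
  have aux : ∀ g : Perm (Fin 8), ∃ ψ : alternatingGroup (Fin 8) →* Perm (Fin 8),
      Injective ψ ∧ ∀ x, φ x = g * ψ x * g⁻¹ := by
    intro g
    refine ⟨(MulAut.conj g⁻¹).toMonoidHom.comp φ, ?_, ?_⟩
    · intro a b hab
      exact hφ ((MulAut.conj g⁻¹).injective hab)
    · intro x
      show φ x = g * (g⁻¹ * φ x * g⁻¹⁻¹) * g⁻¹
      group
  have rel : ∀ i j : Fin 8, i ≠ 6 → i ≠ 7 → j ≠ 6 → j ≠ 7 → i ≠ j → (xg i * xg j) ^ 2 = 1 ∧ xg i * xg j ≠ 1 := by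
    decide +kernel
  have hrel : ∀ (ψ : alternatingGroup (Fin 8) →* Perm (Fin 8)), Injective ψ → ∀ (i j : Fin 8)
      (h6 : i ≠ 6) (h7 : i ≠ 7) (h6' : j ≠ 6) (h7' : j ≠ 7), i ≠ j →
      (ψ ⟨xg i, xg_mem h6 h7⟩ * ψ ⟨xg j, xg_mem h6' h7'⟩) ^ 2 = 1 ∧
        ψ ⟨xg i, xg_mem h6 h7⟩ * ψ ⟨xg j, xg_mem h6' h7'⟩ ≠ 1 := by
    intro ψ hψ i j h6 h7 h6' h7' hij
    obtain ⟨r1, r2⟩ := rel i j h6 h7 h6' h7' hij
    constructor
    · rw [← map_mul, ← map_pow]
      have : (⟨xg i, xg_mem h6 h7⟩ * ⟨xg j, xg_mem h6' h7'⟩ : alternatingGroup (Fin 8)) ^ 2 = 1 := Subtype.ext r1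
      rw [this, map_one]
    · intro h
      rw [← map_mul] at h
      have : (⟨xg i, xg_mem h6 h7⟩ * ⟨xg j, xg_mem h6' h7'⟩ : alternatingGroup (Fin 8)) = 1 :=
        hψ (by rw [h, map_one])
      exact r2 (congrArg Subtype.val this)
  have m0 : xg 0 ∈ alternatingGroup (Fin 8) := xg_mem (by decide) (by decide)
  have m1 : xg 1 ∈ alternatingGroup (Fin 8) := xg_mem (by decide) (by decide)
  -- step 1
  have h0 : (φ ⟨xg 0, m0⟩).IsThreeCycle :=
    map_isThreeCycle φ hφ (c3_isThreeCycle (by decide) (by decide) (by decide))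
  have hconj : IsConj (xg 0) (φ ⟨xg 0, m0⟩) := by
    rw [isConj_iff_cycleType_eq, h0.cycleType]
    exact (c3_isThreeCycle (by decide) (by decide) (by decide) : (xg 0).IsThreeCycle)
  obtain ⟨g1, hg1⟩ := isConj_iff.mp hconj
  obtain ⟨ψ1, hψ1, hφψ⟩ := aux g1
  have e0 : ψ1 ⟨xg 0, m0⟩ = xg 0 := by
    have := hφψ ⟨xg 0, m0⟩
    rw [← hg1] at this
    have h2 := mul_right_cancel this
    exact (mul_left_cancel h2).symm
  -- step 2
  obtain ⟨u, v, w, huv, huw, hvw, he⟩ := exists_c3 (map_isThreeCycle ψ1 hψ1 (g := ⟨xg 1, m1⟩)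
    (c3_isThreeCycle (by decide) (by decide) (by decide)))
  have hH : Hyp 0 u v w := by
    have := hrel ψ1 hψ1 0 1 (by decide) (by decide) (by decide) (by decide) (by decide)
    rw [he, e0] at this
    exact this
  obtain ⟨s, s0, s6, s7, hs⟩ := dec1 u v w huv huw hvw hH
  -- the conjugating element
  have hg : ∃ g : Perm (Fin 8), g * xg 0 * g⁻¹ = xg 0 ∧ g * c3 u v w * g⁻¹ = xg 1 := by
    have hsw : ∀ t : Fin 8, t ≠ 0 → t ≠ 6 → t ≠ 7 → swap t 1 * xg 0 * (swap t 1)⁻¹ = xg 0 ∧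
        swap t 1 * c3 t 6 7 * (swap t 1)⁻¹ = xg 1 := by
      intro t t0 t6 t7
      have e60 : swap t 1 (6 : Fin 8) = 6 := swap_apply_of_ne_of_ne (Ne.symm t6) (by decide)
      have e70 : swap t 1 (7 : Fin 8) = 7 := swap_apply_of_ne_of_ne (Ne.symm t7) (by decide)
      have e00 : swap t 1 (0 : Fin 8) = 0 := swap_apply_of_ne_of_ne (Ne.symm t0) (by decide)
      constructor
      · show swap t 1 * c3 0 6 7 * (swap t 1)⁻¹ = c3 0 6 7
        rw [conj_c3, e60, e70, e00]
      · show swap t 1 * c3 t 6 7 * (swap t 1)⁻¹ = c3 1 6 7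
        rw [conj_c3, e60, e70, swap_apply_left]
    have hc : ∀ t : Fin 8, t ≠ 0 → t ≠ 6 → t ≠ 7 → xg 0 t = t := by decide +kernel
    have hcc : xg 0 * xg 0 * (xg 0)⁻¹ = xg 0 := by group
    rcases hs with hs | hs | hs
    · exact ⟨swap s 1, (hsw s s0 s6 s7).1, by rw [hs]; exact (hsw s s0 s6 s7).2⟩
    · refine ⟨swap s 1 * (xg 0 * xg 0), ?_, ?_⟩
      · have : swap s 1 * (xg 0 * xg 0) * xg 0 * (swap s 1 * (xg 0 * xg 0))⁻¹ =
            swap s 1 * xg 0 * (swap s 1)⁻¹ := by group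
        rw [this]; exact (hsw s s0 s6 s7).1
      · rw [hs]
        have : swap s 1 * (xg 0 * xg 0) * c3 s 7 0 * (swap s 1 * (xg 0 * xg 0))⁻¹ =
            swap s 1 * (xg 0 * (xg 0 * c3 s 7 0 * (xg 0)⁻¹) * (xg 0)⁻¹) * (swap s 1)⁻¹ := by group
        rw [this, conj_c3, hc s s0 s6 s7]
        have a1 : xg 0 7 = 0 := by decide
        have a2 : xg 0 0 = 6 := by decide
        have a3 : xg 0 6 = 7 := by decide
        rw [a1, a2, conj_c3, hc s s0 s6 s7, a2, a3]
        exact (hsw s s0 s6 s7).2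
    · refine ⟨swap s 1 * xg 0, ?_, ?_⟩
      · have : swap s 1 * xg 0 * xg 0 * (swap s 1 * xg 0)⁻¹ = swap s 1 * xg 0 * (swap s 1)⁻¹ := by group
        rw [this]; exact (hsw s s0 s6 s7).1
      · rw [hs]
        have : swap s 1 * xg 0 * c3 s 0 6 * (swap s 1 * xg 0)⁻¹ =
            swap s 1 * (xg 0 * c3 s 0 6 * (xg 0)⁻¹) * (swap s 1)⁻¹ := by group
        rw [this, conj_c3, hc s s0 s6 s7]
        have a2 : xg 0 0 = 6 := by decide
        have a3 : xg 0 6 = 7 := by decide
        rw [a2, a3]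
        exact (hsw s s0 s6 s7).2
  obtain ⟨g2, hg2a, hg2b⟩ := hg
  obtain ⟨ψ2, hψ2, hφψ2⟩ := aux (g1 * g2⁻¹)
  have h12 : ∀ x, ψ2 x = g2 * ψ1 x * g2⁻¹ := by
    intro x
    have e1 := hφψ x
    have e2 := hφψ2 x
    rw [e1] at e2
    have : ψ2 x = (g1 * g2⁻¹)⁻¹ * (g1 * ψ1 x * g1⁻¹) * (g1 * g2⁻¹) := by rw [e2]; group
    rw [this]; group
  have e0' : ψ2 ⟨xg 0, m0⟩ = xg 0 := by rw [h12, e0, hg2a]
  have e1' : ψ2 ⟨xg 1, m1⟩ = xg 1 := by rw [h12, he, hg2b]
  -- step 3
  have hall : ∀ i : Fin 8, ∀ (h6 : i ≠ 6) (h7 : i ≠ 7), ∃ s : Fin 8, s ≠ 6 ∧ s ≠ 7 ∧ ψ2 ⟨xg i, xg_mem h6 h7⟩ = c3 s 6 7 := by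
    intro i h6 h7
    by_cases hi0 : i = 0
    · subst hi0; exact ⟨0, by decide, by decide, e0'⟩
    by_cases hi1 : i = 1
    · subst hi1; exact ⟨1, by decide, by decide, e1'⟩
    obtain ⟨u, v, w, huv, huw, hvw, he⟩ := exists_c3 (map_isThreeCycle ψ2 hψ2 (g := ⟨xg i, xg_mem h6 h7⟩)
      (c3_isThreeCycle h6 h7 (by decide)))
    have hHa : Hyp 0 u v w := by
      have := hrel ψ2 hψ2 0 i (by decide) (by decide) h6 h7 (Ne.symm hi0)
      rw [he, e0'] at this
      exact this
    have hHb : Hyp 1 u v w := by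
      have := hrel ψ2 hψ2 1 i (by decide) (by decide) h6 h7 (Ne.symm hi1)
      rw [he, e1'] at this
      exact this
    obtain ⟨s, hs6, hs7, hs⟩ := dec2 u v w huv huw hvw hHa hHb
    exact ⟨s, hs6, hs7, he.trans hs⟩
  choose! r hr6 hr7 hr using hall
  let f : Fin 8 → Fin 8 := fun i => if i = 6 then 6 else if i = 7 then 7 else r i
  have f6 : f 6 = 6 := rfl
  have f7 : f 7 = 7 := rfl
  have fi : ∀ i, i ≠ 6 → i ≠ 7 → f i = r i := fun i h6 h7 => by
    show (if i = 6 then 6 else if i = 7 then 7 else r i) = r i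
    rw [if_neg h6, if_neg h7]
  have hf : Injective f := by
    intro i j hij
    by_cases hi6 : i = 6
    · subst hi6
      by_cases hj6 : j = 6
      · exact hj6.symm
      by_cases hj7 : j = 7
      · subst hj7; rw [f6, f7] at hij; exact absurd hij (by decide)
      rw [f6, fi j hj6 hj7] at hij
      exact absurd hij.symm (hr6 j hj6 hj7)
    by_cases hi7 : i = 7
    · subst hi7
      by_cases hj6 : j = 6
      · subst hj6; rw [f6, f7] at hij; exact absurd hij (by decide)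
      by_cases hj7 : j = 7
      · exact hj7.symm
      rw [f7, fi j hj6 hj7] at hij
      exact absurd hij.symm (hr7 j hj6 hj7)
    by_cases hj6 : j = 6
    · subst hj6; rw [f6, fi i hi6 hi7] at hij; exact absurd hij (hr6 i hi6 hi7)
    by_cases hj7 : j = 7
    · subst hj7; rw [f7, fi i hi6 hi7] at hij; exact absurd hij (hr7 i hi6 hi7)
    rw [fi i hi6 hi7, fi j hj6 hj7] at hij
    have e : ψ2 ⟨xg i, xg_mem hi6 hi7⟩ = ψ2 ⟨xg j, xg_mem hj6 hj7⟩ := by
      rw [hr i hi6 hi7, hr j hj6 hj7, hij]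
    have e' : xg i = xg j := congrArg Subtype.val (hψ2 e)
    have e7 := congrArg (fun f : Perm (Fin 8) => f 7) e'
    simp only [xg] at e7
    rwa [c3_apply_last i 6 7 hi6 hi7 (by decide), c3_apply_last j 6 7 hj6 hj7 (by decide)] at e7
  let p : Perm (Fin 8) := Equiv.ofBijective f (Finite.injective_iff_bijective.mp hf)
  have hp : ∀ i, p i = f i := fun i => rfl
  have hfin : ψ2 = (MulAut.conj p).toMonoidHom.comp (alternatingGroup (Fin 8)).subtype := by
    apply hom_ext
    intro i hi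
    show ψ2 ⟨Lib.AltCarmichael.cyc 6 i, _⟩ = p * Lib.AltCarmichael.cyc 6 i * p⁻¹
    have hi6 : Fin.ofNat 8 i ≠ 6 := Lib.AltCarmichael.ofNat_ne (m := 6) (i := i) (j := 6) (by omega) (by omega) (by omega)
    have hi7 : Fin.ofNat 8 i ≠ 7 := Lib.AltCarmichael.ofNat_ne (m := 6) (i := i) (j := 7) (by omega) (by omega) (by omega)
    have hc : Lib.AltCarmichael.cyc 6 i = xg (Fin.ofNat 8 i) := rfl
    have : ψ2 ⟨Lib.AltCarmichael.cyc 6 i, Lib.AltCarmichael.cyc_mem 6 i hi⟩ =
      ψ2 ⟨xg (Fin.ofNat 8 i), xg_mem hi6 hi7⟩ := rfl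
    rw [this, hc, hr _ hi6 hi7]
    show _ = p * c3 (Fin.ofNat 8 i) 6 7 * p⁻¹
    rw [conj_c3, hp, hp, hp, f6, f7, fi _ hi6 hi7]
  refine ⟨g1 * g2⁻¹ * p, fun g => ?_⟩
  rw [hφψ2 g, hfin]
  show g1 * g2⁻¹ * (p * (g : Perm (Fin 8)) * p⁻¹) * (g1 * g2⁻¹)⁻¹ = _
  group

/-- Every automorphism of `alternatingGroup (Fin 8)` is conjugation by a permutation. -/
theorem aut (f : alternatingGroup (Fin 8) ≃* alternatingGroup (Fin 8)) :
    ∃ p : Perm (Fin 8), ∀ g : alternatingGroup (Fin 8), (f g : Perm (Fin 8)) = p * (g : Perm (Fin 8)) * p⁻¹ :=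
  exists_conj ((alternatingGroup (Fin 8)).subtype.comp f.toMonoidHom)
    (Subtype.val_injective.comp f.injective)

end Cfsg.Agent.HN.S8Aut
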