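import Mathlib
import Cfsg.Agent.HN.S8Aut

/-!
# Small facts about the alternating group of degree 8

* `mem_of_gens` : the six elements `(01)(23), (02)(13), (012), (456), (01)(45), (024)(135)` generate the stabiliser of
  the point `7` in the alternating group of degree 8;
* `eq_one_of_commute` : the centraliser of the natural `A₄ × A₄` is trivial;
* `eq_one_of_cube` : no element of order 3 commutes with `(01)(23)` and `(01)(45)`.
-/

set_option autoImplicit false

namespace Cfsg.Agent.HN.S8Gen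

open Equiv Equiv.Perm Subgroup Function
open Cfsg.Agent.HN.S8Aut (c3 c3_def conj_c3 c3_isThreeCycle exists_c3)

/-! ### Three-cycles -/

theorem c3_apply_left {p q r : Fin 8} (h1 : p ≠ q) (h2 : p ≠ r) : c3 p q r p = q := by
  rw [c3_def, Perm.mul_apply, swap_apply_of_ne_of_ne h1 h2, swap_apply_left]

theorem c3_apply_mid {p q r : Fin 8} (h2 : p ≠ r) (h3 : q ≠ r) : c3 p q r q = r := by
  rw [c3_def, Perm.mul_apply, swap_apply_left, swap_apply_of_ne_of_ne h2.symm h3.symm]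

theorem c3_apply_right {p q r : Fin 8} : c3 p q r r = p := by
  rw [c3_def, Perm.mul_apply, swap_apply_right, swap_apply_right]

theorem c3_rot {p q r : Fin 8} (h1 : p ≠ q) (h2 : p ≠ r) (h3 : q ≠ r) : c3 p q r = c3 q r p := by
  ext x
  congr 1
  by_cases hp : x = p
  · subst hp
    rw [c3_apply_left h1 h2, c3_apply_right]
  by_cases hq : x = q
  · subst hq
    rw [c3_apply_mid h2 h3, c3_apply_left h3 h1.symm]
  by_cases hr : x = r
  · subst hr
    rw [c3_apply_right, c3_apply_mid h1.symm h2.symm]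
  · rw [c3_def, c3_def, Perm.mul_apply, Perm.mul_apply, swap_apply_of_ne_of_ne hq hr, swap_apply_of_ne_of_ne hp hq,
      swap_apply_of_ne_of_ne hr hp, swap_apply_of_ne_of_ne hq hr]

/-- `c3 p q r = c3 a p q * c3 a q r` -/
theorem c3_eq_mul {a p q r : Fin 8} (hp : a ≠ p) (hq : a ≠ q) (hr : a ≠ r) (h1 : p ≠ q) (h2 : p ≠ r) (h3 : q ≠ r) :
    c3 p q r = c3 a p q * c3 a q r := by
  ext x
  congr 1
  rw [Perm.mul_apply]
  by_cases ha : x = a
  · subst ha
    rw [c3_apply_left hq hr, c3_apply_right, c3_def, Perm.mul_apply, swap_apply_of_ne_of_ne hq hr,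
      swap_apply_of_ne_of_ne hp hq]
  by_cases hxp : x = p
  · subst hxp
    rw [c3_apply_left h1 h2, c3_def a q r, Perm.mul_apply, swap_apply_of_ne_of_ne h1 h2,
      swap_apply_of_ne_of_ne ha h1, c3_apply_mid hq h1]
  by_cases hxq : x = q
  · subst hxq
    rw [c3_apply_mid h2 h3, c3_apply_mid hr h3, c3_def a p x, Perm.mul_apply, swap_apply_of_ne_of_ne h2.symm h3.symm,
      swap_apply_of_ne_of_ne hr.symm h2.symm]
  by_cases hxr : x = r
  · subst hxr
    rw [c3_apply_right, c3_apply_right, c3_apply_left hp hq]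
  · have e1 : c3 p q r x = x := by
      rw [c3_def, Perm.mul_apply, swap_apply_of_ne_of_ne hxq hxr, swap_apply_of_ne_of_ne hxp hxq]
    have e2 : c3 a q r x = x := by
      rw [c3_def, Perm.mul_apply, swap_apply_of_ne_of_ne hxq hxr, swap_apply_of_ne_of_ne ha hxq]
    have e3 : c3 a p q x = x := by
      rw [c3_def, Perm.mul_apply, swap_apply_of_ne_of_ne hxp hxq, swap_apply_of_ne_of_ne ha hxp]
    rw [e1, e2, e3]

/-- `c3 a i j = c3 a b j * (c3 a b i)⁻¹` -/
theorem c3_eq_mul_inv {a b i j : Fin 8} (hab : a ≠ b) (hai : a ≠ i) (haj : a ≠ j) (hbi : b ≠ i) (hbj : b ≠ j)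
    (hij : i ≠ j) : c3 a i j = c3 a b j * (c3 a b i)⁻¹ := by
  rw [eq_mul_inv_iff_mul_eq]
  ext x
  congr 1
  rw [Perm.mul_apply]
  by_cases hxa : x = a
  · subst hxa
    rw [c3_apply_left hab hai, c3_apply_left hab haj, c3_def, Perm.mul_apply, swap_apply_of_ne_of_ne hbi hbj,
      swap_apply_of_ne_of_ne hab.symm hbi]
  by_cases hxb : x = b
  · subst hxb
    rw [c3_apply_mid hai hbi, c3_apply_mid haj hbj, c3_apply_mid haj hij]
  by_cases hxi : x = i
  · subst hxi
    rw [c3_apply_right, c3_apply_left hai haj, c3_def, Perm.mul_apply, swap_apply_of_ne_of_ne hxb hij,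
      swap_apply_of_ne_of_ne hxa hxb]
  by_cases hxj : x = j
  · subst hxj
    rw [c3_apply_right, c3_def a b i, Perm.mul_apply, swap_apply_of_ne_of_ne hxb hxi,
      swap_apply_of_ne_of_ne hxa hxb, c3_apply_right]
  · have e1 : c3 a i j x = x := by
      rw [c3_def, Perm.mul_apply, swap_apply_of_ne_of_ne hxi hxj, swap_apply_of_ne_of_ne hxa hxi]
    have e2 : c3 a b j x = x := by
      rw [c3_def, Perm.mul_apply, swap_apply_of_ne_of_ne hxb hxj, swap_apply_of_ne_of_ne hxa hxb]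
    have e3 : c3 a b i x = x := by
      rw [c3_def, Perm.mul_apply, swap_apply_of_ne_of_ne hxb hxi, swap_apply_of_ne_of_ne hxa hxb]
    rw [e3, e1, e2]

theorem inv_c3 {p q r : Fin 8} (h1 : p ≠ q) (h2 : p ≠ r) (h3 : q ≠ r) : (c3 p q r)⁻¹ = c3 p r q := by
  rw [c3_def, mul_inv_rev, swap_inv, swap_inv, c3_rot h2 h1 h3.symm, c3_def r q p, swap_comm r q, swap_comm q p]

/-! ### Generators of the stabiliser of the last point -/

/-- A subgroup containing the `(0 1 i)`, `2 ≤ i ≤ 6`, contains all three-cycles fixing `7`. -/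
theorem c3_mem {H : Subgroup (Perm (Fin 8))} (h : ∀ i : Fin 8, i ≠ 0 → i ≠ 1 → i ≠ 7 → c3 0 1 i ∈ H) {p q r : Fin 8}
    (h1 : p ≠ q) (h2 : p ≠ r) (h3 : q ≠ r) (hp : p ≠ 7) (hq : q ≠ 7) (hr : r ≠ 7) : c3 p q r ∈ H := by
  -- all cycles `(0 i j)`
  have key : ∀ i j : Fin 8, i ≠ 0 → j ≠ 0 → i ≠ j → i ≠ 7 → j ≠ 7 → c3 0 i j ∈ H := by
    intro i j hi hj hij hi7 hj7
    by_cases hi1 : i = 1
    · subst hi1
      exact h j hj (Ne.symm hij) hj7
    by_cases hj1 : j = 1
    · subst hj1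
      rw [← inv_c3 (by decide) (Ne.symm hi) (Ne.symm hi1)]
      exact inv_mem (h i hi hi1 hi7)
    · rw [c3_eq_mul_inv (b := 1) (by decide) (Ne.symm hi) (Ne.symm hj) (Ne.symm hi1) (Ne.symm hj1) hij]
      exact mul_mem (h j hj hj1 hj7) (inv_mem (h i hi hi1 hi7))
  by_cases hp0 : p = 0
  · subst hp0
    exact key q r h1.symm h2.symm h3 hq hr
  by_cases hq0 : q = 0
  · subst hq0
    rw [c3_rot h1 h2 h3]
    exact key r p h3.symm h1 h2.symm hr hp
  by_cases hr0 : r = 0
  · subst hr0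
    rw [c3_rot h1 h2 h3, c3_rot h3 h1.symm h2.symm]
    exact key p q hp0 hq0 h1 hp hq
  · rw [c3_eq_mul (a := 0) (Ne.symm hp0) (Ne.symm hq0) (Ne.symm hr0) h1 h2 h3]
    exact mul_mem (key p q hp0 hq0 h1 hp hq) (key q r hq0 hr0 h3 hq hr)

/-- A subgroup containing all three-cycles fixing `7` contains all even permutations fixing `7`. -/
theorem mem_of_c3 {H : Subgroup (Perm (Fin 8))}
    (h : ∀ p q r : Fin 8, p ≠ q → p ≠ r → q ≠ r → p ≠ 7 → q ≠ 7 → r ≠ 7 → c3 p q r ∈ H) {σ : Perm (Fin 8)}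
    (hσ : sign σ = 1) (h7 : σ 7 = 7) : σ ∈ H := by
  classical
  have hp : ∀ x : Fin 8, σ x ≠ 7 ↔ x ≠ 7 := by
    intro x
    refine not_congr ⟨fun e => σ.injective (e.trans h7.symm), fun e => by rw [e, h7]⟩
  let τ : Perm {x : Fin 8 // x ≠ 7} := σ.subtypePerm hp
  have hτσ : ofSubtype τ = σ := ofSubtype_subtypePerm hp (fun x hx e => hx (by rw [e, h7]))
  have hsτ : τ ∈ alternatingGroup {x : Fin 8 // x ≠ 7} := by
    rw [mem_alternatingGroup]
    rw [← hσ, ← hτσ, sign_ofSubtype]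
  have hle : alternatingGroup {x : Fin 8 // x ≠ 7} ≤
      H.comap (ofSubtype : Perm {x : Fin 8 // x ≠ 7} →* Perm (Fin 8)) := by
    rw [← closure_three_cycles_eq_alternating, closure_le]
    intro ρ hρ
    show ofSubtype ρ ∈ H
    have h3 : (ofSubtype ρ : Perm (Fin 8)).IsThreeCycle := by
      have : ρ.IsThreeCycle := hρ
      rw [IsThreeCycle, cycleType_ofSubtype]
      exact this
    have hfix : ofSubtype ρ (7 : Fin 8) = 7 := ofSubtype_apply_of_not_mem ρ (by simp)
    obtain ⟨p, q, r, h1, h2, h3', he⟩ := exists_c3 h3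
    rw [he] at hfix ⊢
    refine h p q r h1 h2 h3' ?_ ?_ ?_
    · rintro rfl
      rw [c3_apply_left h1 h2] at hfix
      exact h1 hfix.symm
    · rintro rfl
      rw [c3_apply_mid h2 h3'] at hfix
      exact h3' hfix.symm
    · rintro rfl
      rw [c3_apply_right] at hfix
      exact h2 hfix
  have := hle hsτ
  rw [← hτσ]
  exact this

/-- The six elements generate the stabiliser of `7` in the alternating group. -/
theorem mem_of_gens {H : Subgroup (Perm (Fin 8))} (ha : swap 0 1 * swap 2 3 ∈ H) (hb : swap 0 2 * swap 1 3 ∈ H)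
    (hc : c3 0 1 2 ∈ H) (hd : c3 4 5 6 ∈ H) (hf : c3 0 2 4 * c3 1 3 5 ∈ H)
    {σ : Perm (Fin 8)} (hσ : sign σ = 1) (h7 : σ 7 = 7) : σ ∈ H := by
  have e3 : c3 0 1 3 ∈ H := by
    have : (swap 0 1 * swap 2 3) * c3 0 1 2 * (swap 0 1 * swap 2 3)⁻¹ = c3 1 0 3 := by
      rw [conj_c3]; decide
    rw [← inv_mem_iff, inv_c3 (by decide) (by decide) (by decide), c3_rot (by decide) (by decide) (by decide),
      c3_rot (by decide) (by decide) (by decide), ← this]
    exact mul_mem (mul_mem ha hc) (inv_mem ha)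
  have e4 : c3 0 1 4 ∈ H := by
    have h1 : (c3 0 2 4 * c3 1 3 5) * c3 0 1 2 * (c3 0 2 4 * c3 1 3 5)⁻¹ = c3 2 3 4 := by
      rw [conj_c3]; decide
    have h2 : (swap 0 2 * swap 1 3) * c3 2 3 4 * (swap 0 2 * swap 1 3)⁻¹ = c3 0 1 4 := by
      rw [conj_c3]; decide
    rw [← h2, ← h1]
    exact mul_mem (mul_mem hb (mul_mem (mul_mem hf hc) (inv_mem hf))) (inv_mem hb)
  have e5 : c3 0 1 5 ∈ H := by
    have h1 : c3 4 5 6 * c3 0 1 4 * (c3 4 5 6)⁻¹ = c3 0 1 5 := by rw [conj_c3]; decide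
    rw [← h1]
    exact mul_mem (mul_mem hd e4) (inv_mem hd)
  have e6 : c3 0 1 6 ∈ H := by
    have h1 : c3 4 5 6 * c3 0 1 5 * (c3 4 5 6)⁻¹ = c3 0 1 6 := by rw [conj_c3]; decide
    rw [← h1]
    exact mul_mem (mul_mem hd e5) (inv_mem hd)
  refine mem_of_c3 (fun p q r h1 h2 h3 hp hq hr => c3_mem ?_ h1 h2 h3 hp hq hr) hσ h7
  intro i hi0 hi1 hi7
  fin_cases i
  · exact absurd rfl hi0
  · exact absurd rfl hi1
  · exact hc
  · exact e3
  · exact e4
  · exact e5
  · exact e6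
  · exact absurd rfl hi7

/-! ### Elements of the alternating group -/

/-- three-cycles as elements of the alternating group -/
def a3 (p q r : Fin 8) (h : sign (c3 p q r) = 1 := by decide) : alternatingGroup (Fin 8) := ⟨c3 p q r, h⟩

/-- double transpositions as elements of the alternating group -/
def a22 (p q r s : Fin 8) (h : sign (swap p q * swap r s) = 1 := by decide) : alternatingGroup (Fin 8) :=
  ⟨swap p q * swap r s, h⟩

/-- the element `(0 2 4)(1 3 5)` -/
def a33 : alternatingGroup (Fin 8) := ⟨c3 0 2 4 * c3 1 3 5, by rw [mem_alternatingGroup]; decide⟩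

/-- The stabiliser of `7` in the alternating group is generated by the six elements. -/
theorem mem_of_gens_alt {K : Subgroup (alternatingGroup (Fin 8))} (ha : a22 0 1 2 3 ∈ K) (hb : a22 0 2 1 3 ∈ K)
    (hc : a3 0 1 2 ∈ K) (hd : a3 4 5 6 ∈ K) (hf : a33 ∈ K) {s : alternatingGroup (Fin 8)}
    (h7 : (s : Perm (Fin 8)) 7 = 7) : s ∈ K := by
  have h := mem_of_gens (H := K.map (alternatingGroup (Fin 8)).subtype) ⟨_, ha, rfl⟩ ⟨_, hb, rfl⟩ ⟨_, hc, rfl⟩
    ⟨_, hd, rfl⟩ ⟨_, hf, rfl⟩ (σ := s) s.2 h7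
  obtain ⟨t, ht, hts⟩ := h
  have : t = s := Subtype.ext hts
  rwa [← this]

/-! ### Centralisers -/

theorem comm_apply {σ u : Perm (Fin 8)} (h : Commute σ u) (x : Fin 8) : σ (u x) = u (σ x) := by
  have := congrArg (fun f : Perm (Fin 8) => f x) h.eq
  simpa only [Perm.mul_apply] using this

/-- a commuting permutation preserves the set of moved points -/
theorem comm_ne {σ u : Perm (Fin 8)} (h : Commute σ u) {x : Fin 8} (hx : u x ≠ x) : u (σ x) ≠ σ x := by
  rw [← comm_apply h]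
  exact fun e => hx (σ.injective e)

theorem comm_fix {σ u : Perm (Fin 8)} (h : Commute σ u) {x : Fin 8} (hx : u x = x) : u (σ x) = σ x := by
  rw [← comm_apply h, hx]

/-- The centraliser of the natural `A₄ × A₄` in the symmetric group is trivial. -/
theorem eq_one_of_commute {σ : Perm (Fin 8)} (h1 : Commute σ (c3 0 1 2)) (h2 : Commute σ (c3 0 1 3))
    (h3 : Commute σ (c3 4 5 6)) (h4 : Commute σ (c3 4 5 7)) : σ = 1 := by
  have d1 : ∀ x : Fin 8, c3 0 1 2 x ≠ x → c3 0 1 3 x = x → x = 2 := by decide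
  have d2 : ∀ x : Fin 8, c3 0 1 2 x = x → c3 0 1 3 x ≠ x → x = 3 := by decide
  have d3 : ∀ x : Fin 8, c3 4 5 6 x ≠ x → c3 4 5 7 x = x → x = 6 := by decide
  have d4 : ∀ x : Fin 8, c3 4 5 6 x = x → c3 4 5 7 x ≠ x → x = 7 := by decide
  have e2 : σ 2 = 2 := d1 _ (comm_ne h1 (by decide)) (comm_fix h2 (by decide))
  have e3 : σ 3 = 3 := d2 _ (comm_fix h1 (by decide)) (comm_ne h2 (by decide))
  have e6 : σ 6 = 6 := d3 _ (comm_ne h3 (by decide)) (comm_fix h4 (by decide))
  have e7 : σ 7 = 7 := d4 _ (comm_fix h3 (by decide)) (comm_ne h4 (by decide))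
  have e0 : σ 0 = 0 := by
    have := comm_apply h1 2
    rwa [e2, show c3 0 1 2 2 = 0 by decide] at this
  have e1 : σ 1 = 1 := by
    have := comm_apply h1 0
    rwa [e0, show c3 0 1 2 0 = 1 by decide] at this
  have e4 : σ 4 = 4 := by
    have := comm_apply h3 6
    rwa [e6, show c3 4 5 6 6 = 4 by decide] at this
  have e5 : σ 5 = 5 := by
    have := comm_apply h3 4
    rwa [e4, show c3 4 5 6 4 = 5 by decide] at this
  ext x
  fin_cases x
  · exact congrArg Fin.val e0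
  · exact congrArg Fin.val e1
  · exact congrArg Fin.val e2
  · exact congrArg Fin.val e3
  · exact congrArg Fin.val e4
  · exact congrArg Fin.val e5
  · exact congrArg Fin.val e6
  · exact congrArg Fin.val e7

/-- a permutation with trivial cube preserving a pair fixes it pointwise -/
theorem fix_of_pair {σ : Perm (Fin 8)} (h3 : σ ^ 3 = 1) {a b : Fin 8} (ha : σ a = a ∨ σ a = b)
    (hb : σ b = a ∨ σ b = b) : σ a = a ∧ σ b = b := by
  have hc : ∀ x, σ (σ (σ x)) = x := by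
    intro x
    have := congrArg (fun f : Perm (Fin 8) => f x) h3
    simpa only [pow_succ, pow_zero, one_mul, Perm.mul_apply, Perm.one_apply] using this
  rcases ha with ha | ha
  · refine ⟨ha, ?_⟩
    rcases hb with hb | hb
    · have : a = b := σ.injective (ha.trans hb.symm)
      rw [← this, ha]
    · exact hb
  · rcases hb with hb | hb
    · have h := hc a
      rw [ha, hb, ha] at h
      subst h
      exact ⟨ha, ha⟩
    · have : a = b := σ.injective (ha.trans hb.symm)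
      subst this
      exact ⟨ha, ha⟩

/-- No element of order 3 commutes with `(01)(23)` and `(01)(45)`. -/
theorem eq_one_of_cube {σ : Perm (Fin 8)} (h3 : σ ^ 3 = 1) (h1 : Commute σ (swap 0 1 * swap 2 3))
    (h2 : Commute σ (swap 0 1 * swap 4 5)) : σ = 1 := by
  have d0 : ∀ x : Fin 8, (swap 0 1 * swap 2 3 : Perm (Fin 8)) x ≠ x → (swap 0 1 * swap 4 5 : Perm (Fin 8)) x ≠ x →
      x = 0 ∨ x = 1 := by decide
  have d1 : ∀ x : Fin 8, (swap 0 1 * swap 2 3 : Perm (Fin 8)) x ≠ x → (swap 0 1 * swap 4 5 : Perm (Fin 8)) x = x →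
      x = 2 ∨ x = 3 := by decide
  have d2 : ∀ x : Fin 8, (swap 0 1 * swap 2 3 : Perm (Fin 8)) x = x → (swap 0 1 * swap 4 5 : Perm (Fin 8)) x ≠ x →
      x = 4 ∨ x = 5 := by decide
  have d3 : ∀ x : Fin 8, (swap 0 1 * swap 2 3 : Perm (Fin 8)) x = x → (swap 0 1 * swap 4 5 : Perm (Fin 8)) x = x →
      x = 6 ∨ x = 7 := by decide
  obtain ⟨e0, e1⟩ := fix_of_pair h3 (a := 0) (b := 1) (d0 _ (comm_ne h1 (x := 0) (by decide)) (comm_ne h2 (x := 0) (by decide)))
    (d0 _ (comm_ne h1 (x := 1) (by decide)) (comm_ne h2 (x := 1) (by decide)))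
  obtain ⟨e2, e3⟩ := fix_of_pair h3 (a := 2) (b := 3) (d1 _ (comm_ne h1 (x := 2) (by decide)) (comm_fix h2 (x := 2) (by decide)))
    (d1 _ (comm_ne h1 (x := 3) (by decide)) (comm_fix h2 (x := 3) (by decide)))
  obtain ⟨e4, e5⟩ := fix_of_pair h3 (a := 4) (b := 5) (d2 _ (comm_fix h1 (x := 4) (by decide)) (comm_ne h2 (x := 4) (by decide)))
    (d2 _ (comm_fix h1 (x := 5) (by decide)) (comm_ne h2 (x := 5) (by decide)))
  obtain ⟨e6, e7⟩ := fix_of_pair h3 (a := 6) (b := 7) (d3 _ (comm_fix h1 (x := 6) (by decide)) (comm_fix h2 (x := 6) (by decide)))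
    (d3 _ (comm_fix h1 (x := 7) (by decide)) (comm_fix h2 (x := 7) (by decide)))
  ext x
  fin_cases x
  · exact congrArg Fin.val e0
  · exact congrArg Fin.val e1
  · exact congrArg Fin.val e2
  · exact congrArg Fin.val e3
  · exact congrArg Fin.val e4
  · exact congrArg Fin.val e5
  · exact congrArg Fin.val e6
  · exact congrArg Fin.val e7

theorem eq_one_of_commute_alt {s : alternatingGroup (Fin 8)} (h1 : Commute s (a3 0 1 2)) (h2 : Commute s (a3 0 1 3))
    (h3 : Commute s (a3 4 5 6)) (h4 : Commute s (a3 4 5 7)) : s = 1 :=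
  Subtype.ext (eq_one_of_commute (σ := s) (congrArg Subtype.val h1.eq) (congrArg Subtype.val h2.eq)
    (congrArg Subtype.val h3.eq) (congrArg Subtype.val h4.eq))

theorem eq_one_of_cube_alt {s : alternatingGroup (Fin 8)} (h3 : s ^ 3 = 1) (h1 : Commute s (a22 0 1 2 3))
    (h2 : Commute s (a22 0 1 4 5)) : s = 1 :=
  Subtype.ext (eq_one_of_cube (σ := s) (congrArg Subtype.val h3) (congrArg Subtype.val h1.eq)
    (congrArg Subtype.val h2.eq))

end Cfsg.Agent.HN.S8Gen
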