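import Mathlib
import Cfsg.Agent.Lib.AltCarmichael
import Cfsg.Agent.HN.S8Aut
import Cfsg.Agent.HN.S8Gen

/-!
# Gluing an alternating group of degree 12

Let `ι : A₈ → G`, `xc, xd` commuting with `ι A₈`, `y` commuting with the stabiliser of the last point, all of order
dividing 3, with `(xc xd)² = (xc y)² = (xd y)² = 1` and `(y y^s)² = 1` for one `s` moving the last point. Then
`xc, xd` and the eight conjugates of `y` satisfy the relations of Carmichael's presentation of `A₁₂`.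
-/

set_option autoImplicit false

namespace Cfsg.Agent.HN.Carm12

open Equiv Equiv.Perm Subgroup Function
open Cfsg.Agent.HN.S8Aut (c3 c3_def conj_c3 c3_isThreeCycle exists_c3)
open Cfsg.Agent.HN.S8Gen (c3_apply_left c3_apply_mid c3_apply_right)
open Cfsg.Agent.Lib.AltCarmichael (cyc cyc_mem)

local notation "A8" => alternatingGroup (Fin 8)

theorem sign_c3 {p q r : Fin 8} (h1 : p ≠ q) (h2 : p ≠ r) (h3 : q ≠ r) : sign (c3 p q r) = 1 :=
  (c3_isThreeCycle h1 h2 h3).sign

/-- transitivity -/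
theorem exists_apply (i j : Fin 8) : ∃ s : A8, (s : Perm (Fin 8)) i = j := by
  by_cases hij : i = j
  · exact ⟨1, hij⟩
  · obtain ⟨k, hk1, hk2⟩ : ∃ k : Fin 8, i ≠ k ∧ j ≠ k := by
      revert i j; decide
    exact ⟨⟨c3 i j k, sign_c3 hij hk1 hk2⟩, c3_apply_left hij hk1⟩

/-- transitivity of a point stabiliser -/
theorem exists_apply_fix {a i j : Fin 8} (hi : a ≠ i) (hj : a ≠ j) :
    ∃ s : A8, (s : Perm (Fin 8)) a = a ∧ (s : Perm (Fin 8)) i = j := by
  by_cases hij : i = j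
  · exact ⟨1, rfl, hij⟩
  · obtain ⟨k, hk0, hk1, hk2⟩ : ∃ k : Fin 8, a ≠ k ∧ i ≠ k ∧ j ≠ k := by
      revert a i j; decide
    refine ⟨⟨c3 i j k, sign_c3 hij hk1 hk2⟩, ?_, c3_apply_left hij hk1⟩
    show c3 i j k a = a
    rw [c3_def, Perm.mul_apply, swap_apply_of_ne_of_ne hj hk0, swap_apply_of_ne_of_ne hi hj]

/-- 2-transitivity -/
theorem exists_apply_two {i j k l : Fin 8} (hij : i ≠ j) (hkl : k ≠ l) :
    ∃ s : A8, (s : Perm (Fin 8)) i = k ∧ (s : Perm (Fin 8)) j = l := by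
  obtain ⟨g, hg⟩ := exists_apply i k
  have h1 : i ≠ (g : Perm (Fin 8))⁻¹ l := by
    intro h
    apply hkl
    rw [← hg, h]
    exact Equiv.apply_symm_apply (g : Perm (Fin 8)) l
  obtain ⟨h, hh1, hh2⟩ := exists_apply_fix hij h1
  refine ⟨g * h, ?_, ?_⟩
  · show (g : Perm (Fin 8)) ((h : Perm (Fin 8)) i) = k
    rw [hh1, hg]
  · show (g : Perm (Fin 8)) ((h : Perm (Fin 8)) j) = l
    rw [hh2]
    exact Equiv.apply_symm_apply (g : Perm (Fin 8)) l

section main

variable {G : Type*} [Group G] {ι : A8 →* G} {xc xd y : G}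

/-- chosen elements moving `7` to `i` -/
noncomputable def rep (i : Fin 8) : A8 := (exists_apply 7 i).choose

theorem rep_apply (i : Fin 8) : (rep i : Perm (Fin 8)) 7 = i := (exists_apply 7 i).choose_spec

/-- the conjugate of `y` belonging to `i` -/
noncomputable def Y (ι : A8 →* G) (y : G) (i : Fin 8) : G := ι (rep i) * y * (ι (rep i))⁻¹

theorem Y_eq (hy : ∀ s : A8, (s : Perm (Fin 8)) 7 = 7 → Commute (ι s) y) {s : A8} {i : Fin 8}
    (hs : (s : Perm (Fin 8)) 7 = i) : ι s * y * (ι s)⁻¹ = Y ι y i := by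
  have h1 : (((rep i)⁻¹ * s : A8) : Perm (Fin 8)) 7 = 7 := by
    show ((rep i : Perm (Fin 8))⁻¹) ((s : Perm (Fin 8)) 7) = 7
    rw [hs, Perm.inv_eq_iff_eq, rep_apply]
  have h2 := (hy _ h1).eq
  rw [map_mul, map_inv] at h2
  have h3 : ι s * y = ι (rep i) * (y * ((ι (rep i))⁻¹ * ι s)) := by
    rw [← h2]; group
  rw [Y, h3]; group

theorem Y_seven (hy : ∀ s : A8, (s : Perm (Fin 8)) 7 = 7 → Commute (ι s) y) : Y ι y 7 = y := by
  have h := Y_eq hy (s := 1) (i := 7) rfl
  rw [← h, map_one, one_mul, inv_one, mul_one]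

theorem conj_Y (hy : ∀ s : A8, (s : Perm (Fin 8)) 7 = 7 → Commute (ι s) y) (s : A8) (i : Fin 8) :
    ι s * Y ι y i * (ι s)⁻¹ = Y ι y ((s : Perm (Fin 8)) i) := by
  have h1 : ((s * rep i : A8) : Perm (Fin 8)) 7 = (s : Perm (Fin 8)) i := by
    show (s : Perm (Fin 8)) ((rep i : Perm (Fin 8)) 7) = _
    rw [rep_apply]
  rw [← Y_eq hy h1, map_mul, Y]; group

/-- the ten elements -/
noncomputable def seq (ι : A8 →* G) (xc xd y : G) (i : ℕ) : G :=
  if i = 0 then xc else if i = 1 then xd else Y ι y (Fin.ofNat 8 (i - 2))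

theorem seq_zero : seq ι xc xd y 0 = xc := rfl
theorem seq_one : seq ι xc xd y 1 = xd := rfl
theorem seq_add (i : ℕ) : seq ι xc xd y (i + 2) = Y ι y (Fin.ofNat 8 i) := by
  unfold seq
  rw [if_neg (by omega), if_neg (by omega), Nat.add_sub_cancel]

theorem rel (hc : ∀ s : A8, Commute (ι s) xc) (hd : ∀ s : A8, Commute (ι s) xd)
    (hy : ∀ s : A8, (s : Perm (Fin 8)) 7 = 7 → Commute (ι s) y)
    (hc3 : xc ^ 3 = 1) (hd3 : xd ^ 3 = 1) (hy3 : y ^ 3 = 1) (hcd : (xc * xd) ^ 2 = 1) (hcy : (xc * y) ^ 2 = 1)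
    (hdy : (xd * y) ^ 2 = 1)
    (hyy : ∃ s : A8, (s : Perm (Fin 8)) 7 ≠ 7 ∧ (y * (ι s * y * (ι s)⁻¹)) ^ 2 = 1) :
    Lib.AltCarmichael.Rel 10 (seq ι xc xd y) := by
  have hYc : ∀ i, (xc * Y ι y i) ^ 2 = 1 := by
    intro i
    have : xc * Y ι y i = ι (rep i) * (xc * y) * (ι (rep i))⁻¹ := by
      have := (hc (rep i)).eq
      rw [Y]
      calc xc * (ι (rep i) * y * (ι (rep i))⁻¹) = (xc * ι (rep i)) * y * (ι (rep i))⁻¹ := by group
        _ = _ := by rw [← this]; group
    rw [this, conj_pow, hcy, mul_one, mul_inv_cancel]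
  have hYd : ∀ i, (xd * Y ι y i) ^ 2 = 1 := by
    intro i
    have : xd * Y ι y i = ι (rep i) * (xd * y) * (ι (rep i))⁻¹ := by
      have := (hd (rep i)).eq
      rw [Y]
      calc xd * (ι (rep i) * y * (ι (rep i))⁻¹) = (xd * ι (rep i)) * y * (ι (rep i))⁻¹ := by group
        _ = _ := by rw [← this]; group
    rw [this, conj_pow, hdy, mul_one, mul_inv_cancel]
  have hY3 : ∀ i, Y ι y i ^ 3 = 1 := by
    intro i
    rw [Y, conj_pow, hy3, mul_one, mul_inv_cancel]
  have hYY : ∀ i j, i ≠ j → (Y ι y i * Y ι y j) ^ 2 = 1 := by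
    intro i j hij
    obtain ⟨s, hs7, hs⟩ := hyy
    obtain ⟨g, hg1, hg2⟩ := exists_apply_two (Ne.symm hs7) hij
    have h1 : Y ι y i = ι g * y * (ι g)⁻¹ := (Y_eq hy hg1).symm
    have h2 : Y ι y j = ι g * (ι s * y * (ι s)⁻¹) * (ι g)⁻¹ := by
      rw [Y_eq hy (s := s) rfl, conj_Y hy, hg2]
    have h3 : Y ι y i * Y ι y j = ι g * (y * (ι s * y * (ι s)⁻¹)) * (ι g)⁻¹ := by
      rw [h1, h2]; group
    rw [h3, conj_pow, hs, mul_one, mul_inv_cancel]
  constructor
  · intro i hi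
    rcases Nat.lt_or_ge i 2 with h | h
    · interval_cases i
      · exact hc3
      · exact hd3
    · obtain ⟨k, rfl⟩ : ∃ k, i = k + 2 := ⟨i - 2, by omega⟩
      rw [seq_add]
      exact hY3 _
  · intro i hi j hj hij
    rcases Nat.lt_or_ge i 2 with h | h
    · rcases Nat.lt_or_ge j 2 with h' | h'
      · interval_cases i
        · obtain rfl : j = 1 := by omega
          exact hcd
        · obtain rfl : j = 0 := by omega
          exact Lib.AltCarmichael.swap_rel hcd
      · obtain ⟨k, rfl⟩ : ∃ k, j = k + 2 := ⟨j - 2, by omega⟩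
        rw [seq_add]
        interval_cases i
        · exact hYc _
        · exact hYd _
    · obtain ⟨k, rfl⟩ : ∃ k, i = k + 2 := ⟨i - 2, by omega⟩
      rw [seq_add]
      rcases Nat.lt_or_ge j 2 with h' | h'
      · interval_cases j
        · exact Lib.AltCarmichael.swap_rel (hYc _)
        · exact Lib.AltCarmichael.swap_rel (hYd _)
      · obtain ⟨l, rfl⟩ : ∃ l, j = l + 2 := ⟨j - 2, by omega⟩
        rw [seq_add]
        apply hYY
        intro h
        have := congrArg Fin.val h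
        simp only [Fin.ofNat] at this
        omega

/-- **[CARM]** The elements `xc, xd` and the conjugates of `y` are the images of the ten 3-cycles of Carmichael's
presentation under an injective homomorphism from the alternating group of degree 12. -/
theorem exists_hom (hc : ∀ s : A8, Commute (ι s) xc) (hd : ∀ s : A8, Commute (ι s) xd)
    (hy : ∀ s : A8, (s : Perm (Fin 8)) 7 = 7 → Commute (ι s) y)
    (hc3 : xc ^ 3 = 1) (hd3 : xd ^ 3 = 1) (hy3 : y ^ 3 = 1) (hcd : (xc * xd) ^ 2 = 1) (hcy : (xc * y) ^ 2 = 1)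
    (hdy : (xd * y) ^ 2 = 1)
    (hyy : ∃ s : A8, (s : Perm (Fin 8)) 7 ≠ 7 ∧ (y * (ι s * y * (ι s)⁻¹)) ^ 2 = 1)
    (hne : xc ≠ 1 ∨ xd ≠ 1 ∨ y ≠ 1) :
    ∃ φ : alternatingGroup (Fin 12) →* G, Injective φ ∧ φ ⟨cyc 10 0, cyc_mem 10 0 (by norm_num)⟩ = xc ∧
      φ ⟨cyc 10 1, cyc_mem 10 1 (by norm_num)⟩ = xd ∧
      ∀ (s : A8), φ ⟨cyc 10 (((s : Perm (Fin 8)) 7 : Fin 8).val + 2), cyc_mem 10 _ (by omega)⟩ = ι s * y * (ι s)⁻¹ := by
  have hrel := rel hc hd hy hc3 hd3 hy3 hcd hcy hdy hyy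
  obtain ⟨φ, hφ⟩ := Lib.AltCarmichael.exists_hom (m := 10) (by norm_num) hrel
  have h0 : φ ⟨cyc 10 0, cyc_mem 10 0 (by norm_num)⟩ = xc := hφ 0 (by norm_num)
  have h1 : φ ⟨cyc 10 1, cyc_mem 10 1 (by norm_num)⟩ = xd := hφ 1 (by norm_num)
  have h2 : ∀ (s : A8), φ ⟨cyc 10 (((s : Perm (Fin 8)) 7 : Fin 8).val + 2), cyc_mem 10 _ (by omega)⟩ =
      ι s * y * (ι s)⁻¹ := by
    intro s
    rw [hφ _ (by omega), seq_add, Y_eq hy (s := s) rfl]
    congr 1
    apply Fin.ext
    simp only [Fin.ofNat]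
    exact Nat.mod_eq_of_lt (Fin.isLt _)
  refine ⟨φ, ?_, h0, h1, h2⟩
  have hsimple : IsSimpleGroup (alternatingGroup (Fin 12)) :=
    alternatingGroup.isSimpleGroup (by rw [Nat.card_eq_fintype_card, Fintype.card_fin]; norm_num)
  rw [← MonoidHom.ker_eq_bot_iff]
  rcases (inferInstance : φ.ker.Normal).eq_bot_or_eq_top with hb | ht
  · exact hb
  · exfalso
    have htriv : ∀ a, φ a = 1 := by
      intro a
      have : a ∈ φ.ker := by rw [ht]; exact mem_top _
      exact this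
    rw [htriv] at h0 h1
    have h3 := h2 1
    rw [htriv, map_one, one_mul, inv_one, mul_one] at h3
    rcases hne with h | h | h
    · exact h h0.symm
    · exact h h1.symm
    · exact h h3.symm

/-- The three elements `xc, xd, y` generate an alternating group of degree 5 commuting with the image of the
stabiliser of the last point. -/
theorem exists_hom_five (hc : ∀ s : A8, Commute (ι s) xc) (hd : ∀ s : A8, Commute (ι s) xd)
    (hy : ∀ s : A8, (s : Perm (Fin 8)) 7 = 7 → Commute (ι s) y)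
    (hc3 : xc ^ 3 = 1) (hd3 : xd ^ 3 = 1) (hy3 : y ^ 3 = 1) (hcd : (xc * xd) ^ 2 = 1) (hcy : (xc * y) ^ 2 = 1)
    (hdy : (xd * y) ^ 2 = 1) (hne : xc ≠ 1 ∨ xd ≠ 1 ∨ y ≠ 1) :
    Nonempty (closure ({xc, xd, y} : Set G) ≃* alternatingGroup (Fin 5)) ∧
      ∀ g ∈ closure ({xc, xd, y} : Set G), ∀ s : A8, (s : Perm (Fin 8)) 7 = 7 → Commute (ι s) g := by
  let x : ℕ → G := fun i => if i = 0 then xc else if i = 1 then xd else y
  have hrel : Lib.AltCarmichael.Rel 3 x := by
    constructor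
    · intro i hi
      interval_cases i
      · exact hc3
      · exact hd3
      · exact hy3
    · intro i hi j hj hij
      interval_cases i <;> interval_cases j
      · exact absurd rfl hij
      · exact hcd
      · exact hcy
      · exact Lib.AltCarmichael.swap_rel hcd
      · exact absurd rfl hij
      · exact hdy
      · exact Lib.AltCarmichael.swap_rel hcy
      · exact Lib.AltCarmichael.swap_rel hdy
      · exact absurd rfl hij
  have hgen : Lib.AltCarmichael.gen 3 x = closure ({xc, xd, y} : Set G) := by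
    rw [Lib.AltCarmichael.gen_def]
    congr 1
    ext g
    simp only [Set.mem_ofPred_eq, Set.mem_insert_iff, Set.mem_singleton_iff]
    constructor
    · rintro ⟨i, hi, rfl⟩
      interval_cases i
      · exact Or.inl rfl
      · exact Or.inr (Or.inl rfl)
      · exact Or.inr (Or.inr rfl)
    · rintro (rfl | rfl | rfl)
      · exact ⟨0, by norm_num, rfl⟩
      · exact ⟨1, by norm_num, rfl⟩
      · exact ⟨2, by norm_num, rfl⟩
  have hne' : ∃ i < 3, x i ≠ 1 := by
    rcases hne with h | h | h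
    · exact ⟨0, by norm_num, h⟩
    · exact ⟨1, by norm_num, h⟩
    · exact ⟨2, by norm_num, h⟩
  refine ⟨?_, ?_⟩
  · rw [← hgen]
    exact Lib.AltCarmichael.nonempty_gen_equiv (m := 3) le_rfl hrel hne'
  · intro g hg s hs
    induction hg using Subgroup.closure_induction with
    | mem g hg =>
      rcases hg with rfl | rfl | rfl
      · exact hc s
      · exact hd s
      · exact hy s hs
    | one => exact Commute.one_right _
    | mul g k _ _ hg hk => exact hg.mul_right hk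
    | inv g _ hg => exact hg.inv_right

end main

end Cfsg.Agent.HN.Carm12
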