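import Cfsg.Agent.SporadicA.PermTab

set_option autoImplicit false

/-!
Orbits of a subset of `Fin n` (a bit mask) under a group of permutations given by tables:
kernel-checked certificates for a lower bound of the number of images, hence an upper bound for the
order of the stabiliser of the subset.
-/

namespace Cfsg.Agent.HN.MaskOrbit

open Cfsg.Agent.SporadicA.PermTab Equiv

/-- Image of the mask `m` under the table `P`. -/
noncomputable def imgM (n P m : ℕ) : ℕ :=
  Nat.rec 0 (fun i ih => Nat.lor ih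
    (Nat.shiftLeft (Nat.land (Nat.shiftRight m i) 1) (lk P i))) n

theorem testBit_imgM (n P m k : ℕ) :
    Nat.testBit (imgM n P m) k = true ↔ ∃ i < n, Nat.testBit m i = true ∧ lk P i = k := by
  induction n with
  | zero => simp [imgM]
  | succ n ih =>
    have h : imgM (n + 1) P m = imgM n P m ||| (((m >>> n) &&& 1) <<< (lk P n)) := rfl
    rw [h, Nat.testBit_or, Bool.or_eq_true, ih, Nat.testBit_shiftLeft, Bool.and_eq_true,
      decide_eq_true_eq]
    constructor
    · rintro (⟨i, hi, h1, h2⟩ | ⟨h1, h2⟩)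
      · exact ⟨i, Nat.lt_succ_of_lt hi, h1, h2⟩
      · refine ⟨n, Nat.lt_succ_self n, ?_, ?_⟩
        · rw [Nat.testBit_and, Bool.and_eq_true, Nat.testBit_one_eq_true_iff_self_eq_zero] at h2
          have := h2.1
          rw [h2.2, Nat.testBit_shiftRight, Nat.add_zero] at this
          exact this
        · rw [Nat.testBit_and, Bool.and_eq_true, Nat.testBit_one_eq_true_iff_self_eq_zero] at h2
          omega
    · rintro ⟨i, hi, h1, h2⟩
      rcases Nat.lt_succ_iff_lt_or_eq.1 hi with h3 | h3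
      · exact Or.inl ⟨i, h3, h1, h2⟩
      · right
        subst h3
        subst h2
        refine ⟨le_refl _, ?_⟩
        rw [Nat.testBit_and, Nat.sub_self, Nat.testBit_shiftRight, Nat.add_zero, h1]
        rfl

theorem app_inv {n : ℕ} (g : Perm (Fin n)) (i : Fin n) : g (g⁻¹ i) = i :=
  Equiv.apply_symm_apply g i

/-- `g` maps the mask `m` to the mask `m'`. -/
def Maps {n : ℕ} (g : Perm (Fin n)) (m m' : ℕ) : Prop :=
  ∀ i : Fin n, Nat.testBit m' (g i) = Nat.testBit m i

theorem Maps.one {n : ℕ} (m : ℕ) : Maps (1 : Perm (Fin n)) m m := fun _ => rfl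

theorem Maps.trans {n : ℕ} {g h : Perm (Fin n)} {m m' m'' : ℕ} (h1 : Maps g m m')
    (h2 : Maps h m' m'') : Maps (h * g) m m'' := by
  intro i
  rw [Perm.mul_apply, h2 (g i), h1 i]

theorem Maps.symm {n : ℕ} {g : Perm (Fin n)} {m m' : ℕ} (h1 : Maps g m m') : Maps g⁻¹ m' m := by
  intro i
  rw [← h1 (g⁻¹ i), app_inv]

theorem maps_imgM {n : ℕ} {g : Perm (Fin n)} {P : ℕ} (hg : ∀ i, (g i : ℕ) = lk P i) (m : ℕ) :
    Maps g m (imgM n P m) := by
  intro i
  rw [Bool.eq_iff_iff, testBit_imgM]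
  constructor
  · rintro ⟨j, hj, h1, h2⟩
    rw [← hg ⟨j, hj⟩] at h2
    have h3 : (⟨j, hj⟩ : Fin n) = i := g.injective (Fin.ext h2)
    rw [← h3]
    exact h1
  · intro h
    exact ⟨i, i.2, h, (hg i).symm⟩

/-- Entry `k` of the packed list of masks (`n` bits per entry). -/
def mk (n MM k : ℕ) : ℕ := Nat.land (Nat.shiftRight MM (Nat.mul n k)) (Nat.sub (Nat.pow 2 n) 1)

theorem mk_lt (n MM k : ℕ) : mk n MM k < 2 ^ n := by
  have h : mk n MM k = (MM >>> (n * k)) &&& (2 ^ n - 1) := rfl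
  rw [h]
  refine lt_of_le_of_lt Nat.and_le_right ?_
  have := Nat.one_le_two_pow (n := n)
  omega

/-- One step of the certificate: entry `k` is the image of entry `T k / 4` under table `T k % 4`. -/
noncomputable def stepM (n P0 : ℕ) (L : List ℕ) (MM T k : ℕ) : Bool :=
  band (Nat.blt (Nat.shiftRight (lk T k) 2) k)
    (Nat.beq (mk n MM k) (imgM n (getT P0 L (Nat.land (lk T k) 3)) (mk n MM (Nat.shiftRight (lk T k) 2))))

/-- The tree certificate for the entries `1, …, N`. -/
noncomputable def chkTree (n P0 : ℕ) (L : List ℕ) (MM T N : ℕ) : Bool :=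
  allB (fun k => stepM n P0 L MM T (Nat.succ k)) N

/-- The entries `0, …, N` are pairwise different; `O` sorts them, `R` is the inverse of `O`. -/
noncomputable def chkSorted (n MM R O N : ℕ) : Bool :=
  band (allB (fun v => band (Nat.ble (lk R v) N) (Nat.beq (lk O (lk R v)) v)) (Nat.succ N))
    (allB (fun i => Nat.blt (mk n MM (lk O i)) (mk n MM (lk O (Nat.succ i)))) N)

theorem sorted_inj {n MM R O N : ℕ} (h : chkSorted n MM R O N = true) :
    ∀ v ≤ N, ∀ w ≤ N, mk n MM v = mk n MM w → v = w := by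
  unfold chkSorted at h
  rw [band_eq_true, allB_iff, allB_iff] at h
  obtain ⟨hR, hO⟩ := h
  have hmono : ∀ i j, i < j → j ≤ N → mk n MM (lk O i) < mk n MM (lk O j) := by
    intro i j hij
    induction j with
    | zero => exact absurd hij (Nat.not_lt_zero _)
    | succ j ih =>
      intro hj
      have hstep : mk n MM (lk O j) < mk n MM (lk O (j + 1)) := Nat.blt_eq ▸ hO j hj
      rcases Nat.lt_succ_iff_lt_or_eq.1 hij with h | h
      · exact (ih h (by omega)).trans hstep
      · subst h; exact hstep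
  intro v hv w hw hvw
  have h1 := hR v (Nat.lt_succ_of_le hv)
  have h2 := hR w (Nat.lt_succ_of_le hw)
  rw [band_eq_true] at h1 h2
  have h3 : lk R v ≤ N := Nat.le_of_ble_eq_true h1.1
  have h4 : lk R w ≤ N := Nat.le_of_ble_eq_true h2.1
  have h5 := Nat.eq_of_beq_eq_true h1.2
  have h6 := Nat.eq_of_beq_eq_true h2.2
  rcases Nat.lt_trichotomy (lk R v) (lk R w) with h | h | h
  · have := hmono _ _ h h4
    rw [h5, h6] at this
    omega
  · rw [← h5, ← h6, h]
  · have := hmono _ _ h h3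
    rw [h5, h6] at this
    omega

theorem exists_maps {n : ℕ} {G : Subgroup (Perm (Fin n))} {P0 : ℕ} {L : List ℕ} {MM T N : ℕ}
    (h0 : InG G P0) (hL : ∀ P ∈ L, InG G P) (h : chkTree n P0 L MM T N = true) :
    ∀ k ≤ N, ∃ g ∈ G, Maps g (mk n MM 0) (mk n MM k) := by
  intro k
  induction k using Nat.strong_induction_on with
  | _ k ih =>
    intro hk
    rcases Nat.eq_zero_or_pos k with rfl | hpos
    · exact ⟨1, G.one_mem, Maps.one _⟩
    · obtain ⟨l, rfl⟩ : ∃ l, k = l + 1 := ⟨k - 1, by omega⟩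
      have h1 := (allB_iff _ _).1 h l (by omega)
      unfold stepM at h1
      rw [band_eq_true] at h1
      obtain ⟨h2, h3⟩ := h1
      have h4 : Nat.shiftRight (lk T (Nat.succ l)) 2 < l + 1 := Nat.blt_eq ▸ h2
      have h5 := Nat.eq_of_beq_eq_true h3
      obtain ⟨g, hg, hm⟩ := ih _ h4 (by omega)
      have hP : InG G (getT P0 L (Nat.land (lk T (Nat.succ l)) 3)) := by
        rcases getT_mem P0 L (Nat.land (lk T (Nat.succ l)) 3) with h6 | h6
        · rw [h6]; exact h0
        · exact hL _ h6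
      obtain ⟨p, hp, hpi⟩ := hP
      refine ⟨p * g, G.mul_mem hp hg, ?_⟩
      have h7 := hm.trans (maps_imgM hpi _)
      rw [← h5] at h7
      exact h7

/-- The elements of `G` preserving the mask `m`. -/
def stM {n : ℕ} (G : Subgroup (Perm (Fin n))) (m : ℕ) : Subgroup (Perm (Fin n)) where
  carrier := {g | g ∈ G ∧ Maps g m m}
  mul_mem' := by
    rintro a b ⟨ha, ham⟩ ⟨hb, hbm⟩
    exact ⟨G.mul_mem ha hb, hbm.trans ham⟩
  one_mem' := ⟨G.one_mem, Maps.one m⟩
  inv_mem' := by
    rintro a ⟨ha, ham⟩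
    exact ⟨G.inv_mem ha, ham.symm⟩

theorem mem_stM {n : ℕ} {G : Subgroup (Perm (Fin n))} {m : ℕ} {g : Perm (Fin n)} :
    g ∈ stM G m ↔ g ∈ G ∧ Maps g m m := Iff.rfl

theorem eq_of_maps {n : ℕ} {g : Perm (Fin n)} {m a b : ℕ} (ha : a < 2 ^ n) (hb : b < 2 ^ n)
    (h1 : Maps g m a) (h2 : Maps g m b) : a = b := by
  apply Nat.eq_of_testBit_eq
  intro k
  rcases Nat.lt_or_ge k n with hk | hk
  · have h3 := h1 (g⁻¹ ⟨k, hk⟩)
    have h4 := h2 (g⁻¹ ⟨k, hk⟩)
    rw [app_inv] at h3 h4
    exact h3.trans h4.symm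
  · rw [Nat.testBit_eq_false_of_lt (lt_of_lt_of_le ha (Nat.pow_le_pow_right (by norm_num) hk)),
      Nat.testBit_eq_false_of_lt (lt_of_lt_of_le hb (Nat.pow_le_pow_right (by norm_num) hk))]

/-- Upper bound for the stabiliser of a mask. -/
theorem mul_card_stM_le {n : ℕ} {G : Subgroup (Perm (Fin n))} {P0 : ℕ} {L : List ℕ}
    {MM T R O N : ℕ} (h0 : InG G P0) (hL : ∀ P ∈ L, InG G P)
    (h : chkTree n P0 L MM T N = true) (hs : chkSorted n MM R O N = true) :
    (N + 1) * Nat.card (stM G (mk n MM 0)) ≤ Nat.card G := by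
  have h1 := exists_maps h0 hL h
  choose! t ht using h1
  have h2 : Nat.card (Fin (N + 1) × stM G (mk n MM 0)) ≤ Nat.card G := by
    refine Nat.card_le_card_of_injective
      (fun z : Fin (N + 1) × stM G (mk n MM 0) =>
        (⟨t z.1 * z.2.1, G.mul_mem (ht z.1 (Nat.le_of_lt_succ z.1.2)).1 z.2.2.1⟩ : G)) ?_
    rintro ⟨i, s⟩ ⟨j, s'⟩ hij
    have h3 : t i * (s : Perm (Fin n)) = t j * s' := congrArg (Subtype.val : G → Perm (Fin n)) hij
    have h4 : Maps (t i * (s : Perm (Fin n))) (mk n MM 0) (mk n MM i) :=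
      s.2.2.trans (ht i (Nat.le_of_lt_succ i.2)).2
    have h5 : Maps (t j * (s' : Perm (Fin n))) (mk n MM 0) (mk n MM j) :=
      s'.2.2.trans (ht j (Nat.le_of_lt_succ j.2)).2
    rw [h3] at h4
    have h6 := eq_of_maps (mk_lt _ _ _) (mk_lt _ _ _) h4 h5
    have h7 : (i : ℕ) = j := sorted_inj hs _ (Nat.le_of_lt_succ i.2) _ (Nat.le_of_lt_succ j.2) h6
    have h8 : i = j := Fin.ext h7
    subst h8
    rw [Subtype.ext (mul_left_cancel h3)]
  rw [Nat.card_prod, Nat.card_eq_fintype_card, Fintype.card_fin] at h2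
  exact h2

end Cfsg.Agent.HN.MaskOrbit
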