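import Cfsg.Agent.HN.H0Basic
import Cfsg.Agent.HN.MaskOrbit

set_option autoImplicit false

/-!
Upper bounds for centralisers in `H0`: the images of the set of fixed points (on the 100 points) of an
element, and the conjugates of the element having the same set of fixed points.
-/

namespace Cfsg.Agent.HN.CentBound

open Cfsg.Agent.HN.Pres Cfsg.Agent.HN.HS100 Cfsg.Agent.HN.P1408 Cfsg.Agent.HN.MaskOrbit
open Cfsg.Agent.HN.H0Basic Equiv
open Cfsg.Agent.SporadicA.PermTab (band_eq_true allB allB_iff band lk)

noncomputable section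

/-! ### words on 100 points -/

/-- the table of a letter -/
def tabL (l : ℕ) : ℕ :=
  match l with
  | 0 => HS100.tX
  | 1 => HS100.tXi
  | 2 => HS100.tY
  | 3 => HS100.tYi
  | _ => HS100.tZ

theorem letG_apply (l : ℕ) (i : Fin 100) :
    ((letG HS100.X HS100.Y HS100.Z l i : Fin 100) : ℕ) = lk (tabL l) i := by
  match l with
  | 0 => rfl
  | 1 => rfl
  | 2 => rfl
  | 3 => rfl
  | _ + 4 => rfl

/-- Image of the point `i` under the word `a` (acting from the left, last letter first). -/
def tl (a : List ℕ) (i : ℕ) : ℕ := List.rec i (fun l _ ih => lk (tabL l) ih) a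

theorem φ_hw_apply (a : List ℕ) (i : Fin 100) : ((φ (hw a) i : Fin 100) : ℕ) = tl a i := by
  rw [map_hw, φ_gx, φ_gy, φ_gz]
  induction a with
  | nil => rfl
  | cons l a ih =>
    rw [ev_cons, Perm.mul_apply, letG_apply, ih]
    rfl

/-! ### the certificate for the images of a mask -/

/-- entry `k` of the tree table (24 bits): `256 * parent + 64 * letter + depth`. -/
def en (T k : ℕ) : ℕ := Nat.land (Nat.shiftRight T (Nat.mul 24 k)) 16777215

/-- letter of an entry -/
def gen3 (e : ℕ) : ℕ :=
  Nat.rec HS100.tX (fun j _ => Nat.rec HS100.tY (fun _ _ => HS100.tZ) j)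
    (Nat.land (Nat.shiftRight e 6) 3)

theorem exists_gen3 (e : ℕ) : ∃ h : H0, ∀ i : Fin 100, (φ h i : ℕ) = lk (gen3 e) i := by
  unfold gen3
  generalize Nat.land (Nat.shiftRight e 6) 3 = c
  match c with
  | 0 => exact ⟨gx, fun i => by rw [φ_gx]; rfl⟩
  | 1 => exact ⟨gy, fun i => by rw [φ_gy]; rfl⟩
  | _ + 2 => exact ⟨gz, fun i => by rw [φ_gz]; rfl⟩

/-- One step of the certificate. -/
def stepC (MM T k : ℕ) : Bool :=
  band (Nat.blt (Nat.land (en T (Nat.shiftRight (en T k) 8)) 63) (Nat.land (en T k) 63))
    (Nat.beq (mk 100 MM k) (imgM 100 (gen3 (en T k)) (mk 100 MM (Nat.shiftRight (en T k) 8))))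

/-- The tree certificate: all masks are images of the mask number `r`. -/
def chkC (MM T r N : ℕ) : Bool :=
  allB (fun k => Bool.rec (stepC MM T k) true (Nat.beq k r)) N

/-- The masks are in increasing order. -/
def chkS (MM N : ℕ) : Bool := allB (fun k => Nat.blt (mk 100 MM k) (mk 100 MM (Nat.succ k))) N

theorem chkS_inj {MM N : ℕ} (h : chkS MM N = true) :
    ∀ v ≤ N, ∀ w ≤ N, mk 100 MM v = mk 100 MM w → v = w := by
  have hmono : ∀ i j, i < j → j ≤ N → mk 100 MM i < mk 100 MM j := by
    intro i j hij
    induction j with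
    | zero => exact absurd hij (Nat.not_lt_zero _)
    | succ j ih =>
      intro hj
      have hstep : mk 100 MM j < mk 100 MM (j + 1) := Nat.blt_eq ▸ (allB_iff _ _).1 h j hj
      rcases Nat.lt_succ_iff_lt_or_eq.1 hij with h | h
      · exact (ih h (by omega)).trans hstep
      · subst h; exact hstep
  intro v hv w hw hvw
  rcases Nat.lt_trichotomy v w with h | h | h
  · have := hmono _ _ h hw
    omega
  · exact h
  · have := hmono _ _ h hv
    omega

theorem exists_maps {MM T r N : ℕ} (h : chkC MM T r N = true) (hpar :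
    allB (fun k => Nat.blt (Nat.shiftRight (en T k) 8) N) N = true) :
    ∀ k < N, ∃ g : H0, Maps (φ g) (mk 100 MM r) (mk 100 MM k) := by
  have key : ∀ d k, k < N → Nat.land (en T k) 63 ≤ d →
      ∃ g : H0, Maps (φ g) (mk 100 MM r) (mk 100 MM k) := by
    intro d
    induction d with
    | zero =>
      intro k hk hd
      have h1 := (allB_iff _ _).1 h k hk
      by_cases hkr : k = r
      · subst hkr
        exact ⟨1, by rw [map_one]; exact Maps.one _⟩
      · exfalso
        have h2 : Nat.beq k r = false := by
          cases hb : Nat.beq k r with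
          | false => rfl
          | true => exact absurd (Nat.eq_of_beq_eq_true hb) hkr
        rw [h2] at h1
        have h3 : stepC MM T k = true := h1
        unfold stepC at h3
        rw [band_eq_true] at h3
        have h4 : Nat.land (en T (Nat.shiftRight (en T k) 8)) 63 < Nat.land (en T k) 63 :=
          Nat.blt_eq ▸ h3.1
        omega
    | succ d ih =>
      intro k hk hd
      have h1 := (allB_iff _ _).1 h k hk
      by_cases hkr : k = r
      · subst hkr
        exact ⟨1, by rw [map_one]; exact Maps.one _⟩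
      · have h2 : Nat.beq k r = false := by
          cases hb : Nat.beq k r with
          | false => rfl
          | true => exact absurd (Nat.eq_of_beq_eq_true hb) hkr
        rw [h2] at h1
        have h3 : stepC MM T k = true := h1
        unfold stepC at h3
        rw [band_eq_true] at h3
        have h4 : Nat.land (en T (Nat.shiftRight (en T k) 8)) 63 < Nat.land (en T k) 63 :=
          Nat.blt_eq ▸ h3.1
        have h5 := Nat.eq_of_beq_eq_true h3.2
        have h6 : Nat.shiftRight (en T k) 8 < N := Nat.blt_eq ▸ (allB_iff _ _).1 hpar k hk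
        obtain ⟨g, hg⟩ := ih _ h6 (by omega)
        obtain ⟨p, hp⟩ := exists_gen3 (en T k)
        refine ⟨p * g, ?_⟩
        rw [map_mul]
        have h7 := hg.trans (maps_imgM hp _)
        rw [← h5] at h7
        exact h7
  intro k hk
  exact key _ k hk le_rfl

/-! ### centralisers -/

/-- `m` is the mask of the fixed points of the word `a`. -/
def chkF (m : ℕ) (a : List ℕ) : Bool :=
  allB (fun i => Bool.rec (Bool.rec true false (Nat.beq (tl a i) i)) (Nat.beq (tl a i) i)
    (Nat.testBit m i)) 100

/-- the word `c` preserves the mask `m`. -/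
def chkP (m : ℕ) (c : List ℕ) : Bool :=
  allB (fun i => Bool.rec (Bool.rec true false (Nat.testBit m (tl c i))) (Nat.testBit m (tl c i))
    (Nat.testBit m i)) 100

theorem bool_rec_eq {a b : Bool} (h : (Bool.rec (Bool.rec true false b) b a : Bool) = true) :
    a = b := by
  cases a <;> cases b
  · rfl
  · exact absurd h (by simp)
  · exact absurd h (by simp)
  · rfl

theorem chkP_spec {m : ℕ} {c : List ℕ} (h : chkP m c = true) : Maps (φ (hw c)) m m := by
  intro i
  have h1 := bool_rec_eq ((allB_iff _ _).1 h i i.2)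
  rw [φ_hw_apply, h1]

theorem chkF_spec {m : ℕ} {a : List ℕ} (h : chkF m a = true) (i : Fin 100) :
    Nat.testBit m i = true ↔ φ (hw a) i = i := by
  have h1 := bool_rec_eq ((allB_iff _ _).1 h i i.2)
  rw [h1, Fin.ext_iff, φ_hw_apply]
  constructor
  · exact Nat.eq_of_beq_eq_true
  · intro h2
    rw [h2]
    exact Nat.beq_refl _

theorem maps_of_commute {m : ℕ} {a : List ℕ} (h : chkF m a = true) {u : H0}
    (hu : hw a * u = u * hw a) : Maps (φ u) m m := by
  intro i
  rw [Bool.eq_iff_iff]
  rw [chkF_spec h, chkF_spec h, ← Perm.mul_apply, ← map_mul, hu, map_mul, Perm.mul_apply]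
  exact (φ u).injective.eq_iff

/-- the list of words `c a c⁻¹` (`c ∈ L`) moves the point `p` to different points. -/
def chkD (a : List ℕ) (p : ℕ) (L : List (List ℕ)) : Bool :=
  decide ((L.map (fun c => tr (c ++ a ++ iw c) p)).Nodup)

/-- **Upper bound for a centraliser.** -/
theorem card_le {MM T r N m p : ℕ} {a : List ℕ} {L : List (List ℕ)}
    (h1 : chkC MM T r (N + 1) = true)
    (h2 : allB (fun k => Nat.blt (Nat.shiftRight (en T k) 8) (N + 1)) (N + 1) = true)
    (h3 : chkS MM N = true) (h4 : Nat.beq (mk 100 MM r) m = true) (h5 : chkF m a = true)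
    (ha : okw a = true) (hp : p < 1408)
    (hL : ∀ c ∈ L, okw c = true ∧ chkP m c = true)
    (hD : ((L.map (fun c => tr (c ++ a ++ iw c) p)).Nodup)) :
    (N + 1) * L.length * Nat.card (Subgroup.centralizer {hw a}) ≤ 177408000 := by
  have e1 := exists_maps h1 h2
  rw [Nat.eq_of_beq_eq_true h4] at e1
  choose! t ht using e1
  rw [← card_H0_le.antisymm card_H0.ge, mul_assoc]
  have h6 : Nat.card (Fin (N + 1) × (Fin L.length × Subgroup.centralizer {hw a})) ≤ Nat.card H0 := by
    refine Nat.card_le_card_of_injective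
      (fun z : Fin (N + 1) × (Fin L.length × Subgroup.centralizer {hw a}) =>
        t z.1 * (hw (L.get z.2.1) * z.2.2.1)) ?_
    have hM : ∀ (j : Fin L.length) (u : Subgroup.centralizer {hw a}),
        Maps (φ (hw (L.get j) * (u : H0))) m m := by
      intro j u
      rw [map_mul]
      refine Maps.trans (maps_of_commute h5 ?_) (chkP_spec (hL _ (List.get_mem L j)).2)
      exact Subgroup.mem_centralizer_iff.1 u.2 _ rfl
    rintro ⟨i, j, u⟩ ⟨i', j', u'⟩ hij
    have hij' : t i * (hw (L.get j) * (u : H0)) = t i' * (hw (L.get j') * (u' : H0)) := hij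
    have m1 : Maps (φ (t i * (hw (L.get j) * (u : H0)))) m (mk 100 MM i) := by
      rw [map_mul]
      exact (hM j u).trans (ht i i.2)
    have m2 : Maps (φ (t i' * (hw (L.get j') * (u' : H0)))) m (mk 100 MM i') := by
      rw [map_mul]
      exact (hM j' u').trans (ht i' i'.2)
    rw [hij'] at m1
    have e3 := eq_of_maps (mk_lt _ _ _) (mk_lt _ _ _) m1 m2
    have e4 : (i : ℕ) = i' :=
      chkS_inj h3 _ (Nat.le_of_lt_succ i.2) _ (Nat.le_of_lt_succ i'.2) e3
    have e5 : i = i' := Fin.ext e4
    subst e5
    have e6 : hw (L.get j) * (u : H0) = hw (L.get j') * (u' : H0) := mul_left_cancel hij'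
    have e7 : ∀ (j : Fin L.length) (u : Subgroup.centralizer {hw a}),
        (hw (L.get j) * (u : H0)) * hw a * (hw (L.get j) * (u : H0))⁻¹ =
          hw (L.get j ++ a ++ iw (L.get j)) := by
      intro j u
      have hu : hw a * (u : H0) = u * hw a := Subgroup.mem_centralizer_iff.1 u.2 _ rfl
      rw [hw_append, hw_append, hw_iw, mul_inv_rev]
      calc hw (L.get j) * (u : H0) * hw a * ((u : H0)⁻¹ * (hw (L.get j))⁻¹)
          = hw (L.get j) * ((u : H0) * hw a) * (u : H0)⁻¹ * (hw (L.get j))⁻¹ := by group
        _ = hw (L.get j) * hw a * (hw (L.get j))⁻¹ := by rw [← hu]; group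
    have e8 : hw (L.get j ++ a ++ iw (L.get j)) = hw (L.get j' ++ a ++ iw (L.get j')) := by
      rw [← e7 j u, ← e7 j' u', e6]
    have e9 : tr (L.get j ++ a ++ iw (L.get j)) p = tr (L.get j' ++ a ++ iw (L.get j')) p := by
      by_contra hne
      refine hw_ne ?_ ?_ hp hne e8
      · exact okw_append (okw_append (hL _ (List.get_mem L j)).1 ha)
          (okw_iw (hL _ (List.get_mem L j)).1)
      · exact okw_append (okw_append (hL _ (List.get_mem L j')).1 ha)
          (okw_iw (hL _ (List.get_mem L j')).1)
    have e10 : j = j' := by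
      have hinj := List.nodup_iff_injective_get.1 hD
      have hlen : (L.map (fun c => tr (c ++ a ++ iw c) p)).length = L.length := List.length_map _
      have h11 : (Fin.cast hlen.symm j) = (Fin.cast hlen.symm j') := by
        apply hinj
        simpa using e9
      simpa [Fin.ext_iff] using h11
    subst e10
    rw [Subtype.ext (mul_left_cancel e6)]
  rw [Nat.card_prod, Nat.card_prod, Nat.card_eq_fintype_card, Fintype.card_fin,
    Nat.card_eq_fintype_card, Fintype.card_fin] at h6
  exact h6

end

end Cfsg.Agent.HN.CentBound
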