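import Mathlib

set_option autoImplicit false

/-!
Polycyclic 2-series: the subgroups `Pc s k = ⟨s 0, …, s (k-1)⟩` when `s k` normalises `Pc s k` and has its
square in it; commutators of closures.
-/

namespace Cfsg.Agent.HN.PC

open scoped commutatorElement

variable {G : Type*} [Group G]

/-- conjugation maps a closure into a subgroup if it does so for the generators. -/
theorem conj_closure {S : Set G} {B : Subgroup G} {s : G} (h : ∀ b ∈ S, s * b * s⁻¹ ∈ B) :
    ∀ b ∈ Subgroup.closure S, s * b * s⁻¹ ∈ B := by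
  intro b hb
  induction hb using Subgroup.closure_induction with
  | mem x hx => exact h x hx
  | one => rw [mul_one, mul_inv_cancel]; exact B.one_mem
  | mul x y _ _ hx hy =>
    have : s * (x * y) * s⁻¹ = (s * x * s⁻¹) * (s * y * s⁻¹) := by group
    rw [this]
    exact B.mul_mem hx hy
  | inv x _ hx =>
    have : s * x⁻¹ * s⁻¹ = (s * x * s⁻¹)⁻¹ := by group
    rw [this]
    exact B.inv_mem hx

/-- One step of a polycyclic series. -/
theorem closure_step {S : Set G} {s : G} (h2 : s * s ∈ Subgroup.closure S)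
    (hn : ∀ b ∈ S, s * b * s⁻¹ ∈ Subgroup.closure S) :
    ∀ g ∈ Subgroup.closure (insert s S), g ∈ Subgroup.closure S ∨ g * s⁻¹ ∈ Subgroup.closure S := by
  have hn' := conj_closure hn
  set B := Subgroup.closure S with hB
  have hn'' : ∀ b ∈ B, s⁻¹ * b * s ∈ B := by
    intro b hb
    have : s⁻¹ * b * s = (s * s)⁻¹ * (s * b * s⁻¹) * (s * s) := by group
    rw [this]
    exact B.mul_mem (B.mul_mem (B.inv_mem h2) (hn' b hb)) h2
  intro g hg
  induction hg using Subgroup.closure_induction with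
  | mem x hx =>
    rcases hx with rfl | hx
    · right; rw [mul_inv_cancel]; exact B.one_mem
    · left; exact Subgroup.subset_closure hx
  | one => left; exact B.one_mem
  | mul x y _ _ hx hy =>
    rcases hx with hx | hx <;> rcases hy with hy | hy
    · left; exact B.mul_mem hx hy
    · right; rw [mul_assoc]; exact B.mul_mem hx hy
    · right
      have : x * y * s⁻¹ = (x * s⁻¹) * (s * y * s⁻¹) := by group
      rw [this]
      exact B.mul_mem hx (hn' y hy)
    · left
      have : x * y = (x * s⁻¹) * (s * (y * s⁻¹) * s⁻¹) * (s * s) := by group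
      rw [this]
      exact B.mul_mem (B.mul_mem hx (hn' _ hy)) h2
  | inv x _ hx =>
    rcases hx with hx | hx
    · left; exact B.inv_mem hx
    · right
      have : x⁻¹ * s⁻¹ = s⁻¹ * (x * s⁻¹)⁻¹ * s * (s * s)⁻¹ := by group
      rw [this]
      exact B.mul_mem (hn'' _ (B.inv_mem hx)) (B.inv_mem h2)

/-- The subgroup generated by `s 0, …, s (k-1)`. -/
def Pc (s : ℕ → G) (k : ℕ) : Subgroup G := Subgroup.closure (s '' {i | i < k})

theorem Pc_zero (s : ℕ → G) : Pc s 0 = ⊥ := by
  have : s '' {i | i < 0} = ∅ := by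
    ext x
    simp
  rw [Pc, this, Subgroup.closure_empty]

theorem Pc_succ (s : ℕ → G) (k : ℕ) : Pc s (k + 1) = Subgroup.closure (insert (s k) (s '' {i | i < k})) := by
  have : s '' {i | i < k + 1} = insert (s k) (s '' {i | i < k}) := by
    rw [← Set.image_insert_eq]
    congr 1
    ext i
    simp only [Set.mem_ofPred_eq, Set.mem_insert_iff]
    omega
  rw [Pc, this]

theorem mem_Pc {s : ℕ → G} {k i : ℕ} (h : i < k) : s i ∈ Pc s k :=
  Subgroup.subset_closure ⟨i, h, rfl⟩

theorem Pc_mono {s : ℕ → G} {k l : ℕ} (h : k ≤ l) : Pc s k ≤ Pc s l :=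
  Subgroup.closure_mono (Set.image_mono fun _ hi => lt_of_lt_of_le hi h)

/-- hypotheses of a polycyclic 2-step -/
def Step (s : ℕ → G) (k : ℕ) : Prop := s k * s k ∈ Pc s k ∧ ∀ i < k, s k * s i * (s k)⁻¹ ∈ Pc s k

theorem Step.conj {s : ℕ → G} {k : ℕ} (h : Step s k) : ∀ b ∈ Pc s k, s k * b * (s k)⁻¹ ∈ Pc s k := by
  apply conj_closure
  rintro _ ⟨i, hi, rfl⟩
  exact h.2 i hi

theorem Step.mem {s : ℕ → G} {k : ℕ} (h : Step s k) {g : G} (hg : g ∈ Pc s (k + 1)) :
    g ∈ Pc s k ∨ g * (s k)⁻¹ ∈ Pc s k := by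
  rw [Pc_succ] at hg
  refine closure_step h.1 ?_ g hg
  rintro _ ⟨i, hi, rfl⟩
  exact h.2 i hi

/-- the parametrisation of the next group -/
def par (s : ℕ → G) (k : ℕ) (x : Bool × Pc s k) : G := cond x.1 ((x.2 : G) * s k) (x.2 : G)

theorem par_mem (s : ℕ → G) (k : ℕ) (x : Bool × Pc s k) : par s k x ∈ Pc s (k + 1) := by
  obtain ⟨u, b⟩ := x
  cases u
  · exact Pc_mono (Nat.le_succ k) b.2
  · exact (Pc s (k + 1)).mul_mem (Pc_mono (Nat.le_succ k) b.2) (mem_Pc (Nat.lt_succ_self k))

theorem Step.card_le {s : ℕ → G} {k : ℕ} (h : Step s k) [Finite (Pc s k)] :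
    Finite (Pc s (k + 1)) ∧ Nat.card (Pc s (k + 1)) ≤ 2 * Nat.card (Pc s k) := by
  have hsurj : Function.Surjective (fun x : Bool × Pc s k => (⟨par s k x, par_mem s k x⟩ : Pc s (k + 1))) := by
    rintro ⟨g, hg⟩
    rcases h.mem hg with h1 | h1
    · exact ⟨(false, ⟨g, h1⟩), rfl⟩
    · exact ⟨(true, ⟨_, h1⟩), Subtype.ext (inv_mul_cancel_right g (s k))⟩
  refine ⟨Finite.of_surjective _ hsurj, ?_⟩
  have := Nat.card_le_card_of_surjective _ hsurj
  rwa [Nat.card_prod, Nat.card_eq_fintype_card (α := Bool), Fintype.card_bool] at this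

theorem par_injective {s : ℕ → G} {k : ℕ} (hk : s k ∉ Pc s k) : Function.Injective (par s k) := by
  have key : ∀ b c : Pc s k, (b : G) * s k ≠ c := by
    intro b c hbc
    apply hk
    have : s k = (b : G)⁻¹ * c := by rw [← hbc, inv_mul_cancel_left]
    rw [this]
    exact (Pc s k).mul_mem ((Pc s k).inv_mem b.2) c.2
  rintro ⟨u, b⟩ ⟨v, c⟩ hbc
  cases u <;> cases v
  · have h1 : (b : G) = (c : G) := hbc
    have h2 : b = c := Subtype.ext h1
    rw [h2]
  · have h1 : (b : G) = (c : G) * s k := hbc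
    exact absurd h1.symm (key c b)
  · have h1 : (b : G) * s k = (c : G) := hbc
    exact absurd h1 (key b c)
  · have h1 : (b : G) * s k = (c : G) * s k := hbc
    have h2 : b = c := Subtype.ext (mul_right_cancel h1)
    rw [h2]

theorem Step.card_eq {s : ℕ → G} {k : ℕ} (h : Step s k) [Finite (Pc s k)] (hk : s k ∉ Pc s k) :
    Nat.card (Pc s (k + 1)) = 2 * Nat.card (Pc s k) := by
  obtain ⟨hf, hle⟩ := h.card_le
  refine le_antisymm hle ?_
  have hinj : Function.Injective (fun x : Bool × Pc s k => (⟨par s k x, par_mem s k x⟩ : Pc s (k + 1))) := by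
    intro x y hxy
    exact par_injective hk (congrArg Subtype.val hxy)
  have := Nat.card_le_card_of_injective _ hinj
  rwa [Nat.card_prod, Nat.card_eq_fintype_card (α := Bool), Fintype.card_bool] at this

/-- the order of a group with a polycyclic 2-series. -/
theorem card_Pc {s : ℕ → G} {n : ℕ} (h : ∀ k < n, Step s k) (hk : ∀ k < n, s k ∉ Pc s k) :
    Finite (Pc s n) ∧ Nat.card (Pc s n) = 2 ^ n := by
  induction n with
  | zero =>
    rw [Pc_zero]
    exact ⟨inferInstance, by rw [Subgroup.card_bot, pow_zero]⟩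
  | succ n ih =>
    obtain ⟨h1, h2⟩ := ih (fun k hk => h k (by omega)) (fun k hk' => hk k (by omega))
    refine ⟨(h n (Nat.lt_succ_self n)).card_le.1, ?_⟩
    rw [(h n (Nat.lt_succ_self n)).card_eq (hk n (Nat.lt_succ_self n)), h2, pow_succ, mul_comm]

/-! ### commutators of closures -/

/-- If `N` is normalised by `A` and `B`, and the commutators of the generators are in `N`, then all
commutators are. -/
theorem commutator_mem_of_closure {A B : Set G} {N : Subgroup G}
    (hA : ∀ a ∈ Subgroup.closure A, ∀ n ∈ N, a * n * a⁻¹ ∈ N)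
    (hB : ∀ b ∈ Subgroup.closure B, ∀ n ∈ N, b * n * b⁻¹ ∈ N)
    (h : ∀ a ∈ A, ∀ b ∈ B, ⁅a, b⁆ ∈ N) :
    ∀ a ∈ Subgroup.closure A, ∀ b ∈ Subgroup.closure B, ⁅a, b⁆ ∈ N := by
  have h1 : ∀ a ∈ A, ∀ b ∈ Subgroup.closure B, ⁅a, b⁆ ∈ N := by
    intro a ha b hb
    induction hb using Subgroup.closure_induction with
    | mem x hx => exact h a ha x hx
    | one => rw [commutatorElement_one_right]; exact N.one_mem
    | mul x y hx' hy' hx hy =>
      have : ⁅a, x * y⁆ = ⁅a, x⁆ * (x * ⁅a, y⁆ * x⁻¹) := by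
        simp only [commutatorElement_def]; group
      rw [this]
      exact N.mul_mem hx (hB x hx' _ hy)
    | inv x hx' hx =>
      have : ⁅a, x⁻¹⁆ = x⁻¹ * ⁅a, x⁆⁻¹ * x⁻¹⁻¹ := by
        simp only [commutatorElement_def]; group
      rw [this]
      exact hB _ (Subgroup.inv_mem _ hx') _ (N.inv_mem hx)
  intro a ha b hb
  induction ha using Subgroup.closure_induction with
  | mem x hx => exact h1 x hx b hb
  | one => rw [commutatorElement_one_left]; exact N.one_mem
  | mul x y hx' hy' hx hy =>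
    have : ⁅x * y, b⁆ = (x * ⁅y, b⁆ * x⁻¹) * ⁅x, b⁆ := by
      simp only [commutatorElement_def]; group
    rw [this]
    exact N.mul_mem (hA x hx' _ hy) hx
  | inv x hx' hx =>
    have : ⁅x⁻¹, b⁆ = x⁻¹ * ⁅x, b⁆⁻¹ * x⁻¹⁻¹ := by
      simp only [commutatorElement_def]; group
    rw [this]
    exact hA _ (Subgroup.inv_mem _ hx') _ (N.inv_mem hx)

end Cfsg.Agent.HN.PC
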