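import Cfsg.Agent.HN.CentData
import Cfsg.Agent.HN.Syl

set_option autoImplicit false

/-!
Upper bounds for the orders of the centralisers of the involutions of `H0`.
-/

namespace Cfsg.Agent.HN.CentCards

open Cfsg.Agent.HN.Pres Cfsg.Agent.HN.P1408 Cfsg.Agent.HN.H0Basic Cfsg.Agent.HN.Syl

theorem card_centralizer_z : Nat.card (Subgroup.centralizer {gz} : Subgroup H0) ≤ 80640 := by
  have h := CentData.card_z
  rw [hw_z] at h
  omega

theorem card_centralizer_a : Nat.card (Subgroup.centralizer {a} : Subgroup H0) ≤ 30720 := by
  have h := CentData.card_a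
  rw [hw_a] at h
  omega

theorem card_centralizer_d : Nat.card (Subgroup.centralizer {d} : Subgroup H0) ≤ 3840 := by
  have h : 3850 * 12 * Nat.card (Subgroup.centralizer {d} : Subgroup H0) ≤ 177408000 :=
    CentData.card_d
  omega

/-- Multiplying by `τ` does not change the centraliser. -/
theorem centralizer_mul_τ (g : H0) :
    (Subgroup.centralizer {g * τ} : Subgroup H0) = Subgroup.centralizer {g} := by
  ext u
  rw [Subgroup.mem_centralizer_iff, Subgroup.mem_centralizer_iff]
  simp only [Set.mem_singleton_iff, forall_eq]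
  rw [mul_assoc, ← τ_comm, ← mul_assoc, ← mul_assoc]
  exact mul_left_inj τ

theorem card_centralizer_aτ : Nat.card (Subgroup.centralizer {a * τ} : Subgroup H0) ≤ 30720 := by
  rw [centralizer_mul_τ]
  exact card_centralizer_a

theorem card_centralizer_zτ : Nat.card (Subgroup.centralizer {gz * τ} : Subgroup H0) ≤ 80640 := by
  rw [centralizer_mul_τ]
  exact card_centralizer_z

theorem card_centralizer_dτ : Nat.card (Subgroup.centralizer {d * τ} : Subgroup H0) ≤ 3840 := by
  rw [centralizer_mul_τ]
  exact card_centralizer_d

end Cfsg.Agent.HN.CentCards
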