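import Cfsg.Agent.HN.WordSets

set_option autoImplicit false

/-!
The centraliser of `y` in `H0` (`y³ = a` is an involution, `y²` has order 3) has order at most 96.
-/

namespace Cfsg.Agent.HN.CentY

open Cfsg.Agent.HN.Pres Cfsg.Agent.HN.P1408 Cfsg.Agent.HN.H0Basic Cfsg.Agent.HN.WordSets

/-- words centralising `y³`, giving 320 conjugates of `y²` -/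
def LY : List (List ℕ) := [
  [0, 2, 4, 2, 2, 4, 3, 3, 4, 3, 3, 4, 2, 0], [0, 4, 2, 2, 2, 0, 4],
  [0, 4, 3, 0, 4, 3, 0, 2, 2, 2, 4, 2, 2, 2, 4], [0, 2, 4, 3, 3, 4, 2, 0],
  [4, 3, 0, 2, 0, 2, 2, 0, 2, 2, 0, 3, 3, 0, 3, 0, 2, 4],
  [0, 2, 4, 2, 0, 2, 2, 2, 0, 2, 4, 3, 3, 4, 3, 0],
  [0, 2, 2, 0, 4, 3, 4, 2, 2, 0, 2, 2, 0, 2, 4, 2, 0],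
  [4, 2, 4, 2, 2, 0, 3, 0, 3, 3, 0, 2, 4, 2, 2, 4],
  [2, 0, 2, 2, 0, 2, 2, 0, 2, 0, 2, 0, 3, 0, 2, 2, 0], [4, 3, 4, 2, 4, 2, 0, 4],
  [0, 3, 4, 3, 0, 2, 4, 2, 2, 0, 2, 4, 2, 2, 4, 3, 0],
  [0, 2, 4, 2, 0, 3, 4, 3, 3, 0, 2, 4, 3, 3, 4, 3, 0],
  [0, 3, 3, 0, 2, 4, 2, 2, 2, 4, 3, 0, 2, 4, 2, 0],
  [0, 2, 2, 0, 4, 3, 4, 2, 2, 0, 3, 0, 2, 2, 0],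
  [0, 3, 0, 3, 3, 4, 2, 0, 4, 2, 4, 2, 2, 0, 3, 3, 0],
  [0, 3, 4, 2, 2, 2, 0, 3, 4, 3, 3, 0, 3, 4, 3, 0],
  [0, 2, 2, 2, 4, 2, 2, 2, 4, 3, 0, 4, 3, 0, 4], [0, 2, 0, 4, 2, 4, 3, 0, 4, 3, 0],
  [0, 3, 4, 3, 0, 3, 3, 4, 3, 0, 3, 4, 3, 3, 4, 3, 0], [0, 4, 3, 4, 3, 4, 2, 4],
  [2, 0, 3, 4, 2, 2, 4, 3, 0], [0, 2, 4, 2, 0, 3, 4, 3, 3, 0, 3, 3, 4, 2, 2, 2, 0, 4],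
  [0, 4, 2, 2, 4, 2, 4, 3, 3, 4, 2, 4], [0, 2, 2, 0, 2, 2, 2, 0, 3, 4, 3, 0],
  [2, 0, 2, 2, 0, 3, 4, 2, 2, 2, 4, 2, 0, 3, 4, 3, 0],
  [4, 2, 0, 2, 4, 3, 0, 2, 2, 4, 2, 2, 2, 4], [3, 0, 3, 4, 3, 3, 4, 2, 2, 2, 0],
  [0, 3, 4, 3, 0, 2, 2, 2, 0, 3, 4, 2, 2, 4, 2, 0],
  [3, 4, 2, 4, 2, 2, 0, 3, 0, 3, 3, 0, 2, 4, 2, 2, 4], [2, 0, 2, 2, 2, 4, 2, 2, 4, 2, 0],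
  [0, 2, 2, 0, 3, 4, 2, 2, 2, 4, 2, 0, 3, 4, 3, 0],
  [0, 2, 2, 0, 3, 4, 3, 3, 0, 2, 4, 2, 2, 4, 2, 0], [4, 3, 4, 2, 0, 4, 2, 4, 3, 4],
  [0, 2, 4, 2, 2, 4, 2, 2, 2, 0], [2, 0, 2, 2, 2, 4, 3, 3, 4, 3, 0], [0, 3, 4, 2, 2, 4, 3, 0],
  [0, 4, 2, 2, 0, 2, 4, 3, 4], [0, 4, 2, 0, 4, 2, 4, 2, 2, 0, 2, 2, 2, 0, 3, 4, 3, 0],
  [0, 2, 2, 0, 3, 4, 3, 3, 0, 2, 4, 3, 3, 4, 3, 0],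
  [0, 4, 3, 0, 4, 3, 4, 3, 3, 0, 2, 2, 2, 0, 2, 4, 2, 0], [0, 3, 0, 4, 3, 4, 2, 0, 4, 2, 0],
  [0, 4, 2, 4, 2, 4, 3, 4], [3, 0, 2, 2, 0, 3, 4, 3, 3, 0, 3, 4, 3, 3, 4, 2, 0],
  [0, 4, 2, 0, 3, 4, 3, 3, 4, 2, 2, 2, 4], [4, 2, 2, 2, 4, 3, 3, 4, 3, 0, 2, 0, 4],
  [0, 2, 4, 3, 0], [0, 2, 2, 0, 2, 2, 0, 4, 2, 0, 2, 0, 3, 0, 2, 2, 0],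
  [4, 3, 4, 2, 4, 2, 4, 2, 2, 0, 2, 2, 2, 0, 3, 4, 3, 0], [0, 4, 3, 3, 0, 3, 4, 2, 4],
  [0, 2, 4, 3, 3, 4, 3, 3, 4, 2, 2, 4, 2, 0], [3, 0, 2, 4, 2, 2, 4, 3, 3, 4, 3, 3, 4, 2, 0],
  [0, 4, 2, 2, 2, 0, 2, 2, 2, 4, 2, 2, 2, 4],
  [0, 2, 2, 0, 2, 2, 4, 3, 3, 0, 2, 4, 3, 3, 4, 3, 0],
  [0, 2, 4, 2, 2, 4, 2, 2, 4, 2, 2, 4, 3, 0],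
  [0, 2, 0, 2, 0, 2, 4, 2, 4, 3, 3, 0, 2, 2, 4, 2, 4],
  [0, 2, 4, 2, 0, 2, 2, 2, 0, 2, 4, 2, 2, 4, 2, 0],
  [0, 2, 2, 0, 2, 2, 2, 0, 2, 4, 2, 2, 2, 4, 2, 2, 2, 0, 4],
  [3, 0, 2, 2, 0, 2, 2, 4, 2, 0, 3, 4, 3, 3, 4, 2, 0],
  [2, 0, 2, 4, 2, 0, 2, 2, 4, 2, 0, 3, 4, 3, 0], [2, 0, 2, 4, 2, 0, 2, 2, 4, 2, 0, 3, 3, 0],
  [0, 2, 2, 0, 2, 2, 2, 0, 3, 4, 3, 3, 4, 2, 2, 4, 3, 0],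
  [0, 2, 2, 0, 2, 2, 4, 2, 0, 3, 4, 3, 0], [0, 2, 2, 0, 2, 0, 2, 0, 4, 3, 4, 2, 2, 0, 3, 3, 4],
  [0, 2, 2, 0, 2, 2, 4, 2, 0, 3, 3, 0], [0, 2, 2, 0, 2, 2, 4, 3, 3, 0, 3, 4, 3, 0],
  [0, 2, 0, 2, 2, 4, 3, 0, 4, 3, 4, 3, 3, 0, 2, 2, 0],
  [2, 0, 2, 2, 0, 2, 2, 4, 2, 0, 3, 4, 3, 0],
  [0, 3, 4, 2, 2, 4, 2, 0, 2, 2, 4, 2, 0, 3, 4, 3, 0],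
  [0, 3, 3, 0, 3, 3, 0, 4, 3, 0, 3, 0, 2, 0, 3, 3, 0],
  [0, 2, 4, 2, 0, 2, 2, 4, 2, 0, 2, 2, 2, 4, 2, 0], [0, 3, 4, 2, 0],
  [0, 2, 4, 2, 0, 3, 4, 3, 3, 0, 2, 2, 2, 4, 2, 0],
  [0, 2, 0, 2, 0, 4, 3, 0, 2, 2, 0, 3, 0, 2, 2, 0], [4, 3, 4, 2, 2, 4, 3, 0, 2, 2, 0, 4],
  [3, 0, 3, 4, 3, 0, 3, 3, 4, 3, 0, 2, 2, 0], [0, 4, 3, 0, 2, 4, 2, 2, 4, 2, 2, 2, 4],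
  [0, 2, 0, 2, 0, 4, 3, 0, 2, 2, 0, 2, 2, 0, 2, 2, 0],
  [0, 3, 3, 0, 3, 3, 4, 2, 2, 0, 2, 4, 2, 0],
  [3, 0, 3, 3, 4, 2, 0, 4, 3, 3, 0, 3, 3, 0, 3, 3, 0],
  [0, 4, 2, 2, 2, 4, 2, 2, 0, 3, 4, 3, 3, 0, 3, 4, 3, 0],
  [4, 2, 0, 3, 0, 3, 3, 0, 3, 3, 0, 2, 2, 0, 2, 0, 3, 4],
  [3, 0, 3, 4, 3, 0, 3, 3, 4, 3, 0, 2, 4, 2, 0], [0, 3, 4, 2, 4, 2, 0, 4, 2, 0, 4],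
  [4, 2, 4, 2, 2, 0, 2, 4, 2, 2, 0, 2, 2, 2, 0, 3, 0],
  [4, 2, 2, 4, 3, 3, 0, 3, 4, 3, 4, 3, 0, 3, 3, 4],
  [2, 0, 2, 2, 4, 3, 0, 4, 2, 2, 0, 2, 2, 0, 2, 2, 0], [4, 2, 2, 2, 4, 2, 2, 4, 2, 0, 3, 0, 4],
  [0, 4, 3, 0, 4, 3, 0, 4], [3, 0, 3, 4, 2, 2, 4, 3, 0],
  [3, 0, 2, 2, 0, 3, 4, 3, 3, 0, 3, 4, 3, 0],
  [0, 2, 2, 0, 2, 2, 2, 0, 3, 4, 3, 4, 3, 0, 4, 3, 0, 4],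
  [0, 2, 4, 2, 0, 2, 2, 4, 2, 0, 3, 3, 0], [0, 2, 2, 0, 2, 2, 2, 0, 2, 4, 2, 2, 4, 2, 0],
  [0, 2, 2, 0, 2, 2, 2, 0, 2, 4, 2, 2, 2, 0], [2, 0, 2, 2, 2, 4, 2, 2, 4, 2, 4, 2, 2, 2, 0, 4],
  [3, 0, 3, 3, 0, 3, 3, 4, 3, 0, 2, 4, 2, 0],
  [2, 0, 2, 0, 2, 2, 2, 0, 3, 3, 4, 3, 0, 3, 3, 4, 3, 4],
  [0, 2, 2, 4, 3, 0, 4, 2, 2, 0, 2, 2, 0, 2, 2, 0],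
  [0, 3, 0, 3, 0, 3, 4, 3, 4, 2, 2, 0, 3, 3, 4, 3, 4],
  [0, 2, 2, 0, 2, 2, 0, 2, 2, 0, 4, 3, 4, 2, 2, 0],
  [3, 0, 3, 3, 0, 2, 4, 2, 2, 2, 4, 3, 0, 2, 4, 2, 0],
  [2, 0, 3, 4, 2, 2, 4, 2, 2, 4, 2, 2, 2, 0],
  [4, 2, 4, 3, 4, 3, 4, 3, 3, 0, 2, 2, 2, 0, 2, 4, 2, 0],
  [3, 0, 3, 3, 0, 2, 2, 2, 0, 2, 4, 2, 0], [0, 2, 4, 3, 3, 4, 3, 0, 3, 3, 4, 3, 0, 2, 4, 2, 0],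
  [0, 2, 4, 2, 0, 2, 2, 4, 2, 0, 3, 4, 3, 0], [2, 0, 2, 2, 2, 4, 2, 2, 2, 0],
  [0, 4, 3, 0, 4, 2, 2, 4, 2, 2, 2, 4, 2, 2, 2, 0],
  [0, 4, 2, 0, 4, 3, 3, 4, 2, 2, 2, 4, 2, 2, 2, 0], [2, 0, 2, 4, 2, 2, 4, 3, 3, 4, 3, 0],
  [2, 0, 3, 3, 0, 2, 4, 2, 2, 2, 4, 3, 0, 2, 4, 2, 0],
  [0, 3, 3, 0, 3, 3, 0, 3, 0, 3, 0, 4, 2, 0, 3, 3, 0],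
  [0, 3, 3, 0, 3, 3, 0, 3, 3, 4, 2, 0, 4, 3, 3, 0],
  [2, 0, 2, 2, 0, 3, 4, 3, 3, 0, 3, 4, 3, 3, 4, 2, 0],
  [3, 0, 2, 2, 0, 3, 4, 3, 3, 0, 3, 3, 4, 2, 2, 2, 0, 4],
  [0, 2, 2, 0, 3, 4, 3, 3, 0, 3, 3, 4, 2, 2, 2, 0, 4],
  [2, 0, 4, 2, 0, 3, 4, 3, 3, 4, 2, 2, 2, 4], [0, 2, 2, 0, 2, 2, 0, 2, 2, 4, 3, 0, 4, 2, 2, 0],
  [0, 3, 4, 3, 0, 3, 3, 4, 3, 0, 3, 4, 2, 2, 4, 2, 0],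
  [2, 0, 3, 4, 3, 0, 3, 3, 4, 3, 0, 2, 4, 2, 0], [0, 3, 4, 2, 0, 2, 0, 2, 2, 2, 4, 2, 2, 2, 0],
  [2, 0, 2, 4, 3, 3, 4, 2, 0], [0, 3, 0, 3, 0, 4, 3, 4, 3, 4, 2, 2, 0, 3, 3, 4, 3, 4],
  [2, 0, 3, 3, 0, 2, 2, 2, 0, 2, 4, 2, 0], [0, 3, 3, 0, 4, 2, 4, 3, 3, 0, 3, 3, 0, 3, 3, 0],
  [2, 0, 3, 4, 3, 0, 2, 2, 2, 0, 3, 4, 2, 2, 2, 0], [0, 2, 4, 2, 2, 4, 3, 3, 4, 3, 0],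
  [2, 0, 2, 2, 0, 2, 2, 4, 2, 0, 3, 3, 0], [2, 0, 2, 2, 0, 2, 2, 2, 0, 3, 4, 3, 3, 4, 2, 0],
  [3, 0, 2, 4, 2, 0, 2, 2, 2, 0, 2, 4, 2, 2, 2, 0],
  [3, 0, 2, 2, 0, 3, 4, 2, 2, 2, 4, 2, 0, 3, 4, 3, 0], [0, 3, 4, 3, 3, 4, 3, 3, 4, 3, 0],
  [3, 0, 2, 2, 2, 4, 3, 3, 4, 3, 0], [0, 3, 3, 0, 4, 2, 4, 3, 3, 0, 3, 3, 0, 3, 4, 3, 0],
  [3, 0, 2, 2, 0, 2, 2, 2, 0, 3, 3, 0], [4, 2, 4, 3, 4, 3, 4, 2, 2, 0, 2, 2, 2, 0, 3, 3, 0],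
  [0, 2, 0, 2, 0, 4, 2, 4, 2, 4, 3, 3, 0, 2, 2, 4, 2, 4],
  [2, 0, 2, 2, 0, 3, 4, 3, 3, 0, 2, 4, 3, 3, 4, 3, 0], [4, 2, 4, 3, 3, 4, 2, 0, 3, 3, 0, 4],
  [0, 4, 2, 2, 2, 4, 3, 3, 0, 2, 4, 2, 2, 0, 2, 4, 2, 0], [3, 0, 2, 2, 2, 4, 2, 2, 2, 0],
  [0, 4, 2, 0, 4, 2, 0, 4], [2, 4, 2, 2, 2, 4, 2, 2, 2, 4],
  [2, 0, 4, 2, 2, 2, 0, 2, 2, 2, 4, 2, 2, 2, 4], [2, 0, 2, 4, 3, 3, 4, 3, 3, 4, 3, 3, 4, 3, 0],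
  [3, 0, 2, 2, 0, 2, 2, 2, 0, 3, 4, 3, 3, 4, 2, 0],
  [2, 4, 2, 4, 2, 2, 0, 2, 4, 2, 2, 0, 2, 2, 2, 0, 3, 0],
  [0, 2, 2, 2, 4, 2, 2, 2, 4, 3, 4, 3, 4, 2, 4],
  [0, 2, 2, 0, 2, 2, 0, 2, 0, 2, 0, 3, 0, 2, 2, 0],
  [3, 0, 2, 2, 2, 4, 3, 3, 4, 3, 4, 2, 2, 2, 0, 4],
  [3, 0, 3, 3, 0, 3, 3, 4, 3, 0, 2, 4, 2, 2, 4, 3, 0],
  [0, 3, 0, 3, 0, 2, 0, 3, 3, 0, 2, 0, 3, 3, 0], [3, 0, 3, 4, 3, 3, 4, 2, 2, 4, 2, 0],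
  [3, 0, 2, 2, 0, 2, 2, 2, 0, 3, 4, 3, 0], [3, 0, 3, 3, 0, 2, 4, 2, 2, 0, 2, 4, 2, 0],
  [2, 0, 2, 0, 2, 0, 3, 0, 2, 2, 0, 2, 2, 0, 2, 2, 0],
  [0, 2, 2, 0, 2, 2, 2, 0, 2, 4, 3, 3, 4, 3, 0], [0, 3, 3, 0, 3, 3, 4, 3, 0, 2, 4, 2, 0],
  [0, 2, 2, 0, 2, 2, 4, 2, 0, 2, 4, 3, 3, 4, 3, 0], [0, 3, 3, 0, 2, 2, 2, 0, 2, 4, 2, 0],
  [4, 2, 2, 0, 3, 3, 0, 3, 4, 3, 3, 0, 2, 2, 0, 2, 4], [2, 0, 2, 4, 2, 2, 4, 2, 2, 2, 0],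
  [4, 2, 2, 0, 4, 2, 2, 0, 2, 0, 2, 2, 0, 3, 0, 3, 4],
  [0, 3, 3, 0, 2, 4, 2, 2, 0, 2, 4, 2, 2, 4, 3, 0],
  [3, 0, 2, 2, 0, 2, 2, 2, 0, 3, 3, 4, 2, 2, 2, 0, 4],
  [3, 0, 2, 2, 0, 2, 0, 2, 0, 4, 3, 4, 2, 2, 0, 3, 3, 4],
  [0, 2, 2, 0, 2, 2, 2, 0, 3, 3, 4, 3, 0, 4, 3, 0, 4],
  [3, 4, 2, 2, 2, 4, 2, 2, 4, 2, 4, 2, 0, 4],
  [0, 4, 2, 2, 2, 0, 4, 3, 0, 2, 2, 0, 3, 4, 3, 3, 0, 3, 4, 3, 0],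
  [0, 2, 2, 2, 4, 3, 3, 4, 3, 0], [0, 2, 4, 2, 0, 2, 2, 4, 2, 0, 3, 4, 3, 3, 4, 2, 0],
  [0, 3, 3, 0, 2, 2, 2, 0, 2, 4, 2, 4, 2, 0, 4, 2, 0, 4],
  [0, 3, 3, 0, 3, 3, 0, 3, 0, 3, 0, 2, 0, 3, 3, 0], [2, 0, 2, 2, 0, 2, 2, 2, 0, 3, 4, 3, 0],
  [2, 4, 2, 2, 2, 4, 3, 3, 4, 3, 4, 3, 0, 4], [0, 2, 2, 0, 2, 2, 2, 0, 3, 3, 0],
  [3, 4, 2, 2, 2, 4, 3, 3, 4, 3, 4, 3, 0, 4], [2, 0, 3, 3, 0, 3, 3, 4, 3, 0, 2, 4, 2, 0],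
  [0, 2, 2, 2, 4, 2, 2, 4, 2, 0], [0, 2, 2, 2, 4, 2, 2, 4, 2, 4, 2, 2, 2, 0, 4],
  [0, 2, 4, 3, 3, 4, 3, 3, 4, 3, 3, 4, 3, 0],
  [0, 4, 2, 2, 2, 0, 4, 2, 0, 3, 3, 0, 2, 4, 2, 2, 0, 2, 4, 2, 0],
  [0, 2, 2, 0, 3, 4, 3, 3, 0, 3, 4, 3, 4, 2, 2, 2, 0, 4],
  [0, 2, 2, 0, 2, 2, 4, 3, 3, 0, 2, 4, 2, 2, 4, 2, 0],
  [0, 2, 0, 2, 0, 3, 0, 2, 2, 0, 2, 2, 0, 2, 2, 0],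
  [4, 3, 4, 2, 4, 2, 4, 2, 2, 0, 2, 2, 2, 0, 3, 3, 0],
  [2, 0, 2, 2, 0, 2, 2, 2, 0, 3, 3, 4, 3, 0, 4, 3, 0, 4],
  [0, 4, 3, 0, 2, 0, 2, 0, 2, 2, 4, 2, 0, 3, 3, 4, 3, 4],
  [4, 3, 4, 3, 3, 0, 3, 4, 3, 3, 0, 2, 2, 2, 0, 2, 0],
  [0, 2, 2, 0, 3, 4, 3, 3, 0, 3, 4, 3, 3, 4, 2, 0],
  [2, 0, 3, 3, 0, 2, 4, 2, 2, 0, 2, 4, 2, 2, 4, 3, 0], [0, 4, 3, 4, 3, 4, 3, 3, 4, 2, 2, 2, 4],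
  [4, 2, 4, 3, 4, 3, 4, 2, 2, 2, 4, 2, 2, 2, 0],
  [0, 2, 4, 2, 0, 2, 2, 4, 2, 0, 2, 4, 2, 2, 4, 2, 0],
  [0, 4, 2, 2, 4, 3, 4, 3, 3, 4, 2, 2, 2, 4], [0, 3, 4, 3, 3, 4, 2, 2, 4, 2, 0],
  [0, 2, 2, 2, 4, 2, 2, 2, 0], [3, 0, 2, 2, 0, 2, 2, 2, 0, 2, 4, 2, 2, 4, 2, 0],
  [0, 2, 0, 2, 0, 3, 0, 2, 2, 0, 2, 2, 0, 2, 4, 2, 0], [2, 0, 2, 2, 0, 2, 2, 2, 0, 3, 3, 0],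
  [2, 0, 2, 2, 0, 2, 2, 4, 2, 0, 3, 4, 3, 3, 4, 2, 0],
  [2, 0, 2, 2, 0, 3, 4, 3, 3, 0, 2, 4, 2, 2, 4, 2, 0], [0, 4, 2, 4, 2, 4, 2, 2, 4, 2, 2, 2, 4],
  [0, 3, 4, 3, 3, 4, 2, 2, 2, 0], [0, 2, 2, 0, 4, 3, 4, 2, 2, 0, 2, 2, 0, 2, 2, 0],
  [3, 0, 2, 4, 2, 0, 2, 2, 4, 2, 0, 3, 3, 0], [2, 0, 3, 4, 3, 3, 4, 2, 2, 2, 0],
  [0, 2, 4, 3, 0, 3, 0, 2, 2, 2, 4, 2, 2, 2, 0], [3, 4, 2, 2, 2, 4, 2, 2, 2, 4],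
  [0, 2, 4, 3, 3, 4, 2, 2, 4, 3, 0], [2, 0, 3, 4, 3, 3, 4, 3, 3, 4, 3, 0],
  [4, 2, 2, 2, 4, 2, 2, 2, 4], [0, 4, 2, 0, 4, 2, 0, 2, 2, 2, 4, 2, 2, 2, 4],
  [2, 0, 2, 4, 3, 3, 4, 3, 3, 4, 2, 2, 4, 2, 0], [0, 4, 2, 4, 3, 0, 4, 3, 4, 2, 0, 4, 2, 4],
  [0, 2, 4, 3, 4, 2, 4, 2, 4, 3, 4], [0, 2, 2, 0, 2, 2, 4, 2, 0, 2, 4, 2, 2, 4, 2, 0],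
  [0, 3, 3, 0, 2, 2, 2, 0, 2, 4, 2, 2, 4, 3, 0],
  [0, 2, 0, 2, 2, 2, 0, 2, 2, 2, 0, 2, 2, 2, 0, 2, 0],
  [0, 3, 0, 3, 0, 2, 0, 3, 3, 0, 3, 3, 0, 3, 4, 3, 0],
  [0, 3, 4, 3, 0, 2, 2, 2, 0, 3, 4, 3, 3, 4, 3, 0],
  [0, 3, 3, 4, 2, 0, 4, 3, 3, 0, 3, 3, 0, 3, 3, 0], [2, 4, 2, 2, 2, 4, 2, 2, 4, 2, 4, 2, 0, 4],
  [2, 4, 2, 2, 2, 4, 2, 2, 4, 2, 0, 3, 0, 4], [3, 0, 2, 2, 0, 2, 2, 4, 2, 0, 3, 3, 0],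
  [0, 2, 2, 0, 3, 4, 2, 2, 2, 4, 3, 3, 0, 3, 4, 3, 0],
  [0, 2, 0, 4, 2, 0, 2, 4, 2, 4, 3, 3, 0, 2, 2, 4, 2, 4],
  [0, 2, 2, 0, 2, 2, 2, 0, 3, 3, 4, 2, 2, 2, 0, 4], [0, 4, 2, 0, 2, 4, 3, 0, 2, 2, 0, 4],
  [3, 0, 2, 2, 2, 4, 3, 3, 4, 3, 3, 4, 2, 0], [0, 3, 0, 3, 0, 2, 0, 3, 3, 0, 3, 3, 0, 3, 3, 0],
  [4, 2, 2, 4, 2, 0, 3, 3, 0, 3, 0, 2, 2, 4, 2, 4],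
  [2, 0, 3, 3, 0, 2, 2, 2, 0, 2, 4, 2, 2, 4, 3, 0],
  [2, 0, 3, 3, 0, 3, 3, 4, 3, 0, 2, 4, 2, 2, 4, 3, 0],
  [0, 2, 2, 0, 2, 2, 0, 2, 0, 2, 0, 4, 3, 0, 2, 2, 0],
  [0, 2, 2, 0, 2, 2, 2, 0, 3, 4, 3, 3, 4, 2, 0],
  [0, 2, 4, 2, 0, 2, 2, 4, 2, 0, 2, 4, 3, 3, 4, 3, 0],
  [0, 2, 2, 0, 2, 2, 4, 2, 0, 3, 4, 3, 3, 4, 2, 0],
  [0, 2, 4, 3, 3, 4, 3, 0, 2, 2, 2, 0, 3, 4, 2, 2, 2, 0],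
  [4, 2, 4, 2, 2, 0, 2, 0, 2, 0, 3, 4, 3, 0, 4, 3, 4], [3, 0, 2, 2, 2, 4, 2, 2, 4, 2, 0],
  [2, 0, 2, 2, 2, 4, 2, 2, 4, 2, 2, 4, 3, 0], [0, 2, 0, 2, 0, 3, 0, 2, 2, 0, 3, 0, 2, 2, 0],
  [0, 3, 4, 2, 2, 4, 2, 2, 4, 2, 2, 2, 0], [3, 0, 4, 2, 2, 2, 0, 2, 2, 2, 4, 2, 2, 2, 4],
  [4, 3, 3, 4, 2, 2, 0, 2, 4, 2, 4, 2, 0, 2, 2, 4],
  [0, 2, 2, 0, 2, 0, 4, 3, 3, 0, 4, 2, 4, 2, 2, 0], [4, 2, 2, 2, 4, 3, 3, 4, 3, 4, 3, 0, 4],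
  [0, 3, 0, 3, 0, 4, 2, 0, 3, 3, 0, 2, 0, 3, 3, 0],
  [0, 2, 2, 0, 2, 2, 4, 3, 3, 0, 3, 4, 3, 3, 4, 2, 0],
  [4, 3, 3, 4, 3, 0, 2, 2, 0, 2, 0, 3, 3, 4, 3, 4], [3, 0, 2, 4, 3, 3, 4, 2, 0],
  [0, 3, 4, 3, 0, 3, 3, 4, 3, 0, 2, 4, 2, 0],
  [0, 2, 0, 2, 2, 2, 0, 3, 3, 4, 3, 0, 3, 3, 4, 3, 4],
  [0, 2, 2, 0, 2, 2, 2, 4, 3, 4, 2, 2, 0, 3, 0, 2, 2, 0],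
  [4, 3, 4, 3, 3, 0, 2, 0, 2, 2, 0, 3, 4, 3, 3, 4],
  [0, 2, 4, 2, 0, 2, 2, 2, 0, 2, 4, 2, 2, 2, 0], [2, 0, 2, 2, 0, 3, 4, 3, 3, 0, 3, 4, 3, 0],
  [0, 2, 4, 3, 4, 3, 0, 4, 3, 0, 4], [0, 2, 2, 2, 4, 3, 3, 4, 3, 3, 4, 2, 0],
  [4, 3, 4, 2, 4, 2, 4, 2, 2, 2, 4, 2, 2, 2, 0],
  [2, 0, 2, 4, 2, 0, 2, 2, 2, 0, 2, 4, 2, 2, 4, 2, 0],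
  [2, 0, 3, 4, 3, 0, 3, 3, 4, 3, 0, 2, 2, 0],
  [4, 2, 4, 2, 2, 0, 2, 4, 2, 4, 2, 0, 2, 2, 4, 2, 4],
  [0, 2, 4, 2, 0, 2, 2, 4, 3, 3, 0, 2, 4, 3, 3, 4, 3, 0],
  [2, 0, 4, 3, 4, 3, 4, 3, 3, 4, 2, 2, 2, 4], [2, 0, 3, 4, 3, 3, 4, 2, 2, 4, 2, 0],
  [0, 3, 3, 0, 3, 3, 0, 3, 0, 3, 0, 2, 0, 3, 4, 3, 0],
  [0, 2, 2, 0, 2, 2, 0, 2, 0, 2, 0, 3, 0, 2, 4, 2, 0], [3, 0, 2, 4, 2, 2, 4, 3, 3, 4, 3, 0],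
  [2, 0, 2, 2, 0, 2, 2, 2, 0, 3, 3, 4, 2, 2, 2, 0, 4],
  [2, 0, 2, 4, 2, 0, 2, 2, 4, 2, 0, 2, 2, 2, 4, 2, 0],
  [2, 4, 3, 3, 4, 2, 2, 0, 2, 4, 2, 4, 2, 0, 2, 2, 4],
  [3, 0, 3, 3, 0, 2, 2, 2, 0, 2, 4, 2, 2, 4, 3, 0],
  [2, 0, 2, 2, 0, 3, 4, 3, 3, 0, 3, 3, 4, 2, 2, 2, 0, 4],
  [3, 0, 2, 2, 0, 2, 2, 4, 2, 0, 3, 4, 3, 0],
  [4, 2, 0, 2, 2, 0, 3, 3, 4, 3, 0, 3, 3, 0, 2, 2, 4],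
  [3, 0, 2, 2, 0, 2, 2, 2, 0, 2, 4, 2, 2, 2, 0], [2, 0, 3, 3, 0, 2, 4, 2, 2, 0, 2, 4, 2, 0],
  [4, 3, 4, 3, 3, 0, 3, 0, 3, 0, 2, 4, 2, 0, 4, 2, 4], [0, 3, 3, 0, 2, 4, 2, 2, 0, 2, 4, 2, 0],
  [0, 2, 2, 2, 4, 3, 3, 4, 3, 4, 2, 2, 2, 0, 4], [3, 0, 2, 4, 2, 2, 4, 2, 2, 2, 0],
  [0, 3, 3, 0, 2, 4, 2, 2, 0, 2, 4, 2, 4, 2, 2, 2, 0, 4], [2, 0, 2, 4, 3, 0],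
  [2, 0, 2, 2, 0, 2, 2, 4, 3, 3, 0, 3, 4, 3, 0], [3, 0, 2, 4, 2, 0, 2, 2, 4, 2, 0, 3, 4, 3, 0],
  [4, 3, 4, 3, 3, 0, 3, 4, 3, 4, 3, 0, 3, 3, 4, 3, 4], [0, 2, 2, 0, 3, 4, 3, 3, 0, 3, 4, 3, 0],
  [0, 3, 0, 3, 3, 4, 2, 0, 2, 0, 3, 4, 3, 3, 0],
  [0, 2, 2, 0, 2, 2, 0, 4, 2, 0, 2, 0, 2, 2, 0, 2, 2, 0],
  [3, 0, 3, 3, 0, 2, 4, 2, 2, 0, 2, 4, 2, 2, 4, 3, 0], [4, 2, 4, 3, 0, 4, 3, 4, 2, 4],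
  [2, 0, 2, 2, 0, 2, 2, 2, 0, 2, 4, 2, 2, 2, 0],
  [3, 0, 2, 2, 0, 3, 4, 3, 3, 0, 2, 4, 3, 3, 4, 3, 0],
  [0, 4, 3, 3, 4, 2, 4, 2, 2, 4, 2, 2, 2, 4], [2, 0, 2, 2, 0, 2, 2, 2, 0, 2, 4, 3, 3, 4, 3, 0],
  [0, 2, 4, 3, 3, 4, 3, 3, 4, 2, 2, 2, 0], [3, 0, 2, 2, 0, 3, 4, 3, 3, 0, 2, 4, 2, 2, 4, 2, 0],
  [0, 2, 4, 2, 0, 3, 4, 3, 3, 0, 3, 4, 3, 3, 4, 2, 0],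
  [0, 3, 3, 0, 3, 3, 4, 2, 2, 0, 2, 4, 2, 2, 4, 3, 0], [], [0, 2, 4, 2, 2, 4, 2, 2, 4, 2, 0],
  [0, 2, 0, 2, 2, 4, 3, 0, 3, 0, 2, 4, 2, 2, 0], [4, 2, 4, 3, 4, 3, 0, 4],
  [0, 2, 2, 2, 4, 2, 2, 2, 4, 2, 4, 2, 4, 3, 4],
  [0, 3, 3, 0, 3, 3, 0, 3, 3, 0, 4, 2, 4, 3, 3, 0],
  [0, 3, 3, 0, 3, 3, 4, 3, 0, 2, 4, 2, 2, 4, 3, 0], [0, 2, 0, 2, 4, 3, 0, 2, 2, 4, 2, 2, 2, 0],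
  [4, 2, 2, 2, 4, 2, 2, 4, 2, 4, 2, 0, 4],
  [0, 4, 2, 0, 3, 0, 3, 0, 3, 3, 4, 3, 0, 2, 2, 4, 2, 4],
  [3, 0, 3, 4, 2, 2, 2, 0, 2, 2, 4, 2, 0, 3, 4, 3, 0], [0, 2, 2, 2, 4, 2, 2, 4, 2, 2, 4, 3, 0],
  [0, 3, 4, 2, 2, 2, 0, 2, 2, 4, 2, 0, 3, 4, 3, 0], [0, 3, 4, 3, 0, 3, 3, 4, 3, 0, 2, 2, 0],
  [0, 2, 0, 4, 2, 2, 4, 3, 0, 3, 0, 2, 4, 2, 2, 0],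
  [0, 3, 3, 0, 2, 4, 2, 2, 2, 4, 2, 2, 0, 2, 4, 2, 0],
  [4, 3, 3, 0, 4, 3, 3, 0, 3, 0, 3, 3, 0, 2, 0, 2, 4],
  [2, 4, 3, 4, 3, 3, 0, 2, 0, 2, 2, 0, 3, 4, 3, 3, 4],
  [0, 3, 4, 3, 0, 2, 2, 2, 0, 3, 4, 2, 2, 2, 0]
]

theorem okLY : allL okw LY = true := by decide +kernel

theorem comLY : allL (comw [2, 2, 2]) LY = true := by decide +kernel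

theorem incLY : incB (LY.map (fun w => cod [1003, 1109] (w ++ [2, 2] ++ iw w))) = true := by decide +kernel

theorem lenLY : LY.length = 320 := by decide +kernel

theorem card_inf_le : Nat.card (Subgroup.centralizer {Syl.a} ⊓ Subgroup.centralizer {gy ^ 2} : Subgroup H0) ≤ 96 := by
  have h := length_mul_card_le (Subgroup.centralizer {Syl.a} : Subgroup H0) (c := [2, 2]) (L := LY)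
    (ps := [1003, 1109]) (by decide +kernel) (by decide +kernel) okLY (fun w hw => by
      rw [← Syl.hw_a]
      exact mem_centralizer_of_comw (allL_iff.1 comLY w hw)) incLY
  have h2 := CentCards.card_centralizer_a
  have h3 : hw [2, 2] = gy ^ 2 := by rw [hw_cons, hw_y, pow_two]
  rw [lenLY, h3] at h
  omega

theorem card_centralizer_y : Nat.card (Subgroup.centralizer {gy} : Subgroup H0) ≤ 96 := by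
  refine le_trans (Subgroup.card_le_of_le ?_) card_inf_le
  intro g hg
  have h1 : gy * g = g * gy := Subgroup.mem_centralizer_iff.1 hg _ rfl
  have h2 : Commute gy g := h1
  constructor
  · refine Subgroup.mem_centralizer_iff.2 ?_
    rintro _ rfl
    exact h2.pow_left 3
  · refine Subgroup.mem_centralizer_iff.2 ?_
    rintro _ rfl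
    exact h2.pow_left 2

end Cfsg.Agent.HN.CentY
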