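import Cfsg.Agent.HN.Rep
import Cfsg.Agent.HN.CenterData
import Cfsg.Agent.Lib.PackMatLin

/-!
# Matrices commuting with the 133-dimensional representation of HN are scalar
-/

set_option autoImplicit false

namespace Cfsg.Agent.HN.Center

open Cfsg.Agent.Lib.PackMat Cfsg.Agent.Lib.PackMatGroup Cfsg.Agent.Lib.PackMatMul Cfsg.Agent.Lib.PackMatLin
open Cfsg.Agent.HN.RepData Cfsg.Agent.HN.Rep

/-! ### Matrices commuting with the representation are scalar -/

theorem okB1 : okG C CenterData.B1 = true := by decide +kernel
theorem okB2 : okG C CenterData.B2 = true := by decide +kernel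
theorem okROW : okG C CenterData.ROW = true := by decide +kernel
theorem okV : okG C CenterData.V = true := by decide +kernel
theorem okW : okG C CenterData.W = true := by decide +kernel

/-- the words x and y² with their matrices -/
def ps : List (List ℕ × ℕ) := [([0], CenterData.B1), ([2, 2], CenterData.B2)]

theorem okTs1 : okTs C (fixTs 31 L ps CenterData.COL CenterData.ROW) = true := by decide +kernel
theorem lin1 : linC C (fixTs 31 L ps CenterData.COL CenterData.ROW) 0 133 = true := by decide +kernel
theorem lin0 : linM C (fixTs 31 L ps CenterData.COL CenterData.ROW) = 0 :=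
  lin_eq_zero_of_check good one_lt okTs1 lin1
theorem colLt : CenterData.COL < 2 ^ (C.s * C.n) := by
  have : Nat.blt CenterData.COL (2 ^ (17 * 133)) = true := by decide +kernel
  simpa [Nat.blt_eq] using this
theorem runROW : run C [CenterData.ROW] (unitRow C 1 0) = CenterData.v := by
  apply Nat.eq_of_beq_eq_true
  decide +kernel
theorem fix1 : run C (cw L [0]) CenterData.v = CenterData.v := by
  apply Nat.eq_of_beq_eq_true
  decide +kernel
theorem fix2 : run C (cw L [2, 2]) CenterData.v = CenterData.v := by
  apply Nat.eq_of_beq_eq_true
  decide +kernel
theorem spin1 : spinC C L CenterData.V CenterData.v CenterData.ws = true := by decide +kernel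
theorem inv1 : checkScalar C [CenterData.W, CenterData.V] 1 0 133 = true := by decide +kernel

/-- A matrix commuting with all words is a scalar. -/
theorem scalar (g : M C) (hg : ∀ w : List ℕ, ((evG LG w : U C) : M C) * g = g * ((evG LG w : U C) : M C)) :
    ∃ c : ZMod C.p, g = c • (1 : M C) :=
  scalar_of_commute good one_lt codes (ps := ps)
    (by intro q hq
        simp only [ps, List.mem_cons, List.not_mem_nil, or_false] at hq
        rcases hq with rfl | rfl <;> decide)
    colLt okROW lin0 runROW
    (by intro q hq
        simp only [ps, List.mem_cons, List.not_mem_nil, or_false] at hq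
        rcases hq with rfl | rfl
        · exact fix1
        · exact fix2)
    okV okW spin1 inv1 g hg

end Cfsg.Agent.HN.Center
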