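import Cfsg.Agent.HN.Index
import Cfsg.Agent.HN.Rep

set_option autoImplicit false
set_option Elab.async false

/-!
The centraliser of `x²` in the presented Harada–Norton group is `H = <x, y, z>`.
-/

namespace Cfsg.Agent.HN.Central

open Cfsg.Agent.HN.Pres Cfsg.Agent.HN.DCover Cfsg.Agent.HN.NormalH Cfsg.Agent.HN.DSem
  Cfsg.Agent.HN.Index Cfsg.Agent.Lib.PackMat Cfsg.Agent.Lib.PackMatGroup Cfsg.Agent.HN.RepData

/-- `x²` commutes with `H`. -/
theorem comm_of_mem {u : Cfsg.Spor.HN} (hu : u ∈ H) : u * Pres.hx ^ 2 = Pres.hx ^ 2 * u := by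
  rw [← range_ψ] at hu
  obtain ⟨g, rfl⟩ := hu
  rw [← ψ_gx, ← map_pow, ← map_mul, ← map_mul]
  exact congrArg ψ (H0Basic.τ_comm g)

/-- letters of this file to letters of `Rep`. -/
def cv (l : ℕ) : ℕ := if l = 5 then 6 else if l = 6 then 7 else if l < 5 then l else 4

theorem vl_eq (l : ℕ) : vl l = Rep.gens.getD (cv l) 1 := by
  rcases Nat.lt_or_ge l 7 with h | h
  · match l, h with
    | 0, _ => rw [vl, if_neg (by decide), if_neg (by decide)]; exact ψ_gx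
    | 1, _ =>
      rw [vl, if_neg (by decide), if_neg (by decide)]
      change ψ gx⁻¹ = Rep.x⁻¹
      rw [map_inv, ψ_gx]; rfl
    | 2, _ => rw [vl, if_neg (by decide), if_neg (by decide)]; exact ψ_gy
    | 3, _ =>
      rw [vl, if_neg (by decide), if_neg (by decide)]
      change ψ gy⁻¹ = Rep.y⁻¹
      rw [map_inv, ψ_gy]; rfl
    | 4, _ => rw [vl, if_neg (by decide), if_neg (by decide)]; exact ψ_gz
    | 5, _ => rw [vl, if_pos rfl]; rfl
    | 6, _ => rw [vl, if_neg (by decide), if_pos rfl]; rfl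
  · have h1 : P1408.letG gx gy gz l = gz := by
      unfold P1408.letG
      split <;> first | omega | rfl
    rw [vl, if_neg (by omega), if_neg (by omega), cv, if_neg (by omega), if_neg (by omega),
      if_neg (by omega), h1]
    exact ψ_gz

theorem vw_eq (w : List ℕ) : vw w = evG Rep.gens (w.map cv) := by
  induction w with
  | nil => rfl
  | cons l w ih =>
    rw [List.map_cons, evG_cons, ← ih, ← vl_eq]
    rfl

/-- The first row of two words of packed matrices differs. -/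
noncomputable def chkNe (C : Cfg) (w₁ w₂ : List ℕ) : Bool :=
  withC C fun _ p r m t nf GM FM LO HI HT => force (unitRow C 1 0) fun R =>
    Bool.rec true false (Nat.beq (runK p r m t nf GM FM LO HI HT w₁ R)
      (runK p r m t nf GM FM LO HI HT w₂ R))

theorem ne_of_chkNe {C : Cfg} {w₁ w₂ : List ℕ} (h : chkNe C w₁ w₂ = true) :
    run C w₁ (unitRow C 1 0) ≠ run C w₂ (unitRow C 1 0) := by
  intro he
  unfold chkNe withC at h
  simp only [force_eq] at h
  change Bool.rec true false (Nat.beq (run C w₁ (unitRow C 1 0)) (run C w₂ (unitRow C 1 0))) = true at h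
  rw [he, Nat.beq_refl] at h
  exact absurd h (by decide)

theorem w_ne {i : Fin 9} (w : List ℕ) (hw : w9 i = evG Rep.gens w)
    (hok1 : okW Rep.L.length ([0, 0] ++ w) = true)
    (hok2 : okW Rep.L.length (w ++ [0, 0]) = true)
    (hc : chkNe C (cw Rep.L ([0, 0] ++ w)) (cw Rep.L (w ++ [0, 0])) = true) :
    w9 i * Pres.hx ^ 2 ≠ Pres.hx ^ 2 * w9 i := by
  intro h
  have hne := ne_of_row (C := C) Rep.good Rep.codes (w₁ := [0, 0] ++ w) (w₂ := w ++ [0, 0])
    hok1 hok2 (R := unitRow C 1 0) (unitRow_ok (c := 1) (i := 0) (good_of_check Rep.good)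
    (by decide) (by decide)).1 (ne_of_chkNe hc)
  apply hne
  have e : evG Rep.gens [0, 0] = Pres.hx ^ 2 := by
    rw [evG_cons, evG_cons, evG_nil, mul_one, pow_two]; rfl
  have e1 : evG Rep.gens ([0, 0] ++ w) = evG Rep.gens (w ++ [0, 0]) := by
    rw [evG_append, evG_append, e, ← hw, h]
  rw [← Rep.rho_word, ← Rep.rho_word, e1]

theorem e1 : w9 1 = evG Rep.gens [6] := vw_eq [5]
theorem c1 : w9 1 * Pres.hx ^ 2 ≠ Pres.hx ^ 2 * w9 1 :=
  w_ne [6] e1 (by decide +kernel) (by decide +kernel) (by decide +kernel)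
theorem e2 : w9 2 = evG Rep.gens [6, 0, 4, 6] := vw_eq [5, 0, 4, 5]
theorem c2 : w9 2 * Pres.hx ^ 2 ≠ Pres.hx ^ 2 * w9 2 :=
  w_ne [6, 0, 4, 6] e2 (by decide +kernel) (by decide +kernel) (by decide +kernel)
theorem e3 : w9 3 = evG Rep.gens [6, 1, 4, 6] := vw_eq [5, 1, 4, 5]
theorem c3 : w9 3 * Pres.hx ^ 2 ≠ Pres.hx ^ 2 * w9 3 :=
  w_ne [6, 1, 4, 6] e3 (by decide +kernel) (by decide +kernel) (by decide +kernel)
theorem e4 : w9 4 = evG Rep.gens [6, 4, 3, 0, 4, 6] := vw_eq [5, 4, 3, 0, 4, 5]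
theorem c4 : w9 4 * Pres.hx ^ 2 ≠ Pres.hx ^ 2 * w9 4 :=
  w_ne [6, 4, 3, 0, 4, 6] e4 (by decide +kernel) (by decide +kernel) (by decide +kernel)
theorem e5 : w9 5 = evG Rep.gens [6, 4, 3, 4, 3, 4, 6] := vw_eq [5, 4, 3, 4, 3, 4, 5]
theorem c5 : w9 5 * Pres.hx ^ 2 ≠ Pres.hx ^ 2 * w9 5 :=
  w_ne [6, 4, 3, 4, 3, 4, 6] e5 (by decide +kernel) (by decide +kernel) (by decide +kernel)
theorem e6 : w9 6 = evG Rep.gens [6, 0, 4, 6, 3, 0, 4, 6] := vw_eq [5, 0, 4, 5, 3, 0, 4, 5]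
theorem c6 : w9 6 * Pres.hx ^ 2 ≠ Pres.hx ^ 2 * w9 6 :=
  w_ne [6, 0, 4, 6, 3, 0, 4, 6] e6 (by decide +kernel) (by decide +kernel) (by decide +kernel)
theorem e7 : w9 7 = evG Rep.gens [6, 0, 4, 6, 3, 0, 4, 6, 2, 0, 4, 6] := vw_eq [5, 0, 4, 5, 3, 0, 4, 5, 2, 0, 4, 5]
theorem c7 : w9 7 * Pres.hx ^ 2 ≠ Pres.hx ^ 2 * w9 7 :=
  w_ne [6, 0, 4, 6, 3, 0, 4, 6, 2, 0, 4, 6] e7 (by decide +kernel) (by decide +kernel) (by decide +kernel)
theorem e8 : w9 8 = evG Rep.gens [6, 4, 3, 0, 4, 6, 0, 4, 3, 4, 6] := vw_eq [5, 4, 3, 0, 4, 5, 0, 4, 3, 4, 5]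
theorem c8 : w9 8 * Pres.hx ^ 2 ≠ Pres.hx ^ 2 * w9 8 :=
  w_ne [6, 4, 3, 0, 4, 6, 0, 4, 3, 4, 6] e8 (by decide +kernel) (by decide +kernel) (by decide +kernel)

theorem w_ne' (i : Fin 9) (hi : i ≠ 0) : w9 i * Pres.hx ^ 2 ≠ Pres.hx ^ 2 * w9 i := by
  fin_cases i
  · exact absurd rfl hi
  · exact c1
  · exact c2
  · exact c3
  · exact c4
  · exact c5
  · exact c6
  · exact c7
  · exact c8

/-- **The centraliser of `x²`.** -/
theorem centralizer_le : Subgroup.centralizer ({Pres.hx ^ 2} : Set Cfsg.Spor.HN) ≤ H := by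
  intro g hg
  have hg' : g * Pres.hx ^ 2 = Pres.hx ^ 2 * g := by
    rw [Subgroup.mem_centralizer_iff] at hg
    exact (hg _ rfl).symm
  obtain ⟨i, hi⟩ := covers g
  rw [DoubleCoset.mem_doubleCoset] at hi
  obtain ⟨a, ha, b, hb, rfl⟩ := hi
  by_cases h0 : i = 0
  · subst h0
    rw [w9_zero, mul_one]
    exact H.mul_mem ha hb
  · exfalso
    apply w_ne' i h0
    have h1 := comm_of_mem ha
    have h2 := comm_of_mem hb
    have h3 : a * (w9 i * Pres.hx ^ 2) * b = a * (Pres.hx ^ 2 * w9 i) * b := by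
      calc a * (w9 i * Pres.hx ^ 2) * b = a * w9 i * (Pres.hx ^ 2 * b) := by simp only [mul_assoc]
        _ = a * w9 i * b * Pres.hx ^ 2 := by rw [← h2]; simp only [mul_assoc]
        _ = Pres.hx ^ 2 * (a * w9 i * b) := hg'
        _ = Pres.hx ^ 2 * a * w9 i * b := by simp only [mul_assoc]
        _ = a * (Pres.hx ^ 2 * w9 i) * b := by rw [← h1]; simp only [mul_assoc]
    exact mul_left_cancel (mul_right_cancel h3)

/-- The centraliser of `x²` is `H`. -/
theorem centralizer_eq : Subgroup.centralizer ({Pres.hx ^ 2} : Set Cfsg.Spor.HN) = H := by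
  refine le_antisymm centralizer_le ?_
  intro u hu
  rw [Subgroup.mem_centralizer_iff]
  rintro _ rfl
  exact (comm_of_mem hu).symm

end Cfsg.Agent.HN.Central
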