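import Mathlib

set_option autoImplicit false

/-!
The central product of a group `C` with a cyclic group of order 4 over a central element `τ` with
`τ² = 1`.
-/

namespace Cfsg.Agent.HN.CentralProd

open Subgroup

universe u

variable {C : Type u} [Group C]

/-- the kernel -/
def N (τ : C) : Subgroup (C × Multiplicative ℤ) := zpowers (τ, Multiplicative.ofAdd (2 : ℤ))

theorem mem_N {τ : C} {p : C × Multiplicative ℤ} :
    p ∈ N τ ↔ ∃ k : ℤ, p = (τ ^ k, Multiplicative.ofAdd (2 * k)) := by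
  rw [N, mem_zpowers_iff]
  constructor
  · rintro ⟨k, rfl⟩
    refine ⟨k, Prod.ext rfl ?_⟩
    change (Multiplicative.ofAdd (2 : ℤ)) ^ k = _
    rw [← ofAdd_zsmul, smul_eq_mul, mul_comm]
  · rintro ⟨k, rfl⟩
    refine ⟨k, Prod.ext rfl ?_⟩
    change (Multiplicative.ofAdd (2 : ℤ)) ^ k = _
    rw [← ofAdd_zsmul, smul_eq_mul, mul_comm]

theorem N_normal {τ : C} (hc : ∀ g, g * τ = τ * g) : (N τ).Normal := by
  constructor
  intro n hn g
  obtain ⟨k, rfl⟩ := mem_N.1 hn
  have h : g * (τ ^ k, Multiplicative.ofAdd (2 * k)) * g⁻¹ = (τ ^ k, Multiplicative.ofAdd (2 * k)) := by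
    have h1 : Commute g.1 τ := hc g.1
    refine Prod.ext ?_ ?_
    · change g.1 * τ ^ k * g.1⁻¹ = τ ^ k
      rw [(h1.zpow_right k).eq, mul_inv_cancel_right]
    · change g.2 * Multiplicative.ofAdd (2 * k) * g.2⁻¹ = _
      rw [mul_comm g.2, mul_inv_cancel_right]
  rw [h]
  exact hn

theorem exists_cp (τ : C) (hc : ∀ g, g * τ = τ * g) (h2 : τ * τ = 1) :
    ∃ (P : Type u) (_ : Group P) (ι : C →* P) (i : P), Function.Injective ι ∧
      (∀ p, i * p = p * i) ∧ i * i = ι τ ∧ (∀ p, ∃ c, p = ι c ∨ p = ι c * i) ∧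
      ∀ (H : Type) [Group H] (f : C →* H) (j : H), (∀ c, f c * j = j * f c) → j * j = f τ →
        ∃ F : P →* H, (∀ c, F (ι c) = f c) ∧ F i = j := by
  have := N_normal hc
  let q : C × Multiplicative ℤ →* (C × Multiplicative ℤ) ⧸ N τ := QuotientGroup.mk' (N τ)
  have hq : ∀ a b, q a = q b ↔ a⁻¹ * b ∈ N τ := fun a b => QuotientGroup.eq
  have hsq : ∀ k : ℤ, τ ^ (2 * k) = 1 := by
    intro k
    rw [zpow_mul, zpow_ofNat, pow_two, h2, one_zpow]
  refine ⟨(C × Multiplicative ℤ) ⧸ N τ, inferInstance, q.comp (MonoidHom.inl C (Multiplicative ℤ)),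
    q (1, Multiplicative.ofAdd (1 : ℤ)), ?_, ?_, ?_, ?_, ?_⟩
  · intro a b hab
    have h1 : q (a, 1) = q (b, 1) := hab
    rw [hq, mem_N] at h1
    obtain ⟨k, hk⟩ := h1
    have h3 : a⁻¹ * b = τ ^ k := congrArg Prod.fst hk
    have h4 : (1 : Multiplicative ℤ)⁻¹ * 1 = Multiplicative.ofAdd (2 * k) := congrArg Prod.snd hk
    rw [inv_one, one_mul] at h4
    have h5 : (0 : ℤ) = 2 * k := congrArg Multiplicative.toAdd h4
    have h6 : k = 0 := by omega
    rw [h6, zpow_zero] at h3
    exact (inv_mul_eq_one.1 h3)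
  · intro p
    obtain ⟨⟨c, k⟩, rfl⟩ := QuotientGroup.mk'_surjective (N τ) p
    change q (1, Multiplicative.ofAdd (1 : ℤ)) * q (c, k) = q (c, k) * q (1, Multiplicative.ofAdd (1 : ℤ))
    rw [← map_mul, ← map_mul]
    congr 1
    refine Prod.ext ?_ ?_
    · change 1 * c = c * 1
      rw [one_mul, mul_one]
    · exact mul_comm _ _
  · rw [← map_mul]
    change q _ = q (τ, 1)
    rw [hq, mem_N]
    refine ⟨-1, Prod.ext ?_ ?_⟩
    · change (1 * 1 : C)⁻¹ * τ = τ ^ (-1 : ℤ)
      rw [one_mul, inv_one, one_mul, zpow_neg_one]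
      exact eq_inv_of_mul_eq_one_left h2
    · rfl
  · intro p
    obtain ⟨⟨c, k⟩, rfl⟩ := QuotientGroup.mk'_surjective (N τ) p
    obtain ⟨m, hm⟩ := Int.even_or_odd' (Multiplicative.toAdd k)
    rcases hm with hm | hm
    · refine ⟨c * τ ^ m, Or.inl ?_⟩
      change q (c, k) = q (c * τ ^ m, 1)
      rw [hq, mem_N]
      refine ⟨-m, Prod.ext ?_ ?_⟩
      · change c⁻¹ * (c * τ ^ m) = τ ^ (-m)
        rw [inv_mul_cancel_left]
        have := hsq m
        rw [two_mul, zpow_add] at this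
        rw [zpow_neg]
        exact eq_inv_of_mul_eq_one_left this
      · change k⁻¹ * 1 = _
        rw [mul_one]
        apply Multiplicative.toAdd.injective
        change - (Multiplicative.toAdd k) = 2 * -m
        rw [hm]; ring
    · refine ⟨c * τ ^ m, Or.inr ?_⟩
      change q (c, k) = q (c * τ ^ m, 1) * q (1, Multiplicative.ofAdd (1 : ℤ))
      rw [← map_mul, hq, mem_N]
      refine ⟨-m, Prod.ext ?_ ?_⟩
      · change c⁻¹ * (c * τ ^ m * 1) = τ ^ (-m)
        rw [mul_one, inv_mul_cancel_left]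
        have := hsq m
        rw [two_mul, zpow_add] at this
        rw [zpow_neg]
        exact eq_inv_of_mul_eq_one_left this
      · change k⁻¹ * (1 * Multiplicative.ofAdd (1 : ℤ)) = _
        rw [one_mul]
        apply Multiplicative.toAdd.injective
        change - (Multiplicative.toAdd k) + 1 = 2 * -m
        rw [hm]; ring
  · intro H _ f j hcomm hjj
    let F0 : C × Multiplicative ℤ →* H := MonoidHom.noncommCoprod f (zpowersHom H j) (by
      intro c k
      exact (show Commute (f c) j from hcomm c).zpow_right _)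
    have hF0 : ∀ c k, F0 (c, Multiplicative.ofAdd k) = f c * j ^ k := fun c k => rfl
    refine ⟨QuotientGroup.lift (N τ) F0 ?_, ?_, ?_⟩
    · intro p hp
      obtain ⟨k, rfl⟩ := mem_N.1 hp
      rw [MonoidHom.mem_ker, hF0, map_zpow, zpow_mul, zpow_ofNat, pow_two, hjj, ← map_zpow, ← map_mul,
        ← zpow_add, ← two_mul, hsq, map_one]
    · intro c
      change F0 (c, 1) = f c
      have := hF0 c 0
      rw [zpow_zero, mul_one] at this
      exact this
    · change F0 (1, Multiplicative.ofAdd (1 : ℤ)) = j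
      rw [hF0, map_one, one_mul, zpow_one]

end Cfsg.Agent.HN.CentralProd
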