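import Cfsg.Agent.HN.Syl

set_option autoImplicit false

/-!
Separation of the classes of involutions of `H0 = 2.HS.2` (`τ`, `a`, `a τ`, `z`, `d`), a square root of `τ` in
`C(a)`, a four-group of involutions of type `a`.
-/

namespace Cfsg.Agent.HN.Classes

open Cfsg.Agent.HN.Pres Cfsg.Agent.HN.HS100 Cfsg.Agent.HN.P1408 Cfsg.Agent.HN.H0Basic Cfsg.Agent.HN.PC
open Cfsg.Agent.HN.Syl
open Cfsg.Agent.SporadicA.PermTab
open Equiv

/-! ### words on the 100 points -/

/-- the table of a letter on the 100 points -/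
def lt (l : ℕ) : ℕ :=
  match l with
  | 0 => HS100.tX
  | 1 => HS100.tXi
  | 2 => HS100.tY
  | 3 => HS100.tYi
  | _ => HS100.tZ

/-- The image of the point `p` under the word `w` (letters applied from the right to the left). -/
def t1 (w : List ℕ) (p : ℕ) : ℕ := w.rec p (fun l _ ih => lk (lt l) ih)

theorem letG_apply (l : ℕ) (i : Fin 100) : ((letG X Y Z l i : Fin 100) : ℕ) = lk (lt l) i := by
  match l with
  | 0 => rfl
  | 1 => rfl
  | 2 => rfl
  | 3 => rfl
  | _ + 4 => rfl

theorem φ_hw_apply (w : List ℕ) (i : Fin 100) : ((φ (hw w) i : Fin 100) : ℕ) = t1 w i := by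
  rw [map_hw, φ_gx, φ_gy, φ_gz]
  induction w with
  | nil => rfl
  | cons l w ih =>
    rw [P1408.ev_cons, Perm.mul_apply, letG_apply, ih]
    rfl

/-- the number of points moved -/
theorem card_support {w : List ℕ} {n : ℕ}
    (h : cntB (fun i => cond (Nat.beq (t1 w i) i) false true) 100 n = true) : (φ (hw w)).support.card = n := by
  rw [← card_fin_of_cntB _ 100 n h]
  congr 1
  ext i
  rw [Perm.mem_support, Finset.mem_filter]
  have h1 : φ (hw w) i = i ↔ t1 w i = i := by rw [← φ_hw_apply, Fin.ext_iff]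
  rw [ne_eq, h1]
  constructor
  · intro h2
    refine ⟨Finset.mem_univ _, ?_⟩
    cases hb : Nat.beq (t1 w i) i with
    | true => exact absurd (Nat.eq_of_beq_eq_true hb) h2
    | false => rfl
  · rintro ⟨_, h3⟩ h4
    rw [h4, Nat.beq_refl] at h3
    exact absurd h3 (by decide)

/-- conjugate elements move the same number of points -/
theorem card_support_of_isConj {g k : H0} (h : IsConj g k) : (φ g).support.card = (φ k).support.card := by
  rw [isConj_iff] at h
  obtain ⟨c, rfl⟩ := h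
  rw [map_mul, map_mul, map_inv, Perm.card_support_conj]

theorem supp_a : (φ a).support.card = 80 := by
  rw [← hw_a]; exact card_support (by decide +kernel)
theorem supp_x : (φ gx).support.card = 100 := by
  rw [← hw_x]; exact card_support (by decide +kernel)
theorem supp_z : (φ gz).support.card = 70 := by
  rw [← hw_z]; exact card_support (by decide +kernel)
theorem supp_d : (φ d).support.card = 94 := card_support (by decide +kernel)

theorem φ_mul_τ (g : H0) : φ (g * τ) = φ g := by rw [map_mul, φ_τ, mul_one]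

theorem supp_aτ : (φ (a * τ)).support.card = 80 := by rw [φ_mul_τ, supp_a]

theorem supp_τ : (φ τ).support.card = 0 := by rw [φ_τ, Perm.support_one, Finset.card_empty]

theorem not_isConj {g k : H0} {m n : ℕ} (hg : (φ g).support.card = m) (hk : (φ k).support.card = n) (h : m ≠ n) :
    ¬ IsConj g k := by
  intro h'
  apply h
  rw [← hg, ← hk]
  exact card_support_of_isConj h'

theorem not_isConj_a_z : ¬ IsConj a gz := not_isConj supp_a supp_z (by norm_num)
theorem not_isConj_a_d : ¬ IsConj a d := not_isConj supp_a supp_d (by norm_num)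
theorem not_isConj_aτ_z : ¬ IsConj (a * τ) gz := not_isConj supp_aτ supp_z (by norm_num)
theorem not_isConj_aτ_d : ¬ IsConj (a * τ) d := not_isConj supp_aτ supp_d (by norm_num)
theorem not_isConj_z_d : ¬ IsConj gz d := not_isConj supp_z supp_d (by norm_num)

/-- the central involution is conjugate to itself only. -/
theorem isConj_τ_iff {g : H0} : IsConj τ g ↔ g = τ := by
  rw [isConj_iff]
  constructor
  · rintro ⟨c, rfl⟩
    rw [τ_comm, mul_assoc, mul_inv_cancel, mul_one]
  · rintro rfl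
    exact ⟨1, by group⟩

theorem a_ne_one : a ≠ 1 := fun h => by
  have h1 := supp_a
  rw [h, map_one, Perm.support_one, Finset.card_empty] at h1
  exact absurd h1 (by norm_num)
theorem a_ne_τ : a ≠ τ := fun h => by
  have h1 := supp_a
  rw [h, supp_τ] at h1
  exact absurd h1 (by norm_num)
theorem aτ_ne_τ : a * τ ≠ τ := fun h => a_ne_one (mul_eq_right.1 h)
theorem aτ_ne_one : a * τ ≠ 1 := fun h => a_ne_τ (by rw [← τ_inv]; exact eq_inv_of_mul_eq_one_left h)
theorem z_ne_one : gz ≠ 1 := fun h => by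
  have h1 := supp_z
  rw [h, map_one, Perm.support_one, Finset.card_empty] at h1
  exact absurd h1 (by norm_num)
theorem z_ne_τ : gz ≠ τ := fun h => by
  have h1 := supp_z
  rw [h, supp_τ] at h1
  exact absurd h1 (by norm_num)
theorem d_ne_one : d ≠ 1 := fun h => by
  have h1 := supp_d
  rw [h, map_one, Perm.support_one, Finset.card_empty] at h1
  exact absurd h1 (by norm_num)
theorem d_ne_τ : d ≠ τ := fun h => by
  have h1 := supp_d
  rw [h, supp_τ] at h1
  exact absurd h1 (by norm_num)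

/-! ### `a` and `a τ`: fixed points on the 1408 points -/

/-- a fixed point on the 1408 points -/
def Fx (g : H0) : Prop := ∃ p : Fin 1408, ψ g p = p

theorem Fx_of_isConj {g k : H0} (h : IsConj g k) (hg : Fx g) : Fx k := by
  rw [isConj_iff] at h
  obtain ⟨c, rfl⟩ := h
  obtain ⟨p, hp⟩ := hg
  refine ⟨ψ c p, ?_⟩
  have h1 : (ψ c)⁻¹ (ψ c p) = p := by rw [← Perm.mul_apply, inv_mul_cancel, Perm.one_apply]
  rw [map_mul, map_mul, map_inv, Perm.mul_apply, Perm.mul_apply, h1, hp]

theorem Fx_iff {w : List ℕ} (h : okw w = true) : Fx (hw w) ↔ ∃ p < 1408, tr w p = p := by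
  constructor
  · rintro ⟨p, hp⟩
    refine ⟨p, p.2, ?_⟩
    rw [← ψ_hw_inv_apply h p]
    exact congrArg Fin.val (Perm.inv_eq_iff_eq.2 hp.symm)
  · rintro ⟨p, hp, h2⟩
    refine ⟨⟨p, hp⟩, ?_⟩
    have h1 := ψ_hw_inv_apply h ⟨p, hp⟩
    have h3 : (ψ (hw w))⁻¹ ⟨p, hp⟩ = ⟨p, hp⟩ := Fin.ext (h1.trans h2)
    exact (Perm.inv_eq_iff_eq.1 h3).symm

theorem Fx_a : Fx a := by
  rw [← hw_a, Fx_iff rfl]
  exact ⟨0, by norm_num, by decide +kernel⟩

theorem not_Fx {w : List ℕ} (h : okw w = true) (h2 : allB (fun p => neB (tr w p) p) 1408 = true) :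
    ¬ Fx (hw w) := by
  rw [Fx_iff h]
  rintro ⟨p, hp, h3⟩
  rw [allB_iff] at h2
  exact neB_iff.1 (h2 p hp) h3

theorem not_Fx_aτ : ¬ Fx (a * τ) := by
  rw [← s_one]
  exact not_Fx rfl (by decide +kernel)

theorem not_isConj_a_aτ : ¬ IsConj a (a * τ) := fun h => not_Fx_aτ (Fx_of_isConj h Fx_a)

/-! ### a square root of `τ` in `C(a)` -/

/-- a square root of `τ` in the Sylow 2-subgroup -/
def u : H0 := s 4 * (s 5 * s 6)

theorem u_mem : u ∈ S := S.mul_mem (s_mem_S (by norm_num)) (S.mul_mem (s_mem_S (by norm_num)) (s_mem_S (by norm_num)))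

theorem u_comm : u * a = a * u := a_comm u_mem

theorem u_sq : u ^ 2 = τ := by
  have h : u = hw (sw 4 ++ (sw 5 ++ sw 6)) := by rw [hw_append, hw_append]; rfl
  rw [pow_two, h, ← hw_append, ← hw_τ]
  exact hw_eq (by decide +kernel)

/-- **(b2)** `τ` is a square in `C(g)` for `g` conjugate to `a`. -/
theorem exists_sqrt_τ {g : H0} (h : IsConj a g) : ∃ v : H0, v * g = g * v ∧ v ^ 2 = τ := by
  rw [isConj_iff] at h
  obtain ⟨c, rfl⟩ := h
  refine ⟨c * u * c⁻¹, ?_, ?_⟩
  · have h1 : c * u * c⁻¹ * (c * a * c⁻¹) = c * (u * a) * c⁻¹ := by group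
    have h2 : c * a * c⁻¹ * (c * u * c⁻¹) = c * (a * u) * c⁻¹ := by group
    rw [h1, h2, u_comm]
  · have h1 : (c * u * c⁻¹) ^ 2 = c * u ^ 2 * c⁻¹ := by rw [pow_two, pow_two]; group
    rw [h1, u_sq, τ_comm, mul_assoc, mul_inv_cancel, mul_one]

theorem gz_notMem_K : gz ∉ K := gz_not_mem
theorem d_notMem_K : d ∉ K := not_mem_K_of_par rfl rfl

theorem mem_K_of_isConj {g k : H0} (h : IsConj g k) : g ∈ K ↔ k ∈ K := by
  rw [isConj_iff] at h
  obtain ⟨c, rfl⟩ := h
  rw [mem_K_iff, mem_K_iff, map_mul, map_mul, map_inv, mul_comm (sgn c), mul_assoc, mul_inv_cancel, mul_one]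

/-- **(b2)** elements conjugate to `z` or `d` are not squares. -/
theorem not_sq_of_isConj {g v : H0} (h : IsConj gz g ∨ IsConj d g) : v ^ 2 ≠ g := by
  rintro rfl
  have h1 : v ^ 2 ∈ K := sq_mem_K v
  rcases h with h | h
  · exact gz_notMem_K ((mem_K_of_isConj h).2 h1)
  · exact d_notMem_K ((mem_K_of_isConj h).2 h1)

/-! ### a four-group of involutions of type `a` -/

/-- an involution of type `a` in the Sylow 2-subgroup -/
def a2 : H0 := s 3 * (s 7 * (s 8 * s 9))

theorem a2_mem : a2 ∈ S := S.mul_mem (s_mem_S (by norm_num)) (S.mul_mem (s_mem_S (by norm_num))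
  (S.mul_mem (s_mem_S (by norm_num)) (s_mem_S (by norm_num))))

theorem a2_comm : a2 * a = a * a2 := a_comm a2_mem

theorem a2_eq : a2 = hw (sw 3 ++ (sw 7 ++ (sw 8 ++ sw 9))) := by
  rw [hw_append, hw_append, hw_append]; rfl

theorem isConj_a_a2 : IsConj a a2 := by
  rw [isConj_iff]
  refine ⟨hw [1, 2, 4, 2, 1, 2, 2, 4], ?_⟩
  rw [mul_inv_eq_iff_eq_mul, a2_eq, ← hw_a, ← hw_append, ← hw_append]
  exact hw_eq (by decide +kernel)

theorem isConj_a_mul : IsConj a (a * a2) := by
  rw [isConj_iff]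
  refine ⟨hw [1, 2, 4, 3, 3, 3, 1, 3, 3, 4], ?_⟩
  rw [mul_inv_eq_iff_eq_mul, a2_eq, ← hw_a, ← hw_append, ← hw_append, ← hw_append]
  exact hw_eq (by decide +kernel)

end Cfsg.Agent.HN.Classes
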