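import Cfsg.Agent.HN.CloseFinal

set_option autoImplicit false

/-!
Last step of the identification, version without the classification of the involutions of `G0`.
-/

namespace Cfsg.Agent.HN.CloseTop

open Cfsg.Agent.HN.CloseFinal

variable {G : Type*} [Group G]

/-- **The last step.** `G0` contains the centralisers of two non-conjugate involutions `t`, `w`, and every
involution commuting with `t` is `G0`-conjugate to `t` or `w`. -/
theorem eq_top [Finite G] [IsSimpleGroup G] (G0 : Subgroup G) {t w : G} (ht : orderOf t = 2)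
    (hw : orderOf w = 2) (hCt : ∀ g, g * t = t * g → g ∈ G0)
    (hCw : ∀ g, g * w = w * g → g ∈ G0) (hne : ¬ IsConj t w)
    (hinv : ∀ v, orderOf v = 2 → v * t = t * v → ∃ g ∈ G0, g * v * g⁻¹ = t ∨ g * v * g⁻¹ = w) :
    G0 = ⊤ := by
  -- every conjugate of `w` lies in `G0`
  have key : ∀ b, IsConj w b → b ∈ G0 := by
    intro b hb
    have hbo : orderOf b = 2 := by
      obtain ⟨c, rfl⟩ := isConj_iff.1 hb
      rw [← MulAut.conj_apply, MulEquiv.orderOf_eq, hw]
    obtain ⟨v, hv, hvt, hvb⟩ := exists_central ht hbo (fun h => hne (h.trans hb.symm))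
    obtain ⟨k, hk, h⟩ := hinv v hv hvt.symm
    have hC : ∀ g, g * v = v * g → g ∈ G0 := by
      intro g hg
      have h1 : k * g * k⁻¹ ∈ G0 := by
        rcases h with h | h
        · apply hCt
          rw [← h]
          calc k * g * k⁻¹ * (k * v * k⁻¹) = k * (g * v) * k⁻¹ := by group
            _ = k * (v * g) * k⁻¹ := by rw [hg]
            _ = k * v * k⁻¹ * (k * g * k⁻¹) := by group
        · apply hCw
          rw [← h]
          calc k * g * k⁻¹ * (k * v * k⁻¹) = k * (g * v) * k⁻¹ := by group
            _ = k * (v * g) * k⁻¹ := by rw [hg]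
            _ = k * v * k⁻¹ * (k * g * k⁻¹) := by group
      have h2 : g = k⁻¹ * (k * g * k⁻¹) * k := by group
      rw [h2]
      exact G0.mul_mem (G0.mul_mem (G0.inv_mem hk) h1) hk
    exact hC b hvb
  have h1 : Subgroup.normalClosure ({w} : Set G) ≤ G0 := by
    rw [Subgroup.normalClosure, Subgroup.closure_le]
    intro x hx
    obtain ⟨y, hy, hyx⟩ := Group.mem_conjugatesOfSet_iff.1 hx
    rw [Set.mem_singleton_iff] at hy
    subst hy
    exact key x hyx
  rcases IsSimpleGroup.eq_bot_or_eq_top_of_normal (Subgroup.normalClosure ({w} : Set G)) inferInstance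
    with h | h
  · exfalso
    have h2 : w ∈ Subgroup.normalClosure ({w} : Set G) := Subgroup.subset_normalClosure (Set.mem_singleton _)
    rw [h, Subgroup.mem_bot] at h2
    rw [h2, orderOf_one] at hw
    exact absurd hw (by norm_num)
  · rw [h] at h1
    exact top_le_iff.1 h1

end Cfsg.Agent.HN.CloseTop
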