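import Mathlib

set_option autoImplicit false

/-!
# The closing lemma (step (E) of the Harada-Norton recognition)

`K` is a finite group, `R` a subgroup of exponent two, `DD` and `SS` are two disjoint conjugation invariant sets of
involutions.  "Points" are the conjugates of `R`.  Under the hypotheses collected in `Cfg` every involution in `DD` and in
`SS` fixes at most one point, and we show that `R` is normal in `K`.

The group `K` is meant to be `C_G(w)/⟨w⟩` for a 2-central involution `w`, `R` is the image of the extraspecial group,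
`DD` the involutions of "type I" (both lifts in the class of `t`) and `SS` those of "type II" (one lift in the class of `t`).
-/

namespace Cfsg.Agent.HN.Closing

open Subgroup
open scoped Pointwise

variable {K : Type*} [Group K]

/-- conjugate of a subgroup: `cj g Q = g Q g⁻¹`. -/
def cj (g : K) (Q : Subgroup K) : Subgroup K := MulAut.conj g • Q

theorem mem_cj {g x : K} {Q : Subgroup K} : x ∈ cj g Q ↔ g⁻¹ * x * g ∈ Q := by
  unfold cj
  rw [Subgroup.mem_pointwise_smul_iff_inv_smul_mem]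
  simp [MulAut.smul_def, ← map_inv]

theorem cj_mul (g h : K) (Q : Subgroup K) : cj (g * h) Q = cj g (cj h Q) := by
  unfold cj
  rw [map_mul, mul_smul]

@[simp] theorem cj_one (Q : Subgroup K) : cj 1 Q = Q := by
  unfold cj
  rw [map_one, one_smul]

theorem cj_inv_cj (g : K) (Q : Subgroup K) : cj g⁻¹ (cj g Q) = Q := by
  rw [← cj_mul, inv_mul_cancel, cj_one]

theorem cj_cj_inv (g : K) (Q : Subgroup K) : cj g (cj g⁻¹ Q) = Q := by
  rw [← cj_mul, mul_inv_cancel, cj_one]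

theorem cj_of_mem {g : K} {Q : Subgroup K} (h : g ∈ Q) : cj g Q = Q := by
  ext x
  rw [mem_cj]
  constructor
  · intro hx
    have := Q.mul_mem (Q.mul_mem h hx) (Q.inv_mem h)
    simpa [mul_assoc] using this
  · intro hx
    exact Q.mul_mem (Q.mul_mem (Q.inv_mem h) hx) h

theorem conj_mem_cj {g x : K} {Q : Subgroup K} (h : x ∈ Q) : g * x * g⁻¹ ∈ cj g Q := by
  rw [mem_cj]
  have : g⁻¹ * (g * x * g⁻¹) * g = x := by group
  rwa [this]

theorem cj_mono {g : K} {I J : Subgroup K} (h : I ≤ J) : cj g I ≤ cj g J := by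
  intro x hx
  rw [mem_cj] at hx ⊢
  exact h hx

theorem cj_inj {g : K} {I J : Subgroup K} (h : cj g I = cj g J) : I = J := by
  rw [← cj_inv_cj g I, h, cj_inv_cj]

/-- If `g` normalises `Q` so does `g⁻¹`. -/
theorem cj_inv_eq {g : K} {Q : Subgroup K} (h : cj g Q = Q) : cj g⁻¹ Q = Q := by
  conv_lhs => rw [← h]
  rw [cj_inv_cj]

/-- `h (g Q) = (h g h⁻¹) (h Q)`. -/
theorem cj_conj (g h : K) (Q : Subgroup K) : cj (h * g * h⁻¹) (cj h Q) = cj h (cj g Q) := by
  rw [← cj_mul, ← cj_mul]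
  congr 1
  group

/-- The subgroups `I` of `R` which can be intersections of two points: no element of `DD`, and every element of `SS`
normalising `R` centralises a non-trivial element of `I`. -/
def Good (DD SS : Set K) (R I : Subgroup K) : Prop :=
  I ≤ R ∧ (∀ e ∈ DD, e ∉ I) ∧ ∀ s ∈ SS, cj s R = R → ∃ z ∈ I, z ≠ 1 ∧ z * s = s * z

/-- The hypotheses of the closing lemma. -/
structure Cfg (DD SS : Set K) (R : Subgroup K) : Prop where
  sq : ∀ r ∈ R, r * r = 1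
  DR : ∀ e ∈ DD, cj e R = R → e ∈ R
  uD : ∀ e ∈ DD, cj e R = R → ∀ g, cj e (cj g R) = cj g R → cj g R = R
  uS : ∀ e ∈ SS, cj e R = R → ∀ g, cj e (cj g R) = cj g R → cj g R = R
  neD : ∃ e ∈ DD, e ∈ R
  neS : ∃ s ∈ SS, cj s R = R
  h6 : ∀ s ∈ SS, cj s R = R → ∀ d ∈ DD, d ∈ R → s * d = d * s → s * d ∈ SS
  h7 : ∀ s ∈ SS, cj s R = R → ∀ s' ∈ SS, cj s' R = R → s * s' = s' * s → s ≠ s' →
    ∃ d ∈ DD, d ∈ R ∧ d * (s * s') = (s * s') * d
  g1 : ∀ I J, Good DD SS R I → Good DD SS R J → I ≤ J → I = J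
  g2 : ∀ I, Good DD SS R I → ∀ s ∈ SS, cj s R = R → cj s I ≠ I
  g3 : ∀ I J J', Good DD SS R I → Good DD SS R J → Good DD SS R J' → ∀ p, p ≠ 1 → p ∈ I → p ∈ J → p ∈ J' →
    J ≠ I → J' ≠ I → J = J'

/-- Conjugation invariance of a set. -/
def CInv (A : Set K) : Prop := ∀ g, ∀ e ∈ A, g * e * g⁻¹ ∈ A

theorem CInv.inv {A : Set K} (hA : CInv A) {g e : K} (h : e ∈ A) : g⁻¹ * e * g ∈ A := by
  have := hA g⁻¹ e h
  simpa using this

theorem conj_inv_eq_of (g e : K) : e = g * (g⁻¹ * e * g) * g⁻¹ := by group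

theorem Good.conj {DD SS : Set K} {R I : Subgroup K} (hD : CInv DD) (hS : CInv SS) (h : Good DD SS R I) (g : K) :
    Good DD SS (cj g R) (cj g I) := by
  obtain ⟨h1, h2, h3⟩ := h
  refine ⟨cj_mono h1, ?_, ?_⟩
  · intro e he hI
    rw [mem_cj] at hI
    exact h2 _ (hD.inv he) hI
  · intro s hs hsR
    have hs' : cj (g⁻¹ * s * g) R = R := by
      apply cj_inj (g := g)
      rw [← cj_conj, ← conj_inv_eq_of]
      exact hsR
    obtain ⟨z, hz, hz1, hzs⟩ := h3 _ (hS.inv hs) hs'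
    refine ⟨g * z * g⁻¹, conj_mem_cj hz, ?_, ?_⟩
    · intro hh
      apply hz1
      have : z = g⁻¹ * (g * z * g⁻¹) * g := by group
      rw [this, hh]
      group
    · have h4 : g * (z * (g⁻¹ * s * g)) * g⁻¹ = g * ((g⁻¹ * s * g) * z) * g⁻¹ := by rw [hzs]
      calc g * z * g⁻¹ * s = g * (z * (g⁻¹ * s * g)) * g⁻¹ := by group
        _ = g * ((g⁻¹ * s * g) * z) * g⁻¹ := h4
        _ = s * (g * z * g⁻¹) := by group

theorem Good.conj_iff {DD SS : Set K} {R I : Subgroup K} (hD : CInv DD) (hS : CInv SS) (g : K) :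
    Good DD SS (cj g R) I → Good DD SS R (cj g⁻¹ I) := by
  intro h
  have := h.conj hD hS g⁻¹
  rwa [cj_inv_cj] at this

theorem cj_conj' {g s : K} {R : Subgroup K} (h : cj s (cj g R) = cj g R) : cj (g⁻¹ * s * g) R = R := by
  apply cj_inj (g := g)
  rw [← cj_conj, ← conj_inv_eq_of]
  exact h

theorem cj_conj_inv {g s : K} {R : Subgroup K} (h : cj s R = R) : cj (g * s * g⁻¹) (cj g R) = cj g R := by
  rw [cj_conj, h]

/-- The hypotheses are invariant under conjugation. -/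
theorem Cfg.conj {DD SS : Set K} {R : Subgroup K} (hD : CInv DD) (hS : CInv SS) (h : Cfg DD SS R) (g : K) :
    Cfg DD SS (cj g R) where
  sq := by
    intro r hr
    rw [mem_cj] at hr
    have h1 := h.sq _ hr
    have : r * r = g * ((g⁻¹ * r * g) * (g⁻¹ * r * g)) * g⁻¹ := by group
    rw [this, h1]
    group
  DR := by
    intro e he h1
    rw [mem_cj]
    exact h.DR _ (hD.inv he) (cj_conj' h1)
  uD := by
    intro e he h1 k h2
    have h3 := h.uD _ (hD.inv (g := g) he) (cj_conj' h1) (g⁻¹ * k * g) (by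
      have h2' : cj e (cj (k * g) R) = cj (k * g) R := by rw [cj_mul k g R]; exact h2
      have h5 := cj_conj' (g := g) (s := e) (R := cj g⁻¹ (cj (k * g) R)) (by rw [cj_cj_inv]; exact h2')
      have h6 : cj (g⁻¹ * k * g) R = cj g⁻¹ (cj (k * g) R) := by
        rw [← cj_mul]; congr 1; group
      rw [h6]; exact h5)
    rw [← cj_mul]
    have h6 : cj (k * g) R = cj g (cj (g⁻¹ * k * g) R) := by
      rw [← cj_mul]; congr 1; group
    rw [h6, h3]
  uS := by
    intro e he h1 k h2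
    have h3 := h.uS _ (hS.inv (g := g) he) (cj_conj' h1) (g⁻¹ * k * g) (by
      have h2' : cj e (cj (k * g) R) = cj (k * g) R := by rw [cj_mul k g R]; exact h2
      have h5 := cj_conj' (g := g) (s := e) (R := cj g⁻¹ (cj (k * g) R)) (by rw [cj_cj_inv]; exact h2')
      have h6 : cj (g⁻¹ * k * g) R = cj g⁻¹ (cj (k * g) R) := by
        rw [← cj_mul]; congr 1; group
      rw [h6]; exact h5)
    rw [← cj_mul]
    have h6 : cj (k * g) R = cj g (cj (g⁻¹ * k * g) R) := by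
      rw [← cj_mul]; congr 1; group
    rw [h6, h3]
  neD := by
    obtain ⟨e, he, heR⟩ := h.neD
    exact ⟨g * e * g⁻¹, hD g e he, conj_mem_cj heR⟩
  neS := by
    obtain ⟨e, he, heR⟩ := h.neS
    exact ⟨g * e * g⁻¹, hS g e he, cj_conj_inv heR⟩
  h6 := by
    intro s hs hsR d hd hdR hc
    rw [mem_cj] at hdR
    have h1 := h.h6 _ (hS.inv (g := g) hs) (cj_conj' hsR) _ (hD.inv (g := g) hd) hdR (by
      calc (g⁻¹ * s * g) * (g⁻¹ * d * g) = g⁻¹ * (s * d) * g := by group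
        _ = g⁻¹ * (d * s) * g := by rw [hc]
        _ = (g⁻¹ * d * g) * (g⁻¹ * s * g) := by group)
    have h2 := hS g _ h1
    have h3 : g * (g⁻¹ * s * g * (g⁻¹ * d * g)) * g⁻¹ = s * d := by group
    rwa [h3] at h2
  h7 := by
    intro s hs hsR s' hs' hsR' hc hne
    obtain ⟨d, hd, hdR, hdc⟩ := h.h7 _ (hS.inv (g := g) hs) (cj_conj' hsR) _ (hS.inv (g := g) hs') (cj_conj' hsR') (by
      calc (g⁻¹ * s * g) * (g⁻¹ * s' * g) = g⁻¹ * (s * s') * g := by group
        _ = g⁻¹ * (s' * s) * g := by rw [hc]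
        _ = (g⁻¹ * s' * g) * (g⁻¹ * s * g) := by group) (by
      intro hh
      apply hne
      calc s = g * (g⁻¹ * s * g) * g⁻¹ := by group
        _ = g * (g⁻¹ * s' * g) * g⁻¹ := by rw [hh]
        _ = s' := by group)
    refine ⟨g * d * g⁻¹, hD g d hd, conj_mem_cj hdR, ?_⟩
    calc g * d * g⁻¹ * (s * s') = g * (d * (g⁻¹ * s * g * (g⁻¹ * s' * g))) * g⁻¹ := by group
      _ = g * (g⁻¹ * s * g * (g⁻¹ * s' * g) * d) * g⁻¹ := by rw [hdc]
      _ = s * s' * (g * d * g⁻¹) := by group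
  g1 := by
    intro I J hI hJ hIJ
    have := h.g1 _ _ (hI.conj_iff hD hS g) (hJ.conj_iff hD hS g) (cj_mono hIJ)
    exact cj_inj this
  g2 := by
    intro I hI s hs hsR hh
    refine h.g2 _ (hI.conj_iff hD hS g) _ (hS.inv (g := g) hs) (cj_conj' hsR) ?_
    rw [← cj_mul]
    have : cj (g⁻¹ * s * g * g⁻¹) I = cj g⁻¹ (cj s I) := by
      rw [← cj_mul]; congr 1; group
    rw [this, hh]
  g3 := by
    intro I J J' hI hJ hJ' p hp1 hpI hpJ hpJ' hn hn'
    have key := h.g3 _ _ _ (hI.conj_iff hD hS g) (hJ.conj_iff hD hS g) (hJ'.conj_iff hD hS g) (g⁻¹ * p * g)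
      (by
        intro hh
        apply hp1
        calc p = g * (g⁻¹ * p * g) * g⁻¹ := by group
          _ = g * 1 * g⁻¹ := by rw [hh]
          _ = 1 := by group)
      (by rw [mem_cj]; simpa [mul_assoc] using hpI) (by rw [mem_cj]; simpa [mul_assoc] using hpJ)
      (by rw [mem_cj]; simpa [mul_assoc] using hpJ')
      (fun hh => hn (cj_inj hh)) (fun hh => hn' (cj_inj hh))
    exact cj_inj key

/-! ### Dihedral groups -/

section dihedral

variable {e f : K}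

theorem dih_conj (he : e * e = 1) (hf : f * f = 1) (j : ℤ) : e * (e * f) ^ j * e = (e * f) ^ (-j) := by
  have hei : e⁻¹ = e := inv_eq_of_mul_eq_one_left he
  have hfi : f⁻¹ = f := inv_eq_of_mul_eq_one_left hf
  have h1 : e * (e * f) * e⁻¹ = (e * f)⁻¹ := by
    rw [mul_inv_rev, hfi, hei]
    calc e * (e * f) * e = (e * e) * f * e := by group
      _ = f * e := by rw [he, one_mul]
  calc e * (e * f) ^ j * e = e * (e * f) ^ j * e⁻¹ := by rw [hei]
    _ = (e * (e * f) * e⁻¹) ^ j := (conj_zpow).symm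
    _ = (e * f) ^ (-j) := by rw [h1, inv_zpow, zpow_neg]

theorem dih_swap (he : e * e = 1) (hf : f * f = 1) (j : ℤ) : e * (e * f) ^ j = (e * f) ^ (-j) * e := by
  rw [← dih_conj he hf j, mul_assoc (e * (e * f) ^ j), he, mul_one]

/-- conjugates of `e` -/
theorem dih_conj_e (he : e * e = 1) (hf : f * f = 1) (m : ℤ) :
    (e * f) ^ m * e * ((e * f) ^ m)⁻¹ = (e * f) ^ (2 * m) * e := by
  have h := dih_swap he hf (-m)
  rw [neg_neg] at h
  rw [← zpow_neg, mul_assoc, h, ← mul_assoc, ← zpow_add]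
  congr 2
  ring

/-- conjugates of `f` -/
theorem dih_conj_f (he : e * e = 1) (hf : f * f = 1) (m : ℤ) :
    (e * f) ^ m * f * ((e * f) ^ m)⁻¹ = (e * f) ^ (2 * m - 1) * e := by
  have hfe : f = e * (e * f) ^ (1 : ℤ) := by rw [zpow_one, ← mul_assoc, he, one_mul]
  have h := dih_swap he hf (1 - m)
  have h2 : (e * f) ^ (-(1 - m)) = (e * f) ^ (m - 1) := by congr 1; ring
  rw [h2] at h
  calc (e * f) ^ m * f * ((e * f) ^ m)⁻¹ = (e * f) ^ m * (e * (e * f) ^ (1 : ℤ)) * ((e * f) ^ m)⁻¹ := by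
        rw [← hfe]
    _ = (e * f) ^ m * (e * ((e * f) ^ (1 : ℤ) * (e * f) ^ (-m))) := by
        rw [zpow_neg]; simp only [mul_assoc]
    _ = (e * f) ^ m * (e * (e * f) ^ (1 - m)) := by
        rw [← zpow_add]; rfl
    _ = (e * f) ^ m * ((e * f) ^ (m - 1) * e) := by rw [h]
    _ = (e * f) ^ (2 * m - 1) * e := by
        rw [← mul_assoc, ← zpow_add]; congr 2; ring

theorem dih_refl (he : e * e = 1) (hf : f * f = 1) (j : ℤ) :
    (∃ m : ℤ, (e * f) ^ j * e = (e * f) ^ m * e * ((e * f) ^ m)⁻¹) ∨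
      ∃ m : ℤ, (e * f) ^ j * e = (e * f) ^ m * f * ((e * f) ^ m)⁻¹ := by
  rcases Int.even_or_odd' j with ⟨k, hk | hk⟩
  · left
    exact ⟨k, by rw [dih_conj_e he hf, hk]⟩
  · right
    exact ⟨k + 1, by rw [dih_conj_f he hf, hk]; congr 2; ring⟩

/-- The basic trichotomy for two involutions. -/
theorem dih_cases [Finite K] (he : e * e = 1) (hf : f * f = 1) :
    (∃ m : ℤ, (e * f) ^ m * f * ((e * f) ^ m)⁻¹ = e) ∨
    (∃ z : K, z * z = 1 ∧ z ≠ 1 ∧ e * z = z * e ∧ f * z = z * f ∧ (∃ j : ℤ, z = (e * f) ^ j) ∧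
      (∃ m : ℤ, (e * f) ^ m * f * ((e * f) ^ m)⁻¹ = e * z) ∧
      (∃ m : ℤ, (e * f) ^ m * e * ((e * f) ^ m)⁻¹ = f * z)) ∨
    (∃ y : K, y * y ≠ 1 ∧ (y * y) * (y * y) = 1 ∧ e * (y * y) = (y * y) * e ∧ f * (y * y) = (y * y) * f ∧
      (∃ j : ℤ, y = (e * f) ^ j) ∧ y * e * y⁻¹ = e * (y * y) ∧ y * f * y⁻¹ = f * (y * y)) := by
  set a := e * f with ha
  set n := orderOf a with hn
  have hn0 : 0 < n := orderOf_pos a
  have han : a ^ (n : ℤ) = 1 := by rw [zpow_natCast, hn]; exact pow_orderOf_eq_one a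
  have hfe : f = e * a := by rw [ha, ← mul_assoc, he, one_mul]
  -- f = a^{-1} e
  have hfe' : f = a ^ (-1 : ℤ) * e := by
    have := dih_swap he hf 1
    rw [zpow_one, ← mul_assoc, he, one_mul] at this
    exact this
  rcases Nat.even_or_odd' n with ⟨q, hq | hq⟩
  · rcases Nat.even_or_odd' q with ⟨r, hr | hr⟩
    · -- n = 4 r
      right; right
      have hr0 : 0 < r := by omega
      refine ⟨a ^ (r : ℤ), ?_, ?_, ?_, ?_, ⟨r, rfl⟩, ?_, ?_⟩
      · rw [← zpow_add]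
        intro h
        have h2 : a ^ (2 * r) = 1 := by
          have : a ^ ((2 * r : ℕ) : ℤ) = 1 := by rw [← h]; congr 1; push_cast; ring
          rwa [zpow_natCast] at this
        have := orderOf_dvd_of_pow_eq_one h2
        rw [← hn] at this
        have := Nat.le_of_dvd (by omega) this
        omega
      · rw [← zpow_add, ← zpow_add, ← han]; congr 1; rw [hq, hr]; push_cast; ring
      · rw [← zpow_add, dih_swap he hf]
        congr 1
        rw [← ha]
        have : a ^ (-((r : ℤ) + r)) = a ^ (-((r : ℤ) + r)) * a ^ (n : ℤ) := by rw [han, mul_one]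
        rw [this, ← zpow_add]; congr 1; rw [hq, hr]; push_cast; ring
      · have h1 : e * (a ^ (r : ℤ) * a ^ (r : ℤ)) = (a ^ (r : ℤ) * a ^ (r : ℤ)) * e := by
          rw [← zpow_add, dih_swap he hf]
          congr 1
          rw [← ha]
          have : a ^ (-((r : ℤ) + r)) = a ^ (-((r : ℤ) + r)) * a ^ (n : ℤ) := by rw [han, mul_one]
          rw [this, ← zpow_add]; congr 1; rw [hq, hr]; push_cast; ring
        have h5 : f * (a ^ (r : ℤ) * a ^ (r : ℤ)) = a ^ (-1 : ℤ) * (e * (a ^ (r : ℤ) * a ^ (r : ℤ))) := by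
          conv_lhs => rw [hfe', mul_assoc]
        have h6 : (a ^ (r : ℤ) * a ^ (r : ℤ)) * f = (a ^ (r : ℤ) * a ^ (r : ℤ)) * (a ^ (-1 : ℤ) * e) := by
          conv_lhs => rw [hfe']
        rw [h5, h6, h1, ← zpow_add]
        calc a ^ (-1 : ℤ) * (a ^ ((r : ℤ) + r) * e) = (a ^ (-1 : ℤ) * a ^ ((r : ℤ) + r)) * e := by
              rw [mul_assoc]
          _ = (a ^ ((r : ℤ) + r) * a ^ (-1 : ℤ)) * e := by
              rw [← zpow_add, ← zpow_add, add_comm]
          _ = a ^ ((r : ℤ) + r) * (a ^ (-1 : ℤ) * e) := by rw [mul_assoc]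
      · rw [ha, dih_conj_e he hf, ← zpow_add, dih_swap he hf]
        congr 1
        rw [← ha]
        have : a ^ (-((r : ℤ) + r)) = a ^ (-((r : ℤ) + r)) * a ^ (n : ℤ) := by rw [han, mul_one]
        rw [this, ← zpow_add]; congr 1; rw [hq, hr]; push_cast; ring
      · rw [ha, dih_conj_f he hf, ← ha, ← zpow_add]
        have h1 : e * a ^ ((r : ℤ) + r) = a ^ (-((r : ℤ) + r)) * e := dih_swap he hf _
        have h2 : f * a ^ ((r : ℤ) + r) = a ^ (-1 : ℤ) * (e * a ^ ((r : ℤ) + r)) := by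
          conv_lhs => rw [hfe', mul_assoc]
        rw [h2, h1, ← mul_assoc, ← zpow_add]
        congr 1
        have : a ^ ((-1 : ℤ) + -((r : ℤ) + r)) = a ^ ((-1 : ℤ) + -((r : ℤ) + r)) * a ^ (n : ℤ) := by
          rw [han, mul_one]
        rw [this, ← zpow_add]; congr 1; rw [hq, hr]; push_cast; ring
    · -- n = 2 (2 r + 1)
      right; left
      have hz1 : a ^ (q : ℤ) ≠ 1 := by
        intro h
        rw [zpow_natCast] at h
        have := orderOf_dvd_of_pow_eq_one h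
        rw [← hn] at this
        have := Nat.le_of_dvd (by omega) this
        omega
      have hze : e * a ^ (q : ℤ) = a ^ (q : ℤ) * e := by
        rw [dih_swap he hf, ← ha]
        congr 1
        have : a ^ (-(q : ℤ)) = a ^ (-(q : ℤ)) * a ^ (n : ℤ) := by rw [han, mul_one]
        rw [this, ← zpow_add]; congr 1; rw [hq]; push_cast; ring
      have hzf : f * a ^ (q : ℤ) = a ^ (q : ℤ) * f := by
        have h5 : f * a ^ (q : ℤ) = a ^ (-1 : ℤ) * (e * a ^ (q : ℤ)) := by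
          conv_lhs => rw [hfe', mul_assoc]
        have h6 : a ^ (q : ℤ) * f = a ^ (q : ℤ) * (a ^ (-1 : ℤ) * e) := by
          conv_lhs => rw [hfe']
        rw [h5, h6, hze, ← mul_assoc, ← mul_assoc, ← zpow_add, ← zpow_add, add_comm]
      refine ⟨a ^ (q : ℤ), ?_, hz1, hze, hzf, ⟨q, rfl⟩, ⟨r + 1, ?_⟩, ⟨r, ?_⟩⟩
      · rw [← zpow_add, ← han]; congr 1; rw [hq]; push_cast; ring
      · rw [ha, dih_conj_f he hf, ← ha, hze]
        congr 2; rw [hr]; push_cast; ring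
      · rw [ha, dih_conj_e he hf, ← ha, hzf]
        have h6 : a ^ (q : ℤ) * f = a ^ ((q : ℤ) + -1) * e := by
          conv_lhs => rw [hfe', ← mul_assoc, ← zpow_add]
        rw [h6]
        congr 2; rw [hr]; push_cast; ring
  · -- n odd
    left
    refine ⟨q + 1, ?_⟩
    rw [ha, dih_conj_f he hf, ← ha]
    have : a ^ (2 * ((q : ℤ) + 1) - 1) = a ^ (n : ℤ) := by congr 1; rw [hq]; push_cast; ring
    rw [this, han, one_mul]

end dihedral

/-! ### The main argument -/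

section main

variable {DD SS : Set K}

/-- an element commuting with a member of `DD` (or `SS`) which fixes `R` also fixes `R`. -/
theorem Cfg.fixD {R : Subgroup K} (h : Cfg DD SS R) {e c : K} (he : e ∈ DD) (heR : cj e R = R)
    (hc : c * e = e * c) : cj c R = R := by
  apply h.uD e he heR
  have h1 : cj (c * e * c⁻¹) (cj c R) = cj c R := cj_conj_inv heR
  have h2 : c * e * c⁻¹ = e := by rw [hc]; group
  rwa [h2] at h1

theorem Cfg.fixS {R : Subgroup K} (h : Cfg DD SS R) {e c : K} (he : e ∈ SS) (heR : cj e R = R)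
    (hc : c * e = e * c) : cj c R = R := by
  apply h.uS e he heR
  have h1 : cj (c * e * c⁻¹) (cj c R) = cj c R := cj_conj_inv heR
  have h2 : c * e * c⁻¹ = e := by rw [hc]; group
  rwa [h2] at h1

theorem Cfg.comm {R : Subgroup K} (h : Cfg DD SS R) {a b : K} (ha : a ∈ R) (hb : b ∈ R) : a * b = b * a := by
  have h1 := h.sq a ha
  have h2 := h.sq b hb
  have h3 := h.sq _ (R.mul_mem ha hb)
  have ha' : a⁻¹ = a := inv_eq_of_mul_eq_one_left h1
  have hb' : b⁻¹ = b := inv_eq_of_mul_eq_one_left h2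
  have h4 : (a * b)⁻¹ = a * b := inv_eq_of_mul_eq_one_left h3
  rw [mul_inv_rev, ha', hb'] at h4
  exact h4.symm

theorem cj_inf (g : K) (I J : Subgroup K) : cj g (I ⊓ J) = cj g I ⊓ cj g J := by
  ext x
  simp only [mem_cj, Subgroup.mem_inf]

variable [Finite K]

/-- `Q` and `Q'` are conjugate. -/
def Cjt (Q Q' : Subgroup K) : Prop := ∃ g, Q' = cj g Q

omit [Finite K] in
theorem Cjt.symm {Q Q' : Subgroup K} (h : Cjt Q Q') : Cjt Q' Q := by
  obtain ⟨g, rfl⟩ := h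
  exact ⟨g⁻¹, (cj_inv_cj g Q).symm⟩

omit [Finite K] in
theorem Cjt.trans {Q Q' Q'' : Subgroup K} (h : Cjt Q Q') (h' : Cjt Q' Q'') : Cjt Q Q'' := by
  obtain ⟨g, rfl⟩ := h
  obtain ⟨k, rfl⟩ := h'
  exact ⟨k * g, (cj_mul k g Q).symm⟩

omit [Finite K] in
theorem Cfg.uD' {Q Q' : Subgroup K} (h : Cfg DD SS Q) (hc : Cjt Q Q') {e : K} (he : e ∈ DD) (h1 : cj e Q = Q)
    (h2 : cj e Q' = Q') : Q' = Q := by
  obtain ⟨g, rfl⟩ := hc
  exact h.uD e he h1 g h2

omit [Finite K] in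
theorem Cfg.uS' {Q Q' : Subgroup K} (h : Cfg DD SS Q) (hc : Cjt Q Q') {e : K} (he : e ∈ SS) (h1 : cj e Q = Q)
    (h2 : cj e Q' = Q') : Q' = Q := by
  obtain ⟨g, rfl⟩ := hc
  exact h.uS e he h1 g h2

omit [Finite K] in
theorem Cfg.trans {Q Q' : Subgroup K} (hD : CInv DD) (hS : CInv SS) (h : Cfg DD SS Q) (hc : Cjt Q Q') :
    Cfg DD SS Q' := by
  obtain ⟨g, rfl⟩ := hc
  exact h.conj hD hS g

/-- two members of `DD` in different points -/
theorem step4 (hD : CInv DD) (hD2 : ∀ e ∈ DD, e * e = 1) {Q Q' : Subgroup K} (h : Cfg DD SS Q)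
    {e f : K} (he : e ∈ DD) (hf : f ∈ DD) (heQ : e ∈ Q) :
    ∃ m : ℤ, (e * f) ^ m * f * ((e * f) ^ m)⁻¹ ∈ Q := by
  have he2 := hD2 e he
  have hf2 := hD2 f hf
  rcases dih_cases he2 hf2 with ⟨m, hm⟩ | ⟨z, hz2, hz1, hez, hfz, ⟨j, hj⟩, ⟨m, hm⟩, _⟩ |
    ⟨y, hy1, hy2, hey, hfy, ⟨j, hj⟩, hye, hyf⟩
  · exact ⟨m, by rw [hm]; exact heQ⟩
  · refine ⟨m, ?_⟩
    have h1 : (e * f) ^ m * f * ((e * f) ^ m)⁻¹ ∈ DD := hD _ _ hf
    apply h.DR _ h1
    apply h.fixD he (cj_of_mem heQ)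
    rw [hm]
    calc e * z * e = e * (z * e) := by group
      _ = e * (e * z) := by rw [hez]
  · exfalso
    have hzD : e * (y * y) ∈ DD := by rw [← hye]; exact hD _ _ he
    have hfix : cj (e * (y * y)) Q = Q := by
      apply h.fixD he (cj_of_mem heQ)
      rw [mul_assoc, ← hey]
    have hyQ : cj y Q = Q := by
      have h2 : cj (y * e * y⁻¹) (cj y Q) = cj y Q := cj_conj_inv (cj_of_mem heQ)
      rw [hye] at h2
      exact h.uD _ hzD hfix y h2
    have hsw : e * y = (e * f) ^ (-j) * e := by rw [hj]; exact dih_swap he2 hf2 j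
    have heyD : e * y ∈ DD := by
      rw [hsw]
      rcases dih_refl he2 hf2 (-j) with ⟨m, hm⟩ | ⟨m, hm⟩
      · rw [hm]; exact hD _ _ he
      · rw [hm]; exact hD _ _ hf
    have heyQ : e * y ∈ Q := by
      apply h.DR _ heyD
      rw [cj_mul, hyQ, cj_of_mem heQ]
    have hy : y ∈ Q := by
      have := Q.mul_mem heQ heyQ
      rwa [← mul_assoc, he2, one_mul] at this
    exact hy1 (h.sq y hy)

theorem comm_zpow {r a : K} (h : r * a = a * r) (m : ℤ) : r * a ^ m = a ^ m * r :=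
  (Commute.zpow_right (show Commute r a from h) m).eq

theorem step5 (hD : CInv DD) (hS : CInv SS) (hD2 : ∀ e ∈ DD, e * e = 1) {Q Q' : Subgroup K} (h : Cfg DD SS Q)
    (hc : Cjt Q Q') {r e : K} (hr : r ∈ Q') (he : e ∈ DD) (heQ : e ∈ Q) (hre : r * e = e * r) :
    r ∈ Q := by
  have h' := h.trans hD hS hc
  obtain ⟨f, hf, hfQ⟩ := h'.neD
  obtain ⟨m, hm⟩ := step4 (Q' := Q') hD hD2 h he hf heQ
  have hrf : r * f = f * r := h'.comm hr hfQ
  have hra : r * (e * f) = (e * f) * r := by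
    calc r * (e * f) = (r * e) * f := by group
      _ = e * (r * f) := by rw [hre]; group
      _ = e * f * r := by rw [hrf]; group
  set c := (e * f) ^ m with hcdef
  have hrc : r * c = c * r := comm_zpow hra m
  have h1 : c * f * c⁻¹ ∈ DD := hD _ _ hf
  have h2 : cj (c * f * c⁻¹) (cj c Q') = cj c Q' := cj_conj_inv (cj_of_mem hfQ)
  have h3 : cj c Q' = Q := h.uD' (hc.trans ⟨c, rfl⟩) h1 (cj_of_mem hm) h2
  rw [← h3, mem_cj]
  have : c⁻¹ * r * c = r := by rw [mul_assoc, hrc, ← mul_assoc, inv_mul_cancel, one_mul]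
  rw [this]
  exact hr

theorem step6 (hD : CInv DD) (hS : CInv SS) (hdis : ∀ e ∈ DD, e ∉ SS) (hD2 : ∀ e ∈ DD, e * e = 1)
    (hS2 : ∀ e ∈ SS, e * e = 1) {Q Q' : Subgroup K} (h : Cfg DD SS Q)
    (hc : Cjt Q Q') (hne : Q' ≠ Q) {s f : K} (hs : s ∈ SS) (hsQ : cj s Q = Q) (hf : f ∈ DD) (hfQ : f ∈ Q') :
    ∃ z ∈ Q ⊓ Q', z ≠ 1 ∧ z * s = s * z := by
  have h' := h.trans hD hS hc
  have hs2 := hS2 s hs
  have hf2 := hD2 f hf
  rcases dih_cases hs2 hf2 with ⟨m, hm⟩ | ⟨z, hz2, hz1, hez, hfz, ⟨j, hj⟩, ⟨m, hm⟩, _⟩ |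
    ⟨y, hy1, hy2, hey, hfy, ⟨j, hj⟩, hye, hyf⟩
  · exfalso
    have : s ∈ DD := by rw [← hm]; exact hD _ _ hf
    exact hdis _ this hs
  · exfalso
    have h1 : s * z ∈ DD := by rw [← hm]; exact hD _ _ hf
    have hcs : s * z * s = s * (s * z) := by rw [mul_assoc, ← hez]
    have h2 : cj (s * z) Q = Q := h.fixS hs hsQ hcs
    have h3 : s * z ∈ Q := h.DR _ h1 h2
    have h4 := h.h6 s hs hsQ _ h1 h3 hcs.symm
    rw [← mul_assoc, hs2, one_mul] at h4
    have hzQ : cj z Q = Q := by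
      have : z = s * (s * z) := by rw [← mul_assoc, hs2, one_mul]
      rw [this, cj_mul, h2, hsQ]
    have hzQ' : cj z Q' = Q' := h'.fixD hf (cj_of_mem hfQ) hfz.symm
    exact hne (h.uS' hc h4 hzQ hzQ')
  · have hsz : s * (y * y) ∈ SS := by rw [← hye]; exact hS _ _ hs
    have hcs : s * (y * y) * s = s * (s * (y * y)) := by rw [mul_assoc, ← hey]
    have h2 : cj (s * (y * y)) Q = Q := h.fixS hs hsQ hcs
    obtain ⟨d, hd, hdQ, hdc⟩ := h.h7 s hs hsQ _ hsz h2 hcs.symm (by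
      intro hh
      apply hy1
      have : s * 1 = s * (y * y) := by rw [mul_one]; exact hh
      exact (mul_left_cancel this).symm)
    have hss : s * (s * (y * y)) = y * y := by rw [← mul_assoc, hs2, one_mul]
    rw [hss] at hdc
    have hfzD : f * (y * y) ∈ DD := by rw [← hyf]; exact hD _ _ hf
    have hfz : f * (y * y) ∈ Q' := by
      apply h'.DR _ hfzD
      apply h'.fixD hf (cj_of_mem hfQ)
      rw [mul_assoc, ← hfy]
    have hzQ' : y * y ∈ Q' := by
      have := Q'.mul_mem hfQ hfz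
      rwa [← mul_assoc, hf2, one_mul] at this
    have hzQ : y * y ∈ Q := step5 hD hS hD2 h hc hzQ' hd hdQ hdc.symm
    exact ⟨y * y, ⟨hzQ, hzQ'⟩, hy1, hey.symm⟩

theorem step7 (hD : CInv DD) (hS : CInv SS) (hdis : ∀ e ∈ DD, e ∉ SS) (hD2 : ∀ e ∈ DD, e * e = 1)
    (hS2 : ∀ e ∈ SS, e * e = 1) {Q Q' : Subgroup K} (h : Cfg DD SS Q)
    (hc : Cjt Q Q') (hne : Q' ≠ Q) : Good DD SS Q (Q ⊓ Q') := by
  refine ⟨inf_le_left, ?_, ?_⟩
  · intro e he heQ
    exact hne (h.uD' hc he (cj_of_mem heQ.1) (cj_of_mem heQ.2))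
  · intro s hs hsQ
    obtain ⟨f, hf, hfQ⟩ := (h.trans hD hS hc).neD
    exact step6 hD hS hdis hD2 hS2 h hc hne hs hsQ hf hfQ

/-- **The closing lemma.** -/
theorem normal_of_cfg (hD : CInv DD) (hS : CInv SS) (hdis : ∀ e ∈ DD, e ∉ SS) (hD2 : ∀ e ∈ DD, e * e = 1)
    (hS2 : ∀ e ∈ SS, e * e = 1) {R : Subgroup K} (h : Cfg DD SS R) (g : K) : cj g R = R := by
  by_contra hne
  set δ := cj g R with hδ
  have hRδ : Cjt R δ := ⟨g, rfl⟩
  have gd := h.trans hD hS hRδ
  have hI1 : Good DD SS R (R ⊓ δ) := step7 hD hS hdis hD2 hS2 h hRδ hne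
  have hI1' : Good DD SS δ (R ⊓ δ) := by
    rw [inf_comm]
    exact step7 hD hS hdis hD2 hS2 gd hRδ.symm (Ne.symm hne)
  obtain ⟨s, hs, hsR⟩ := h.neS
  obtain ⟨e, he, heR⟩ := h.neD
  -- the point ε
  set ε := cj s δ with hε
  have hRε : Cjt R ε := hRδ.trans ⟨s, rfl⟩
  have ge := h.trans hD hS hRε
  have hεR : ε ≠ R := by
    intro hh
    apply hne
    apply cj_inj (g := s)
    rw [← hε, hh, hsR]
  have hεδ : ε ≠ δ := by
    intro hh
    exact hne (h.uS' hRδ hs hsR hh)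
  have hI2eq : R ⊓ ε = cj s (R ⊓ δ) := by rw [cj_inf, hsR]
  have hI21 : R ⊓ ε ≠ R ⊓ δ := by
    rw [hI2eq]
    exact h.g2 _ hI1 s hs hsR
  have hI2 : Good DD SS R (R ⊓ ε) := step7 hD hS hdis hD2 hS2 h hRε hεR
  obtain ⟨p, hp, hp1, hps⟩ := hI1.2.2 s hs hsR
  have hpε : p ∈ R ⊓ ε := by
    rw [hI2eq, mem_cj]
    have : s⁻¹ * p * s = p := by rw [mul_assoc, hps, ← mul_assoc, inv_mul_cancel, one_mul]
    rw [this]
    exact hp
  -- the point ε'
  set ε' := cj e ε with hε'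
  have hεε' : Cjt ε ε' := ⟨e, rfl⟩
  have hRε' : Cjt R ε' := hRε.trans hεε'
  have hne' : ε' ≠ ε := by
    intro hh
    exact hεR (h.uD' hRε he (cj_of_mem heR) hh)
  have hI2' : R ⊓ ε' = R ⊓ ε := by
    have h1 : R ⊓ ε' = cj e (R ⊓ ε) := by rw [cj_inf, cj_of_mem heR]
    rw [h1]
    ext x
    rw [mem_cj]
    constructor
    · intro hx
      have hxR : x ∈ R := by
        have := R.mul_mem (R.mul_mem heR hx.1) (R.inv_mem heR)
        simpa [mul_assoc] using this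
      have : e⁻¹ * x * e = x := by
        rw [mul_assoc, h.comm hxR heR, ← mul_assoc, inv_mul_cancel, one_mul]
      rwa [this] at hx
    · intro hx
      have : e⁻¹ * x * e = x := by
        rw [mul_assoc, h.comm hx.1 heR, ← mul_assoc, inv_mul_cancel, one_mul]
      rwa [this]
  have hδε' : ε' ≠ δ := by
    intro hh
    rw [hh] at hI2'
    exact hI21 hI2'.symm
  -- intersections at δ
  have hδε : Cjt δ ε := ⟨s, rfl⟩
  have hδε'' : Cjt δ ε' := hδε.trans hεε'
  have hJ : Good DD SS δ (δ ⊓ ε) := step7 hD hS hdis hD2 hS2 gd hδε hεδ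
  have hJ' : Good DD SS δ (δ ⊓ ε') := step7 hD hS hdis hD2 hS2 gd hδε'' hδε'
  have hpε' : p ∈ ε' := by
    have : p ∈ R ⊓ ε' := by rw [hI2']; exact hpε
    exact this.2
  have hJJ' : δ ⊓ ε = δ ⊓ ε' := by
    apply gd.g3 (R ⊓ δ) _ _ hI1' hJ hJ' p hp1 hp ⟨hp.2, hpε.2⟩ ⟨hp.2, hpε'⟩
    · intro hh
      apply hI21
      symm
      apply h.g1 _ _ hI1 hI2
      refine le_inf inf_le_left ?_
      rw [← hh]
      exact inf_le_right
    · intro hh
      apply hI21
      symm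
      apply h.g1 _ _ hI1 hI2
      rw [← hI2']
      refine le_inf inf_le_left ?_
      rw [← hh]
      exact inf_le_right
  -- intersections at ε
  have hEE : Good DD SS ε (ε ⊓ ε') := step7 hD hS hdis hD2 hS2 ge hεε' hne'
  have hEJ : Good DD SS ε (δ ⊓ ε) := by
    rw [inf_comm]
    exact step7 hD hS hdis hD2 hS2 ge hδε.symm (Ne.symm hεδ)
  have hER : Good DD SS ε (R ⊓ ε) := by
    rw [inf_comm]
    exact step7 hD hS hdis hD2 hS2 ge hRε.symm (Ne.symm hεR)
  have e1 : δ ⊓ ε = ε ⊓ ε' := by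
    apply ge.g1 _ _ hEJ hEE
    refine le_inf inf_le_right ?_
    rw [hJJ']
    exact inf_le_right
  have e2 : R ⊓ ε = ε ⊓ ε' := by
    apply ge.g1 _ _ hER hEE
    refine le_inf inf_le_right ?_
    rw [← hI2']
    exact inf_le_right
  apply hI21
  apply h.g1 _ _ hI2 hI1
  refine le_inf inf_le_left ?_
  rw [e2, ← e1]
  exact inf_le_left

end main

end Cfsg.Agent.HN.Closing
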