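import Cfsg.Agent.SporadicA.PermTab

set_option autoImplicit false

/-!
Upper bounds for the order of a group of automorphisms of a graph which commutes with given permutations:
stabiliser chains with colour refinement (kernel computation).
-/

namespace Cfsg.Agent.HN.ColChain

open Cfsg.Agent.SporadicA.PermTab Equiv

/-- adjacency and equality of two points -/
def rel (n A p q : ℕ) : ℕ := Nat.add (bitM n A p q) (cond (Nat.beq p q) 2 0)

/-- the basic colour: relations with the points of the list `F`, and with the images under the tables `VS`. -/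
noncomputable def c0 (n A : ℕ) (VS F : List ℕ) (p : ℕ) : ℕ :=
  List.rec (List.rec 1 (fun f _ ih => Nat.add (Nat.mul 4 ih) (rel n A p f)) F)
    (fun V _ ih => Nat.add (Nat.mul 4 ih) (rel n A p (lk V p))) VS

/-- hash -/
def hsh (c : ℕ) : ℕ := Nat.mod (Nat.mul c (Nat.mul c c)) 1000000007

/-- entry of a table with 32 bits per entry -/
def lw (T q : ℕ) : ℕ := Nat.land (Nat.shiftRight T (Nat.mul 32 q)) 4294967295

/-- sum of the table values over the neighbours -/
noncomputable def nsum (n A T p : ℕ) : ℕ :=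
  Nat.rec 0 (fun q ih => Nat.add ih (Nat.mul (bitM n A p q) (lw T q))) n

/-- the refined colour -/
noncomputable def c1 (n A : ℕ) (VS : List ℕ) (T p : ℕ) : ℕ :=
  List.rec (Nat.add (Nat.mul (nsum n A T p) 4294967296) (lw T p))
    (fun V _ ih => Nat.add (Nat.mul ih 4294967296) (lw T (lk V p))) VS

/-- the table is the table of the hashed basic colours. -/
noncomputable def tOK (n A : ℕ) (VS F : List ℕ) (T : ℕ) : Bool :=
  allB (fun q => Nat.beq (lw T q) (hsh (c0 n A VS F q))) n

/-- the images of a point under the tables -/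
def imgs (VS : List ℕ) (y : ℕ) : List ℕ := VS.map (fun V => lk V y)

/-- final check: the refined colours are pairwise different. -/
noncomputable def finB (n A : ℕ) (VS F : List ℕ) (T R O : ℕ) : Bool :=
  band (tOK n A VS F T) (band
    (allB (fun v => band (Nat.blt (lk R v) n) (Nat.beq (lk O (lk R v)) v)) n)
    (allB (fun i => Nat.blt (c1 n A VS T (lk O i)) (c1 n A VS T (lk O (Nat.succ i)))) (Nat.pred n)))

/-- The chain: entries `(y, m, T, c)`; `m` points have the refined colour `c` of `y`. -/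
noncomputable def chB (n A : ℕ) (VS : List ℕ) (T R O : ℕ) : List ℕ → List (ℕ × ℕ × ℕ × ℕ) → Bool :=
  fun F bs => List.rec (motive := fun _ => List ℕ → Bool) (fun F => finB n A VS F T R O)
    (fun b _ ih F => band (Nat.blt b.1 n) (band (tOK n A VS F b.2.2.1)
      (band (Nat.beq (c1 n A VS b.2.2.1 b.1) b.2.2.2)
        (band (cntB (fun p => Nat.beq (c1 n A VS b.2.2.1 p) b.2.2.2) n b.2.1)
          (ih (b.1 :: (imgs VS b.1 ++ F))))))) bs F

/-- the bound -/
def prodM (bs : List (ℕ × ℕ × ℕ × ℕ)) : ℕ := bs.foldr (fun b r => b.2.1 * r) 1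

theorem chB_cons (n A : ℕ) (VS : List ℕ) (T R O : ℕ) (F : List ℕ) (y m T' c : ℕ) (bs : List (ℕ × ℕ × ℕ × ℕ)) :
    chB n A VS T R O F ((y, m, T', c) :: bs) = band (Nat.blt y n) (band (tOK n A VS F T')
      (band (Nat.beq (c1 n A VS T' y) c)
        (band (cntB (fun p => Nat.beq (c1 n A VS T' p) c) n m)
          (chB n A VS T R O (y :: (imgs VS y ++ F)) bs)))) := rfl

variable {n A : ℕ} {VS : List ℕ}

/-- The table `V` belongs to a permutation commuting with all elements of `Γ`. -/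
def Com (Γ : Subgroup (Perm (Fin n))) (V : ℕ) : Prop :=
  ∃ v : Perm (Fin n), (∀ i, (v i : ℕ) = lk V i) ∧ ∀ g ∈ Γ, g * v = v * g

theorem Com.apply {Γ : Subgroup (Perm (Fin n))} {V : ℕ} (h : Com Γ V) {g : Perm (Fin n)} (hg : g ∈ Γ) (i : Fin n) :
    ∃ h' : lk V i < n, ((g ⟨lk V i, h'⟩ : Fin n) : ℕ) = lk V (g i) := by
  obtain ⟨v, hv, hc⟩ := h
  refine ⟨hv i ▸ (v i).2, ?_⟩
  have h1 : (⟨lk V i, hv i ▸ (v i).2⟩ : Fin n) = v i := Fin.ext (hv i).symm
  rw [h1, ← hv (g i), ← Perm.mul_apply, hc g hg, Perm.mul_apply]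

theorem rel_inv {g : Perm (Fin n)} (hg : g ∈ autG n A) (i j : Fin n) : rel n A (g i) (g j) = rel n A i j := by
  unfold rel
  have h1 : bitM n A (g i) (g j) = bitM n A i j := hg i j
  have h2 : Nat.beq (g i : ℕ) (g j) = Nat.beq (i : ℕ) j := by
    rw [Bool.eq_iff_iff]
    constructor
    · intro h
      have h3 := g.injective (Fin.ext (Nat.eq_of_beq_eq_true h))
      rw [h3]; exact Nat.beq_refl _
    · intro h
      have h3 : i = j := Fin.ext (Nat.eq_of_beq_eq_true h)
      rw [h3]; exact Nat.beq_refl _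
  rw [h1, h2]

theorem c0_inv {Γ : Subgroup (Perm (Fin n))} (hΓ : Γ ≤ autG n A) {F : List ℕ} (hV : ∀ V ∈ VS, Com Γ V)
    (hF : FixL Γ F) {g : Perm (Fin n)} (hg : g ∈ Γ) (p : Fin n) : c0 n A VS F (g p) = c0 n A VS F p := by
  have h1 : ∀ F : List ℕ, FixL Γ F →
      (List.rec 1 (fun f _ ih => Nat.add (Nat.mul 4 ih) (rel n A (g p) f)) F : ℕ) =
      List.rec 1 (fun f _ ih => Nat.add (Nat.mul 4 ih) (rel n A p f)) F := by
    intro F hF
    induction F with
    | nil => rfl
    | cons f F ih =>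
      have h2 := ih (fun f' hf' => hF f' (List.mem_cons_of_mem _ hf'))
      have h3 : rel n A (g p) f = rel n A p f := by
        obtain ⟨hfn, hfix⟩ := hF f List.mem_cons_self
        have h4 := rel_inv (hΓ hg) p ⟨f, hfn⟩
        rw [hfix g hg ⟨f, hfn⟩ rfl] at h4
        exact h4
      change Nat.add (Nat.mul 4 _) _ = Nat.add (Nat.mul 4 _) _
      rw [h2, h3]
  unfold c0
  rw [h1 F hF]
  induction VS with
  | nil => rfl
  | cons V VS ih =>
    have h2 := ih (fun V' hV' => hV V' (List.mem_cons_of_mem _ hV'))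
    have h3 : rel n A (g p) (lk V (g p)) = rel n A p (lk V p) := by
      obtain ⟨h5, h6⟩ := (hV V List.mem_cons_self).apply hg p
      have h4 := rel_inv (hΓ hg) p ⟨lk V p, h5⟩
      rw [h6] at h4
      exact h4
    change Nat.add (Nat.mul 4 _) _ = Nat.add (Nat.mul 4 _) _
    rw [h2, h3]

theorem lw_inv {Γ : Subgroup (Perm (Fin n))} (hΓ : Γ ≤ autG n A) {F : List ℕ} (hV : ∀ V ∈ VS, Com Γ V)
    (hF : FixL Γ F) {T : ℕ} (hT : tOK n A VS F T = true) {g : Perm (Fin n)} (hg : g ∈ Γ) (p : Fin n) :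
    lw T (g p) = lw T p := by
  unfold tOK at hT
  rw [allB_iff] at hT
  rw [Nat.eq_of_beq_eq_true (hT _ (g p).2), Nat.eq_of_beq_eq_true (hT _ p.2), c0_inv hΓ hV hF hg]

theorem nsum_eq (T p : ℕ) (k : ℕ) : (Nat.rec 0 (fun q ih => Nat.add ih (Nat.mul (bitM n A p q) (lw T q))) k : ℕ) =
    ∑ q ∈ Finset.range k, bitM n A p q * lw T q := by
  induction k with
  | zero => rfl
  | succ k ih => rw [Finset.sum_range_succ, ← ih]; rfl

theorem nsum_eq' (T p : ℕ) : nsum n A T p = ∑ q : Fin n, bitM n A p q * lw T q := by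
  rw [nsum, nsum_eq, ← Fin.sum_univ_eq_sum_range (fun q => bitM n A p q * lw T q)]

theorem nsum_inv {T : ℕ} {g : Perm (Fin n)} (hA : g ∈ autG n A) (h : ∀ p : Fin n, lw T (g p) = lw T p) (p : Fin n) :
    nsum n A T (g p) = nsum n A T p := by
  rw [nsum_eq', nsum_eq', ← Equiv.sum_comp g]
  apply Finset.sum_congr rfl
  intro q _
  rw [h q, show bitM n A (g p) (g q) = bitM n A p q from hA p q]

theorem c1_inv {Γ : Subgroup (Perm (Fin n))} (hΓ : Γ ≤ autG n A) {F : List ℕ} (hV : ∀ V ∈ VS, Com Γ V)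
    (hF : FixL Γ F) {T : ℕ} (hT : tOK n A VS F T = true) {g : Perm (Fin n)} (hg : g ∈ Γ) (p : Fin n) :
    c1 n A VS T (g p) = c1 n A VS T p := by
  have hlw := fun p => lw_inv hΓ hV hF hT hg p
  have hns := nsum_inv (hΓ hg) hlw p
  clear hT
  unfold c1
  rw [hns, hlw p]
  induction VS with
  | nil => rfl
  | cons V VS ih =>
    have h2 := ih (fun V' hV' => hV V' (List.mem_cons_of_mem _ hV'))
    have h3 : lw T (lk V (g p)) = lw T (lk V p) := by
      obtain ⟨h5, h6⟩ := (hV V List.mem_cons_self).apply hg p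
      rw [← h6, hlw]
    change Nat.add (Nat.mul _ _) _ = Nat.add (Nat.mul _ _) _
    rw [h2, h3]

theorem inj_of_order {sig : ℕ → ℕ} {R O : ℕ}
    (hR : allB (fun v => band (Nat.blt (lk R v) n) (Nat.beq (lk O (lk R v)) v)) n = true)
    (hO : allB (fun i => Nat.blt (sig (lk O i)) (sig (lk O (Nat.succ i)))) (Nat.pred n) = true) :
    ∀ u v : Fin n, sig u = sig v → u = v := by
  rw [allB_iff] at hR hO
  have hmono : ∀ i j, i < j → j < n → sig (lk O i) < sig (lk O j) := by
    intro i j hij hj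
    induction j, hij using Nat.le_induction with
    | base =>
      have h := hO i (by rw [Nat.pred_eq_sub_one]; omega)
      exact Nat.blt_eq ▸ h
    | succ k hk ih =>
      have h := hO k (by rw [Nat.pred_eq_sub_one]; omega)
      exact (ih (by omega)).trans (Nat.blt_eq ▸ h)
  intro u v huv
  have hu := hR u u.2
  have hv := hR v v.2
  rw [band_eq_true] at hu hv
  have hu1 : lk R u < n := Nat.blt_eq ▸ hu.1
  have hv1 : lk R v < n := Nat.blt_eq ▸ hv.1
  have hu2 := Nat.eq_of_beq_eq_true hu.2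
  have hv2 := Nat.eq_of_beq_eq_true hv.2
  rcases Nat.lt_trichotomy (lk R u) (lk R v) with h | h | h
  · have := hmono _ _ h hv1
    rw [hu2, hv2, huv] at this
    exact absurd this (lt_irrefl _)
  · apply Fin.ext
    rw [← hu2, ← hv2, h]
  · have := hmono _ _ h hu1
    rw [hu2, hv2, huv] at this
    exact absurd this (lt_irrefl _)

/-- **The bound.** -/
theorem card_le_prod (bs : List (ℕ × ℕ × ℕ × ℕ)) (F : List ℕ) (Γ : Subgroup (Perm (Fin n))) (hΓ : Γ ≤ autG n A)
    (hV : ∀ V ∈ VS, Com Γ V) (hF : FixL Γ F) {T R O : ℕ} (h : chB n A VS T R O F bs = true) :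
    Nat.card Γ ≤ prodM bs := by
  induction bs generalizing F Γ with
  | nil =>
    have h' : finB n A VS F T R O = true := h
    unfold finB at h'
    rw [band_eq_true, band_eq_true] at h'
    have : Γ = ⊥ := by
      rw [eq_bot_iff]
      intro g hg
      rw [Subgroup.mem_bot]
      ext p
      exact congrArg Fin.val (inj_of_order h'.2.1 h'.2.2 _ _ (c1_inv hΓ hV hF h'.1 hg p))
    rw [this]
    simp [prodM]
  | cons b bs ih =>
    obtain ⟨y, m, T', c⟩ := b
    rw [chB_cons, band_eq_true, band_eq_true, band_eq_true, band_eq_true] at h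
    obtain ⟨h1, h2, h3, h4, h5⟩ := h
    have hy : y < n := Nat.blt_eq ▸ h1
    have hV' : ∀ V ∈ VS, Com (ps Γ ⟨y, hy⟩) V := by
      intro V hVS
      obtain ⟨v, hv, hc⟩ := hV V hVS
      exact ⟨v, hv, fun g hg => hc g hg.1⟩
    have h6 : Nat.card (ps Γ ⟨y, hy⟩) ≤ prodM bs := by
      refine ih (y :: (imgs VS y ++ F)) (ps Γ ⟨y, hy⟩) ((ps_le _ _).trans hΓ) hV' ?_ h5
      intro f hf
      rcases List.mem_cons.1 hf with h7 | h7
      · subst h7
        refine ⟨hy, fun g hg i hi => ?_⟩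
        have : i = ⟨f, hy⟩ := Fin.ext hi
        rw [this]; exact hg.2
      · rcases List.mem_append.1 h7 with h8 | h8
        · obtain ⟨V, hVS, rfl⟩ := List.mem_map.1 h8
          have h9 : lk V y < n := ((hV V hVS).apply Γ.one_mem ⟨y, hy⟩).1
          refine ⟨h9, fun g hg i hi => ?_⟩
          obtain ⟨_, h10⟩ := (hV V hVS).apply hg.1 ⟨y, hy⟩
          rw [hg.2] at h10
          have : i = ⟨lk V y, h9⟩ := Fin.ext hi
          rw [this]
          exact Fin.ext h10
        · exact ⟨(hF f h8).1, fun g hg => (hF f h8).2 g hg.1⟩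
    refine card_le Γ ⟨y, hy⟩ _ ?_ (card_fin_of_cntB _ n m h4) h6
    intro g hg
    simp only [Finset.mem_filter, Finset.mem_univ, true_and]
    have h7 := c1_inv hΓ hV hF h2 hg ⟨y, hy⟩
    rw [h7, Nat.eq_of_beq_eq_true h3]
    exact Nat.beq_refl _

end Cfsg.Agent.HN.ColChain
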