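import Cfsg.Agent.SporadicA.PermTab

set_option autoImplicit false

/-!
Counting lemma for double cosets: sizes of the double cosets `H w i H` from local counts.
-/

namespace Cfsg.Agent.HN.Count

open MulAction

variable {G : Type*} [Group G] (H : Subgroup G)

/-- The left coset `w⁻¹ H` (corresponding to the right coset `H w`). -/
def pnt (w : G) : G ⧸ H := ((w⁻¹ : G) : G ⧸ H)

/-- The number of right cosets of `H` in the double coset `H w H`. -/
noncomputable def sz (w : G) : ℕ := Nat.card (orbit H (pnt H w))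

theorem mem_orbit_iff' (x w : G) :
    pnt H x ∈ orbit H (pnt H w) ↔ x ∈ DoubleCoset.doubleCoset w (H : Set G) (H : Set G) := by
  rw [DoubleCoset.mem_doubleCoset]
  constructor
  · rintro ⟨⟨g, hg⟩, h⟩
    have h1 : ((g * w⁻¹ : G) : G ⧸ H) = ((x⁻¹ : G) : G ⧸ H) := h
    rw [QuotientGroup.eq] at h1
    refine ⟨((g * w⁻¹)⁻¹ * x⁻¹)⁻¹, H.inv_mem h1, g⁻¹, H.inv_mem hg, ?_⟩
    group
  · rintro ⟨a, ha, b, hb, rfl⟩
    refine ⟨⟨b⁻¹, H.inv_mem hb⟩, ?_⟩
    change ((b⁻¹ * w⁻¹ : G) : G ⧸ H) = (((a * w * b)⁻¹ : G) : G ⧸ H)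
    rw [QuotientGroup.eq]
    have : (b⁻¹ * w⁻¹)⁻¹ * (a * w * b)⁻¹ = a⁻¹ := by group
    rw [this]
    exact H.inv_mem ha

theorem pnt_smul (h w : G) : h • pnt H w = pnt H (w * h⁻¹) := by
  change ((h * w⁻¹ : G) : G ⧸ H) = (((w * h⁻¹)⁻¹ : G) : G ⧸ H)
  rw [mul_inv_rev, inv_inv]

theorem sz_one : sz H 1 = 1 := by
  have h : orbit H (pnt H 1) = {pnt H 1} := by
    ext v
    simp only [Set.mem_singleton_iff]
    constructor
    · rintro ⟨⟨g, hg⟩, rfl⟩
      change ((g * 1⁻¹ : G) : G ⧸ H) = ((1⁻¹ : G) : G ⧸ H)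
      rw [QuotientGroup.eq, inv_one, mul_one, mul_one]
      exact H.inv_mem hg
    · rintro rfl
      exact mem_orbit_self _
  rw [sz, h, Nat.card_unique]

theorem sz_of_mem {w : G} (h : w ∈ H) : sz H w = 1 := by
  have h1 : pnt H w = pnt H 1 := by
    change ((w⁻¹ : G) : G ⧸ H) = ((1⁻¹ : G) : G ⧸ H)
    rw [QuotientGroup.eq, inv_one, mul_one, inv_inv]
    exact h
  rw [sz, h1]
  exact sz_one H

theorem finite_orbit [Finite H] (p : G ⧸ H) : Finite (orbit H p) :=
  (Set.finite_range _).to_subtype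

theorem sz_pos [Finite H] (w : G) : 0 < sz H w := by
  have := finite_orbit H (pnt H w)
  have : Nonempty (orbit H (pnt H w)) := ⟨⟨_, mem_orbit_self _⟩⟩
  exact Nat.card_pos

/-- the size of a double coset divides the order of `H`. -/
theorem sz_dvd [Finite H] (w : G) : sz H w ∣ Nat.card H := by
  rw [sz, Nat.card_congr (orbitEquivQuotientStabilizer H (pnt H w))]
  exact Subgroup.card_quotient_dvd_card _

section

variable {m : ℕ} (w : Fin m → G)

/-- **The index is the sum of the sizes of the double cosets.** -/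
theorem index_eq_sum [Finite H] (hdis : ∀ i j, w j ∈ DoubleCoset.doubleCoset (w i) (H : Set G) (H : Set G) → i = j)
    (hcov : ∀ g, ∃ i, g ∈ DoubleCoset.doubleCoset (w i) (H : Set G) (H : Set G)) :
    H.index = ∑ i, sz H (w i) := by
  have hfin := fun i => finite_orbit H (pnt H (w i))
  have e : (Σ i, orbit H (pnt H (w i))) ≃ G ⧸ H := by
    refine Equiv.ofBijective (fun x => (x.2 : G ⧸ H)) ⟨?_, ?_⟩
    · rintro ⟨i, x, hx⟩ ⟨j, y, hy⟩ hxy
      have hxy' : x = y := hxy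
      subst hxy'
      have hij : i = j := by
        apply hdis
        rw [← mem_orbit_iff']
        have e1 := orbit_eq_iff.2 hx
        have e2 := orbit_eq_iff.2 hy
        rw [← e1, e2]
        exact mem_orbit_self _
      subst hij
      rfl
    · intro p
      obtain ⟨g, rfl⟩ := QuotientGroup.mk_surjective p
      obtain ⟨i, hi⟩ := hcov g⁻¹
      rw [← mem_orbit_iff'] at hi
      have h1 : pnt H g⁻¹ = (g : G ⧸ H) := by
        change (((g⁻¹)⁻¹ : G) : G ⧸ H) = _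
        rw [inv_inv]
      rw [h1] at hi
      exact ⟨⟨i, ⟨_, hi⟩⟩, rfl⟩
  rw [Subgroup.index, ← Nat.card_congr e, Nat.card_sigma]
  rfl

theorem smul_mem_orbit_iff {p q : G ⧸ H} {h : G} (hh : h ∈ H) : h • q ∈ orbit H p ↔ q ∈ orbit H p := by
  have h1 : (h • q : G ⧸ H) = (⟨h, hh⟩ : H) • q := rfl
  rw [h1]
  constructor
  · rintro ⟨g, hg⟩
    refine ⟨(⟨h, hh⟩ : H)⁻¹ * g, ?_⟩
    change ((⟨h, hh⟩ : H)⁻¹ * g) • p = q
    rw [mul_smul]
    have hg' : g • p = (⟨h, hh⟩ : H) • q := hg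
    rw [hg', inv_smul_smul]
  · rintro ⟨g, rfl⟩
    refine ⟨(⟨h, hh⟩ : H) * g, ?_⟩
    change ((⟨h, hh⟩ : H) * g) • p = (⟨h, hh⟩ : H) • (g • p)
    rw [mul_smul]

variable (t c : G)

/-- the set of pairs counted -/
def pairs (i j : Fin m) : Set ((G ⧸ H) × H) :=
  {x | x.1 ∈ orbit H (pnt H (w i)) ∧ (t⁻¹ * ((x.2 : H) : G)⁻¹) • x.1 ∈ orbit H (pnt H (w j))}

theorem mem_pairs {i j : Fin m} {p : G ⧸ H} {h : H} : (p, h) ∈ pairs H w t i j ↔
    p ∈ orbit H (pnt H (w i)) ∧ (t⁻¹ * (h : G)⁻¹) • p ∈ orbit H (pnt H (w j)) := Iff.rfl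

theorem finite_pairs [Finite H] (i j : Fin m) : (pairs H w t i j).Finite := by
  have h1 := finite_orbit H (pnt H (w i))
  refine Set.Finite.subset (s := orbit H (pnt H (w i)) ×ˢ (Set.univ : Set H)) ?_ ?_
  · exact Set.Finite.prod (Set.toFinite _) (Set.toFinite _)
  · rintro ⟨p, h⟩ ⟨h2, -⟩
    exact ⟨h2, trivial⟩

/-- symmetry of the number of pairs -/
theorem card_pairs_le [Finite H] (hc : c ∈ H) (hct : c⁻¹ * t * c = t⁻¹) (i j : Fin m) :
    (pairs H w t i j).ncard ≤ (pairs H w t j i).ncard := by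
  have key : ∀ h : G, h * t⁻¹ * h⁻¹ = (h * c⁻¹) * t * (h * c⁻¹)⁻¹ := by
    intro h
    rw [← hct, mul_inv_rev, inv_inv]
    simp only [mul_assoc]
  refine Set.ncard_le_ncard_of_injOn
    (fun x : (G ⧸ H) × H => (((x.2 : G) * t⁻¹ * (x.2 : G)⁻¹) • x.1, x.2 * (⟨c, hc⟩ : H)⁻¹)) ?_ ?_
    (finite_pairs H w t j i)
  · rintro ⟨p, h⟩ ⟨h1, h2⟩
    refine ⟨?_, ?_⟩
    · change ((h : G) * t⁻¹ * (h : G)⁻¹) • p ∈ _
      rw [mul_assoc, mul_smul, smul_mem_orbit_iff H h.2]
      exact h2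
    · change (t⁻¹ * ((h : G) * c⁻¹)⁻¹) • (((h : G) * t⁻¹ * (h : G)⁻¹) • p) ∈ _
      rw [key, ← mul_smul]
      have h3 : t⁻¹ * ((h : G) * c⁻¹)⁻¹ * ((h : G) * c⁻¹ * t * ((h : G) * c⁻¹)⁻¹) = ((h : G) * c⁻¹)⁻¹ := by
        group
      rw [h3, smul_mem_orbit_iff H (H.inv_mem (H.mul_mem h.2 (H.inv_mem hc)))]
      exact h1
  · rintro ⟨p, h⟩ - ⟨p', h'⟩ - hpq
    have h1 : h * (⟨c, hc⟩ : H)⁻¹ = h' * (⟨c, hc⟩ : H)⁻¹ := congrArg Prod.snd hpq
    have h2 : h = h' := mul_right_cancel h1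
    subst h2
    have h3 : ((h : G) * t⁻¹ * (h : G)⁻¹) • p = ((h : G) * t⁻¹ * (h : G)⁻¹) • p' := congrArg Prod.fst hpq
    rw [smul_left_cancel _ h3]

end

section

variable [Finite H] {m n : ℕ} (w : Fin m → G) (t c : G)
  (hdis : ∀ i j, w j ∈ DoubleCoset.doubleCoset (w i) (H : Set G) (H : Set G) → i = j)
  (pt : H → Fin n) (N : ℕ) (hpt : ∀ q, Nat.card {h : H // pt h = q} = N)
  (τ : Fin m → Fin n → Fin m)
  (hτ : ∀ i (h : H), w i * h * t ∈ DoubleCoset.doubleCoset (w (τ i (pt h))) (H : Set G) (H : Set G))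

omit [Finite H] in
include hdis hτ in
theorem mem_pairs_base {i j : Fin m} {h : H} :
    (t⁻¹ * (h : G)⁻¹) • pnt H (w i) ∈ orbit H (pnt H (w j)) ↔ τ i (pt h) = j := by
  have h1 : (t⁻¹ * (h : G)⁻¹) • pnt H (w i) = pnt H (w i * h * t) := by
    rw [pnt_smul]
    congr 1
    group
  rw [h1]
  have h2 := (mem_orbit_iff' H _ _).2 (hτ i h)
  have e := orbit_eq_iff.2 h2
  constructor
  · intro h3
    have e' := orbit_eq_iff.2 h3
    rw [e] at e'
    apply hdis
    rw [← mem_orbit_iff', e']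
    exact mem_orbit_self _
  · rintro rfl
    exact h2

omit [Finite H] in
include hdis hτ in
theorem card_pairs (i j : Fin m) : (pairs H w t i j).ncard =
    sz H (w i) * Nat.card {h : H // τ i (pt h) = j} := by
  have hg : ∀ p : orbit H (pnt H (w i)), ∃ g : H, g • pnt H (w i) = p := fun p => p.2
  choose g hg using hg
  have hmem : ∀ (p : orbit H (pnt H (w i))) (h : H),
      (t⁻¹ * ((g p * h : H) : G)⁻¹) • (p : G ⧸ H) = (t⁻¹ * (h : G)⁻¹) • pnt H (w i) := by
    intro p h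
    rw [← hg p]
    change (t⁻¹ * ((g p : G) * (h : G))⁻¹) • ((g p : G) • pnt H (w i)) = _
    rw [← mul_smul]
    congr 1
    group
  have e : (orbit H (pnt H (w i))) × {h : H // τ i (pt h) = j} ≃ pairs H w t i j := by
    refine Equiv.ofBijective (fun x => ⟨((x.1 : G ⧸ H), g x.1 * x.2.1), ⟨x.1.2, ?_⟩⟩) ⟨?_, ?_⟩
    · change (t⁻¹ * ((g x.1 * x.2.1 : H) : G)⁻¹) • (x.1 : G ⧸ H) ∈ _
      rw [hmem, mem_pairs_base H w t hdis pt τ hτ]
      exact x.2.2
    · rintro ⟨p, h, hh⟩ ⟨p', h', hh'⟩ hx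
      have h1 := congrArg Subtype.val hx
      have h2 : (p : G ⧸ H) = p' := congrArg Prod.fst h1
      have h3 : p = p' := Subtype.ext h2
      subst h3
      have h4 : g p * h = g p * h' := congrArg Prod.snd h1
      have h5 : h = h' := mul_left_cancel h4
      subst h5
      rfl
    · rintro ⟨⟨p, h⟩, hp, hh⟩
      refine ⟨(⟨p, hp⟩, ⟨(g ⟨p, hp⟩)⁻¹ * h, ?_⟩), ?_⟩
      · rw [← mem_pairs_base H w t hdis pt τ hτ, ← hmem ⟨p, hp⟩, mul_inv_cancel_left]
        exact hh
      · apply Subtype.ext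
        change (p, g ⟨p, hp⟩ * ((g ⟨p, hp⟩)⁻¹ * h)) = (p, h)
        rw [mul_inv_cancel_left]
  rw [← Nat.card_coe_set_eq, ← Nat.card_congr e, Nat.card_prod]
  rfl

include hpt in
theorem card_fiber (i j : Fin m) :
    Nat.card {h : H // τ i (pt h) = j} = Nat.card {q : Fin n // τ i q = j} * N := by
  have e : {h : H // τ i (pt h) = j} ≃ Σ q : {q : Fin n // τ i q = j}, {h : H // pt h = q} :=
    { toFun := fun h => ⟨⟨pt h.1, h.2⟩, ⟨h.1, rfl⟩⟩
      invFun := fun x => ⟨x.2.1, by rw [x.2.2]; exact x.1.2⟩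
      left_inv := fun h => rfl
      right_inv := by
        intro x
        obtain ⟨⟨q, hq⟩, ⟨h, hh⟩⟩ := x
        have hh' : pt h = q := hh
        subst hh'
        rfl }
  rw [Nat.card_congr e, Nat.card_sigma]
  simp only [hpt]
  rw [Finset.sum_const, Finset.card_univ, smul_eq_mul, Nat.card_eq_fintype_card]

include hdis hτ hpt in
/-- **Counting lemma**: the sizes of the double cosets satisfy the detailed balance equations. -/
theorem sz_mul_eq (hN : 0 < N) (hc : c ∈ H) (hct : c⁻¹ * t * c = t⁻¹) (i j : Fin m) :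
    sz H (w i) * Nat.card {q : Fin n // τ i q = j} = sz H (w j) * Nat.card {q : Fin n // τ j q = i} := by
  have h1 : (pairs H w t i j).ncard = (pairs H w t j i).ncard :=
    le_antisymm (card_pairs_le H w t c hc hct i j) (card_pairs_le H w t c hc hct j i)
  rw [card_pairs H w t hdis pt τ hτ, card_pairs H w t hdis pt τ hτ, card_fiber H pt N hpt,
    card_fiber H pt N hpt, ← mul_assoc, ← mul_assoc] at h1
  exact Nat.eq_of_mul_eq_mul_right hN h1

include hdis hτ hpt in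
/-- The counting lemma with given numbers of points. -/
theorem sz_mul_eq' (hN : 0 < N) (hc : c ∈ H) (hct : c⁻¹ * t * c = t⁻¹) (k : Fin m → Fin m → ℕ)
    (hk : ∀ i j, (Finset.univ.filter (fun q => τ i q = j)).card = k i j) (i j : Fin m) :
    sz H (w i) * k i j = sz H (w j) * k j i := by
  have h1 := sz_mul_eq H w t c hdis pt N hpt τ hτ hN hc hct i j
  rw [Nat.card_eq_fintype_card, Nat.card_eq_fintype_card, Fintype.card_subtype, Fintype.card_subtype,
    hk, hk] at h1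
  exact h1

end

/-! ### the fibres for a transitive permutation representation -/

section

variable {K : Type*} [Group K] {n : ℕ} (ρ : K →* Equiv.Perm (Fin n)) (b : Fin n)

/-- the stabiliser of `b`. -/
def stab : Subgroup K where
  carrier := {h | ρ h b = b}
  one_mem' := by
    change ρ 1 b = b
    rw [map_one]
    rfl
  mul_mem' := by
    intro x y hx hy
    change ρ (x * y) b = b
    rw [map_mul, Equiv.Perm.mul_apply]
    have hy' : ρ y b = b := hy
    have hx' : ρ x b = b := hx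
    rw [hy', hx']
  inv_mem' := by
    intro x hx
    change ρ x⁻¹ b = b
    rw [map_inv, Equiv.Perm.inv_eq_iff_eq]
    exact hx.symm

variable (htr : ∀ q, ∃ h, ρ h b = q)

include htr

theorem card_fiber_inv (q : Fin n) : Nat.card {h : K // (ρ h)⁻¹ b = q} = Nat.card (stab ρ b) := by
  obtain ⟨g, hg⟩ := htr q
  refine Nat.card_congr
    { toFun := fun h => ⟨h.1 * g, ?_⟩
      invFun := fun h => ⟨h.1 * g⁻¹, ?_⟩
      left_inv := fun h => Subtype.ext (mul_inv_cancel_right _ _)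
      right_inv := fun h => Subtype.ext (inv_mul_cancel_right _ _) }
  · change ρ (h.1 * g) b = b
    have h1 : (ρ h.1)⁻¹ b = q := h.2
    rw [Equiv.Perm.inv_eq_iff_eq] at h1
    rw [map_mul, Equiv.Perm.mul_apply, hg]
    exact h1.symm
  · have h1 : ρ h.1 b = b := h.2
    rw [map_mul, map_inv, mul_inv_rev, inv_inv, Equiv.Perm.mul_apply, ← hg]
    congr 1
    rw [Equiv.Perm.inv_eq_iff_eq]
    exact h1.symm

omit htr in
theorem card_stab_pos [Finite K] : 0 < Nat.card (stab ρ b) := Nat.card_pos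

end

/-- Counts of table values, kernel version: `τ i q` is given by a function on natural numbers. -/
theorem card_filter_of_cntB {m n : ℕ} (τ : Fin m → Fin n → Fin m) (f : ℕ → ℕ → ℕ)
    (hf : ∀ i q, ((τ i q : Fin m) : ℕ) = f i q) (i j : Fin m) (k : ℕ)
    (h : Cfsg.Agent.SporadicA.PermTab.cntB (fun q => Nat.beq (f i q) j) n k = true) :
    (Finset.univ.filter (fun q => τ i q = j)).card = k := by
  rw [← Cfsg.Agent.SporadicA.PermTab.card_fin_of_cntB _ n k h]
  congr 1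
  ext q
  simp only [Finset.mem_filter, Finset.mem_univ, true_and]
  rw [Nat.beq_eq, ← hf]
  exact ⟨fun h => congrArg Fin.val h, fun h => Fin.ext h⟩

end Cfsg.Agent.HN.Count
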