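import Cfsg.Prelude.Def_SporadicB
import Cfsg.Agent.HN.AutHS

set_option autoImplicit false

/-!
(A1) If `M` is normal of index 2 in `C`, contains its centraliser and is a non-split double cover of the
Higman–Sims group, then `C / ⟨τ⟩` is the automorphism group of the Higman–Sims graph.
-/

namespace Cfsg.Agent.HN.CoverHS

open Cfsg.Agent.SporadicA.PermTab Cfsg.Agent.HN.Pres Cfsg.Agent.HN.HS100 Cfsg.Agent.HN.SrgHS Equiv
open Cfsg.Agent.HN.AutBound Cfsg.Agent.HN.FixPoint Cfsg.Agent.HN.AutHS
open scoped commutatorElement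

section

variable {M : Type*} [Group M]

/-- a surjection onto `Q` with kernel the centre. -/
theorem exists_rho (h : Cfsg.IsNonsplitDoubleCover M Cfsg.Spor.HS) :
    ∃ ρ : M →* Q, Function.Surjective ρ ∧ ρ.ker = Subgroup.center M := by
  obtain ⟨-, ⟨e⟩, -⟩ := h
  obtain ⟨⟨f⟩, -⟩ := nonempty_Q
  refine ⟨((e.trans f.symm).toMonoidHom).comp (QuotientGroup.mk' (Subgroup.center M)), ?_, ?_⟩
  · exact (e.trans f.symm).surjective.comp (QuotientGroup.mk'_surjective _)
  · rw [MonoidHom.ker_comp_of_injective _ _ (e.trans f.symm).injective, QuotientGroup.ker_mk']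

theorem finite_of_cover (h : Cfsg.IsNonsplitDoubleCover M Cfsg.Spor.HS) : Finite M := by
  obtain ⟨ρ, hs, hk⟩ := exists_rho h
  have h1 : Finite ρ.ker := by
    rw [hk]
    exact Nat.finite_of_card_ne_zero (by rw [h.1]; norm_num)
  have h2 := ρ.ker.card_mul_index
  rw [Subgroup.index_ker, MonoidHom.range_eq_top.2 hs, Subgroup.card_top, card_Q, hk, h.1] at h2
  exact Nat.finite_of_card_ne_zero (by rw [← h2]; norm_num)

theorem card_cover (h : Cfsg.IsNonsplitDoubleCover M Cfsg.Spor.HS) : Nat.card M = 88704000 := by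
  obtain ⟨ρ, hs, hk⟩ := exists_rho h
  have h2 := ρ.ker.card_mul_index
  rw [Subgroup.index_ker, MonoidHom.range_eq_top.2 hs, Subgroup.card_top, card_Q, hk, h.1] at h2
  omega

/-- there is no subgroup of index 2. -/
theorem no_index_two (h : Cfsg.IsNonsplitDoubleCover M Cfsg.Spor.HS) (L : Subgroup M) : L.index ≠ 2 := by
  intro hL
  have hfin := finite_of_cover h
  have hLn : L.Normal := Subgroup.normal_of_index_eq_two hL
  obtain ⟨ρ, hs, hk⟩ := exists_rho h
  obtain ⟨-, hsimple⟩ := nonempty_Q
  -- the image of `L` is normal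
  have hmn : (L.map ρ).Normal := hLn.map ρ hs
  have hcM := card_cover h
  have hLc : Nat.card L = 44352000 := by
    have h1 := L.card_mul_index
    rw [hL, hcM] at h1
    omega
  have htop : L.map ρ = ⊤ := by
    rcases hsimple.eq_bot_or_eq_top_of_normal _ hmn with h1 | h1
    · exfalso
      have h2 : L ≤ ρ.ker := by
        rw [← Subgroup.map_eq_bot_iff]
        exact h1
      have h3 := Subgroup.card_le_of_le h2
      rw [hk, h.1, hLc] at h3
      exact absurd h3 (by norm_num)
    · exact h1
  have hcard : Nat.card (L.map ρ) = 44352000 := by rw [htop, Subgroup.card_top, card_Q]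
  apply h.2.2 L
  -- `L ∩ Z = 1`
  have hinj : Function.Injective (ρ.comp L.subtype) := by
    have h1 : Function.Surjective (ρ.comp L.subtype) := by
      intro q
      have h2 : q ∈ L.map ρ := by rw [htop]; trivial
      obtain ⟨l, hl, rfl⟩ := h2
      exact ⟨⟨l, hl⟩, rfl⟩
    exact ((Nat.bijective_iff_surjective_and_card _).2 ⟨h1, by rw [hLc, card_Q]⟩).1
  have hdis : Subgroup.center M ⊓ L = ⊥ := by
    rw [eq_bot_iff]
    rintro x ⟨hx, hxL⟩
    rw [Subgroup.mem_bot]
    have hx' : x ∈ Subgroup.center M := hx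
    rw [← hk, MonoidHom.mem_ker] at hx'
    have h1 : (ρ.comp L.subtype) ⟨x, hxL⟩ = (ρ.comp L.subtype) 1 := by
      rw [map_one]
      exact hx'
    exact congrArg Subtype.val (hinj h1)
  refine Subgroup.isComplement'_of_card_mul_and_disjoint ?_ (disjoint_iff.2 hdis)
  rw [h.1, hLc, hcM]

end

variable {C : Type*} [Group C] [Finite C]

/-- **(A1)** -/
theorem exists_pi {τ : C} (hτ : orderOf τ = 2) (hτc : ∀ c : C, c * τ = τ * c) (M : Subgroup C) (hMn : M.Normal)
    (hidx : M.index = 2) (hCM : Subgroup.centralizer (M : Set C) ≤ M)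
    (hcov : Cfsg.IsNonsplitDoubleCover M Cfsg.Spor.HS) :
    ∃ π : C →* Perm (Fin 100), π.ker = Subgroup.zpowers τ ∧ π.range = autG 100 adjA ∧ M = Q.comap π := by
  obtain ⟨ρ, hs, hk⟩ := exists_rho hcov
  -- the centre of `M`
  have hτM : τ ∈ M := hCM (Subgroup.mem_centralizer_iff.2 fun m _ => hτc m)
  have hτZ : (⟨τ, hτM⟩ : M) ∈ Subgroup.center M := by
    rw [Subgroup.mem_center_iff]
    intro m
    exact Subtype.ext (hτc m)
  have hZ : ∀ m : M, m ∈ Subgroup.center M ↔ (m : C) ∈ Subgroup.zpowers τ := by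
    have h1 : Subgroup.zpowers (⟨τ, hτM⟩ : M) = Subgroup.center M := by
      apply Subgroup.eq_of_le_of_card_ge
      · rw [Subgroup.zpowers_le]
        exact hτZ
      · rw [hcov.1, Nat.card_zpowers, Subgroup.orderOf_mk, hτ]
    intro m
    rw [← h1, Subgroup.mem_zpowers_iff, Subgroup.mem_zpowers_iff]
    constructor
    · rintro ⟨k, hk⟩
      exact ⟨k, congrArg Subtype.val hk⟩
    · rintro ⟨k, hk⟩
      exact ⟨k, Subtype.ext hk⟩
  -- the automorphism induced by `c`
  have hexists : ∀ c : C, ∃ p ∈ autG 100 adjA, ∀ m : M,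
      ((ρ (MulAut.conjNormal c m) : Q) : Perm (Fin 100)) = p * (ρ m : Q) * p⁻¹ := by
    intro c
    have hker : ∀ m : M, ρ m = 1 ↔ ρ (MulAut.conjNormal c m) = 1 := by
      intro m
      rw [← MonoidHom.mem_ker, ← MonoidHom.mem_ker, hk]
      have hfix := Subgroup.Characteristic.fixed (H := Subgroup.center M) inferInstance
        (MulAut.conjNormal c : M ≃* M)
      conv_lhs => rw [← hfix]
      rfl
    let σ1 : M →* Q := ρ.comp (MulAut.conjNormal c : M ≃* M).toMonoidHom
    have hle : ρ.ker ≤ σ1.ker := fun m hm => (hker m).1 hm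
    let e : M ⧸ ρ.ker ≃* Q := QuotientGroup.quotientKerEquivOfSurjective ρ hs
    let σ2 : Q →* Q := (QuotientGroup.lift ρ.ker σ1 hle).comp e.symm.toMonoidHom
    have hσ2 : ∀ m : M, σ2 (ρ m) = ρ (MulAut.conjNormal c m) := by
      intro m
      have h1 : e.symm (ρ m) = (m : M ⧸ ρ.ker) := by
        rw [MulEquiv.symm_apply_eq]
        rfl
      change QuotientGroup.lift ρ.ker σ1 hle (e.symm (ρ m)) = _
      rw [h1]
      rfl
    have hsurj : Function.Surjective σ2 := by
      intro q
      obtain ⟨m, rfl⟩ := hs q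
      obtain ⟨m', rfl⟩ := (MulAut.conjNormal c : M ≃* M).surjective m
      exact ⟨ρ m', hσ2 m'⟩
    have hbij : Function.Bijective σ2 := Finite.surjective_iff_bijective.1 hsurj
    obtain ⟨p, hp, hp2⟩ := exists_perm (MulEquiv.ofBijective σ2 hbij)
    refine ⟨p, hp, fun m => ?_⟩
    rw [← hp2 (ρ m)]
    exact congrArg Subtype.val (hσ2 m).symm
  choose f hf1 hf2 using hexists
  -- uniqueness
  have huniq : ∀ p q : Perm (Fin 100), (∀ m : M, p * (ρ m : Q) * p⁻¹ = q * (ρ m : Q) * q⁻¹) → p = q := by
    intro p q h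
    have h1 : q⁻¹ * p = 1 := by
      apply eq_one_of_comm
      intro r hr
      obtain ⟨m, hm⟩ := hs ⟨r, hr⟩
      have h2 := h m
      rw [hm] at h2
      change p * r * p⁻¹ = q * r * q⁻¹ at h2
      calc q⁻¹ * p * r = q⁻¹ * (p * r * p⁻¹) * p := by group
        _ = q⁻¹ * (q * r * q⁻¹) * p := by rw [h2]
        _ = r * (q⁻¹ * p) := by group
    have h3 : p = q * (q⁻¹ * p) := by group
    rw [h3, h1, mul_one]
  let π : C →* Perm (Fin 100) := MonoidHom.mk' f (by
    intro a b
    apply huniq
    intro m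
    rw [← hf2, map_mul, MulAut.mul_apply, hf2, hf2, mul_inv_rev]
    group)
  have hπ : ∀ (c : C) (m : M), ((ρ (MulAut.conjNormal c m) : Q) : Perm (Fin 100)) = π c * (ρ m : Q) * (π c)⁻¹ := hf2
  have hπM : ∀ m : M, π m = (ρ m : Q) := by
    intro m
    apply huniq
    intro n
    rw [← hπ]
    have h1 : MulAut.conjNormal (m : C) n = m * n * m⁻¹ := by
      apply Subtype.ext
      rw [MulAut.conjNormal_apply]
      rfl
    rw [h1, map_mul, map_mul, map_inv]
    rfl
  have hker : π.ker = Subgroup.zpowers τ := by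
    apply le_antisymm
    · intro c hc
      rw [MonoidHom.mem_ker] at hc
      have h1 : ∀ m : M, ρ (MulAut.conjNormal c m) = ρ m := by
        intro m
        apply Subtype.ext
        rw [hπ, hc, one_mul, inv_one, mul_one]
      -- the commutator map is a homomorphism
      have h2 : ∀ m : M, MulAut.conjNormal c m * m⁻¹ ∈ Subgroup.center M := by
        intro m
        rw [← hk, MonoidHom.mem_ker, map_mul, map_inv, h1, mul_inv_cancel]
      let χ : M →* Subgroup.center M := MonoidHom.mk' (fun m => ⟨MulAut.conjNormal c m * m⁻¹, h2 m⟩) (by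
        intro a b
        apply Subtype.ext
        change MulAut.conjNormal c (a * b) * (a * b)⁻¹ = (MulAut.conjNormal c a * a⁻¹) * (MulAut.conjNormal c b * b⁻¹)
        have h3 := Subgroup.mem_center_iff.1 (h2 b) a⁻¹
        rw [map_mul, mul_inv_rev]
        calc MulAut.conjNormal c a * MulAut.conjNormal c b * (b⁻¹ * a⁻¹)
            = MulAut.conjNormal c a * ((MulAut.conjNormal c b * b⁻¹) * a⁻¹) := by group
          _ = MulAut.conjNormal c a * (a⁻¹ * (MulAut.conjNormal c b * b⁻¹)) := by rw [h3]
          _ = _ := by group)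
      have h4 : χ.ker = ⊤ := by
        by_contra hne
        have h5 : χ.ker.index = 2 := by
          have h6 : χ.ker.index ∣ 2 := by
            rw [Subgroup.index_ker, ← hcov.1]
            exact Subgroup.card_subgroup_dvd_card _
          rcases (Nat.dvd_prime Nat.prime_two).1 h6 with h7 | h7
          · exact absurd (Subgroup.index_eq_one.1 h7) hne
          · exact h7
        exact no_index_two hcov _ h5
      have h5 : c ∈ Subgroup.centralizer (M : Set C) := by
        rw [Subgroup.mem_centralizer_iff]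
        intro m hm
        have h6 : (⟨m, hm⟩ : M) ∈ χ.ker := by rw [h4]; trivial
        rw [MonoidHom.mem_ker] at h6
        have h7 : MulAut.conjNormal c (⟨m, hm⟩ : M) * (⟨m, hm⟩ : M)⁻¹ = 1 := congrArg Subtype.val h6
        rw [mul_inv_eq_one] at h7
        have h8 := congrArg Subtype.val h7
        rw [MulAut.conjNormal_apply] at h8
        change c * m * c⁻¹ = m at h8
        rw [mul_inv_eq_iff_eq_mul] at h8
        exact h8.symm
      have h6 : c ∈ M := hCM h5
      refine (hZ ⟨c, h6⟩).1 ?_
      rw [Subgroup.mem_center_iff]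
      intro m
      exact Subtype.ext (Subgroup.mem_centralizer_iff.1 h5 m m.2)
    · rw [Subgroup.zpowers_le, MonoidHom.mem_ker]
      have h1 := hπM ⟨τ, hτM⟩
      change π τ = _ at h1
      rw [h1]
      have h2 : (⟨τ, hτM⟩ : M) ∈ ρ.ker := by rw [hk]; exact hτZ
      rw [MonoidHom.mem_ker.1 h2]
      rfl
  have hcC : Nat.card C = 177408000 := by
    have h1 := M.card_mul_index
    rw [hidx, card_cover hcov] at h1
    omega
  have hrange : π.range = autG 100 adjA := by
    apply Subgroup.eq_of_le_of_card_ge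
    · rintro _ ⟨c, rfl⟩
      exact hf1 c
    · have h1 := π.ker.card_mul_index
      rw [Subgroup.index_ker, hker, Nat.card_zpowers, hτ, hcC] at h1
      rw [card_autG]
      omega
  refine ⟨π, hker, hrange, ?_⟩
  apply Subgroup.eq_of_le_of_card_ge
  · intro m hm
    rw [Subgroup.mem_comap]
    have h1 := hπM ⟨m, hm⟩
    change π m = _ at h1
    rw [h1]
    exact Subtype.property _
  · have h1 := (Q.comap π).card_mul_index
    have h2 : (Q.comap π).index ≠ 1 := by
      intro h3
      rw [Subgroup.index_eq_one] at h3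
      have h4 : autG 100 adjA ≤ Q := by
        rw [← hrange]
        rintro _ ⟨c, rfl⟩
        have : c ∈ Q.comap π := by rw [h3]; trivial
        exact this
      have h5 := Subgroup.card_le_of_le h4
      rw [card_autG, card_Q] at h5
      exact absurd h5 (by norm_num)
    have h3 : (Q.comap π).index ≠ 0 := Subgroup.index_ne_zero_of_finite
    have h4 : 2 ≤ (Q.comap π).index := by omega
    rw [hcC] at h1
    rw [card_cover hcov]
    nlinarith

end Cfsg.Agent.HN.CoverHS
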