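import Cfsg.Agent.HN.SignSplit

set_option autoImplicit false

/-!
Conclusion: in a central extension `C` of `⟨X, Y, Z⟩` by an involution `τ` whose even part does not
split there are generators `x, y, z` over `X, Y, Z` with `x² = τ`, satisfying the relations `Rels` or their
isoclinic variant `RelsI`.
-/

namespace Cfsg.Agent.HN.SignSplit2

open Cfsg.Agent.HN.Pres Cfsg.Agent.HN.HS100 Cfsg.Agent.HN.U35 Cfsg.Agent.HN.U35P
  Cfsg.Agent.HN.SignSplit Cfsg.Agent.HN.MaskOrbit Equiv Subgroup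
open scoped commutatorElement

universe u

/-- the coset bound. -/
def IdxBound : Prop := ∀ (G : Type u) [Group G] (x y z : G), Rels x y z →
  Nat.card (closure ({x, y, z} : Set G)) ≤ 352 * Nat.card (closure ({x, y} : Set G))

theorem X_not_mem_U0 : X ∉ U0 := by
  rw [U0_eq]
  rintro ⟨-, h⟩
  revert h
  unfold Maps
  decide +kernel

theorem core {P : Type u} [Group P] [Finite P] (hb : IdxBound.{u}) {x y z : P} (hr : Rels x y z)
    (F : P →* Perm (Fin 100)) (hx : F x = X) (hy : F y = Y) (hz : F z = Z)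
    (hc : Nat.card (closure ({x, y} : Set P)) ≤ 252000) :
    (∀ p ∈ closure ({x, y, z} : Set P), F p = 1 → p = 1) ∧
      ∀ q ∈ φ.range, ∃ p ∈ closure ({x, y, z} : Set P), F p = q := by
  set E := closure ({x, y, z} : Set P) with hE
  have h1 : E.map F = φ.range := by
    rw [hE, MonoidHom.map_closure, range_closure]
    congr 1
    ext g
    simp only [Set.mem_image, Set.mem_insert_iff, Set.mem_singleton_iff]
    constructor
    · rintro ⟨a, rfl | rfl | rfl, rfl⟩
      · exact Or.inl hx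
      · exact Or.inr (Or.inl hy)
      · exact Or.inr (Or.inr hz)
    · rintro (rfl | rfl | rfl)
      · exact ⟨_, Or.inl rfl, hx⟩
      · exact ⟨_, Or.inr (Or.inl rfl), hy⟩
      · exact ⟨_, Or.inr (Or.inr rfl), hz⟩
  have h2 : Nat.card E ≤ 88704000 := by
    have h0 : Nat.card E ≤ 352 * Nat.card (closure ({x, y} : Set P)) := hb P x y z hr
    exact h0.trans ((Nat.mul_le_mul_left 352 hc).trans (by norm_num))
  have h3 : Nat.card (E.map F) = 88704000 := by rw [h1]; exact AutBound.card_range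
  have h4 : Function.Surjective (F.subgroupMap E) := F.subgroupMap_surjective E
  have h5 : Function.Bijective (F.subgroupMap E) :=
    h4.bijective_of_nat_card_le (by rw [h3]; exact h2)
  constructor
  · intro p hp hp1
    have h6 : F.subgroupMap E ⟨p, hp⟩ = F.subgroupMap E 1 := by
      apply Subtype.ext
      change F p = F 1
      rw [hp1, map_one]
    exact congrArg Subtype.val (h5.1 h6)
  · intro q hq
    rw [← h1] at hq
    exact hq

variable {C : Type u} [Group C] {τ : C} {π : C →* Perm (Fin 100)}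

theorem card_D (h : Ext τ π) : Nat.card (D π) = 126000 := by
  rw [← card_U0]
  refine Nat.card_congr (Equiv.ofBijective (fun g : D π => (⟨π g, ?_⟩ : U0)) ⟨?_, ?_⟩)
  · rw [← map_D h]; exact ⟨g, g.2, rfl⟩
  · intro a b hab
    have h1 : π a = π b := congrArg Subtype.val hab
    have h2 : π ((a : C)⁻¹ * b) = 1 := by rw [map_mul, map_inv, h1, inv_mul_cancel]
    have h3 := eq_one_of_D h (mul_mem (inv_mem a.2) b.2) h2
    exact Subtype.ext (inv_mul_eq_one.1 h3)
  · rintro ⟨g, hg⟩
    rw [← map_D h] at hg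
    obtain ⟨d, hd, rfl⟩ := hg
    exact ⟨⟨d, hd⟩, rfl⟩

theorem card_closure_xy_le [Finite C] (h : Ext τ π) {x y : C} (hx : π x = X) (hy : y ∈ D π)
    (hx2 : x ^ 2 = 1) : Nat.card (closure ({x, y} : Set C)) ≤ 252000 := by
  have hxx : x * x = 1 := by rw [← pow_two]; exact hx2
  have hxi : x⁻¹ = x := inv_eq_of_mul_eq_one_left hxx
  have h2 : ∀ g ∈ D π, x⁻¹ * g * x ∈ D π := fun g hg => conj_D hx hg
  have h1 : ∀ g ∈ D π, x * g * x⁻¹ ∈ D π := by
    intro g hg
    have := h2 g hg
    rw [hxi] at this ⊢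
    exact this
  have h3 : x * x ∈ D π := by rw [hxx]; exact one_mem _
  have hxD : x ∉ D π := by
    intro hm
    apply X_not_mem_U0
    rw [← map_D h]
    exact ⟨x, hm, hx⟩
  have h4 := SemiSplit.card_ext h1 h2 h3 hxD
  have h5 : closure ({x, y} : Set C) ≤ SemiSplit.ext (D π) x h1 h2 h3 := by
    rw [closure_le]
    rintro g (rfl | rfl)
    · exact Or.inr (by rw [mul_inv_cancel]; exact one_mem _)
    · exact Or.inl hy
  have h6 := Subgroup.card_le_of_le h5
  rw [h4, card_D h] at h6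
  exact h6

/-- The even part splits if `x² = 1`. -/
theorem splits [Finite C] (hb : IdxBound.{u}) (h : Ext τ π) {x y z : C} (hx : π x = X)
    (hy : y ∈ D π) (hyY : π y = Y) (hz : π z = Z) (h10 : z * ((aw x y z * x) ^ 3) = 1)
    (hx2 : x ^ 2 = 1) :
    ∃ L : Subgroup C, L ≤ Q.comap π ∧ τ ∉ L ∧ ∀ q ∈ Q, ∃ l ∈ L, π l = q := by
  have hc := card_closure_xy_le h hx hy hx2
  have h1 := s1 h hy hyY
  have h2 := s2 h hx (y := y)
  have h3 := s3 h hx hy hyY
  have h4 := s4 h hx hy hyY
  have h5 := s5 h hx hy hyY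
  have h6 := s6 h hx hy hyY
  have h8 := s8 h hx hz h10
  have h9 := s9 h hx hyY hz h10
  rcases zz h hz with hzz | hzz
  · -- `z² = 1`
    rw [hzz] at h8
    have hr : Rels x y z := ⟨h1, h2, h3, h4, h5, h6, hzz, h8, h9, h10⟩
    obtain ⟨hinj, hsurj⟩ := core hb hr π hx hyY hz hc
    refine ⟨closure {x, y, z} ⊓ Q.comap π, inf_le_right, ?_, ?_⟩
    · rintro ⟨hm, -⟩
      exact h.ne (hinj τ hm h.kt)
    · intro q hq
      obtain ⟨p, hp, hpq⟩ := hsurj q (Q_le_range hq)
      exact ⟨p, ⟨hp, by change π p ∈ Q; rw [hpq]; exact hq⟩, hpq⟩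
  · -- `z² = τ`
    obtain ⟨P, _, ι, i, hι, hi, hii, hP, hlift⟩ := CentralProd.exists_cp τ h.cen h.sq
    have ci : ∀ p, Commute i p := hi
    have hfin : Finite P := by
      have hs : Function.Surjective (fun p : C × Bool => bif p.2 then ι p.1 else ι p.1 * i) := by
        intro p
        obtain ⟨c, hc | hc⟩ := hP p
        · exact ⟨(c, true), hc.symm⟩
        · exact ⟨(c, false), hc.symm⟩
      exact Finite.of_surjective _ hs
    obtain ⟨F, hF, hFi⟩ := hlift (Perm (Fin 100)) π 1 (fun c => by rw [mul_one, one_mul])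
      (by rw [one_mul, h.kt])
    obtain ⟨S, hS, hSi⟩ := hlift ℤˣ (Perm.sign.comp π) (-1) (fun c => mul_comm _ _)
      (by rw [MonoidHom.comp_apply, h.kt, map_one]; decide)
    have hi4 : i * i * (i * i) = 1 := by rw [hii, ← map_mul, h.sq, map_one]
    -- the relations for `ι x, ι y, ι z * i`
    have e7 : (ι z * i) ^ 2 = 1 := by
      rw [((ci (ι z)).symm).mul_pow, ← map_pow, hzz, pow_two, hii, ← map_mul, h.sq, map_one]
    have e8 : (ι z * i * ι x) ^ 2 = 1 := by
      have e : ι z * i * ι x = ι (z * x) * i := by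
        rw [mul_assoc, (ci (ι x)).eq, ← mul_assoc, map_mul]
      rw [e, ((ci (ι (z * x))).symm).mul_pow, ← map_pow, h8, hzz, pow_two, hii, ← map_mul, h.sq,
        map_one]
    have e9 : ((ι z * i)⁻¹ * (ι y * ι x * ι y * ι x * (ι y ^ 2) * ι x * (ι y)⁻¹)⁻¹ * (ι z * i) *
        (ι y * ι x * ι y * ι x * (ι y ^ 2) * ι x * (ι y)⁻¹)) * ((ι x ^ 2)⁻¹) = 1 := by
      have e := congrArg ι h9
      simp only [map_mul, map_pow, map_inv, map_one] at e
      rw [← e]
      set w := ι y * ι x * ι y * ι x * (ι y ^ 2) * ι x * (ι y)⁻¹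
      have e' : (ι z * i)⁻¹ * w⁻¹ * (ι z * i) * w = (ι z)⁻¹ * w⁻¹ * ι z * w := by
        have c1 : i⁻¹ * ((ι z)⁻¹ * w⁻¹ * ι z) = ((ι z)⁻¹ * w⁻¹ * ι z) * i⁻¹ :=
          ((ci ((ι z)⁻¹ * w⁻¹ * ι z)).inv_left).eq
        calc (ι z * i)⁻¹ * w⁻¹ * (ι z * i) * w = i⁻¹ * ((ι z)⁻¹ * w⁻¹ * ι z) * i * w := by
              rw [mul_inv_rev]; simp only [mul_assoc]
          _ = ((ι z)⁻¹ * w⁻¹ * ι z) * i⁻¹ * i * w := by rw [c1]
          _ = (ι z)⁻¹ * w⁻¹ * ι z * w := by rw [inv_mul_cancel_right]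
      rw [e']
    have e10 : (ι z * i) * (((((ι y ^ 3) * ι x * ι y * ι x * ι y)⁻¹ * (ι z * i) *
        ((ι y ^ 3) * ι x * ι y * ι x * ι y)) * ι x) ^ 3) = 1 := by
      have e := congrArg ι h10
      simp only [aw, map_mul, map_pow, map_inv, map_one] at e
      set g := (ι y ^ 3) * ι x * ι y * ι x * ι y
      have e' : g⁻¹ * (ι z * i) * g * ι x = (g⁻¹ * ι z * g * ι x) * i := by
        calc g⁻¹ * (ι z * i) * g * ι x = g⁻¹ * ι z * (i * (g * ι x)) := by simp only [mul_assoc]
          _ = g⁻¹ * ι z * ((g * ι x) * i) := by rw [(ci (g * ι x)).eq]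
          _ = (g⁻¹ * ι z * g * ι x) * i := by simp only [mul_assoc]
      rw [e', ((ci _).symm).mul_pow]
      calc ι z * i * ((g⁻¹ * ι z * g * ι x) ^ 3 * i ^ 3)
          = ι z * (i * (g⁻¹ * ι z * g * ι x) ^ 3) * i ^ 3 := by simp only [mul_assoc]
        _ = ι z * ((g⁻¹ * ι z * g * ι x) ^ 3 * i) * i ^ 3 := by rw [(ci _).eq]
        _ = (ι z * (g⁻¹ * ι z * g * ι x) ^ 3) * (i * i ^ 3) := by simp only [mul_assoc]
        _ = 1 := by
          rw [e, one_mul]
          simp only [pow_succ, pow_zero, one_mul]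
          rw [← hi4]
          simp only [mul_assoc]
    have m1 := congrArg ι h1
    have m2 := congrArg ι h2
    have m3 := congrArg ι h3
    have m4 := congrArg ι h4
    have m5 := congrArg ι h5
    have m6 := congrArg ι h6
    simp only [map_mul, map_pow, map_inv, map_one] at m1 m2 m3 m4 m5 m6
    have hr : Rels (ι x) (ι y) (ι z * i) := ⟨m1, m2, m3, m4, m5, m6, e7, e8, e9, e10⟩
    have hc' : Nat.card (closure ({ι x, ι y} : Set P)) ≤ 252000 := by
      have e : closure ({ι x, ι y} : Set P) = (closure ({x, y} : Set C)).map ι := by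
        rw [MonoidHom.map_closure, Set.image_pair]
      rw [e]
      exact (Nat.card_le_card_of_surjective _ (ι.subgroupMap_surjective _)).trans hc
    obtain ⟨hinj, hsurj⟩ := core hb hr F (by rw [hF, hx]) (by rw [hF, hyY])
      (by rw [map_mul, hF, hFi, mul_one, hz]) hc'
    refine ⟨(closure {ι x, ι y, ι z * i}).comap ι ⊓ Q.comap π, inf_le_right, ?_, ?_⟩
    · rintro ⟨hm, -⟩
      have h7 : ι τ = 1 := hinj _ hm (by rw [hF]; exact h.kt)
      exact h.ne (hι (by rw [h7, map_one]))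
    · intro q hq
      obtain ⟨p, hp, hpq⟩ := hsurj q (Q_le_range hq)
      have hSp : S p = 1 := by
        have h7 : closure {ι x, ι y, ι z * i} ≤ S.ker := by
          rw [closure_le]
          rintro g (rfl | rfl | rfl)
          · change S _ = 1
            rw [hS, MonoidHom.comp_apply, hx, sign_X]
          · change S _ = 1
            rw [hS, MonoidHom.comp_apply, hyY, sign_Y]
          · change S _ = 1
            rw [map_mul, hS, hSi, MonoidHom.comp_apply, hz, sign_Z]
            decide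
        exact h7 hp
      obtain ⟨c, hc1 | hc1⟩ := hP p
      · subst hc1
        rw [hF] at hpq
        exact ⟨c, ⟨hp, by change π c ∈ Q; rw [hpq]; exact hq⟩, hpq⟩
      · exfalso
        subst hc1
        rw [map_mul, hF, hFi, mul_one] at hpq
        rw [map_mul, hS, hSi, MonoidHom.comp_apply, hpq, AutBound.sign_Q hq] at hSp
        revert hSp
        decide

/-- **Generators of the extension.** -/
theorem exists_gens [Finite C] (hb : IdxBound.{u}) (h : Ext τ π)
    (hns : ∀ L : Subgroup C, L ≤ Q.comap π → τ ∉ L → ¬ ∀ q ∈ Q, ∃ l ∈ L, π l = q) :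
    ∃ x y z : C, π x = X ∧ π y = Y ∧ π z = Z ∧ x ^ 2 = τ ∧ closure ({x, y, z} : Set C) = ⊤ ∧
      (Rels x y z ∨ RelsI x y z) := by
  obtain ⟨y, hy, hyY⟩ := exists_y h
  obtain ⟨z, hz⟩ := h.lift Z_mem_range
  obtain ⟨x, hx, h10⟩ := exists_x h hyY hz
  have hxx : x ^ 2 = τ := by
    rcases xx h hx with h1 | h1
    · exfalso
      obtain ⟨L, h2, h3, h4⟩ := splits hb h hx hy hyY hz h10 h1
      exact hns L h2 h3 h4
    · exact h1
  have h1 := s1 h hy hyY
  have h2 := s2 h hx (y := y)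
  have h3 := s3 h hx hy hyY
  have h4 := s4 h hx hy hyY
  have h5 := s5 h hx hy hyY
  have h6 := s6 h hx hy hyY
  have h8 := s8 h hx hz h10
  have h9 := s9 h hx hyY hz h10
  refine ⟨x, y, z, hx, hyY, hz, hxx, ?_, ?_⟩
  · rw [eq_top_iff]
    intro c _
    set E := closure ({x, y, z} : Set C) with hE
    have hxE : x ∈ E := subset_closure (Or.inl rfl)
    have hτE : τ ∈ E := by rw [← hxx]; exact pow_mem hxE 2
    have e1 : E.map π = φ.range := by
      rw [hE, MonoidHom.map_closure, range_closure]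
      congr 1
      ext g
      simp only [Set.mem_image, Set.mem_insert_iff, Set.mem_singleton_iff]
      constructor
      · rintro ⟨a, rfl | rfl | rfl, rfl⟩
        · exact Or.inl hx
        · exact Or.inr (Or.inl hyY)
        · exact Or.inr (Or.inr hz)
      · rintro (rfl | rfl | rfl)
        · exact ⟨_, Or.inl rfl, hx⟩
        · exact ⟨_, Or.inr (Or.inl rfl), hyY⟩
        · exact ⟨_, Or.inr (Or.inr rfl), hz⟩
    have e2 : π c ∈ E.map π := by
      rw [e1, ← h.range]
      exact ⟨c, rfl⟩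
    obtain ⟨l, hl, hlc⟩ := e2
    rcases h.eq_or hlc with e3 | e3
    · rw [← e3]; exact hl
    · have e4 : c = l * τ := by
        rw [e3, mul_assoc, h.sq, mul_one]
      rw [e4]
      exact mul_mem hl hτE
  · rcases zz h hz with hzz | hzz
    · rw [hzz] at h8
      exact Or.inl ⟨h1, h2, h3, h4, h5, h6, hzz, h8, h9, h10⟩
    · rw [hzz] at h8
      exact Or.inr ⟨h1, h2, h3, h4, h5, h6, by rw [hzz, hxx], by rw [h8, hxx], h9, h10⟩

end Cfsg.Agent.HN.SignSplit2
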