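import Cfsg.Prelude.Def_Spor_HN

set_option autoImplicit false

/-!
The group `H0` presented on `x, y, z` by the ten relators of `Cfsg.Spor.HN` which do not involve `t`,
and its map to `Cfsg.Spor.HN`.
-/

namespace Cfsg.Agent.HN.Pres

open Cfsg Cfsg.Spor

/-- three generators -/
inductive G3
  | x
  | y
  | z
  deriving DecidableEq

/-- the generator x as a word -/ abbrev x : FreeGroup G3 := FreeGroup.of G3.x
/-- the generator y as a word -/ abbrev y : FreeGroup G3 := FreeGroup.of G3.y
/-- the generator z as a word -/ abbrev z : FreeGroup G3 := FreeGroup.of G3.z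

/-- the relators -/
def relsL : List (FreeGroup G3) := [
  y ^ 6,
  (x ^ 2) * y * (x ^ 2) * (y⁻¹),
  (x⁻¹ * y⁻¹ * x * y) ^ 3,
  ((x⁻¹) * (y ^ 2) * x * (y ^ 3)) ^ 3,
  (x * y) ^ 8,
  (x * y * x * (y ^ 3)) ^ 4,
  z ^ 2,
  (z * x) ^ 2,
  (z⁻¹ * (y * x * y * x * (y ^ 2) * x * (y⁻¹))⁻¹ * z * (y * x * y * x * (y ^ 2) * x * (y⁻¹))) * ((x ^ 2)⁻¹),
  z * (((((y ^ 3) * x * y * x * y)⁻¹ * z * ((y ^ 3) * x * y * x * y)) * x) ^ 3)]

/-- the group presented on x, y, z -/
abbrev H0 : Type := PresentedGroup {r | r ∈ relsL}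

/-- generator of `H0` -/
def gx : H0 := PresentedGroup.of G3.x
/-- generator of `H0` -/
def gy : H0 := PresentedGroup.of G3.y
/-- generator of `H0` -/
def gz : H0 := PresentedGroup.of G3.z

theorem closure_gens : Subgroup.closure ({gx, gy, gz} : Set H0) = ⊤ := by
  rw [← PresentedGroup.closure_range_of]
  congr 1
  ext g
  constructor
  · rintro (rfl | rfl | rfl)
    · exact ⟨G3.x, rfl⟩
    · exact ⟨G3.y, rfl⟩
    · exact ⟨G3.z, rfl⟩
  · rintro ⟨i, rfl⟩
    cases i
    · exact Or.inl rfl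
    · exact Or.inr (Or.inl rfl)
    · exact Or.inr (Or.inr rfl)

/-- The relations hold for the images of `x, y, z` in a group. -/
structure Rels {G : Type*} [Group G] (X Y Z : G) : Prop where
  r1 : Y ^ 6 = 1
  r2 : (X ^ 2) * Y * (X ^ 2) * (Y⁻¹) = 1
  r3 : (X⁻¹ * Y⁻¹ * X * Y) ^ 3 = 1
  r4 : ((X⁻¹) * (Y ^ 2) * X * (Y ^ 3)) ^ 3 = 1
  r5 : (X * Y) ^ 8 = 1
  r6 : (X * Y * X * (Y ^ 3)) ^ 4 = 1
  r7 : Z ^ 2 = 1
  r8 : (Z * X) ^ 2 = 1
  r9 : (Z⁻¹ * (Y * X * Y * X * (Y ^ 2) * X * (Y⁻¹))⁻¹ * Z * (Y * X * Y * X * (Y ^ 2) * X * (Y⁻¹))) *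
    ((X ^ 2)⁻¹) = 1
  r10 : Z * (((((Y ^ 3) * X * Y * X * Y)⁻¹ * Z * ((Y ^ 3) * X * Y * X * Y)) * X) ^ 3) = 1

/-- assignment of the three generators -/
def asg {G : Type*} (X Y Z : G) : G3 → G
  | G3.x => X
  | G3.y => Y
  | G3.z => Z

/-- The homomorphism from `H0` given by three elements satisfying the relations. -/
def lift {G : Type*} [Group G] {X Y Z : G} (h : Rels X Y Z) : H0 →* G :=
  PresentedGroup.toGroup (f := asg X Y Z) (by
    intro r hr
    simp only [relsL, Set.mem_ofPred_eq, List.mem_cons, List.not_mem_nil, or_false] at hr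
    rcases hr with rfl | rfl | rfl | rfl | rfl | rfl | rfl | rfl | rfl | rfl
    · simpa only [map_mul, map_pow, map_inv, FreeGroup.lift_apply_of, asg] using h.r1
    · simpa only [map_mul, map_pow, map_inv, FreeGroup.lift_apply_of, asg] using h.r2
    · simpa only [map_mul, map_pow, map_inv, FreeGroup.lift_apply_of, asg] using h.r3
    · simpa only [map_mul, map_pow, map_inv, FreeGroup.lift_apply_of, asg] using h.r4
    · simpa only [map_mul, map_pow, map_inv, FreeGroup.lift_apply_of, asg] using h.r5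
    · simpa only [map_mul, map_pow, map_inv, FreeGroup.lift_apply_of, asg] using h.r6
    · simpa only [map_mul, map_pow, map_inv, FreeGroup.lift_apply_of, asg] using h.r7
    · simpa only [map_mul, map_pow, map_inv, FreeGroup.lift_apply_of, asg] using h.r8
    · simpa only [map_mul, map_pow, map_inv, FreeGroup.lift_apply_of, asg] using h.r9
    · simpa only [map_mul, map_pow, map_inv, FreeGroup.lift_apply_of, asg] using h.r10)

theorem lift_gx {G : Type*} [Group G] {X Y Z : G} (h : Rels X Y Z) : lift h gx = X :=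
  PresentedGroup.toGroup.of _

theorem lift_gy {G : Type*} [Group G] {X Y Z : G} (h : Rels X Y Z) : lift h gy = Y :=
  PresentedGroup.toGroup.of _

theorem lift_gz {G : Type*} [Group G] {X Y Z : G} (h : Rels X Y Z) : lift h gz = Z :=
  PresentedGroup.toGroup.of _

/-- the relations hold in `H0`. -/
theorem rels_H0 : Rels gx gy gz := by
  have key : ∀ r ∈ relsL, PresentedGroup.mk {r | r ∈ relsL} r = 1 :=
    fun r hr => PresentedGroup.one_of_mem hr
  constructor
  all_goals
    first
    | exact key _ (by simp [relsL])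

/-- The element of the presented group `HN` given by `x`. -/
def hx : Cfsg.Spor.HN := PresentedGroup.of HN.Gen.x
/-- The element of the presented group `HN` given by `y`. -/
def hy : Cfsg.Spor.HN := PresentedGroup.of HN.Gen.y
/-- The element of the presented group `HN` given by `z`. -/
def hz : Cfsg.Spor.HN := PresentedGroup.of HN.Gen.z
/-- The element of the presented group `HN` given by `t`. -/
def ht : Cfsg.Spor.HN := PresentedGroup.of HN.Gen.t

theorem mk_extra {r : FreeGroup HN.Gen} (hr : r ∈ HN.extra) :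
    PresentedGroup.mk (coxRelators HN.edges ∪ {r | r ∈ HN.extra}) r = 1 :=
  PresentedGroup.one_of_mem (Or.inr hr)

theorem rels_HN : Rels hx hy hz := by
  constructor
  all_goals
    first
    | exact mk_extra (by simp [HN.extra])

end Cfsg.Agent.HN.Pres
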