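import Cfsg.Agent.HN.UpHChk0
import Cfsg.Agent.HN.UpHChk1

set_option autoImplicit false
set_option maxRecDepth 100000

namespace Cfsg.Agent.HN.UpHAll

open Cfsg.Agent.SporadicRecognition.CosetCert Cfsg.Agent.HN.UpHData

theorem part : Part C 0 C.N 352 := (Cfsg.Agent.HN.UpHChk0.all).append C Cfsg.Agent.HN.UpHChk1.all

end Cfsg.Agent.HN.UpHAll
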