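import Cfsg.Agent.HN.UpQ
import Cfsg.Agent.HN.UpHAll
import Cfsg.Agent.HN.Pres

/-!
# The subgroup `⟨x, y, z⟩` of the presented Harada-Norton group has order at most 177408000

For elements `x, y, z` of an arbitrary group satisfying the ten relators in `x, y, z`:
`⟨x, y⟩` has order at most 504000 and `⟨x, y, z⟩` has order at most `352 * |⟨x, y⟩|`.
-/

set_option autoImplicit false
set_option maxRecDepth 100000

namespace Cfsg.Agent.HN.Upper

open Cfsg.Agent.HN.UpXY Cfsg.Agent.HN.UpQ Cfsg.Agent.HN.UpNets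
open Cfsg.Agent.SporadicRecognition.CosetCert Cfsg.Agent.SporadicRecognition.CosetCertHyp
  Cfsg.Agent.SporadicRecognition.CosetChain
open Cfsg.Agent.Lib.PermNet Cfsg.Agent.Lib.PermNetOrbit

/-! ### Groups with `x ^ 2 = 1` -/

/-- The relations between `x`, `y` and `z`, with `x ^ 2 = 1`. -/
structure XYZ {G : Type*} [Group G] (x y z : G) : Prop extends XY x y where
  zz : z * z = 1
  zx : z * x = x * z
  zw : z * (y * x * y * x * y ^ 2 * x * y⁻¹) = y * x * y * x * y ^ 2 * x * y⁻¹ * z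
  r10 : z * ((((y ^ 3 * x * y * x * y)⁻¹ * z * (y ^ 3 * x * y * x * y)) * x) ^ 3) = 1

/-- the word `W` -/
def wW : List ℕ := [1,0,1,0,1,1,0,2]
/-- the word `W⁻¹` -/
def wW' : List ℕ := [1,0,2,2,0,2,0,2]

/-- blocks commuting with `z` -/
def blk : ℕ → List ℕ
  | 0 => [0]
  | 1 => wW
  | _ => wW'

section

variable {G : Type*} [Group G] {x y z : G}

theorem ev_wW : ev (ltr x y) wW = y * x * y * x * y ^ 2 * x * y⁻¹ := by
  simp only [wW, ev_cons, ev_nil, ltr, pow_two, mul_assoc, mul_one]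

theorem ev_wW' (h : XY x y) : ev (ltr x y) wW' = (ev (ltr x y) wW)⁻¹ := by
  apply eq_inv_of_mul_eq_one_right
  rw [← ev_append]
  have := ev_eq_of_check h (wW ++ wW') [] (by decide) (by decide) (by decide +kernel)
  rw [this, ev_nil]

theorem commute_blk (h : XYZ x y z) (n : ℕ) : Commute z (ev (ltr x y) (blk n)) := by
  match n with
  | 0 =>
    show Commute z (ev (ltr x y) [0])
    rw [ev_cons, ev_nil, mul_one]
    exact h.zx
  | 1 =>
    show Commute z (ev (ltr x y) wW)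
    rw [ev_wW]
    exact h.zw
  | n + 2 =>
    show Commute z (ev (ltr x y) wW')
    rw [ev_wW' h.toXY, ev_wW]
    exact Commute.inv_right h.zw

theorem commute_blks (h : XYZ x y z) (l : List ℕ) : Commute z (ev (ltr x y) (l.flatMap blk)) := by
  induction l with
  | nil => exact Commute.one_right z
  | cons a l ih =>
    rw [List.flatMap_cons, ev_append]
    exact (commute_blk h a).mul_right ih

/-! ### the central element of order three -/

/-- the word `(W x) ^ 7` -/
def wC : List ℕ := [1, 0, 1, 0, 1, 0, 1, 0, 1, 0, 1, 0, 1, 0].flatMap blk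

theorem c_cube (h : XY x y) : ev (ltr x y) wC ^ 3 = 1 := by
  have := ev_eq_of_check h (wC ++ (wC ++ wC)) [] (by decide) (by decide) (by decide +kernel)
  rw [ev_append, ev_append, ev_nil] at this
  rw [pow_succ, pow_two, mul_assoc]
  exact this

theorem c_x (h : XY x y) : SemiconjBy x (ev (ltr x y) wC) (ev (ltr x y) wC)⁻¹ := by
  have h1 := ev_eq_of_check h (wC ++ (0 :: wC)) [0] (by decide) (by decide) (by decide +kernel)
  rw [ev_append, ev_cons, ev_cons, ev_nil, mul_one] at h1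
  have h2 : ltr x y 0 = x := rfl
  rw [h2] at h1
  show x * _ = _ * x
  rw [eq_inv_mul_iff_mul_eq]
  exact h1

theorem c_y (h : XY x y) : SemiconjBy y (ev (ltr x y) wC) (ev (ltr x y) wC) := by
  have h1 := ev_eq_of_check h (1 :: wC) (wC ++ [1]) (by decide) (by decide) (by decide +kernel)
  rw [ev_append, ev_cons, ev_cons, ev_nil, mul_one] at h1
  exact h1

theorem c_ne_one : ev (ltr qx qy) wC ≠ 1 := by
  intro h
  have h1 := φ_ev wC (by decide)
  rw [h, map_one] at h1
  have h2 := ptWord_eq (wok wC) 0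
  rw [← h1, Equiv.Perm.one_apply] at h2
  have h3 : Nat.beq (ptWord (wC.map net) 0) 0 = false := by decide +kernel
  rw [h2] at h3
  exact absurd h3 (by decide)

theorem c_eq_one (h : XYZ x y z) : ev (ltr x y) wC = 1 := by
  have h3 := c_cube h.toXY
  have hx := c_x h.toXY
  have hy := c_y h.toXY
  have hz : SemiconjBy z (ev (ltr x y) wC) (ev (ltr x y) wC) := commute_blks h _
  generalize ev (ltr x y) wC = c at h3 hx hy hz
  have hx' : SemiconjBy x c⁻¹ c := by
    have := hx.inv_right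
    rwa [inv_inv] at this
  have hy' : SemiconjBy y c⁻¹ c⁻¹ := hy.inv_right
  have hz' : SemiconjBy z c⁻¹ c⁻¹ := hz.inv_right
  have hy3 : SemiconjBy (y ^ 3) c c := (Commute.pow_left hy 3)
  have hV : SemiconjBy (y ^ 3 * x * y * x * y) c c :=
    (((hy3.mul_left hx').mul_left hy').mul_left hx).mul_left hy
  have hV' : SemiconjBy (y ^ 3 * x * y * x * y) c⁻¹ c⁻¹ := hV.inv_right
  have hA : SemiconjBy ((y ^ 3 * x * y * x * y)⁻¹ * z * (y ^ 3 * x * y * x * y)) c⁻¹ c⁻¹ :=
    (hV'.inv_symm_left.mul_left hz').mul_left hV'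
  have hA' : SemiconjBy ((y ^ 3 * x * y * x * y)⁻¹ * z * (y ^ 3 * x * y * x * y)) c c :=
    (hV.inv_symm_left.mul_left hz).mul_left hV
  have hB : SemiconjBy ((y ^ 3 * x * y * x * y)⁻¹ * z * (y ^ 3 * x * y * x * y) * x) c c⁻¹ :=
    hA.mul_left hx
  have hB' : SemiconjBy ((y ^ 3 * x * y * x * y)⁻¹ * z * (y ^ 3 * x * y * x * y) * x) c⁻¹ c :=
    hA'.mul_left hx'
  have hD : SemiconjBy (z * (((y ^ 3 * x * y * x * y)⁻¹ * z * (y ^ 3 * x * y * x * y) * x) ^ 3))
      c c⁻¹ := by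
    rw [pow_succ, pow_two]
    exact hz'.mul_left ((hB.mul_left hB').mul_left hB)
  rw [h.r10] at hD
  have h4 : c = c⁻¹ := by
    have : 1 * c = c⁻¹ * 1 := hD
    rwa [one_mul, mul_one] at this
  have h5 : c * c = 1 := by
    nth_rewrite 2 [h4]
    exact mul_inv_cancel c
  rw [pow_succ, pow_two, h5, one_mul] at h3
  exact h3

/-- `⟨x, y⟩` has order at most 252000. -/
theorem xy_card (h : XYZ x y z) : Finite (Subgroup.closure ({x, y} : Set G)) ∧
    Nat.card (Subgroup.closure ({x, y} : Set G)) ≤ 252000 := by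
  have := finite_Q
  refine ⟨(card_le h.toXY).1, ?_⟩
  rw [← lift_range h.toXY]
  have hc : ev (ltr qx qy) wC ∈ (lift h.toXY).ker := by
    rw [MonoidHom.mem_ker, lift_ev]
    exact c_eq_one h
  have ho : orderOf (ev (ltr qx qy) wC) = 3 :=
    orderOf_eq_prime (c_cube xyQ) c_ne_one
  have h3 : 3 ∣ Nat.card (lift h.toXY).ker := by
    rw [← ho, ← Subgroup.orderOf_mk _ hc]
    exact orderOf_dvd_natCard _
  have h4 : 3 ≤ Nat.card (lift h.toXY).ker := Nat.le_of_dvd Nat.card_pos h3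
  have h5 : Nat.card (lift h.toXY).ker * Nat.card (lift h.toXY).range = Nat.card Q := by
    rw [← Subgroup.index_ker, Subgroup.card_mul_index]
  have h6 := card_Q_le
  rw [← h5] at h6
  nlinarith [h4, h6, Nat.zero_le (Nat.card (lift h.toXY).range)]

/-! ### the index of `⟨x, y⟩` -/

/-- letters -/
def ltz (x y z : G) : ℕ → G
  | 0 => x
  | 1 => y
  | 2 => y⁻¹
  | 3 => z
  | _ => 1

theorem ltz_inv (h : XYZ x y z) (n : ℕ) (hn : n < 4) :
    linv n < 4 ∧ ltz x y z n * ltz x y z (linv n) = 1 := by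
  interval_cases n
  · exact ⟨by decide, h.r0⟩
  · exact ⟨by decide, mul_inv_cancel y⟩
  · exact ⟨by decide, inv_mul_cancel y⟩
  · exact ⟨by decide, h.zz⟩

theorem ev_ltz (w : List ℕ) (hw : ∀ n ∈ w, n < 3) : ev (ltz x y z) w = ev (ltr x y) w := by
  induction w with
  | nil => rfl
  | cons a w ih =>
    rw [ev_cons, ev_cons, ih fun n hn => hw n (List.mem_cons_of_mem _ hn)]
    congr 1
    have ha := hw a List.mem_cons_self
    interval_cases a <;> rfl

/-- `W` as an expression -/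
def eW : Ex := .m (.m (.m (.m (.m (.m (.g 1) (.g 0)) (.g 1)) (.g 0)) (.p (.g 1) 2)) (.g 0)) (.i (.g 1))

/-- `V` as an expression -/
def eV : Ex := .m (.m (.m (.m (.p (.g 1) 3) (.g 0)) (.g 1)) (.g 0)) (.g 1)

/-- further relators as expressions -/
def exsZ : List Ex :=
  [.p (.m (.g 3) (.g 0)) 2,
   .m (.m (.m (.g 3) (.i eW)) (.g 3)) eW,
   .m (.g 3) (.p (.m (.m (.m (.i eV) (.g 3)) eV) (.g 0)) 3)]

theorem exsZ_val (h : XYZ x y z) : ∀ e ∈ exsZ, e.val (ltz x y z) = 1 := by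
  intro e he
  simp only [exsZ, List.mem_cons, List.not_mem_nil, or_false] at he
  rcases he with rfl | rfl | rfl
  · show (z * x) ^ 2 = 1
    rw [pow_two, mul_assoc, ← mul_assoc x z x, ← h.zx, mul_assoc z x x, h.r0, mul_one, h.zz]
  · show z * (y * x * y * x * y ^ 2 * x * y⁻¹)⁻¹ * z * (y * x * y * x * y ^ 2 * x * y⁻¹) = 1
    have h1 : Commute z (y * x * y * x * y ^ 2 * x * y⁻¹) := h.zw
    rw [(h1.inv_right).eq, mul_assoc _ z z, h.zz, mul_one, inv_mul_cancel]
  · exact h.r10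

theorem exsZ_lt : ∀ e ∈ exsZ, e.lt 4 := by
  simp [exsZ, Ex.lt_g, Ex.lt_m, lt_pw, lt_iv, eW, eV]

theorem exsZ_ev (h : XYZ x y z) : ∀ r ∈ exsZ.map (Ex.word linv), ev (ltz x y z) r = 1 := by
  intro r hr
  obtain ⟨e, he, rfl⟩ := List.mem_map.1 hr
  rw [Ex.ev_word (k := 4) (fun n hn => ltz_inv h n hn) e (exsZ_lt e he)]
  exact exsZ_val h e he

/-- words commuting with `z`, and their expressions by blocks -/
def us : List (List ℕ × List ℕ) :=
  [([1,0,2,0,1], [1,0,1,1,1,0,1,1,0,1,1,1,0,1]),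
   ([1,0,1,1,0,1], [0,1,0,1,0,1,0,2,2,2,2,2,0,2,0,2]),
   ([1,0,1,0,1,0,1], [1,1,0,1,1,1,0,1,1,0,1,1,1,0,1]),
   ([1,0,1,0,2,0,2], [0,1,1,0,1,1,1,1,0,1,1,0,2]),
   ([1,0,1,1,1,0,2], [0,1,1,0,1,1,1,1,0,1,1,0]),
   ([2,0,1,1,1,0,1], [2,0,1,1,1,1,0,1,1,1,1,1]),
   ([2,0,2,0,1,0,1], [0,1,0,1,1,0,1,0,1,1,0,1,0,1,1]),
   ([1,0,1,0,1,1,0,2], [1]),
   ([1,0,1,0,2,2,0,1], [2,2,2,0,2,2,0,2,0,1,1,1,0,2,2]),
   ([1,0,2,2,0,1,0,1], [1,1,1,1,0,1,0,1,1,0,2,2,2,0,1]),
   ([1,1,0,2,2,0,1,1], [2,0,2,2,2,0,2,2,0,2,2,2,0,1]),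
   ([2,0,1,1,0,1,0,1], [1,1,0,1,0,2,2,2,0,1,1])]

/-- the commutator of `z` and a word -/
def cm (u : List ℕ) : List ℕ := 3 :: (u ++ (3 :: invw linv u))

theorem us_check : (us.all fun p => checkEq 9 (p.1.map net) ((p.2.flatMap blk).map net)) = true := by
  decide +kernel

theorem us_lt : ∀ p ∈ us, (∀ n ∈ p.1, n < 3) ∧ (∀ n ∈ p.2.flatMap blk, n < 3) := by
  decide +kernel

theorem cm_ev (h : XYZ x y z) (p : List ℕ × List ℕ) (hp : p ∈ us) : ev (ltz x y z) (cm p.1) = 1 := by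
  have h1 := us_lt p hp
  have h2 := ev_eq_of_check h.toXY p.1 _ h1.1 h1.2 (List.all_eq_true.1 us_check p hp)
  have h3 : Commute z (ev (ltr x y) p.1) := by
    rw [h2]
    exact commute_blks h _
  rw [cm, ev_cons, ev_append, ev_cons, ev_invw (k := 4) _ linv (fun n hn => ltz_inv h n hn) _
    (fun n hn => lt_trans (h1.1 n hn) (by norm_num)), ev_ltz _ h1.1]
  show z * (_ * (z * _)) = 1
  rw [← mul_assoc, h3.eq, mul_assoc, ← mul_assoc z z, h.zz, one_mul, mul_inv_cancel]

/-- all relators used -/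
def relsH : List (List ℕ) :=
  exsA.map (Ex.word linv) ++ (exsZ.map (Ex.word linv) ++ us.map fun p => cm p.1)

theorem relsH_ev (h : XYZ x y z) : ∀ r ∈ relsH, ev (ltz x y z) r = 1 := by
  intro r hr
  rcases List.mem_append.1 hr with hr | hr
  · obtain ⟨e, he, rfl⟩ := List.mem_map.1 hr
    rw [Ex.ev_word (k := 4) (fun n hn => ltz_inv h n hn) e (by
      have := exsA_lt e he
      simp only [exsA, List.mem_cons, List.not_mem_nil, or_false] at he
      rcases he with rfl | rfl | rfl | rfl | rfl <;> simp [Ex.lt_g, Ex.lt_m, lt_pw, lt_iv])]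
    simp only [exsA, List.mem_cons, List.not_mem_nil, or_false] at he
    rcases he with rfl | rfl | rfl | rfl | rfl
    · exact h.r1
    · exact h.r3
    · exact h.r4
    · exact h.r5
    · exact h.r6
  · rcases List.mem_append.1 hr with hr | hr
    · exact exsZ_ev h r hr
    · obtain ⟨p, hp, rfl⟩ := List.mem_map.1 hr
      exact cm_ev h p hp

theorem closure_ltz (x y z : G) :
    Subgroup.closure (ltz x y z '' {n | n < 4}) = Subgroup.closure {x, y, z} := by
  apply le_antisymm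
  · rw [Subgroup.closure_le]
    rintro _ ⟨n, hn, rfl⟩
    have hn' : n < 4 := hn
    interval_cases n
    · exact Subgroup.subset_closure (Or.inl rfl)
    · exact Subgroup.subset_closure (Or.inr (Or.inl rfl))
    · exact Subgroup.inv_mem _ (Subgroup.subset_closure (Or.inr (Or.inl rfl)))
    · exact Subgroup.subset_closure (Or.inr (Or.inr rfl))
  · apply Subgroup.closure_mono
    rintro g (rfl | rfl | rfl)
    · exact ⟨0, by decide, rfl⟩
    · exact ⟨1, by decide, rfl⟩
    · exact ⟨3, by decide, rfl⟩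

/-- `|⟨x, y, z⟩| ≤ 352 |⟨x, y⟩|`. -/
theorem xyz_card (h : XYZ x y z) : Finite (Subgroup.closure ({x, y, z} : Set G)) ∧
    Nat.card (Subgroup.closure ({x, y, z} : Set G)) ≤
      352 * Nat.card (Subgroup.closure ({x, y} : Set G)) := by
  have := (xy_card h).1
  have hyp := hyp_of_checks (Subgroup.closure {x, y}) (ltz x y z) UpHData.C relsH [[0], [1]] rfl
    (fun n hn => by
      have := ltz_inv h n hn
      have hn' : n < 4 := hn
      interval_cases n
      · exact this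
      · exact this
      · exact this
      · exact this) (relsH_ev h) (by
      intro s hs
      simp only [List.mem_cons, List.not_mem_nil, or_false] at hs
      rcases hs with rfl | rfl
      · refine Subgroup.subset_closure (Or.inl ?_)
        simp [ev, ltz]
      · refine Subgroup.subset_closure (Or.inr ?_)
        simp [ev, ltz]) (by decide +kernel)
  have hc := card_closure_le UpHData.C _ (ltz x y z) hyp UpHAll.part
  have hk : Subgroup.closure (ltz x y z '' {n | n < UpHData.C.k}) = Subgroup.closure {x, y, z} :=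
    closure_ltz x y z
  rw [hk] at hc
  exact hc

end

/-! ### The relators of Harada-Norton: `x ^ 2` is central of order at most two -/

section

variable {G : Type*} [Group G] {X Y Z : G}

open Cfsg.Agent.HN.Pres (Rels)

theorem conj_y (h : Rels X Y Z) : SemiconjBy Y (X ^ 2) (X ^ 2)⁻¹ := by
  have h1 : X ^ 2 * Y * X ^ 2 = Y := mul_inv_eq_one.1 h.r2
  show Y * X ^ 2 = (X ^ 2)⁻¹ * Y
  rw [eq_inv_mul_iff_mul_eq, ← mul_assoc, h1]

theorem sq_inv (h : Rels X Y Z) : X ^ 2 = (X ^ 2)⁻¹ := by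
  have hy := conj_y h
  have hy' : SemiconjBy Y (X ^ 2)⁻¹ (X ^ 2) := by
    have := hy.inv_right
    rwa [inv_inv] at this
  have hx : SemiconjBy X⁻¹ (X ^ 2) (X ^ 2) := (Commute.self_pow X 2).inv_left
  have hx1 : SemiconjBy X (X ^ 2) (X ^ 2) := Commute.self_pow X 2
  have hx' : SemiconjBy X⁻¹ (X ^ 2)⁻¹ (X ^ 2)⁻¹ := hx.inv_right
  have hx1' : SemiconjBy X (X ^ 2)⁻¹ (X ^ 2)⁻¹ := hx1.inv_right
  have h2 : SemiconjBy (Y ^ 2) (X ^ 2) (X ^ 2) := by
    rw [pow_two Y]; exact hy'.mul_left hy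
  have h2' : SemiconjBy (Y ^ 2) (X ^ 2)⁻¹ (X ^ 2)⁻¹ := h2.inv_right
  have h3 : SemiconjBy (Y ^ 3) (X ^ 2) (X ^ 2)⁻¹ := by
    rw [pow_succ Y 2]; exact h2'.mul_left hy
  have h3' : SemiconjBy (Y ^ 3) (X ^ 2)⁻¹ (X ^ 2) := by
    have := h3.inv_right
    rwa [inv_inv] at this
  have hq : SemiconjBy (X⁻¹ * Y ^ 2 * X * Y ^ 3) (X ^ 2) (X ^ 2)⁻¹ :=
    ((hx'.mul_left h2').mul_left hx1').mul_left h3
  have hq' : SemiconjBy (X⁻¹ * Y ^ 2 * X * Y ^ 3) (X ^ 2)⁻¹ (X ^ 2) :=
    ((hx.mul_left h2).mul_left hx1).mul_left h3'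
  have h4 : SemiconjBy ((X⁻¹ * Y ^ 2 * X * Y ^ 3) ^ 3) (X ^ 2) (X ^ 2)⁻¹ := by
    rw [pow_succ (X⁻¹ * Y ^ 2 * X * Y ^ 3) 2, pow_two (X⁻¹ * Y ^ 2 * X * Y ^ 3)]
    exact (hq.mul_left hq').mul_left hq
  have h5 : (X⁻¹ * Y ^ 2 * X * Y ^ 3) ^ 3 = 1 := h.r4
  rw [h5] at h4
  have : 1 * X ^ 2 = (X ^ 2)⁻¹ * 1 := h4
  rwa [one_mul, mul_one] at this

theorem sq_sq (h : Rels X Y Z) : (X ^ 2) ^ 2 = 1 := by
  rw [pow_two (X ^ 2)]
  nth_rewrite 2 [sq_inv h]
  exact mul_inv_cancel _

theorem comm_y (h : Rels X Y Z) : Commute Y (X ^ 2) := by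
  have := conj_y h
  rwa [← sq_inv h] at this

theorem zxz (h : Rels X Y Z) : Z * X * Z⁻¹ = X⁻¹ := by
  have h7 : Z * Z = 1 := by rw [← pow_two]; exact h.r7
  have h8 : Z * X * (Z * X) = 1 := by rw [← pow_two]; exact h.r8
  have hz : Z⁻¹ = Z := inv_eq_of_mul_eq_one_right h7
  rw [hz]
  apply eq_inv_of_mul_eq_one_left
  rw [mul_assoc]
  exact h8

theorem comm_z (h : Rels X Y Z) : Commute Z (X ^ 2) := by
  have h1 : Z * X ^ 2 * Z⁻¹ = X ^ 2 := by
    rw [← conj_pow, zxz h, inv_pow, ← sq_inv h]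
  show Z * X ^ 2 = X ^ 2 * Z
  exact mul_inv_eq_iff_eq_mul.1 h1

/-- The relations modulo `x ^ 2`. -/
theorem xyz_of_rels {G' : Type*} [Group G'] (f : G →* G') (h : Rels X Y Z) (hf : f (X ^ 2) = 1) :
    XYZ (f X) (f Y) (f Z) := by
  have hxx : f X * f X = 1 := by rw [← pow_two, ← map_pow]; exact hf
  have hxi : (f X)⁻¹ = f X := inv_eq_of_mul_eq_one_right hxx
  have hzz : f Z * f Z = 1 := by rw [← pow_two, ← map_pow, h.r7, map_one]
  have hzi : (f Z)⁻¹ = f Z := inv_eq_of_mul_eq_one_right hzz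
  refine ⟨⟨hxx, ?_, ?_, ?_, ?_, ?_⟩, hzz, ?_, ?_, ?_⟩
  · rw [← map_pow, h.r1, map_one]
  · have := congrArg f h.r3
    rw [map_one] at this
    simpa only [map_mul, map_pow, map_inv, hxi] using this
  · have := congrArg f h.r4
    rw [map_one] at this
    simpa only [map_mul, map_pow, map_inv, hxi] using this
  · have := congrArg f h.r5
    rw [map_one] at this
    simpa only [map_mul, map_pow, map_inv, hxi] using this
  · have := congrArg f h.r6
    rw [map_one] at this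
    simpa only [map_mul, map_pow, map_inv, hxi] using this
  · have := congrArg f (zxz h)
    simp only [map_mul, map_inv, hxi] at this
    exact mul_inv_eq_iff_eq_mul.1 this
  · have := congrArg f h.r9
    rw [map_mul, map_inv f (X ^ 2), hf, inv_one, mul_one, map_one] at this
    simp only [map_mul, map_pow, map_inv] at this
    rw [← map_mul] at this
    have h1 : (f Z)⁻¹ * (f Y * f X * f Y * f X * f Y ^ 2 * f X * (f Y)⁻¹)⁻¹ * f Z *
      (f Y * f X * f Y * f X * f Y ^ 2 * f X * (f Y)⁻¹) = 1 := by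
      simpa only [map_mul, map_pow, map_inv] using this
    generalize f Y * f X * f Y * f X * f Y ^ 2 * f X * (f Y)⁻¹ = W at h1
    have h2 : (W * f Z)⁻¹ * (f Z * W) = 1 := by
      rw [mul_inv_rev, ← mul_assoc]
      exact h1
    exact (inv_mul_eq_one.1 h2).symm
  · have := congrArg f h.r10
    rw [map_one] at this
    simpa only [map_mul, map_pow, map_inv] using this

end

/-! ### The bounds -/

section

variable {G : Type*} [Group G] {X Y Z : G}

open Cfsg.Agent.HN.Pres (Rels)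

/-- the orders of `N ≤ C`, of the image of `C` and of `C` -/
theorem card_of_map (N C : Subgroup G) [N.Normal] (hNC : N ≤ C) :
    Nat.card C = Nat.card (C.map (QuotientGroup.mk' N)) * Nat.card N := by
  have h1 := Subgroup.card_mul_index ((QuotientGroup.mk' N).subgroupMap C).ker
  rw [Subgroup.index_ker, MonoidHom.range_eq_top.2 (MonoidHom.subgroupMap_surjective _ _),
    Subgroup.card_top, Subgroup.ker_subgroupMap, QuotientGroup.ker_mk',
    Nat.card_congr (Subgroup.subgroupOfEquivOfLe hNC).toEquiv] at h1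
  rw [← h1, mul_comm]

theorem zpowers_normal (h : Rels X Y Z) (htop : Subgroup.closure ({X, Y, Z} : Set G) = ⊤) :
    (Subgroup.zpowers (X ^ 2)).Normal := by
  have hc : Subgroup.closure ({X, Y, Z} : Set G) ≤ Subgroup.centralizer {X ^ 2} := by
    rw [Subgroup.closure_le]
    rintro g (rfl | rfl | rfl)
    · exact Subgroup.mem_centralizer_singleton_iff.2 (Commute.self_pow _ 2).eq
    · exact Subgroup.mem_centralizer_singleton_iff.2 (comm_y h).eq
    · exact Subgroup.mem_centralizer_singleton_iff.2 (comm_z h).eq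
  rw [htop] at hc
  constructor
  rintro _ ⟨k, rfl⟩ g
  have h1 : g * X ^ 2 = X ^ 2 * g := Subgroup.mem_centralizer_singleton_iff.1 (hc (Subgroup.mem_top g))
  have h2 : Commute g ((X ^ 2) ^ k) := Commute.zpow_right h1 k
  refine ⟨k, ?_⟩
  show (X ^ 2) ^ k = g * (X ^ 2) ^ k * g⁻¹
  rw [h2.eq, mul_inv_cancel_right]

theorem zpowers_card (h : Rels X Y Z) : Finite (Subgroup.zpowers (X ^ 2)) ∧
    Nat.card (Subgroup.zpowers (X ^ 2)) ≤ 2 := by
  have h1 : orderOf (X ^ 2) ∣ 2 := orderOf_dvd_of_pow_eq_one (sq_sq h)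
  have h2 : 0 < orderOf (X ^ 2) := Nat.pos_of_dvd_of_pos h1 (by norm_num)
  constructor
  · exact (isOfFinOrder_iff_pow_eq_one.2 ⟨2, by norm_num, sq_sq h⟩).finite_zpowers
  · rw [Nat.card_zpowers]
    exact Nat.le_of_dvd (by norm_num) h1

theorem closure_map (N : Subgroup G) [N.Normal] (S : Set G) :
    (Subgroup.closure S).map (QuotientGroup.mk' N) = Subgroup.closure (QuotientGroup.mk' N '' S) :=
  MonoidHom.map_closure _ _

theorem top_case (h : Rels X Y Z) (htop : Subgroup.closure ({X, Y, Z} : Set G) = ⊤) :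
    Finite G ∧ Nat.card G ≤ 352 * Nat.card (Subgroup.closure ({X, Y} : Set G)) ∧
      Nat.card (Subgroup.closure ({X, Y} : Set G)) ≤ 504000 := by
  have hN := zpowers_normal h htop
  obtain ⟨hNf, hNc⟩ := zpowers_card h
  set N := Subgroup.zpowers (X ^ 2) with hNdef
  have hz := xyz_of_rels (QuotientGroup.mk' N) h
    ((QuotientGroup.eq_one_iff (N := N) (X ^ 2)).2 (Subgroup.mem_zpowers (X ^ 2)))
  have hC : N ≤ Subgroup.closure ({X, Y} : Set G) := by
    have hXm : X ∈ Subgroup.closure ({X, Y} : Set G) := Subgroup.subset_closure (Or.inl rfl)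
    rw [hNdef, Subgroup.zpowers_le]
    exact Subgroup.pow_mem _ hXm 2
  have h1 := card_of_map N (Subgroup.closure ({X, Y} : Set G)) hC
  have h2 := card_of_map N (⊤ : Subgroup G) le_top
  have e1 : (Subgroup.closure ({X, Y} : Set G)).map (QuotientGroup.mk' N) =
      Subgroup.closure {QuotientGroup.mk' N X, QuotientGroup.mk' N Y} := by
    rw [closure_map, Set.image_pair]
  have e2 : (⊤ : Subgroup G).map (QuotientGroup.mk' N) =
      Subgroup.closure {QuotientGroup.mk' N X, QuotientGroup.mk' N Y, QuotientGroup.mk' N Z} := by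
    rw [← htop, closure_map, Set.image_insert_eq, Set.image_pair]
  rw [e1] at h1
  rw [e2, Subgroup.card_top] at h2
  have hxy := xy_card hz
  have hxyz := xyz_card hz
  have := hxyz.1
  have hpos : 0 < Nat.card G := by
    rw [h2]
    exact Nat.mul_pos Nat.card_pos Nat.card_pos
  refine ⟨Nat.finite_of_card_ne_zero hpos.ne', ?_, ?_⟩
  · rw [h2, h1, ← mul_assoc]
    exact Nat.mul_le_mul_right _ hxyz.2
  · rw [h1]
    calc _ ≤ 252000 * 2 := Nat.mul_le_mul hxy.2 hNc
      _ = 504000 := by norm_num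

theorem all_bounds (h : Rels X Y Z) :
    Finite (Subgroup.closure ({X, Y, Z} : Set G)) ∧
    Nat.card (Subgroup.closure ({X, Y, Z} : Set G)) ≤
      352 * Nat.card (Subgroup.closure ({X, Y} : Set G)) ∧
    Nat.card (Subgroup.closure ({X, Y} : Set G)) ≤ 504000 := by
  set K := Subgroup.closure ({X, Y, Z} : Set G) with hK
  have hX : X ∈ K := Subgroup.subset_closure (Or.inl rfl)
  have hY : Y ∈ K := Subgroup.subset_closure (Or.inr (Or.inl rfl))
  have hZ : Z ∈ K := Subgroup.subset_closure (Or.inr (Or.inr rfl))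
  have hR : Rels (⟨X, hX⟩ : K) ⟨Y, hY⟩ ⟨Z, hZ⟩ := by
    constructor
    · exact Subtype.ext h.r1
    · exact Subtype.ext h.r2
    · exact Subtype.ext h.r3
    · exact Subtype.ext h.r4
    · exact Subtype.ext h.r5
    · exact Subtype.ext h.r6
    · exact Subtype.ext h.r7
    · exact Subtype.ext h.r8
    · exact Subtype.ext h.r9
    · exact Subtype.ext h.r10
  have hmap : ∀ S : Set K, Nat.card (Subgroup.closure S) =
      Nat.card (Subgroup.closure (K.subtype '' S)) := by
    intro S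
    rw [← MonoidHom.map_closure]
    exact (Subgroup.card_map_of_injective (Subgroup.subtype_injective K)).symm
  have htop : Subgroup.closure ({⟨X, hX⟩, ⟨Y, hY⟩, ⟨Z, hZ⟩} : Set K) = ⊤ := by
    apply Subgroup.map_injective (Subgroup.subtype_injective K)
    rw [MonoidHom.map_closure, Set.image_insert_eq, Set.image_pair, ← MonoidHom.range_eq_map,
      Subgroup.range_subtype]
    rfl
  obtain ⟨h1, h2, h3⟩ := top_case hR htop
  have e : Nat.card (Subgroup.closure ({⟨X, hX⟩, ⟨Y, hY⟩} : Set K)) =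
      Nat.card (Subgroup.closure ({X, Y} : Set G)) := by
    rw [hmap, Set.image_pair]
    rfl
  rw [e] at h2 h3
  exact ⟨h1, h2, h3⟩

/-- `⟨x, y⟩` is finite. -/
theorem xy_finite (h : Rels X Y Z) : Finite (Subgroup.closure ({X, Y} : Set G)) := by
  have := (all_bounds h).1
  have hle : Subgroup.closure ({X, Y} : Set G) ≤ Subgroup.closure {X, Y, Z} := by
    apply Subgroup.closure_mono
    rintro g (rfl | rfl)
    · exact Or.inl rfl
    · exact Or.inr (Or.inl rfl)
  exact Finite.of_injective _ (Subgroup.inclusion_injective hle)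

/-- `|⟨x, y⟩| ≤ 504000`. -/
theorem xy_card_le (h : Rels X Y Z) : Finite (Subgroup.closure ({X, Y} : Set G)) ∧
    Nat.card (Subgroup.closure ({X, Y} : Set G)) ≤ 504000 :=
  ⟨xy_finite h, (all_bounds h).2.2⟩

/-- `|⟨x, y, z⟩| ≤ 352 |⟨x, y⟩|`. -/
theorem xyz_card_le_mul (h : Rels X Y Z) : Nat.card (Subgroup.closure ({X, Y, Z} : Set G)) ≤
    352 * Nat.card (Subgroup.closure ({X, Y} : Set G)) :=
  (all_bounds h).2.1

/-- `|⟨x, y, z⟩| ≤ 177408000`. -/
theorem xyz_card_le (h : Rels X Y Z) : Finite (Subgroup.closure ({X, Y, Z} : Set G)) ∧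
    Nat.card (Subgroup.closure ({X, Y, Z} : Set G)) ≤ 177408000 := by
  obtain ⟨h1, h2, h3⟩ := all_bounds h
  refine ⟨h1, h2.trans ?_⟩
  calc _ ≤ 352 * 504000 := Nat.mul_le_mul_left _ h3
    _ = 177408000 := by norm_num

/-- The group `H0` presented on `x, y, z` is finite of order at most 177408000. -/
theorem card_H0_le : Finite Pres.H0 ∧ Nat.card Pres.H0 ≤ 177408000 := by
  have h := xyz_card_le Pres.rels_H0
  rw [Pres.closure_gens] at h
  refine ⟨?_, ?_⟩
  · have := h.1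
    exact Finite.of_equiv _ (Subgroup.topEquiv (G := Pres.H0)).toEquiv
  · have h2 := h.2
    rwa [Subgroup.card_top] at h2

end

end Cfsg.Agent.HN.Upper
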