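import Cfsg.Prelude.Def_SporadicB
import Cfsg.Prelude.Def_Spor_Conway
import Cfsg.Agent.HN.SignSplit2
import Cfsg.Agent.HN.Upper

set_option autoImplicit false

/-!
Generators and relations for the central extensions `2.HS.2` with non-split even part.
-/

namespace Cfsg.Agent.HN.Gens

open Cfsg.Agent.HN.Pres Cfsg.Agent.HN.HS100 Cfsg.Agent.HN.SignSplit Cfsg.Agent.HN.SignSplit2
  Cfsg.Agent.SporadicA.PermTab Equiv Subgroup

universe u

theorem idxBound : IdxBound.{u} := fun _ _ _ _ _ h => Upper.xyz_card_le_mul h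

theorem ext_of {C : Type u} [Group C] {τ : C} (hτ : orderOf τ = 2) {π : C →* Perm (Fin 100)}
    (hker : π.ker = zpowers τ) (hrange : π.range = autG 100 adjA) : Ext τ π := by
  have h2 : τ * τ = 1 := by
    have := pow_orderOf_eq_one τ
    rwa [hτ, pow_two] at this
  have hne : τ ≠ 1 := by
    intro h
    rw [h, orderOf_one] at hτ
    omega
  have hz : ∀ g, g ∈ zpowers τ ↔ g = 1 ∨ g = τ := by
    intro g
    constructor
    · rintro ⟨k, rfl⟩
      change τ ^ k = 1 ∨ τ ^ k = τ
      rcases Int.even_or_odd' k with ⟨m, hm | hm⟩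
      · left
        rw [hm, zpow_mul, zpow_ofNat, pow_two, h2, one_zpow]
      · right
        rw [hm, zpow_add, zpow_mul, zpow_ofNat, pow_two, h2, one_zpow, one_mul, zpow_one]
    · rintro (rfl | rfl)
      · exact one_mem _
      · exact mem_zpowers _
  refine ⟨hne, h2, ?_, ?_, by rw [hrange, AutBound.range_eq]⟩
  · intro g
    have h1 : g * τ * g⁻¹ ∈ zpowers τ := by
      rw [← hker, MonoidHom.mem_ker, map_mul, map_mul, map_inv]
      have : τ ∈ π.ker := by rw [hker]; exact mem_zpowers τ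
      rw [MonoidHom.mem_ker.1 this, mul_one, mul_inv_cancel]
    rcases (hz _).1 h1 with h3 | h3
    · exfalso
      apply hne
      rw [mul_inv_eq_one] at h3
      exact mul_eq_left.1 h3
    · exact mul_inv_eq_iff_eq_mul.1 h3
  · intro g
    rw [← MonoidHom.mem_ker, hker]
    exact hz g

/-- **Generators of `C = 2.HS.2`** (with non-split `2.HS = M`). -/
theorem exists_gens {C : Type u} [Group C] [Finite C] {τ : C} (hτ : orderOf τ = 2) (M : Subgroup C)
    (hcov : Cfsg.IsNonsplitDoubleCover M Cfsg.Spor.HS) {π : C →* Perm (Fin 100)}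
    (hker : π.ker = zpowers τ) (hrange : π.range = autG 100 adjA) (hM : M = Q.comap π) :
    ∃ x y z : C, π x = X ∧ π y = Y ∧ π z = Z ∧ x ^ 2 = τ ∧ closure ({x, y, z} : Set C) = ⊤ ∧
      (Rels x y z ∨ RelsI x y z) := by
  subst hM
  have h := ext_of hτ hker hrange
  refine SignSplit2.exists_gens idxBound h ?_
  intro L hL hτL hsurj
  obtain ⟨hc2, -, hcompl⟩ := hcov
  have hτM : τ ∈ Q.comap π := by
    change π τ ∈ Q
    rw [h.kt]; exact Q.one_mem
  let t : Q.comap π := ⟨τ, hτM⟩
  have ht : t ∈ center (Q.comap π) := by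
    rw [mem_center_iff]
    intro g
    exact Subtype.ext (h.cen g)
  have ht2 : t ^ 2 = 1 := Subtype.ext (by change τ ^ 2 = 1; rw [pow_two]; exact h.sq)
  have ht1 : t ≠ 1 := fun h1 => h.ne (congrArg Subtype.val h1)
  have hcen : center (Q.comap π) = zpowers t := by
    symm
    apply Subgroup.eq_of_le_of_card_ge
    · rw [zpowers_le]; exact ht
    · rw [hc2, Nat.card_zpowers, orderOf_eq_prime ht2 ht1]
  apply hcompl (L.subgroupOf (Q.comap π))
  rw [hcen]
  have hzt : ∀ g ∈ zpowers t, g = 1 ∨ g = t := by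
    rintro _ ⟨k, rfl⟩
    change t ^ k = 1 ∨ t ^ k = t
    rcases Int.even_or_odd' k with ⟨m, hm | hm⟩
    · left
      rw [hm, zpow_mul, zpow_ofNat, ht2, one_zpow]
    · right
      rw [hm, zpow_add, zpow_mul, zpow_ofNat, ht2, one_zpow, one_mul, zpow_one]
  apply Subgroup.isComplement'_of_disjoint_and_mul_eq_univ
  · rw [Subgroup.disjoint_def]
    intro g hg hgL
    rcases hzt g hg with h1 | h1
    · exact h1
    · exfalso
      subst h1
      exact hτL hgL
  · rw [Set.eq_univ_iff_forall]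
    intro g
    obtain ⟨l, hl, hlg⟩ := hsurj (π g) g.2
    have hlM : l ∈ Q.comap π := hL hl
    rcases h.eq_or hlg with h1 | h1
    · refine ⟨1, one_mem _, ⟨l, hlM⟩, hl, ?_⟩
      exact Subtype.ext (by change 1 * l = g; rw [one_mul, h1])
    · refine ⟨t, mem_zpowers t, ⟨l, hlM⟩, hl, ?_⟩
      exact Subtype.ext (by
        change τ * l = g
        rw [h1, h.cen, ← mul_assoc, h.sq, one_mul])

end Cfsg.Agent.HN.Gens
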