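import Cfsg.Agent.HN.Classes
import Cfsg.Agent.HN.Gens

set_option autoImplicit false

/-!
The isoclinic group `T`: the set `H0` with the product `g * h * τ ^ (p g p h)`, `p` the parity. Conjugation and
commutators are the same as in `H0`; the square of an odd element is multiplied by `τ`.
-/

namespace Cfsg.Agent.HN.Twist

open Cfsg.Agent.HN.Pres Cfsg.Agent.HN.HS100 Cfsg.Agent.HN.P1408 Cfsg.Agent.HN.H0Basic Cfsg.Agent.HN.PC
open Cfsg.Agent.HN.Syl Cfsg.Agent.HN.Classes
open scoped commutatorElement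

/-- The type of the twisted group. -/
def T : Type := H0

/-- the identity map -/
def ofH : H0 ≃ T := Equiv.refl H0

/-- the cocycle -/
def cc (a b : ℤˣ) : H0 := if a = -1 ∧ b = -1 then τ else 1

theorem cc_one_left (b : ℤˣ) : cc 1 b = 1 := if_neg (fun h => absurd h.1 (by decide))
theorem cc_one_right (a : ℤˣ) : cc a 1 = 1 := if_neg (fun h => absurd h.2 (by decide))
theorem cc_neg_neg : cc (-1) (-1) = τ := if_pos ⟨rfl, rfl⟩

theorem cc_comm (g : H0) (a b : ℤˣ) : g * cc a b = cc a b * g := by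
  unfold cc
  split_ifs
  · exact τ_comm g
  · rw [mul_one, one_mul]

theorem cc_mul_self (a b : ℤˣ) : cc a b * cc a b = 1 := by
  unfold cc
  split_ifs
  · exact τ_mul_τ
  · rw [one_mul]

theorem sgn_cc (a b : ℤˣ) : sgn (cc a b) = 1 := by
  unfold cc
  split_ifs
  · exact sgn_τ
  · exact map_one _

theorem cc_cocycle (a b c : ℤˣ) : cc a b * cc (a * b) c = cc b c * cc a (b * c) := by
  rcases Int.units_eq_one_or a with rfl | rfl <;> rcases Int.units_eq_one_or b with rfl | rfl <;>
    rcases Int.units_eq_one_or c with rfl | rfl <;>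
    simp only [cc_one_left, cc_one_right, one_mul, mul_one, cc_neg_neg, Int.units_mul_self]

/-- the twisted product -/
def tm (g h : H0) : H0 := g * h * cc (sgn g) (sgn h)

theorem sgn_tm (g h : H0) : sgn (tm g h) = sgn g * sgn h := by
  rw [tm, map_mul, map_mul, sgn_cc, mul_one]

theorem tm_assoc (g h k : H0) : tm (tm g h) k = tm g (tm h k) := by
  have h1 : tm (tm g h) k = g * h * k * (cc (sgn g) (sgn h) * cc (sgn g * sgn h) (sgn k)) := by
    conv_lhs => rw [tm, sgn_tm]
    rw [tm, mul_assoc (g * h), ← cc_comm k]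
    simp only [mul_assoc]
  have h2 : tm g (tm h k) = g * h * k * (cc (sgn h) (sgn k) * cc (sgn g) (sgn h * sgn k)) := by
    conv_lhs => rw [tm, sgn_tm]
    rw [tm]
    simp only [mul_assoc]
  rw [h1, h2, cc_cocycle]

theorem one_tm (g : H0) : tm 1 g = g := by rw [tm, map_one, cc_one_left, one_mul, mul_one]
theorem tm_one (g : H0) : tm g 1 = g := by rw [tm, map_one, cc_one_right, mul_one, mul_one]

/-- the twisted inverse -/
def ti (g : H0) : H0 := g⁻¹ * cc (sgn g) (sgn g)

theorem sgn_ti (g : H0) : sgn (ti g) = sgn g := by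
  rw [ti, map_mul, sgn_cc, mul_one, map_inv, Int.units_inv_eq_self]

theorem ti_tm (g : H0) : tm (ti g) g = 1 := by
  rw [tm, sgn_ti, ti, mul_assoc g⁻¹, ← cc_comm g, ← mul_assoc, inv_mul_cancel, one_mul, cc_mul_self]

instance : Group T where
  mul g h := ofH (tm (ofH.symm g) (ofH.symm h))
  one := ofH 1
  inv g := ofH (ti (ofH.symm g))
  mul_assoc g h k := tm_assoc g h k
  one_mul g := one_tm g
  mul_one g := tm_one g
  inv_mul_cancel g := ti_tm g

instance : Finite T := finite_H0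

theorem card_T : Nat.card T = 177408000 := H0Basic.card_H0

theorem ofH_one : ofH 1 = 1 := rfl

theorem mul_def (g h : H0) : ofH g * ofH h = ofH (g * h * cc (sgn g) (sgn h)) := rfl

theorem inv_def (g : H0) : (ofH g)⁻¹ = ofH (g⁻¹ * cc (sgn g) (sgn g)) := rfl

/-- conjugation is the same. -/
theorem conj_def (c g : H0) : ofH c * ofH g * (ofH c)⁻¹ = ofH (c * g * c⁻¹) := by
  rw [mul_inv_eq_iff_eq_mul, mul_def, mul_def]
  congr 1
  have h1 : sgn (c * g * c⁻¹) = sgn g := by
    rw [map_mul, map_mul, map_inv, mul_comm (sgn c), mul_assoc, mul_inv_cancel, mul_one]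
  rw [h1]
  have h2 : cc (sgn c) (sgn g) = cc (sgn g) (sgn c) := by
    unfold cc
    simp only [and_comm]
  rw [h2, inv_mul_cancel_right]

/-- commutators are the same. -/
theorem comm_def (g h : H0) : ⁅ofH g, ofH h⁆ = ofH ⁅g, h⁆ := by
  rw [commutatorElement_def, conj_def, mul_inv_eq_iff_eq_mul, mul_def]
  congr 1
  have h1 : sgn ⁅g, h⁆ = 1 := by
    rw [commutatorElement_def, map_mul, map_mul, map_mul, map_inv, map_inv, mul_comm (sgn g), mul_assoc,
      mul_assoc, mul_inv_cancel_left, mul_inv_cancel]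
  rw [h1, cc_one_left, mul_one, commutatorElement_def, inv_mul_cancel_right]

theorem isConj_iff' {g h : H0} : IsConj (ofH g) (ofH h) ↔ IsConj g h := by
  rw [isConj_iff, isConj_iff]
  constructor
  · rintro ⟨c, hc⟩
    refine ⟨ofH.symm c, ?_⟩
    have h1 := conj_def (ofH.symm c) g
    rw [Equiv.apply_symm_apply, hc] at h1
    exact ofH.injective h1.symm
  · rintro ⟨c, hc⟩
    exact ⟨ofH c, by rw [conj_def, hc]⟩

theorem comm_iff {g h : H0} : ofH g * ofH h = ofH h * ofH g ↔ g * h = h * g := by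
  rw [← commutatorElement_eq_one_iff_mul_comm, comm_def, ← ofH_one, ofH.injective.eq_iff,
    commutatorElement_eq_one_iff_mul_comm]

/-- products with an even factor are the same. -/
theorem mul_even_left {g : H0} (hg : g ∈ K) (h : H0) : ofH g * ofH h = ofH (g * h) := by
  rw [mul_def, mem_K_iff.1 hg, cc_one_left, mul_one]
theorem mul_even_right (g : H0) {h : H0} (hh : h ∈ K) : ofH g * ofH h = ofH (g * h) := by
  rw [mul_def, mem_K_iff.1 hh, cc_one_right, mul_one]
theorem mul_odd {g h : H0} (hg : g ∉ K) (hh : h ∉ K) : ofH g * ofH h = ofH (g * h * τ) := by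
  have h1 : sgn g = -1 := (Int.units_eq_one_or _).resolve_left hg
  have h2 : sgn h = -1 := (Int.units_eq_one_or _).resolve_left hh
  rw [mul_def, h1, h2, cc_neg_neg]

/-- the central involution -/
def τT : T := ofH τ
/-- the involution `a` -/
def aT : T := ofH a
/-- the involution `a τ` -/
def bT : T := ofH (a * τ)

theorem τT_comm (g : T) : g * τT = τT * g := comm_iff.2 (τ_comm (ofH.symm g))

theorem a_mem_K : a ∈ K := K.pow_mem gy_mem 3

theorem bT_eq : bT = aT * τT := (mul_even_left a_mem_K τ).symm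

theorem sq_even {g : H0} (hg : g ∈ K) : (ofH g) ^ 2 = ofH (g ^ 2) := by
  rw [pow_two, mul_even_left hg, pow_two]
theorem sq_odd {g : H0} (hg : g ∉ K) : (ofH g) ^ 2 = ofH (g ^ 2 * τ) := by
  rw [pow_two, mul_odd hg hg, pow_two]

theorem τT_sq : τT ^ 2 = 1 := by rw [τT, sq_even τ_mem_K, τ_sq, ofH_one]
theorem aT_sq : aT ^ 2 = 1 := by rw [aT, sq_even a_mem_K, a_sq', ofH_one]
theorem bT_sq : bT ^ 2 = 1 := by rw [bT, sq_even (K.mul_mem a_mem_K τ_mem_K), aτ_sq, ofH_one]

theorem τT_ne_one : τT ≠ 1 := τ_ne_one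
theorem aT_ne_one : aT ≠ 1 := a_ne_one
theorem bT_ne_one : bT ≠ 1 := aτ_ne_one
theorem aT_ne_τT : aT ≠ τT := a_ne_τ
theorem bT_ne_τT : bT ≠ τT := aτ_ne_τ

/-- the classes of involutions of `T` -/
theorem involution_cases_T {g : T} (hg : g ^ 2 = 1) : g = 1 ∨ g = τT ∨ IsConj aT g ∨ IsConj bT g := by
  obtain ⟨g, rfl⟩ := ofH.surjective g
  by_cases hK : g ∈ K
  · rw [sq_even hK, ← ofH_one, ofH.injective.eq_iff] at hg
    rcases involution_cases hg with h | h | h | h | h | h
    · exact Or.inl (congrArg ofH h)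
    · exact Or.inr (Or.inl (congrArg ofH h))
    · exact Or.inr (Or.inr (Or.inl (isConj_iff'.2 h)))
    · exact Or.inr (Or.inr (Or.inr (isConj_iff'.2 h)))
    · exact absurd ((mem_K_of_isConj h).2 hK) gz_notMem_K
    · exact absurd ((mem_K_of_isConj h).2 hK) d_notMem_K
  · rw [sq_odd hK, ← ofH_one, ofH.injective.eq_iff] at hg
    have h1 : g ^ 2 = τ := by rw [← τ_inv]; exact eq_inv_of_mul_eq_one_left hg
    exact absurd ((mem_K_of_isConj (isConj_of_sq_eq_τ h1)).1 gx_mem) hK

theorem not_isConj_aT_bT : ¬ IsConj aT bT := fun h => not_isConj_a_aτ (isConj_iff'.1 h)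

theorem isConj_τT_iff {g : T} : IsConj τT g ↔ g = τT := by
  obtain ⟨g, rfl⟩ := ofH.surjective g
  rw [τT, isConj_iff', isConj_τ_iff, ofH.injective.eq_iff]

/-- A subgroup of `H0` containing `τ`, as a subgroup of `T`. -/
def sub (B : Subgroup H0) (hB : τ ∈ B) : Subgroup T where
  carrier := {g | ofH.symm g ∈ B}
  one_mem' := B.one_mem
  mul_mem' {g h} hg hh := by
    change ofH.symm g * ofH.symm h * cc _ _ ∈ B
    refine B.mul_mem (B.mul_mem hg hh) ?_
    unfold cc
    split_ifs
    · exact hB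
    · exact B.one_mem
  inv_mem' {g} hg := by
    change (ofH.symm g)⁻¹ * cc _ _ ∈ B
    refine B.mul_mem (B.inv_mem hg) ?_
    unfold cc
    split_ifs
    · exact hB
    · exact B.one_mem

theorem mem_sub {B : Subgroup H0} {hB : τ ∈ B} {g : H0} : ofH g ∈ sub B hB ↔ g ∈ B := Iff.rfl

theorem card_sub (B : Subgroup H0) (hB : τ ∈ B) : Nat.card (sub B hB) = Nat.card B :=
  Nat.card_congr (Equiv.refl _)

/-- the Sylow 2-subgroup of `T` -/
def ST : Subgroup T := sub S τ_mem_S

theorem card_ST : Nat.card ST = 2 ^ 11 := (card_sub _ _).trans card_S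

/-- **The Sylow 2-subgroup.** -/
def sylT : Sylow 2 T :=
  haveI : Fact (Nat.Prime 2) := ⟨Nat.prime_two⟩
  Sylow.ofCard ST (by rw [card_ST, show Nat.card T = Nat.card H0 from rfl, factorization_card])

theorem coe_sylT : (sylT : Subgroup T) = ST := rfl

theorem τT_mem : τT ∈ ST := τ_mem_S
theorem aT_mem : aT ∈ ST := a_mem_S
theorem bT_mem : bT ∈ ST := aτ_mem_S

theorem aT_comm {g : T} (hg : g ∈ ST) : g * aT = aT * g := comm_iff.2 (a_comm hg)

theorem comm5_T {g1 g2 g3 g4 g5 : T} (h1 : g1 ∈ ST) (h2 : g2 ∈ ST) (h3 : g3 ∈ ST) (h4 : g4 ∈ ST) (h5 : g5 ∈ ST) :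
    ⁅⁅⁅⁅g1, g2⁆, g3⁆, g4⁆, g5⁆ = 1 ∨ ⁅⁅⁅⁅g1, g2⁆, g3⁆, g4⁆, g5⁆ = bT := by
  have h : ∀ k1 k2 k3 k4 k5 : H0, ⁅⁅⁅⁅ofH k1, ofH k2⁆, ofH k3⁆, ofH k4⁆, ofH k5⁆ = ofH ⁅⁅⁅⁅k1, k2⁆, k3⁆, k4⁆, k5⁆ := by
    intro k1 k2 k3 k4 k5
    rw [comm_def, comm_def, comm_def, comm_def]
  have h' := h (ofH.symm g1) (ofH.symm g2) (ofH.symm g3) (ofH.symm g4) (ofH.symm g5)
  simp only [Equiv.apply_symm_apply] at h'
  rw [h']
  rcases comm5 h1 h2 h3 h4 h5 with h6 | h6
  · exact Or.inl (congrArg ofH h6)
  · exact Or.inr (congrArg ofH h6)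

theorem comm5_eq_T : ∃ g1 ∈ ST, ∃ g2 ∈ ST, ∃ g3 ∈ ST, ∃ g4 ∈ ST, ∃ g5 ∈ ST, ⁅⁅⁅⁅g1, g2⁆, g3⁆, g4⁆, g5⁆ = bT := by
  refine ⟨ofH (s 7), s_mem_S (by norm_num), ofH (s 9), s_mem_S (by norm_num), ofH (s 10), s_mem_S (by norm_num),
    ofH (s 9), s_mem_S (by norm_num), ofH (s 7), s_mem_S (by norm_num), ?_⟩
  rw [comm_def, comm_def, comm_def, comm_def, comm5_eq]
  rfl

/-- an involution of type `a` -/
def a2T : T := ofH a2

theorem a2T_comm : a2T * aT = aT * a2T := comm_iff.2 a2_comm
theorem isConj_aT_a2T : IsConj aT a2T := isConj_iff'.2 isConj_a_a2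
theorem isConj_aT_mul : IsConj aT (aT * a2T) := by
  have h : aT * a2T = ofH (a * a2) := mul_even_left a_mem_K a2
  rw [h]
  exact isConj_iff'.2 isConj_a_mul

/-! ### recognition -/

theorem closure_T : Subgroup.closure ({ofH gx, ofH gy, ofH gz} : Set T) = ⊤ := by
  rw [eq_top_iff]
  set Cl := Subgroup.closure ({ofH gx, ofH gy, ofH gz} : Set T) with hCl
  have hx : ofH gx ∈ Cl := Subgroup.subset_closure (by simp)
  have hτ : τT ∈ Cl := by
    have h1 : τT = ofH gx ^ 2 := (sq_even gx_mem).symm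
    rw [h1]
    exact Cl.pow_mem hx 2
  have hcc : ∀ a b, ofH (cc a b) ∈ Cl := by
    intro a b
    unfold cc
    split_ifs
    · exact hτ
    · exact Cl.one_mem
  have hmul : ∀ g h : H0, ofH (g * h) = ofH g * ofH h * ofH (cc (sgn g) (sgn h)) := by
    intro g h
    rw [mul_def, mul_even_right _ (show cc _ _ ∈ K from sgn_cc _ _), mul_assoc, cc_mul_self, mul_one]
  have hinv : ∀ g : H0, ofH (g⁻¹) = (ofH g)⁻¹ * ofH (cc (sgn g) (sgn g)) := by
    intro g
    rw [inv_def, mul_even_right _ (show cc _ _ ∈ K from sgn_cc _ _), mul_assoc, cc_mul_self, mul_one]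
  have key : ∀ g ∈ Subgroup.closure ({gx, gy, gz} : Set H0), ofH g ∈ Cl := by
    intro g hg
    induction hg using Subgroup.closure_induction with
    | mem g hg =>
      apply Subgroup.subset_closure
      rcases hg with rfl | rfl | rfl
      · exact Or.inl rfl
      · exact Or.inr (Or.inl rfl)
      · exact Or.inr (Or.inr rfl)
    | one => exact Cl.one_mem
    | mul g h _ _ hg hh =>
      rw [hmul]
      exact Cl.mul_mem (Cl.mul_mem hg hh) (hcc _ _)
    | inv g _ hg =>
      rw [hinv]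
      exact Cl.mul_mem (Cl.inv_mem hg) (hcc _ _)
  intro g _
  exact key (ofH.symm g) (by rw [closure_gens]; trivial)

open Equiv in
/-- **Recognition of `H0`.** -/
theorem exists_equiv_H0 {C : Type*} [Group C] {x y z : C} (h : Rels x y z) {π : C →* Perm (Fin 100)}
    (hx : π x = X) (hy : π y = Y) (hz : π z = Z) (hne : x ^ 2 ≠ 1)
    (hcl : Subgroup.closure ({x, y, z} : Set C) = ⊤) :
    ∃ e : H0 ≃* C, e gx = x ∧ e gy = y ∧ e gz = z := by
  have hφ : π.comp (lift h) = φ := by
    apply PresentedGroup.ext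
    intro i
    cases i
    · change π (lift h gx) = φ gx
      rw [lift_gx, hx, φ_gx]
    · change π (lift h gy) = φ gy
      rw [lift_gy, hy, φ_gy]
    · change π (lift h gz) = φ gz
      rw [lift_gz, hz, φ_gz]
  have hinj : Function.Injective (lift h) := by
    rw [injective_iff_map_eq_one]
    intro g hg
    have h1 : φ g = 1 := by rw [← hφ, MonoidHom.comp_apply, hg, map_one]
    rcases φ_eq_one_iff.1 h1 with h2 | h2
    · exact h2
    · exfalso
      apply hne
      rw [h2, τ, map_pow, lift_gx] at hg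
      exact hg
  have hsurj : Function.Surjective (lift h) := by
    rw [← MonoidHom.range_eq_top, eq_top_iff, ← hcl, Subgroup.closure_le]
    rintro _ (rfl | rfl | rfl)
    · exact ⟨gx, lift_gx h⟩
    · exact ⟨gy, lift_gy h⟩
    · exact ⟨gz, lift_gz h⟩
  exact ⟨MulEquiv.ofBijective (lift h) ⟨hinj, hsurj⟩, lift_gx h, lift_gy h, lift_gz h⟩

/-- The relations hold for `x, y, z i`. -/
theorem rels_of_relsI {P : Type*} [Group P] {x y z i : P} (h : SignSplit.RelsI x y z)
    (hi : ∀ p : P, i * p = p * i) (hi2 : i * i = x ^ 2) (hi4 : x ^ 2 * x ^ 2 = 1) : Rels x y (z * i) := by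
  have hc : ∀ p : P, Commute i p := hi
  have hi4' : i * i * (i * i) = 1 := by rw [hi2, hi4]
  constructor
  · exact h.r1
  · exact h.r2
  · exact h.r3
  · exact h.r4
  · exact h.r5
  · exact h.r6
  · have h1 : (z * i) ^ 2 = z ^ 2 * (i * i) := by
      rw [pow_two, pow_two, mul_assoc, ← mul_assoc i z i, hi z]
      simp only [mul_assoc]
    rw [h1, h.r7, hi2, hi4]
  · have h1 : (z * i * x) ^ 2 = (z * x) ^ 2 * (i * i) := by
      have h2 : z * i * x = z * x * i := by rw [mul_assoc, hi x, mul_assoc]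
      rw [h2, pow_two, pow_two, mul_assoc, ← mul_assoc i (z * x) i, hi (z * x)]
      simp only [mul_assoc]
    rw [h1, h.r8, hi2, hi4]
  · have h1 : ∀ w : P, (z * i)⁻¹ * w⁻¹ * (z * i) * w = z⁻¹ * w⁻¹ * z * w := by
      intro w
      have h2 : (z * i)⁻¹ * w⁻¹ * (z * i) * w = z⁻¹ * (i⁻¹ * (w⁻¹ * z) * i) * w := by
        rw [mul_inv_rev, (hc z).inv_inv.eq]
        simp only [mul_assoc]
      rw [h2, mul_assoc i⁻¹, ← hi (w⁻¹ * z), inv_mul_cancel_left]
      simp only [mul_assoc]
    rw [h1]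
    exact h.r9
  · have h1 : ∀ w : P, z * i * ((w⁻¹ * (z * i) * w * x) ^ 3) = z * ((w⁻¹ * z * w * x) ^ 3) := by
      intro w
      have h2 : w⁻¹ * (z * i) * w * x = w⁻¹ * z * w * x * i := by
        rw [← mul_assoc w⁻¹ z i, mul_assoc (w⁻¹ * z) i w, hi w, ← mul_assoc, mul_assoc _ i x, hi x, ← mul_assoc]
      rw [h2, (hc (w⁻¹ * z * w * x)).symm.mul_pow, mul_assoc z i, hi, mul_assoc _ (i ^ 3) i, ← pow_succ]
      have h3 : i ^ (3 + 1) = 1 := by
        rw [← hi4', pow_succ, pow_succ, pow_two]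
        simp only [mul_assoc]
      rw [h3, mul_one]
    rw [h1]
    exact h.r10

open Equiv in
/-- **Recognition of the isoclinic group `T`.** -/
theorem exists_equiv_T {C : Type*} [Group C] {x y z : C} (h : SignSplit.RelsI x y z) {π : C →* Perm (Fin 100)}
    (hx : π x = X) (hy : π y = Y) (hz : π z = Z) (hne : x ^ 2 ≠ 1) (hx4 : x ^ 2 * x ^ 2 = 1)
    (hcen : ∀ g, g * x ^ 2 = x ^ 2 * g) (hcl : Subgroup.closure ({x, y, z} : Set C) = ⊤) :
    ∃ e : T ≃* C, e (ofH gx) = x ∧ e (ofH gy) = y ∧ e (ofH gz) = z := by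
  obtain ⟨P, _, ι, i, hι, hi, hi2, _, huniv⟩ := CentralProd.exists_cp (x ^ 2) hcen hx4
  have hR : Rels (ι x) (ι y) (ι z * i) := by
    apply rels_of_relsI
    · constructor
      · rw [← map_pow, h.r1, map_one]
      · simp only [← map_pow, ← map_mul, ← map_inv]; rw [h.r2, map_one]
      · simp only [← map_pow, ← map_mul, ← map_inv]; rw [h.r3, map_one]
      · simp only [← map_pow, ← map_mul, ← map_inv]; rw [h.r4, map_one]
      · simp only [← map_pow, ← map_mul]; rw [h.r5, map_one]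
      · simp only [← map_pow, ← map_mul]; rw [h.r6, map_one]
      · rw [← map_pow, h.r7, map_pow]
      · rw [← map_mul, ← map_pow, h.r8, map_pow]
      · simp only [← map_pow, ← map_mul, ← map_inv]; rw [h.r9, map_one]
      · simp only [← map_pow, ← map_mul, ← map_inv]; rw [h.r10, map_one]
    · exact hi
    · rw [hi2, map_pow]
    · rw [← map_pow, ← map_mul, hx4, map_one]
  obtain ⟨F, hF, hFi⟩ := huniv (Perm (Fin 100)) π 1 (fun c => by rw [mul_one, one_mul])
    (by rw [map_pow, hx, X_sq, one_mul])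
  have hFφ : F.comp (lift hR) = φ := by
    apply PresentedGroup.ext
    intro i
    cases i
    · change F (lift hR gx) = φ gx
      rw [lift_gx, hF, hx, φ_gx]
    · change F (lift hR gy) = φ gy
      rw [lift_gy, hF, hy, φ_gy]
    · change F (lift hR gz) = φ gz
      rw [lift_gz, map_mul, hF, hFi, mul_one, hz, φ_gz]
  have hΦτ : lift hR τ = i * i := by rw [τ, map_pow, lift_gx, hi2, map_pow]
  have hi4 : i * i * (i * i) = 1 := by rw [hi2, ← map_mul, hx4, map_one]
  -- the homomorphism on `T`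
  let j : ℤˣ → P := fun s => if s = -1 then i⁻¹ else 1
  have hj : ∀ s p, j s * p = p * j s := by
    intro s p
    simp only [j]
    split_ifs
    · exact ((show Commute i p from hi p).inv_left).eq
    · rw [one_mul, mul_one]
  have hj1 : j 1 = 1 := if_neg (by decide)
  have hjn : j (-1) = i⁻¹ := if_pos rfl
  have hjm : ∀ s t : ℤˣ, lift hR (cc s t) * j (s * t) = j s * j t := by
    intro s t
    rcases Int.units_eq_one_or s with rfl | rfl <;> rcases Int.units_eq_one_or t with rfl | rfl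
    · rw [cc_one_left, map_one, one_mul, one_mul, hj1, one_mul]
    · rw [cc_one_left, map_one, one_mul, one_mul, hj1, one_mul]
    · rw [cc_one_right, map_one, one_mul, mul_one, hj1, mul_one]
    · rw [cc_neg_neg, hΦτ, Int.units_mul_self, hj1, hjn, mul_one, ← mul_inv_rev]
      exact eq_inv_of_mul_eq_one_left hi4
  let θ : T →* P :=
    { toFun := fun g => lift hR (ofH.symm g) * j (sgn (ofH.symm g))
      map_one' := by
        change lift hR 1 * j (sgn 1) = 1
        rw [map_one, map_one, hj1, one_mul]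
      map_mul' := by
        intro g k
        change lift hR (tm (ofH.symm g) (ofH.symm k)) * j (sgn (tm (ofH.symm g) (ofH.symm k))) = _
        rw [sgn_tm, tm, map_mul, map_mul, mul_assoc, hjm]
        generalize ofH.symm g = g
        generalize ofH.symm k = k
        rw [mul_assoc, mul_assoc, ← mul_assoc (j (sgn g)), hj (sgn g) (lift hR k)]
        simp only [mul_assoc] }
  have hθ : ∀ g : H0, θ (ofH g) = lift hR g * j (sgn g) := fun g => rfl
  have hθx : θ (ofH gx) = ι x := by rw [hθ, lift_gx, sgn_gx, hj1, mul_one]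
  have hθy : θ (ofH gy) = ι y := by rw [hθ, lift_gy, sgn_gy, hj1, mul_one]
  have hθz : θ (ofH gz) = ι z := by rw [hθ, lift_gz, sgn_gz, hjn, mul_inv_cancel_right]
  have hFj : ∀ s, F (j s) = 1 := by
    intro s
    simp only [j]
    split_ifs
    · rw [map_inv, hFi, inv_one]
    · exact map_one F
  have hinj : Function.Injective θ := by
    rw [injective_iff_map_eq_one]
    intro g hg
    obtain ⟨g, rfl⟩ := ofH.surjective g
    have h1 : φ g = 1 := by
      have h2 := congrArg F hg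
      rw [hθ, map_mul, hFj, mul_one, map_one] at h2
      rw [← hFφ]
      exact h2
    rcases φ_eq_one_iff.1 h1 with h2 | h2
    · rw [h2]; rfl
    · exfalso
      rw [h2, hθ, sgn_τ, hj1, mul_one, hΦτ, hi2] at hg
      exact hne (hι (hg.trans (map_one ι).symm))
  have hrange : θ.range = ι.range := by
    rw [MonoidHom.range_eq_map, MonoidHom.range_eq_map, ← closure_T, ← hcl, MonoidHom.map_closure,
      MonoidHom.map_closure]
    congr 1
    rw [Set.image_insert_eq, Set.image_insert_eq, Set.image_singleton, Set.image_insert_eq, Set.image_insert_eq,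
      Set.image_singleton, hθx, hθy, hθz]
  let e : T ≃* C := (MonoidHom.ofInjective hinj).trans
    ((MulEquiv.subgroupCongr hrange).trans (MonoidHom.ofInjective hι).symm)
  have he : ∀ g, ι (e g) = θ g := by
    intro g
    have h1 := (MonoidHom.ofInjective hι).apply_symm_apply
      ((MulEquiv.subgroupCongr hrange) (MonoidHom.ofInjective hinj g))
    exact congrArg Subtype.val h1
  exact ⟨e, hι ((he _).trans hθx), hι ((he _).trans hθy), hι ((he _).trans hθz)⟩

end Cfsg.Agent.HN.Twist
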