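import Cfsg.Agent.HN.CoverHS
import Cfsg.Agent.HN.Twist

set_option autoImplicit false

/-!
Uniqueness of the non-split double cover of the Higman–Sims group (it is `K`, the even part of `H0`), and its
automorphisms (they are induced by `H0`).
-/

namespace Cfsg.Agent.HN.CoverUnique

open Cfsg.Agent.SporadicA.PermTab Cfsg.Agent.HN.Pres Cfsg.Agent.HN.HS100 Cfsg.Agent.HN.SrgHS Equiv
open Cfsg.Agent.HN.AutBound Cfsg.Agent.HN.FixPoint Cfsg.Agent.HN.AutHS Cfsg.Agent.HN.CoverHS
open Cfsg.Agent.HN.SignSplit Cfsg.Agent.HN.H0Basic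

universe u

/-! ### Generalities -/

/-- two homomorphisms which agree modulo a central subgroup of order 2 are equal if there is no subgroup of
index 2. -/
theorem hom_eq_of_mod {L G' : Type*} [Group L] [Group G'] {α β : L →* G'} {c : G'} (hc2 : c * c = 1)
    (hcen : ∀ g, g * c = c * g) (h : ∀ l, α l = β l ∨ α l = c * β l) (hno : ∀ S : Subgroup L, S.index ≠ 2) :
    α = β := by
  classical
  by_cases hc1 : c = 1
  · ext l
    rcases h l with h1 | h1
    · exact h1
    · rw [h1, hc1, one_mul]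
  let χ : L →* ℤˣ := MonoidHom.mk' (fun l => if α l = β l then 1 else -1) (by
    intro a b
    have hcb : ∀ g, c * g ≠ g := fun g hg => hc1 (mul_eq_right.1 hg)
    rcases h a with ha | ha <;> rcases h b with hb | hb
    · have hab : α (a * b) = β (a * b) := by rw [map_mul, map_mul, ha, hb]
      simp only [if_pos ha, if_pos hb, if_pos hab, mul_one]
    · have hab : α (a * b) = c * β (a * b) := by
        rw [map_mul, map_mul, ha, hb, ← mul_assoc, hcen, mul_assoc]
      have h1 : ¬ α (a * b) = β (a * b) := by rw [hab]; exact hcb _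
      have h2 : ¬ α b = β b := by rw [hb]; exact hcb _
      simp only [if_pos ha, if_neg h2, if_neg h1, one_mul]
    · have hab : α (a * b) = c * β (a * b) := by
        rw [map_mul, map_mul, ha, hb, mul_assoc]
      have h1 : ¬ α (a * b) = β (a * b) := by rw [hab]; exact hcb _
      have h2 : ¬ α a = β a := by rw [ha]; exact hcb _
      simp only [if_pos hb, if_neg h2, if_neg h1, mul_one]
    · have hab : α (a * b) = β (a * b) := by
        rw [map_mul, map_mul, ha, hb]
        calc c * β a * (c * β b) = c * (β a * c) * β b := by group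
          _ = (c * c) * (β a * β b) := by rw [hcen]; group
          _ = β a * β b := by rw [hc2, one_mul]
      have h1 : ¬ α a = β a := by rw [ha]; exact hcb _
      have h2 : ¬ α b = β b := by rw [hb]; exact hcb _
      simp only [if_neg h1, if_neg h2, if_pos hab]
      decide)
  have hker : χ.ker = ⊤ := by
    by_contra hne
    apply hno χ.ker
    have h6 : χ.ker.index ∣ 2 := by
      rw [Subgroup.index_ker]
      have := Subgroup.card_subgroup_dvd_card χ.range
      rwa [Nat.card_eq_fintype_card (α := ℤˣ), Fintype.card_units_int] at this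
    rcases (Nat.dvd_prime Nat.prime_two).1 h6 with h7 | h7
    · exact absurd (Subgroup.index_eq_one.1 h7) hne
    · exact h7
  ext l
  by_contra hne
  have h1 : l ∈ χ.ker := by rw [hker]; trivial
  rw [MonoidHom.mem_ker] at h1
  have h2 : (if α l = β l then (1 : ℤˣ) else -1) = 1 := h1
  rw [if_neg hne] at h2
  exact absurd h2 (by decide)

/-- the homomorphism from `{1, -1}` given by an involution. -/
def invHom {G' : Type*} [Group G'] (s : G') (hs : s * s = 1) : ℤˣ →* G' :=
  MonoidHom.mk' (fun u => if u = 1 then 1 else s) (by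
    intro a b
    rcases Int.units_eq_one_or a with rfl | rfl <;> rcases Int.units_eq_one_or b with rfl | rfl
    · simp
    · simp
    · simp
    · simp [hs])

theorem invHom_one {G' : Type*} [Group G'] (s : G') (hs : s * s = 1) : invHom s hs 1 = 1 := map_one _

theorem invHom_neg {G' : Type*} [Group G'] (s : G') (hs : s * s = 1) : invHom s hs (-1) = s := by
  change (if (-1 : ℤˣ) = 1 then 1 else s) = s
  exact if_neg (by decide)

theorem Z_mul : Z * Z = 1 := by rw [← pow_two]; exact rels.r7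

theorem ZXZ : Z * X * Z⁻¹ = X := by
  have h1 : (Z * X) ^ 2 = 1 := rels.r8
  have h2 : X * X = 1 := by rw [← pow_two]; exact X_sq
  have h3 : Z * X * (Z * X) = 1 := by rw [← pow_two]; exact h1
  have hz : Z⁻¹ = Z := inv_eq_of_mul_eq_one_left Z_mul
  have hx : X⁻¹ = X := inv_eq_of_mul_eq_one_left h2
  rw [hz]
  calc Z * X * Z = (Z * X * (Z * X)) * X⁻¹ := by group
    _ = X := by rw [h3, one_mul, hx]

theorem Z_sign : Perm.sign Z = -1 := sign_Z

theorem conj_Z_mem {q : Perm (Fin 100)} (hq : q ∈ Q) : Z * q * Z⁻¹ ∈ Q := by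
  rw [mem_Q_iff] at hq ⊢
  refine ⟨(autG 100 adjA).mul_mem ((autG 100 adjA).mul_mem Z_mem hq.1) ((autG 100 adjA).inv_mem Z_mem), ?_⟩
  rw [map_mul, map_mul, map_inv, hq.2, mul_one, mul_inv_cancel]

/-- `autG` is generated by `Q` and `Z`. -/
theorem mem_autG_iff {p : Perm (Fin 100)} : p ∈ autG 100 adjA ↔ p ∈ Q ∨ p * Z ∈ Q := by
  constructor
  · intro hp
    rcases Int.units_eq_one_or (Perm.sign p) with h | h
    · exact Or.inl (mem_Q_iff.2 ⟨hp, h⟩)
    · refine Or.inr (mem_Q_iff.2 ⟨(autG 100 adjA).mul_mem hp Z_mem, ?_⟩)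
      rw [map_mul, h, sign_Z]
      decide
  · rintro (h | h)
    · exact Q_le h
    · have h1 : p = p * Z * Z := by rw [mul_assoc, Z_mul, mul_one]
      rw [h1]
      exact (autG 100 adjA).mul_mem (Q_le h) Z_mem

/-! ### The extension by `Z` -/

section ext

variable {N : Type u} [Group N] (π : N →* Perm (Fin 100)) (σ : MulAut N) (hσ : σ * σ = 1)
  (hπ : ∀ n, π (σ n) = Z * π n * Z⁻¹)

/-- `N ⋊ ⟨σ⟩` -/
abbrev EE := N ⋊[invHom σ hσ] ℤˣ

/-- the action of `N ⋊ ⟨σ⟩` -/
def EEπ : EE σ hσ →* Perm (Fin 100) :=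
  SemidirectProduct.lift π (invHom Z Z_mul) (by
    intro g
    ext1 n
    rcases Int.units_eq_one_or g with rfl | rfl
    · simp
    · rw [MonoidHom.comp_apply, MonoidHom.comp_apply, invHom_neg, invHom_neg]
      exact hπ n)

theorem EEπ_inl (n : N) : EEπ π σ hσ hπ (SemidirectProduct.inl n) = π n := by
  simp [EEπ]

theorem EEπ_mk (n : N) (u : ℤˣ) : EEπ π σ hσ hπ ⟨n, u⟩ = π n * invHom Z Z_mul u := rfl

theorem EEπ_range (hr : π.range = Q) : (EEπ π σ hσ hπ).range = autG 100 adjA := by
  ext p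
  rw [mem_autG_iff]
  constructor
  · rintro ⟨⟨n, u⟩, rfl⟩
    have h1 : π n ∈ Q := by rw [← hr]; exact ⟨n, rfl⟩
    rcases Int.units_eq_one_or u with rfl | rfl
    · left
      rw [EEπ_mk, map_one, mul_one]
      exact h1
    · right
      rw [EEπ_mk, invHom_neg, mul_assoc, Z_mul, mul_one]
      exact h1
  · rintro (h | h)
    · rw [← hr] at h
      obtain ⟨n, rfl⟩ := h
      exact ⟨SemidirectProduct.inl n, EEπ_inl π σ hσ hπ n⟩
    · rw [← hr] at h
      obtain ⟨n, hn⟩ := h
      refine ⟨⟨n, -1⟩, ?_⟩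
      rw [EEπ_mk, invHom_neg, hn, mul_assoc, Z_mul, mul_one]

theorem EE_even (hQ : π.range = Q) {c : EE σ hσ} (hc : EEπ π σ hσ hπ c ∈ Q) : ∃ n, c = SemidirectProduct.inl n := by
  obtain ⟨n, u⟩ := c
  rcases Int.units_eq_one_or u with rfl | rfl
  · exact ⟨n, rfl⟩
  · exfalso
    rw [EEπ_mk, invHom_neg] at hc
    have h1 : π n ∈ Q := by rw [← hQ]; exact ⟨n, rfl⟩
    have h2 := sign_Q hc
    rw [map_mul, sign_Q h1, sign_Z] at h2
    exact absurd h2 (by decide)

end ext

/-! ### Double covers -/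

/-- A central extension of `Q` by a group of order 2. -/
structure Cov {L : Type u} [Group L] (τ : L) (π : L →* Perm (Fin 100)) : Prop where
  ne : τ ≠ 1
  sq : τ * τ = 1
  cen : ∀ g, g * τ = τ * g
  ker : ∀ g, π g = 1 ↔ g = 1 ∨ g = τ
  range : π.range = Q
  no2 : ∀ S : Subgroup L, S.index ≠ 2

namespace Cov

variable {L : Type u} [Group L] {τ : L} {π : L →* Perm (Fin 100)} (h : Cov τ π)

include h

theorem kt : π τ = 1 := (h.ker τ).2 (Or.inr rfl)

theorem lift {q : Perm (Fin 100)} (hq : q ∈ Q) : ∃ l, π l = q := by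
  rw [← h.range] at hq
  exact hq

theorem eq_or {a b : L} (hab : π a = π b) : a = b ∨ a = τ * b := by
  have h1 : π (a * b⁻¹) = 1 := by rw [map_mul, map_inv, hab, mul_inv_cancel]
  rcases (h.ker _).1 h1 with h2 | h2
  · exact Or.inl (mul_inv_eq_one.1 h2)
  · exact Or.inr (mul_inv_eq_iff_eq_mul.1 h2)

theorem mem_Q (l : L) : π l ∈ Q := by
  rw [← h.range]
  exact ⟨l, rfl⟩

/-- the fibre product of `L` and its twist by `Z` -/
def P (_ : Cov τ π) : Subgroup (L × L) where
  carrier := {p | Z * π p.1 * Z⁻¹ = π p.2}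
  mul_mem' := by
    intro a b ha hb
    change Z * π (a.1 * b.1) * Z⁻¹ = π (a.2 * b.2)
    rw [map_mul, map_mul, ← (ha : Z * π a.1 * Z⁻¹ = π a.2), ← (hb : Z * π b.1 * Z⁻¹ = π b.2)]
    group
  one_mem' := by
    change Z * π 1 * Z⁻¹ = π 1
    rw [map_one, mul_one, mul_inv_cancel]
  inv_mem' := by
    intro a ha
    change Z * π a.1⁻¹ * Z⁻¹ = π a.2⁻¹
    rw [map_inv, map_inv, ← (ha : Z * π a.1 * Z⁻¹ = π a.2)]
    group

theorem mem_P {p : L × L} : p ∈ h.P ↔ Z * π p.1 * Z⁻¹ = π p.2 := Iff.rfl

theorem swap_mem {p : L × L} (hp : p ∈ h.P) : p.swap ∈ h.P := by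
  rw [mem_P] at hp ⊢
  change Z * π p.2 * Z⁻¹ = π p.1
  have hz : Z⁻¹ = Z := inv_eq_of_mul_eq_one_left Z_mul
  rw [← hp, hz]
  calc Z * (Z * π p.1 * Z) * Z = (Z * Z) * π p.1 * (Z * Z) := by group
    _ = π p.1 := by rw [Z_mul]; group

/-- the swap -/
def σ : MulAut h.P where
  toFun p := ⟨p.1.swap, h.swap_mem p.2⟩
  invFun p := ⟨p.1.swap, h.swap_mem p.2⟩
  left_inv _ := rfl
  right_inv _ := rfl
  map_mul' _ _ := rfl

theorem σ_sq : h.σ * h.σ = 1 := rfl

/-- projection -/
def πP : h.P →* Perm (Fin 100) := (π.comp (MonoidHom.fst L L)).comp h.P.subtype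

theorem πP_apply (p : h.P) : h.πP p = π p.1.1 := rfl

theorem πP_σ (p : h.P) : h.πP (h.σ p) = Z * h.πP p * Z⁻¹ := by
  rw [πP_apply, πP_apply]
  exact (h.mem_P.1 p.2).symm

theorem πP_range : h.πP.range = Q := by
  ext q
  constructor
  · rintro ⟨p, rfl⟩
    exact h.mem_Q _
  · intro hq
    obtain ⟨l, hl⟩ := h.lift hq
    obtain ⟨l', hl'⟩ := h.lift (conj_Z_mem hq)
    exact ⟨⟨(l, l'), by rw [mem_P, hl, hl']⟩, hl⟩

/-- the extension by the swap -/
abbrev C0 := EE h.σ h.σ_sq

def pp0 : h.C0 →* Perm (Fin 100) := EEπ h.πP h.σ h.σ_sq h.πP_σ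

/-- `(τ, τ)` -/
def dP : h.P := ⟨(τ, τ), by rw [mem_P, h.kt]; group⟩
/-- `(τ, 1)` -/
def eP : h.P := ⟨(τ, 1), by rw [mem_P, h.kt, map_one]; group⟩

theorem dP_comm (p : h.P) : p * h.dP = h.dP * p := by
  apply Subtype.ext
  exact Prod.ext (h.cen _) (h.cen _)

theorem eP_comm (p : h.P) : p * h.eP = h.eP * p := by
  apply Subtype.ext
  refine Prod.ext (h.cen _) ?_
  change p.1.2 * 1 = 1 * p.1.2
  rw [mul_one, one_mul]

theorem σ_d : h.σ h.dP = h.dP := rfl

theorem dP_sq : h.dP * h.dP = 1 := Subtype.ext (Prod.ext h.sq h.sq)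
theorem eP_sq : h.eP * h.eP = 1 := Subtype.ext (Prod.ext h.sq (mul_one 1))

theorem σ_e : h.σ h.eP = h.eP * h.dP := by
  apply Subtype.ext
  refine Prod.ext ?_ ?_
  · change (1 : L) = τ * τ
    rw [h.sq]
  · change τ = 1 * τ
    rw [one_mul]

/-- the central element -/
def dd : h.C0 := SemidirectProduct.inl h.dP

theorem C0_comm_d (g : h.C0) : g * h.dd = h.dd * g := by
  obtain ⟨p, u⟩ := g
  rcases Int.units_eq_one_or u with rfl | rfl
  · change SemidirectProduct.inl p * SemidirectProduct.inl h.dP = SemidirectProduct.inl h.dP * SemidirectProduct.inl p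
    rw [← map_mul, ← map_mul, h.dP_comm]
  · apply SemidirectProduct.ext
    · change p * (invHom h.σ h.σ_sq (-1)) h.dP = h.dP * (invHom h.σ h.σ_sq 1) p
      rw [invHom_neg, invHom_one, MulAut.one_apply, h.σ_d, h.dP_comm]
    · change (-1 : ℤˣ) * 1 = 1 * -1
      decide

/-- the subgroup `⟨(τ, τ)⟩` -/
def DD : Subgroup h.C0 := Subgroup.zpowers h.dd

theorem dd_sq : h.dd * h.dd = 1 := by
  change SemidirectProduct.inl h.dP * SemidirectProduct.inl h.dP = 1
  rw [← map_mul, h.dP_sq, map_one]

theorem mem_DD {g : h.C0} : g ∈ h.DD ↔ g = 1 ∨ g = h.dd := by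
  constructor
  · rintro ⟨k, rfl⟩
    change h.dd ^ k = 1 ∨ h.dd ^ k = h.dd
    rcases Int.even_or_odd' k with ⟨m, hm | hm⟩
    · left
      rw [hm, zpow_mul, zpow_ofNat, pow_two, h.dd_sq, one_zpow]
    · right
      rw [hm, zpow_add, zpow_mul, zpow_ofNat, pow_two, h.dd_sq, one_zpow, one_mul, zpow_one]
  · rintro (rfl | rfl)
    · exact one_mem _
    · exact Subgroup.mem_zpowers _

theorem DD_normal : h.DD.Normal := by
  constructor
  intro n hn g
  rcases h.mem_DD.1 hn with rfl | rfl
  · rw [mul_one, mul_inv_cancel]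
    exact one_mem _
  · rw [h.C0_comm_d, mul_inv_cancel_right]
    exact hn

theorem pp0_inl (p : h.P) : h.pp0 (SemidirectProduct.inl p) = π p.1.1 := EEπ_inl _ _ _ _ _

theorem pp0_dd : h.pp0 h.dd = 1 := by
  rw [dd, h.pp0_inl]
  exact h.kt

theorem pp0_even {c : h.C0} (hc : h.pp0 c ∈ Q) : ∃ p, c = SemidirectProduct.inl p :=
  EE_even h.πP h.σ h.σ_sq h.πP_σ h.πP_range hc

/-- **The automorphism induced by `Z` lifts.** -/
theorem exists_ψ [Finite L] : ∃ ψ : L ≃* L, ∀ l, π (ψ l) = Z * π l * Z⁻¹ := by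
  have hDn : h.DD.Normal := h.DD_normal
  have hfin : Finite h.C0 := by
    have : Finite (h.P × ℤˣ) := inferInstance
    exact Finite.of_equiv _ (SemidirectProduct.equivProd (φ := invHom h.σ h.σ_sq)).symm
  let C1 := h.C0 ⧸ h.DD
  let mk : h.C0 →* C1 := QuotientGroup.mk' h.DD
  have mk_surj : Function.Surjective mk := QuotientGroup.mk'_surjective _
  have mk_eq : ∀ a b, mk a = mk b → b = a ∨ b = a * h.dd := by
    intro a b hab
    rcases h.mem_DD.1 (QuotientGroup.eq.1 hab) with h1 | h1
    · exact Or.inl (inv_mul_eq_one.1 h1).symm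
    · exact Or.inr (inv_mul_eq_iff_eq_mul.1 h1)
  have mk_dd : mk h.dd = 1 := (QuotientGroup.eq_one_iff _).2 (h.mem_DD.2 (Or.inr rfl))
  let pp1 : C1 →* Perm (Fin 100) := QuotientGroup.lift h.DD h.pp0 (by
    intro g hg
    rcases h.mem_DD.1 hg with rfl | rfl
    · exact map_one _
    · exact h.pp0_dd)
  have hpp1 : ∀ c, pp1 (mk c) = h.pp0 c := fun c => rfl
  let τ1 : C1 := mk (SemidirectProduct.inl h.eP)
  have hext : Ext τ1 pp1 := by
    refine ⟨?_, ?_, ?_, ?_, ?_⟩
    · intro h1
      rcases mk_eq _ _ (h1.trans (map_one mk).symm) with h2 | h2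
      · have h3 : h.eP = 1 := SemidirectProduct.inl_injective (h2.symm.trans (map_one _).symm)
        exact h.ne (congrArg (fun p : h.P => p.1.1) h3)
      · have h3 : (1 : h.P) = h.eP * h.dP := by
          apply SemidirectProduct.inl_injective (φ := invHom h.σ h.σ_sq)
          rw [map_one, map_mul]
          exact h2
        have h4 := congrArg (fun p : h.P => p.1.2) h3
        change (1 : L) = 1 * τ at h4
        rw [one_mul] at h4
        exact h.ne h4.symm
    · change mk _ * mk _ = 1
      rw [← map_mul, ← map_mul, h.eP_sq, map_one, map_one]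
    · intro g
      obtain ⟨c, rfl⟩ := mk_surj g
      obtain ⟨p, u⟩ := c
      change mk _ * mk _ = mk _ * mk _
      rw [← map_mul, ← map_mul]
      rcases Int.units_eq_one_or u with rfl | rfl
      · congr 1
        change SemidirectProduct.inl p * SemidirectProduct.inl h.eP =
          SemidirectProduct.inl h.eP * SemidirectProduct.inl p
        rw [← map_mul, ← map_mul, h.eP_comm]
      · have h1 : (⟨p, -1⟩ : h.C0) * SemidirectProduct.inl h.eP =
            SemidirectProduct.inl h.eP * (⟨p, -1⟩ : h.C0) * h.dd := by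
          rw [mul_assoc, h.C0_comm_d, ← mul_assoc]
          apply SemidirectProduct.ext
          · have h2 : SemidirectProduct.inl h.eP * h.dd = (SemidirectProduct.inl (h.eP * h.dP) : h.C0) := by
              rw [map_mul]; rfl
            rw [h2]
            change p * (invHom h.σ h.σ_sq (-1)) h.eP = (h.eP * h.dP) * (invHom h.σ h.σ_sq 1) p
            rw [invHom_neg, invHom_one, MulAut.one_apply, h.σ_e, ← mul_assoc, h.eP_comm, mul_assoc, h.dP_comm,
              mul_assoc]
          · change (-1 : ℤˣ) * 1 = 1 * 1 * -1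
            decide
        rw [h1, map_mul, mk_dd, mul_one]
    · intro g
      obtain ⟨c, rfl⟩ := mk_surj g
      rw [hpp1]
      constructor
      · intro h1
        obtain ⟨p, rfl⟩ := h.pp0_even (c := c) (by rw [h1]; exact Q.one_mem)
        rw [h.pp0_inl] at h1
        have h2 : π p.1.2 = 1 := by
          rw [← h.mem_P.1 p.2, h1]
          group
        obtain ⟨⟨a, b⟩, hab⟩ := p
        change π a = 1 at h1
        change π b = 1 at h2
        rcases (h.ker a).1 h1 with rfl | rfl <;> rcases (h.ker b).1 h2 with rfl | rfl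
        · left
          exact (congrArg mk (map_one _)).trans (map_one mk)
        · right
          have h3 : (⟨(1, b), hab⟩ : h.P) = h.eP * h.dP := by
            apply Subtype.ext
            refine Prod.ext ?_ ?_
            · change (1 : L) = b * b
              rw [h.sq]
            · change b = 1 * b
              rw [one_mul]
          rw [h3, map_mul, map_mul]
          change _ * mk h.dd = _
          rw [mk_dd, mul_one]
        · right
          rfl
        · left
          exact mk_dd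
      · rintro (h1 | h1)
        · rcases mk_eq _ _ (h1.trans (map_one mk).symm) with h2 | h2
          · rw [← h2, map_one]
          · have h3 := congrArg h.pp0 h2
            rw [map_one, map_mul, h.pp0_dd, mul_one] at h3
            exact h3.symm
        · have h2 : pp1 (mk c) = pp1 τ1 := by rw [h1]
          rw [hpp1, hpp1, h.pp0_inl] at h2
          rw [h2]
          exact h.kt
    · have h1 : pp1.range = h.pp0.range := by
        ext q
        constructor
        · rintro ⟨g, rfl⟩
          obtain ⟨c, rfl⟩ := mk_surj g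
          exact ⟨c, rfl⟩
        · rintro ⟨c, rfl⟩
          exact ⟨mk c, rfl⟩
      rw [h1, AutBound.range_eq]
      exact EEπ_range h.πP h.σ h.σ_sq h.πP_σ h.πP_range
  by_cases hsplit : ∃ L1 : Subgroup C1, L1 ≤ Q.comap pp1 ∧ τ1 ∉ L1 ∧ ∀ q ∈ Q, ∃ l ∈ L1, pp1 l = q
  · obtain ⟨L1, hL1, hτ1, hL1s⟩ := hsplit
    let S : Subgroup h.P := L1.comap (mk.comp SemidirectProduct.inl)
    have hS : ∀ p : h.P, p ∈ S ↔ mk (SemidirectProduct.inl p) ∈ L1 := fun p => Iff.rfl
    have hd : h.dP ∈ S := by
      rw [hS]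
      change mk h.dd ∈ L1
      rw [mk_dd]
      exact one_mem _
    have he : h.eP ∉ S := fun h1 => hτ1 ((hS _).1 h1)
    have he' : ∀ p : h.P, p = h.eP * h.dP → p ∉ S := by
      rintro p rfl h1
      apply he
      have h2 := S.mul_mem h1 hd
      rwa [mul_assoc, h.dP_sq, mul_one] at h2
    let f1 : S →* L := (MonoidHom.fst L L).comp (h.P.subtype.comp S.subtype)
    let f2 : S →* L := (MonoidHom.snd L L).comp (h.P.subtype.comp S.subtype)
    have hf1 : Function.Injective f1 := by
      rw [injective_iff_map_eq_one]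
      rintro ⟨⟨⟨a, b⟩, hab⟩, hp⟩ h1
      change a = 1 at h1
      subst h1
      have h2 : π b = 1 := by
        rw [← h.mem_P.1 hab]
        change Z * π 1 * Z⁻¹ = 1
        rw [map_one, mul_one, mul_inv_cancel]
      rcases (h.ker b).1 h2 with rfl | rfl
      · rfl
      · exfalso
        refine he' _ ?_ hp
        apply Subtype.ext
        refine Prod.ext ?_ ?_
        · change (1 : L) = b * b
          rw [h.sq]
        · change b = 1 * b
          rw [one_mul]
    have hf2 : Function.Injective f2 := by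
      rw [injective_iff_map_eq_one]
      rintro ⟨⟨⟨a, b⟩, hab⟩, hp⟩ h1
      change b = 1 at h1
      subst h1
      have h2 : π a = 1 := by
        have h3 : Z * π a * Z⁻¹ = π 1 := h.mem_P.1 hab
        rw [map_one, mul_inv_eq_one] at h3
        exact mul_eq_left.1 h3
      rcases (h.ker a).1 h2 with rfl | rfl
      · rfl
      · exact absurd hp he
    have hf1s : Function.Surjective f1 := by
      intro l
      obtain ⟨g, hg, hgl⟩ := hL1s (π l) (h.mem_Q l)
      obtain ⟨c, rfl⟩ := mk_surj g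
      rw [hpp1] at hgl
      obtain ⟨p, rfl⟩ := h.pp0_even (c := c) (by rw [hgl]; exact h.mem_Q l)
      rw [h.pp0_inl] at hgl
      rcases h.eq_or hgl with h1 | h1
      · exact ⟨⟨p, hg⟩, h1⟩
      · refine ⟨⟨p * h.dP, S.mul_mem hg hd⟩, ?_⟩
        change p.1.1 * τ = l
        rw [h1, h.cen, ← mul_assoc, h.sq, one_mul]
    let e1 : S ≃* L := MulEquiv.ofBijective f1 ⟨hf1, hf1s⟩
    have hf2s : Function.Surjective f2 := by
      have hc : Nat.card S = Nat.card L := Nat.card_congr e1.toEquiv
      exact ((Nat.bijective_iff_injective_and_card f2).2 ⟨hf2, hc⟩).2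
    let e2 : S ≃* L := MulEquiv.ofBijective f2 ⟨hf2, hf2s⟩
    refine ⟨e1.symm.trans e2, fun l => ?_⟩
    obtain ⟨s, rfl⟩ := e1.surjective l
    rw [MulEquiv.trans_apply, MulEquiv.symm_apply_apply]
    exact (h.mem_P.1 s.1.2).symm
  · exfalso
    push Not at hsplit
    obtain ⟨x, -, -, hx, -, -, hxx, -⟩ := SignSplit2.exists_gens Gens.idxBound hext
      (fun L1 h1 h2 h3 => by
        obtain ⟨q, hq, hq2⟩ := hsplit L1 h1 h2
        obtain ⟨l, hl, hl2⟩ := h3 q hq
        exact hq2 l hl hl2)
    obtain ⟨c, rfl⟩ := mk_surj x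
    rw [hpp1] at hx
    obtain ⟨p, rfl⟩ := h.pp0_even (c := c) (by
      rw [hx]
      exact mem_Q_iff.2 ⟨Q_le ⟨gx, gx_mem, φ_gx⟩, sign_X⟩)
    rw [h.pp0_inl] at hx
    obtain ⟨⟨a, b⟩, hab⟩ := p
    change π a = X at hx
    have hb : π b = X := by
      rw [← h.mem_P.1 hab]
      change Z * π a * Z⁻¹ = X
      rw [hx, ZXZ]
    have hbb : b * b = a * a := by
      rcases h.eq_or (hb.trans hx.symm) with rfl | rfl
      · rfl
      · calc τ * a * (τ * a) = τ * (a * τ) * a := by group
          _ = (τ * τ) * (a * a) := by rw [h.cen]; group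
          _ = a * a := by rw [h.sq, one_mul]
    have haa : a * a = 1 ∨ a * a = τ := by
      apply (h.ker _).1
      rw [map_mul, hx, ← pow_two]
      exact X_sq
    apply hext.ne
    rw [← hxx, pow_two, ← map_mul, ← map_mul]
    have h1 : (⟨(a, b), hab⟩ : h.P) * ⟨(a, b), hab⟩ = 1 ∨ (⟨(a, b), hab⟩ : h.P) * ⟨(a, b), hab⟩ = h.dP := by
      rcases haa with h2 | h2
      · left
        exact Subtype.ext (Prod.ext h2 (hbb.trans h2))
      · right
        exact Subtype.ext (Prod.ext h2 (hbb.trans h2))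
    rcases h1 with h1 | h1
    · rw [h1, map_one, map_one]
    · rw [h1]
      exact mk_dd

/-- the action of the twisted group on 100 points -/
def φT (_ : Cov τ π) : Twist.T →* Perm (Fin 100) :=
  MonoidHom.mk' (fun g => φ (Twist.ofH.symm g)) (by
    intro a b
    have h1 : Twist.ofH.symm (a * b) = Twist.ofH.symm a * Twist.ofH.symm b *
        Twist.cc (sgn (Twist.ofH.symm a)) (sgn (Twist.ofH.symm b)) := by
      rw [Equiv.symm_apply_eq, ← Twist.mul_def, Equiv.apply_symm_apply, Equiv.apply_symm_apply]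
    rw [h1, map_mul, map_mul]
    have h2 : φ (Twist.cc (sgn (Twist.ofH.symm a)) (sgn (Twist.ofH.symm b))) = 1 := by
      rw [φ_eq_one_iff]
      unfold Twist.cc
      split_ifs
      · exact Or.inr rfl
      · exact Or.inl rfl
    rw [h2, mul_one])

/-- **A double cover of `Q` is `K`.** -/
theorem exists_equiv [Finite L] : ∃ e : K ≃* L, ∀ k : K, π (e k) = φ (k : H0) := by
  obtain ⟨ψ, hψ⟩ := h.exists_ψ
  have hz : Z⁻¹ = Z := inv_eq_of_mul_eq_one_left Z_mul
  -- `ψ` is an involution
  have hψ2 : (ψ : MulAut L) * ψ = 1 := by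
    have h1 : ((ψ.trans ψ : L ≃* L) : L →* L) = MonoidHom.id L := by
      apply hom_eq_of_mod h.sq h.cen _ h.no2
      intro l
      apply h.eq_or
      change π (ψ (ψ l)) = π l
      rw [hψ, hψ, hz]
      calc Z * (Z * π l * Z) * Z = (Z * Z) * π l * (Z * Z) := by group
        _ = π l := by rw [Z_mul]; group
    ext l
    exact congrArg (fun f : L →* L => f l) h1
  let C := EE (ψ : MulAut L) hψ2
  have hfin : Finite C := by
    have : Finite (L × ℤˣ) := inferInstance
    exact Finite.of_equiv _ (SemidirectProduct.equivProd (φ := invHom (ψ : MulAut L) hψ2)).symm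
  let Pi : C →* Perm (Fin 100) := EEπ π ψ hψ2 hψ
  have hinl : ∀ l, Pi (SemidirectProduct.inl l) = π l := EEπ_inl π ψ hψ2 hψ
  have heven : ∀ c, Pi c ∈ Q → ∃ l, c = SemidirectProduct.inl l := fun c hc => EE_even π ψ hψ2 hψ h.range hc
  let τC : C := SemidirectProduct.inl τ
  have hψτ : ψ τ = τ := by
    have h1 : π (ψ τ) = 1 := by
      rw [hψ, h.kt, mul_one, mul_inv_cancel]
    rcases (h.ker _).1 h1 with h2 | h2
    · exact absurd (ψ.injective (h2.trans (map_one ψ).symm)) h.ne
    · exact h2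
  have hext : Ext τC Pi := by
    refine ⟨?_, ?_, ?_, ?_, ?_⟩
    · intro h1
      exact h.ne (SemidirectProduct.inl_injective (h1.trans (map_one _).symm))
    · change SemidirectProduct.inl τ * SemidirectProduct.inl τ = 1
      rw [← map_mul, h.sq, map_one]
    · rintro ⟨l, u⟩
      apply SemidirectProduct.ext
      · change l * (invHom (ψ : MulAut L) hψ2 u) τ = τ * (invHom (ψ : MulAut L) hψ2 1) l
        rw [invHom_one, MulAut.one_apply]
        rcases Int.units_eq_one_or u with rfl | rfl
        · rw [invHom_one, MulAut.one_apply, h.cen]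
        · rw [invHom_neg]
          rw [hψτ, h.cen]
      · change u * 1 = 1 * u
        rw [mul_one, one_mul]
    · intro c
      constructor
      · intro h1
        obtain ⟨l, rfl⟩ := heven c (by rw [h1]; exact Q.one_mem)
        rw [hinl] at h1
        rcases (h.ker l).1 h1 with rfl | rfl
        · left
          exact map_one _
        · right
          rfl
      · rintro (rfl | rfl)
        · exact map_one _
        · rw [hinl]
          exact h.kt
    · rw [AutBound.range_eq]
      exact EEπ_range π ψ hψ2 hψ h.range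
  obtain ⟨x, y, z, hx, hy, hz', hxx, hcl, hrel⟩ := SignSplit2.exists_gens Gens.idxBound hext (by
    intro L1 hL1 hτL1 hsurj
    -- a complement
    let S : Subgroup L := L1.comap SemidirectProduct.inl
    have hτS : τ ∉ S := hτL1
    have hS : ∀ l, l ∈ S ∨ τ * l ∈ S := by
      intro l
      obtain ⟨c, hc, hc2⟩ := hsurj (π l) (h.mem_Q l)
      obtain ⟨l', rfl⟩ := heven c (by rw [hc2]; exact h.mem_Q l)
      rw [hinl] at hc2
      rcases h.eq_or hc2 with rfl | rfl
      · exact Or.inl hc
      · exact Or.inr hc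
    apply h.no2 S
    rw [Subgroup.index_eq_two_iff]
    refine ⟨τ, fun b => ?_⟩
    have h1 : ∀ b, b ∈ S → b * τ ∉ S := by
      intro b hb hb2
      apply hτS
      have h3 := S.mul_mem (S.inv_mem hb) hb2
      rwa [inv_mul_cancel_left] at h3
    rcases hS b with h2 | h2
    · exact Or.inr ⟨h2, h1 b h2⟩
    · rw [← h.cen] at h2
      refine Or.inl ⟨h2, fun h3 => h1 b h3 h2⟩)
  have hxne : x ^ 2 ≠ 1 := by
    rw [hxx]
    exact hext.ne
  -- a homomorphism from `K`
  obtain ⟨j, hj, hjinj⟩ : ∃ j : K →* C, (∀ k : K, Pi (j k) = φ (k : H0)) ∧ Function.Injective j := by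
    rcases hrel with hr | hr
    · obtain ⟨e, hex, hey, hez⟩ := Twist.exists_equiv_H0 hr hx hy hz' hxne hcl
      refine ⟨e.toMonoidHom.comp K.subtype, ?_, e.injective.comp Subtype.val_injective⟩
      have h1 : Pi.comp e.toMonoidHom = φ := by
        apply PresentedGroup.ext
        intro i
        cases i
        · change Pi (e gx) = φ gx
          rw [hex, hx, φ_gx]
        · change Pi (e gy) = φ gy
          rw [hey, hy, φ_gy]
        · change Pi (e gz) = φ gz
          rw [hez, hz', φ_gz]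
      intro k
      exact congrArg (fun f : H0 →* Perm (Fin 100) => f k) h1
    · have hcen2 : ∀ g, g * x ^ 2 = x ^ 2 * g := by
        rw [hxx]
        exact hext.cen
      obtain ⟨e, hex, hey, hez⟩ := Twist.exists_equiv_T hr hx hy hz' hxne
        (by rw [hxx]; exact hext.sq) hcen2 hcl
      have h1 : Pi.comp e.toMonoidHom = h.φT := by
        apply MonoidHom.eq_of_eqOn_dense Twist.closure_T
        rintro _ (rfl | rfl | rfl)
        · change Pi (e _) = φ gx
          rw [hex, hx, φ_gx]
        · change Pi (e _) = φ gy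
          rw [hey, hy, φ_gy]
        · change Pi (e _) = φ gz
          rw [hez, hz', φ_gz]
      let i0 : K →* Twist.T := MonoidHom.mk' (fun k => Twist.ofH k) (by
        intro a b
        exact (Twist.mul_even_left a.2 (b : H0)).symm)
      refine ⟨e.toMonoidHom.comp i0, ?_, e.injective.comp ?_⟩
      · intro k
        exact congrArg (fun f : Twist.T →* Perm (Fin 100) => f (i0 k)) h1
      · intro a b hab
        exact Subtype.ext (Twist.ofH.injective hab)
  have hjL : ∀ k : K, ∃ l, SemidirectProduct.inl l = j k := by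
    intro k
    obtain ⟨l, hl⟩ := heven (j k) (by
      rw [hj]
      exact ⟨k, k.2, rfl⟩)
    exact ⟨l, hl.symm⟩
  choose f hf using hjL
  let F : K →* L := MonoidHom.mk' f (by
    intro a b
    apply SemidirectProduct.inl_injective (φ := invHom (ψ : MulAut L) hψ2)
    rw [map_mul, hf, hf, hf, map_mul])
  have hF : ∀ k, SemidirectProduct.inl (F k) = j k := hf
  have hFinj : Function.Injective F := by
    intro a b hab
    apply hjinj
    rw [← hF, ← hF, hab]
  have hπF : ∀ k : K, π (F k) = φ (k : H0) := by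
    intro k
    rw [← hinl, hF, hj]
  have hFsurj : Function.Surjective F := by
    intro l
    obtain ⟨g, hg, hgl⟩ := h.mem_Q l
    rcases h.eq_or (hgl.symm.trans (hπF ⟨g, hg⟩).symm) with h1 | h1
    · exact ⟨_, h1.symm⟩
    · -- multiply by `τ`
      have h2 : F ⟨H0Basic.τ, τ_mem_K⟩ = τ := by
        have h3 : π (F ⟨H0Basic.τ, τ_mem_K⟩) = 1 := by
          rw [hπF]
          exact φ_eq_one_iff.2 (Or.inr rfl)
        rcases (h.ker _).1 h3 with h4 | h4
        · exfalso
          have h5 := hFinj (h4.trans (map_one F).symm)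
          exact H0Basic.τ_ne_one (congrArg Subtype.val h5)
        · exact h4
      refine ⟨⟨H0Basic.τ, τ_mem_K⟩ * ⟨g, hg⟩, ?_⟩
      rw [map_mul, h2, h1]
  exact ⟨MulEquiv.ofBijective F ⟨hFinj, hFsurj⟩, hπF⟩

end Cov

/-! ### `K` itself -/

theorem gxne : gx ^ 2 ≠ 1 := H0Basic.τ_ne_one

theorem isCover_K : Cfsg.IsNonsplitDoubleCover K Cfsg.Spor.HS :=
  ⟨by rw [DoubleCover.center_K card_H0 gxne, DoubleCover.card_ker card_H0 gxne],
    DoubleCover.nonempty_quot card_H0 gxne, DoubleCover.no_complement card_H0 gxne⟩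

/-- `K` has no subgroup of index 2. -/
theorem K_no_index_two (S : Subgroup K) : S.index ≠ 2 := no_index_two isCover_K S

theorem K_hom_eq {G' : Type*} [Group G'] {α β : K →* G'} {c : G'} (hc2 : c * c = 1)
    (hcen : ∀ g, g * c = c * g) (h : ∀ l, α l = β l ∨ α l = c * β l) : α = β :=
  hom_eq_of_mod hc2 hcen h K_no_index_two

/-- **Every automorphism of `K = 2.HS` is induced by an element of `H0 = 2.HS.2`.** -/
theorem exists_conj (σ : K ≃* K) : ∃ h : H0, ∀ k : K, ((σ k : K) : H0) = h * k * h⁻¹ := by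
  -- the induced automorphism of `Q`
  let ρ : K →* Q := DoubleCover.φK
  have hs : Function.Surjective ρ := DoubleCover.φK_surj
  have hk : ρ.ker = Subgroup.center K := (DoubleCover.center_K card_H0 gxne).symm
  have hker : ∀ m : K, ρ m = 1 ↔ ρ (σ m) = 1 := by
    intro m
    rw [← MonoidHom.mem_ker, ← MonoidHom.mem_ker, hk]
    have hfix := Subgroup.Characteristic.fixed (H := Subgroup.center K) inferInstance σ
    conv_lhs => rw [← hfix]
    rfl
  let σ1 : K →* Q := ρ.comp σ.toMonoidHom
  have hle : ρ.ker ≤ σ1.ker := fun m hm => (hker m).1 hm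
  let e : K ⧸ ρ.ker ≃* Q := QuotientGroup.quotientKerEquivOfSurjective ρ hs
  let σ2 : Q →* Q := (QuotientGroup.lift ρ.ker σ1 hle).comp e.symm.toMonoidHom
  have hσ2 : ∀ m : K, σ2 (ρ m) = ρ (σ m) := by
    intro m
    have h1 : e.symm (ρ m) = (m : K ⧸ ρ.ker) := by
      rw [MulEquiv.symm_apply_eq]
      rfl
    change QuotientGroup.lift ρ.ker σ1 hle (e.symm (ρ m)) = _
    rw [h1]
    rfl
  have hsurj : Function.Surjective σ2 := by
    intro q
    obtain ⟨m, rfl⟩ := hs q
    obtain ⟨m', rfl⟩ := σ.surjective m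
    exact ⟨ρ m', hσ2 m'⟩
  obtain ⟨p, hp, hp2⟩ := exists_perm (MulEquiv.ofBijective σ2 (Finite.surjective_iff_bijective.1 hsurj))
  rw [← AutBound.range_eq] at hp
  obtain ⟨h, rfl⟩ := hp
  refine ⟨h, ?_⟩
  -- `σ` and conjugation by `h` agree modulo `τ`
  have hKn : (K : Subgroup H0).Normal := K_normal
  let c : K ≃* K := MulAut.conjNormal h
  have hc : ∀ k : K, ((c k : K) : H0) = h * k * h⁻¹ := fun k => MulAut.conjNormal_apply h k
  have key : (K.subtype.comp σ.toMonoidHom : K →* H0) = K.subtype.comp c.toMonoidHom := by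
    apply K_hom_eq (c := τ) τ_mul_τ (fun g => τ_comm g)
    intro k
    have h1 : φ ((σ k : K) : H0) = φ ((c k : K) : H0) := by
      have h2 := hp2 (ρ k)
      have h3 : ((σ2 (ρ k) : Q) : Perm (Fin 100)) = φ ((σ k : K) : H0) := by
        rw [hσ2]
        exact DoubleCover.φK_coe (σ k)
      have h4 : ((ρ k : Q) : Perm (Fin 100)) = φ (k : H0) := DoubleCover.φK_coe k
      rw [← h3, hc, map_mul, map_mul, map_inv, ← h4]
      exact h2
    rcases φ_eq_iff.1 h1 with h2 | h2
    · exact Or.inl h2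
    · exact Or.inr (h2.trans (τ_comm _))
  intro k
  rw [← hc]
  exact congrArg (fun f : K →* H0 => f k) key

/-- a double cover in the sense of the statements is a `Cov`. -/
theorem cov_of {L : Type u} [Group L] (h : Cfsg.IsNonsplitDoubleCover L Cfsg.Spor.HS) {ρ : L →* Q}
    (hs : Function.Surjective ρ) (hk : ρ.ker = Subgroup.center L) :
    ∃ τ : L, (∀ g, g ∈ Subgroup.center L ↔ g = 1 ∨ g = τ) ∧ Cov τ (Q.subtype.comp ρ) := by
  obtain ⟨a, b, hab, huniv⟩ := Nat.card_eq_two_iff.1 h.1
  have hone : (1 : Subgroup.center L) ∈ ({a, b} : Set (Subgroup.center L)) := by rw [huniv]; trivial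
  obtain ⟨t, ht1, htu⟩ : ∃ t : Subgroup.center L, t ≠ 1 ∧ ∀ g : Subgroup.center L, g = 1 ∨ g = t := by
    have hall : ∀ g : Subgroup.center L, g = a ∨ g = b := by
      intro g
      have : g ∈ ({a, b} : Set (Subgroup.center L)) := by rw [huniv]; trivial
      exact this
    rcases hone with h1 | h1
    · refine ⟨b, fun h2 => hab (by rw [← h1, h2]), fun g => ?_⟩
      rw [h1]
      exact hall g
    · refine ⟨a, fun h2 => hab (by rw [← h1, h2]), fun g => ?_⟩
      rw [h1]
      exact (hall g).symm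
  have hcen : ∀ g, g ∈ Subgroup.center L ↔ g = 1 ∨ g = (t : L) := by
    intro g
    constructor
    · intro hg
      rcases htu ⟨g, hg⟩ with h1 | h1
      · exact Or.inl (congrArg Subtype.val h1)
      · exact Or.inr (congrArg Subtype.val h1)
    · rintro (rfl | rfl)
      · exact one_mem _
      · exact t.2
  refine ⟨t, hcen, ?_, ?_, ?_, ?_, ?_, ?_⟩
  · exact fun h1 => ht1 (Subtype.ext h1)
  · rcases htu (t * t) with h1 | h1
    · exact congrArg Subtype.val h1
    · exact absurd (mul_eq_left.1 h1) ht1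
  · exact fun g => Subgroup.mem_center_iff.1 t.2 g
  · intro g
    rw [← hcen, ← hk, MonoidHom.mem_ker]
    exact ⟨fun h1 => Subtype.ext h1, fun h1 => congrArg Subtype.val h1⟩
  · rw [MonoidHom.range_comp, MonoidHom.range_eq_top.2 hs, ← MonoidHom.range_eq_map, Subgroup.range_subtype]
  · exact no_index_two h

/-- **Uniqueness of the non-split double cover of the Higman–Sims group.** -/
theorem equiv_K {L : Type u} [Group L] (h : Cfsg.IsNonsplitDoubleCover L Cfsg.Spor.HS) : Nonempty (L ≃* K) := by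
  obtain ⟨ρ, hs, hk⟩ := exists_rho h
  obtain ⟨τ, -, hcov⟩ := cov_of h hs hk
  have : Finite L := finite_of_cover h
  obtain ⟨e, -⟩ := hcov.exists_equiv
  exact ⟨e.symm⟩

end Cfsg.Agent.HN.CoverUnique
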