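import Cfsg.Agent.HN.DData

set_option autoImplicit false

/-!
The facts of the certificate hold.
-/

namespace Cfsg.Agent.HN.DCert

open Cfsg.Agent.HN.Pres Cfsg.Agent.HN.DCheck Cfsg.Agent.HN.DSem Cfsg.Agent.HN.DData
open Cfsg.Agent.HN.NormalH Cfsg.Agent.SporadicA.PermTab
open Cfsg.Agent.HN.P1408 (hw tr okw il iw hw_append hw_iw fix0 eq_of_tr letG ev eqw)

/-- equality of lists of naturals -/
def eqL (a : List ℕ) : List ℕ → Bool :=
  List.rec (fun b => List.rec true (fun _ _ _ => false) b)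
    (fun l _ ih b => List.rec false (fun m b' _ => band (Nat.beq l m) (ih b')) b) a

theorem eqL_iff {a b : List ℕ} (h : eqL a b = true) : a = b := by
  induction a generalizing b with
  | nil => cases b with
    | nil => rfl
    | cons m b => exact absurd (show (false : Bool) = true from h) Bool.false_ne_true
  | cons l a ih => cases b with
    | nil => exact absurd (show (false : Bool) = true from h) Bool.false_ne_true
    | cons m b =>
      have h' : band (Nat.beq l m) (eqL a b) = true := h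
      rw [band_eq_true] at h'
      rw [Nat.eq_of_beq_eq_true h'.1, ih h'.2]

/-- membership in a list of words -/
def memL (a : List ℕ) (L : List (List ℕ)) : Bool :=
  List.rec false (fun b _ ih => bif eqL a b then true else ih) L

theorem memL_iff {a : List ℕ} {L : List (List ℕ)} (h : memL a L = true) : a ∈ L := by
  induction L with
  | nil => exact absurd (show (false : Bool) = true from h) Bool.false_ne_true
  | cons b L ih =>
    have h' : (bif eqL a b then true else memL a L) = true := h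
    cases hb : eqL a b with
    | true => rw [eqL_iff hb]; exact List.mem_cons_self
    | false => rw [hb] at h'; exact List.mem_cons_of_mem _ (ih h')

/-- words equal to `1` -/
def ones : List (List ℕ) :=
  [[6,5], [], [4,6,4,1,1,5,0,0,4,1,1,5,0,0], [6,1,1,1,5,0,0,0,1,1,5,0,0], [1,1,6,0,0,0,5,5,1],
   [1,1,6,0,0,4,5,4,5,4], [0,6,6,1,1,1,5,0,0], [4,6,4,6,4,1,1,5,0,0], [5,5,1,5,0],
   [1,1,6,0,0,4,1,1,6,0,0,4,5,4]]

/-- words equal to `t` -/
def tees : List (List ℕ) :=
  [[0,0,6,1,1], [5], [4,6,4,1,1,5,0,0,4], [6,1,1,1,5,0,0,0], [0,6,6,1], [4,6,4,6,4],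
   [4,1,1,5,0,0,4,1,1,5,0,0,4], [1,1,1,5,0,0,0,1,1,5,0,0]]

/-- check of the fact number `n` -/
def chkF (n : ℕ) : Bool :=
  (fun F : Fct =>
    bif band (Nat.beq F.k 0) (band (Nat.beq F.i 0) (Nat.beq F.j 0)) then true else
    bif band (Nat.beq F.k 1) (band (eqL F.b []) (band (okw F.a)
      (eqL (nth [] WW F.j) (nth [] WW F.i ++ (F.a ++ [5]))))) then true else
    run FL n (nth [] PL n) F.i F.a [] (fun i' h' W' =>
      band (Nat.beq i' F.j) (band (eqw h' F.b)
        (bif Nat.beq F.k 0 then memL W' ones else bif Nat.beq F.k 1 then memL W' tees else false))))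
    (nth ⟨0, 0, [], 0, []⟩ FL n)

/-- checks of the facts `n ≤ i < n + k`. -/
def chkR (n k : ℕ) : Bool := Nat.rec true (fun i ih => band (chkF (Nat.add n i)) ih) k

theorem chkR_iff {n k : ℕ} (h : chkR n k = true) : ∀ i, n ≤ i → i < n + k → chkF i = true := by
  induction k with
  | zero => intro i h1 h2; omega
  | succ k ih =>
    have h' : band (chkF (Nat.add n k)) (chkR n k) = true := h
    rw [band_eq_true] at h'
    intro i h1 h2
    by_cases hi : i = n + k
    · rw [hi]; exact h'.1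
    · exact ih h'.2 i h1 (by omega)

set_option maxRecDepth 100000 in
theorem c0 : chkR 0 22 = true := by decide +kernel
set_option maxRecDepth 100000 in
theorem c22 : chkR 22 22 = true := by decide +kernel
set_option maxRecDepth 100000 in
theorem c44 : chkR 44 22 = true := by decide +kernel
set_option maxRecDepth 100000 in
theorem c66 : chkR 66 22 = true := by decide +kernel
set_option maxRecDepth 100000 in
theorem c88 : chkR 88 22 = true := by decide +kernel
set_option maxRecDepth 100000 in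
theorem c110 : chkR 110 22 = true := by decide +kernel
set_option maxRecDepth 100000 in
theorem c132 : chkR 132 22 = true := by decide +kernel
set_option maxRecDepth 100000 in
theorem c154 : chkR 154 22 = true := by decide +kernel

theorem chkF_all (n : ℕ) (hn : n < 176) : chkF n = true := by
  rcases Nat.lt_or_ge n 22 with h | h
  · exact chkR_iff c0 n (by omega) (by omega)
  rcases Nat.lt_or_ge n 44 with h | h
  · exact chkR_iff c22 n (by omega) (by omega)
  rcases Nat.lt_or_ge n 66 with h | h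
  · exact chkR_iff c44 n (by omega) (by omega)
  rcases Nat.lt_or_ge n 88 with h | h
  · exact chkR_iff c66 n (by omega) (by omega)
  rcases Nat.lt_or_ge n 110 with h | h
  · exact chkR_iff c88 n (by omega) (by omega)
  rcases Nat.lt_or_ge n 132 with h | h
  · exact chkR_iff c110 n (by omega) (by omega)
  rcases Nat.lt_or_ge n 154 with h | h
  · exact chkR_iff c132 n (by omega) (by omega)
  · exact chkR_iff c154 n (by omega) (by omega)

/-! ### The words -/

theorem v0 : vw [0] = Pres.hx := by rw [vw_single, vl, if_neg (by decide), if_neg (by decide)]; exact ψ_gx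
theorem v1 : vw [1] = Pres.hx⁻¹ := by
  rw [vw_single, vl, if_neg (by decide), if_neg (by decide)]
  change ψ gx⁻¹ = _
  rw [map_inv, ψ_gx]
theorem v4 : vw [4] = Pres.hz := by rw [vw_single, vl, if_neg (by decide), if_neg (by decide)]; exact ψ_gz
theorem v5 : vw [5] = ht := by rw [vw_single, vl, if_pos rfl]
theorem v6 : vw [6] = ht⁻¹ := by rw [vw_single, vl, if_neg (by decide), if_pos rfl]

theorem vcons (a : ℕ) (w : List ℕ) : vw (a :: w) = vw [a] * vw w := vw_append [a] w

theorem vc (a b : ℕ) (w : List ℕ) : vw (a :: b :: w) = vw [a] * vw (b :: w) := vw_append [a] (b :: w)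

theorem tpow9 : ht ^ 9 = ht⁻¹ := by
  rw [eq_inv_iff_mul_eq_one, ← pow_succ]
  change ht ^ (5 + 5) = 1
  rw [pow_add, t5, one_mul]

theorem hzi : Pres.hz⁻¹ = Pres.hz := by rw [inv_eq_iff_mul_eq_one, zz]

/-- conjugation of powers of `t` by `x`. -/
theorem txk (k : ℕ) : Pres.hx⁻¹ * ht ^ k * Pres.hx = ht ^ (3 * k) := by
  rw [pow_mul, ← tx]
  induction k with
  | zero => simp
  | succ k ih => rw [pow_succ, pow_succ, ← ih]; group

theorem txx : Pres.hx⁻¹ * (Pres.hx⁻¹ * (ht * (Pres.hx * Pres.hx))) = ht⁻¹ := by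
  have h1 : Pres.hx⁻¹ * (Pres.hx⁻¹ * (ht * (Pres.hx * Pres.hx))) =
      Pres.hx⁻¹ * (Pres.hx⁻¹ * ht * Pres.hx) * Pres.hx := by group
  rw [h1, tx, txk, ← tpow9]

theorem P1 : vw [1,1,5,0,0] = ht⁻¹ := by
  simp only [vc, v0, v1, v5]; exact txx

theorem P2 : vw [1,1,6,0,0] = ht := by
  simp only [vc, v0, v1, v6]
  have h := congrArg (fun a => a⁻¹) txx
  simp only [inv_inv] at h
  refine Eq.trans ?_ h
  simp only [mul_inv_rev, inv_inv, mul_assoc]

theorem P3 : vw [0,0,6,1,1] = ht := by
  simp only [vc, v0, v1, v6]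
  rw [← txx]
  group

theorem P7 : vw [1,5,0] = ht ^ 3 := by
  simp only [vc, v0, v1, v5]
  rw [← tx]; group

theorem P4 : vw [1,1,1,5,0,0,0] = ht ^ 2 := by
  have h : [1,1,1,5,0,0,0] = [1] ++ ([1,1,5,0,0] ++ [0]) := rfl
  rw [h, vw_append, vw_append, P1, v0, v1, ← tpow9]
  have h2 := txk 9
  rw [mul_assoc] at h2
  rw [h2]
  change ht ^ (5 * 5 + 2) = _
  rw [pow_add, pow_mul, t5, one_pow, one_mul]

theorem t3 : ht ^ 3 = (ht ^ 2)⁻¹ := by
  rw [eq_inv_iff_mul_eq_one, ← pow_add, t5]

theorem P5 : vw [0,6,6,1] = ht := by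
  simp only [vc, v0, v1, v6]
  have h : Pres.hx * (ht⁻¹ * (ht⁻¹ * Pres.hx⁻¹)) = Pres.hx * (ht ^ 2)⁻¹ * Pres.hx⁻¹ := by
    rw [pow_two]; group
  rw [h, ← t3, ← tx]
  group

theorem P6 : vw [0,5,5,1] = ht⁻¹ := by
  have h := P5
  simp only [vc, v0, v1, v6] at h
  simp only [vc, v0, v1, v5]
  refine Eq.trans ?_ (congrArg (fun a => a⁻¹) h)
  simp only [mul_inv_rev, inv_inv, mul_assoc]

theorem zt' : Pres.hz * ht * Pres.hz * ht * Pres.hz * ht = 1 := by
  have h := zt
  rw [pow_succ, pow_two] at h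
  rw [← h]; group

theorem P9 : vw [4,5,4,5,4] = ht⁻¹ := by
  simp only [vc, v4, v5]
  rw [eq_inv_iff_mul_eq_one, ← zt']
  group

theorem P8 : vw [4,6,4,6,4] = ht := by
  have h := congrArg (fun a => a⁻¹) P9
  simp only [inv_inv] at h
  rw [← h]
  simp only [vc, v4, v5, v6, mul_inv_rev, hzi, mul_assoc]

theorem P8' : Pres.hz * (ht⁻¹ * (Pres.hz * (ht⁻¹ * Pres.hz))) = ht := by
  have h := P8
  simp only [vc, v4, v6] at h
  exact h

theorem tees_eq {a : List ℕ} (h : a ∈ tees) : vw a = ht := by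
  simp only [tees, List.mem_cons, List.not_mem_nil, or_false] at h
  rcases h with rfl | rfl | rfl | rfl | rfl | rfl | rfl | rfl
  · exact P3
  · exact v5
  · rw [show [4,6,4,1,1,5,0,0,4] = [4] ++ ([6] ++ ([4] ++ ([1,1,5,0,0] ++ [4]))) from rfl]
    simp only [vw_append, P1, v4, v6]
    exact P8'
  · rw [show [6,1,1,1,5,0,0,0] = [6] ++ [1,1,1,5,0,0,0] from rfl, vw_append, P4, v6, pow_two]
    group
  · exact P5
  · exact P8
  · rw [show [4,1,1,5,0,0,4,1,1,5,0,0,4] =
      [4] ++ ([1,1,5,0,0] ++ ([4] ++ ([1,1,5,0,0] ++ [4]))) from rfl]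
    simp only [vw_append, P1, v4]
    exact P8'
  · rw [show [1,1,1,5,0,0,0,1,1,5,0,0] = [1,1,1,5,0,0,0] ++ [1,1,5,0,0] from rfl, vw_append, P4, P1,
      pow_two]
    group

theorem ones_eq {a : List ℕ} (h : a ∈ ones) : vw a = 1 := by
  simp only [ones, List.mem_cons, List.not_mem_nil, or_false] at h
  rcases h with rfl | rfl | rfl | rfl | rfl | rfl | rfl | rfl | rfl | rfl
  · rw [vcons, v5, v6, inv_mul_cancel]
  · rfl
  · rw [show [4,6,4,1,1,5,0,0,4,1,1,5,0,0] =
      ([4] ++ ([6] ++ ([4] ++ ([1,1,5,0,0] ++ [4])))) ++ [1,1,5,0,0] from rfl, vw_append _ [1,1,5,0,0]]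
    simp only [vw_append, P1, v4, v6]
    rw [P8', mul_inv_cancel]
  · rw [show [6,1,1,1,5,0,0,0,1,1,5,0,0] = [6] ++ ([1,1,1,5,0,0,0] ++ [1,1,5,0,0]) from rfl,
      vw_append, vw_append, P4, P1, v6, pow_two]
    group
  · rw [show [1,1,6,0,0,0,5,5,1] = [1,1,6,0,0] ++ [0,5,5,1] from rfl, vw_append, P2, P6,
      mul_inv_cancel]
  · rw [show [1,1,6,0,0,4,5,4,5,4] = [1,1,6,0,0] ++ [4,5,4,5,4] from rfl, vw_append, P2, P9,
      mul_inv_cancel]
  · rw [show [0,6,6,1,1,1,5,0,0] = [0,6,6,1] ++ [1,1,5,0,0] from rfl, vw_append, P5, P1,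
      mul_inv_cancel]
  · rw [show [4,6,4,6,4,1,1,5,0,0] = [4,6,4,6,4] ++ [1,1,5,0,0] from rfl, vw_append, P8, P1,
      mul_inv_cancel]
  · rw [show [5,5,1,5,0] = [5] ++ ([5] ++ [1,5,0]) from rfl, vw_append, vw_append, P7, v5, ← t5]
    group
  · rw [show [1,1,6,0,0,4,1,1,6,0,0,4,5,4] =
      [1,1,6,0,0] ++ ([4] ++ ([1,1,6,0,0] ++ ([4] ++ ([5] ++ [4])))) from rfl]
    simp only [vw_append, P2, v4, v5]
    have h := P9
    simp only [vc, v4, v5] at h
    rw [h, mul_inv_cancel]

theorem vw_of_okw {a : List ℕ} (h : okw a = true) : vw a = vh a := by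
  induction a with
  | nil => rw [vw_nil, vh_nil]
  | cons l a ih =>
    obtain ⟨h1, h2⟩ := P1408.okw_cons h
    rw [vcons, ih h2, vw_single, vl, if_neg (by omega), if_neg (by omega)]
    rw [vh, vh, ← map_mul]
    rfl

/-- the representatives -/
noncomputable def w (n : ℕ) : Cfsg.Spor.HN := vw (nth [] WW n)

theorem w0 : w 0 = 1 := rfl

section

variable (hfin : Finite H0) (hle : Nat.card H0 ≤ 177408000)

include hfin hle

theorem holds_of (n : ℕ) (hn : chkF n = true)
    (ih : ∀ f < n, holds w (nth ⟨0, 0, [], 0, []⟩ FL f)) : holds w (nth ⟨0, 0, [], 0, []⟩ FL n) := by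
  have h' : (
    (fun F : Fct =>
    bif band (Nat.beq F.k 0) (band (Nat.beq F.i 0) (Nat.beq F.j 0)) then true else
    bif band (Nat.beq F.k 1) (band (eqL F.b []) (band (okw F.a)
      (eqL (nth [] WW F.j) (nth [] WW F.i ++ (F.a ++ [5]))))) then true else
    run FL n (nth [] PL n) F.i F.a [] (fun i' h' W' =>
      band (Nat.beq i' F.j) (band (eqw h' F.b)
        (bif Nat.beq F.k 0 then memL W' ones else bif Nat.beq F.k 1 then memL W' tees else false))))
    (nth ⟨0, 0, [], 0, []⟩ FL n)) = true := hn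
  generalize nth ⟨0, 0, [], 0, []⟩ FL n = F at h' ⊢
  replace h' : (
    bif band (Nat.beq F.k 0) (band (Nat.beq F.i 0) (Nat.beq F.j 0)) then true else
    bif band (Nat.beq F.k 1) (band (eqL F.b []) (band (okw F.a)
      (eqL (nth [] WW F.j) (nth [] WW F.i ++ (F.a ++ [5]))))) then true else
    run FL n (nth [] PL n) F.i F.a [] (fun i' h' W' =>
      band (Nat.beq i' F.j) (band (eqw h' F.b)
        (bif Nat.beq F.k 0 then memL W' ones else bif Nat.beq F.k 1 then memL W' tees else false))))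
      = true := h'
  cases h1 : band (Nat.beq F.k 0) (band (Nat.beq F.i 0) (Nat.beq F.j 0)) with
  | true =>
    rw [band_eq_true, band_eq_true] at h1
    have k0 := Nat.eq_of_beq_eq_true h1.1
    have i0 := Nat.eq_of_beq_eq_true h1.2.1
    have j0 := Nat.eq_of_beq_eq_true h1.2.2
    refine ⟨fun _ => ?_, fun h => by omega⟩
    rw [i0, j0, w0, one_mul, one_mul]
    exact H.mul_mem (vh_mem _) (H.inv_mem (vh_mem _))
  | false =>
    rw [h1] at h'
    replace h' : (
    bif band (Nat.beq F.k 1) (band (eqL F.b []) (band (okw F.a)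
      (eqL (nth [] WW F.j) (nth [] WW F.i ++ (F.a ++ [5]))))) then true else
    run FL n (nth [] PL n) F.i F.a [] (fun i' h' W' =>
      band (Nat.beq i' F.j) (band (eqw h' F.b)
        (bif Nat.beq F.k 0 then memL W' ones else bif Nat.beq F.k 1 then memL W' tees else false))))
      = true := h'
    cases h2 : band (Nat.beq F.k 1) (band (eqL F.b []) (band (okw F.a)
      (eqL (nth [] WW F.j) (nth [] WW F.i ++ (F.a ++ [5]))))) with
    | true =>
      rw [band_eq_true, band_eq_true, band_eq_true] at h2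
      have k1 := Nat.eq_of_beq_eq_true h2.1
      refine ⟨fun h => by omega, fun _ => ?_⟩
      rw [eqL_iff h2.2.1, vh_nil, mul_one, w, w, eqL_iff h2.2.2.2, vw_append, vw_append, v5,
        vw_of_okw h2.2.2.1, mul_assoc]
      exact R.refl _
    | false =>
      rw [h2] at h'
      obtain ⟨i', h'', W', hk, hR⟩ := run_sound hfin hle w FL n ih _ _ _ _ _ h'
      rw [band_eq_true, band_eq_true, List.nil_append] at hk
      obtain ⟨hi, he, hW⟩ := hk
      have hi' := Nat.eq_of_beq_eq_true hi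
      have he' := eq_of_tr hfin hle he
      have hv : vh h'' = vh F.b := by rw [vh, vh, he']
      rw [hi', hv] at hR
      refine ⟨fun hk0 => ?_, fun hk1 => ?_⟩
      · rw [hk0] at hW
        rw [ones_eq (memL_iff hW), mul_one] at hR
        exact hR
      · rw [hk1] at hW
        rw [tees_eq (memL_iff hW)] at hR
        exact hR

theorem holds_all (n : ℕ) (hn : n < 176) : holds w (nth ⟨0, 0, [], 0, []⟩ FL n) := by
  induction n using Nat.strong_induction_on with
  | _ n ih => exact holds_of hfin hle n (chkF_all n hn) (fun f hf => ih f hf (hf.trans hn))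

end

end Cfsg.Agent.HN.DCert
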