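import Cfsg.Agent.HN.P1408

set_option autoImplicit false

/-!
Checker for the double coset enumeration certificate of the presented Harada–Norton group over
`H = ⟨x, y, z⟩`.  States are pairs `(i, h)` standing for the right coset `H w_i h`.
-/

namespace Cfsg.Agent.HN.DCheck

open Cfsg.Agent.HN.Pres Cfsg.Agent.HN.P1408 Cfsg.Agent.SporadicA.PermTab

/-- inverse of a word, prepended to `acc`. -/
def iwa (w acc : List ℕ) : List ℕ :=
  @List.rec ℕ (fun _ => List ℕ → List ℕ) (fun acc => acc) (fun l _ ih acc => ih (il l :: acc)) w acc

/-- a fact: `k = 0`: `w_i a ∈ H w_j b`; `k = 1`: `w_i a t ∈ H w_j b`. -/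
structure Fct where
  k : ℕ
  i : ℕ
  a : List ℕ
  j : ℕ
  b : List ℕ

/-- the `n`-th entry of a list -/
def nth {α : Type} (d : α) (L : List α) (n : ℕ) : α :=
  @List.rec α (fun _ => ℕ → α) (fun _ => d) (fun a _ ih n => bif Nat.beq n 0 then a else ih (Nat.sub n 1)) L n

/-- move codes: `8 f + 2 d` uses fact `f` (kind 0), `8 f + 2 d + 1` uses fact `f` (kind 1), `d = 1` forward,
`d = 0` backward; `8 s + 4` multiplies by the letter `s`. -/
def run (FL : List Fct) (n : ℕ) (ms : List ℕ) :
    ℕ → List ℕ → List ℕ → (ℕ → List ℕ → List ℕ → Bool) → Bool :=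
  @List.rec ℕ (fun _ => ℕ → List ℕ → List ℕ → (ℕ → List ℕ → List ℕ → Bool) → Bool)
    (fun i h W k => k i h W)
    (fun m _ ih i h W k =>
      bif Nat.beq (Nat.land m 4) 4 then
        bif Nat.blt (Nat.shiftRight m 3) 5 then
        ih i (h ++ [Nat.shiftRight m 3]) (W ++ [Nat.shiftRight m 3]) k else false
      else
        (fun (F : Fct) =>
          bif Nat.blt (Nat.shiftRight m 3) n then
            bif Nat.beq F.k (Nat.land m 1) then
              bif Nat.beq (Nat.land m 2) 2 then
                bif Nat.beq F.i i then
                  bif Nat.beq (Nat.land m 1) 0 then ih F.j (F.b ++ iwa F.a h) W k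
                  else bif band (okw (iwa F.a h)) (Nat.beq (tr (iwa F.a h) 0) 0) then ih F.j (F.b ++ iwa F.a h) (W ++ [5]) k
                  else false
                else false
              else
                bif Nat.beq F.j i then
                  bif Nat.beq (Nat.land m 1) 0 then ih F.i (F.a ++ iwa F.b h) W k
                  else bif band (okw (iwa F.b h)) (Nat.beq (tr (iwa F.b h) 0) 0) then ih F.i (F.a ++ iwa F.b h) (W ++ [6]) k
                  else false
                else false
            else false
          else false) (nth ⟨0, 0, [], 0, []⟩ FL (Nat.shiftRight m 3)))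
    ms

end Cfsg.Agent.HN.DCheck
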