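import Cfsg.Agent.HN.DSem

set_option autoImplicit false

/-!
Data of the double coset enumeration certificate (176 facts) of the presented Harada–Norton group.
-/

namespace Cfsg.Agent.HN.DData

open Cfsg.Agent.HN.DCheck

/-- facts -/
def FL0 : List Fct := [
  ⟨0, 0, [0], 0, []⟩,
  ⟨0, 0, [2], 0, []⟩,
  ⟨0, 0, [4], 0, []⟩,
  ⟨1, 0, [], 1, []⟩,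
  ⟨0, 1, [2,2,2,1,2,0,2,1,2,2,0,3,3,1,2,2,0,2,1,2,0,3,1,2,2,0], 1, []⟩,
  ⟨0, 1, [2,1,2,2,2,0,3,3,1,2,0,3], 1, []⟩,
  ⟨0, 1, [1,2,0,3], 1, []⟩,
  ⟨1, 1, [0,0], 0, [0,0]⟩,
  ⟨1, 1, [2,2,1,2,2,0,2,1,2,2,2,0,2,2,1,2,0,2,2,1,3,3,0,2,2,4], 1, [1,3,0,2,1,3,3,0,3,3,1,2,2,0,2,1,2,0,3,0,0,4]⟩,
  ⟨1, 1, [2,2,1,2,2,0,2,1,2,2,2,0,2,2,1,2,0,2,2,1,3,3,0,2,2], 1, [2,1,3,3,0,2,1,3,0,3,3,1,2,2,0,2,1,2,0,3,1]⟩,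
  ⟨1, 1, [2,1,3,3,0,2,1,3,0,3,3,1,2,2,0,2,1,2,0,3,0], 1, [2,2,1,2,2,0,2,1,2,2,2,0,2,2,1,2,0,2,2,1,3,3,0,2,2,0,0]⟩,
  ⟨1, 1, [1,3,1,2,0,2,2,1,3,3,0,3,1,3,3,3,0,2,1,2,2,0,3], 1, [0,3,1,2,0,2,2,1,3,3,0,3,1,3,3,3,0,2,1,2,2,0,3]⟩,
  ⟨1, 1, [0,4], 2, []⟩,
  ⟨0, 2, [1,3,0,2,2,1,2,2,0,3,1,2,2,2,0,2,2,2,1,2,2,2,0], 2, []⟩,
  ⟨0, 2, [2,1,2,0,2,2,1,3,3,0,2,2,1,3,3,0,3,1,2,2,0,3,3], 2, []⟩,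
  ⟨1, 2, [0,0], 1, [1,4]⟩,
  ⟨0, 2, [2,1,2,0,2,2,1,2,0,2,2,2,1,2,0,3,3,1,2,0,3], 2, [2,2,1,3,3,0,3,1,3,0,2,0,0]⟩,
  ⟨1, 1, [1,4], 3, []⟩,
  ⟨0, 3, [1,2,0,2,2,2,1,3,0,3,1,2,2,2,0,2], 3, []⟩,
  ⟨0, 3, [1,3,3,0,2,2,1,3,0,3,3,1,2,2,0,2,2,1,2,2,2,0,2,2,2], 3, []⟩,
  ⟨1, 3, [0,0], 1, [0,4]⟩,
  ⟨1, 1, [0,0,4], 4, []⟩]

/-- paths -/
def PL0 : List (List ℕ) := [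
  [],
  [],
  [],
  [],
  [25,18,8,18,8,8,18,8,8,2,10,10,16,10,10,16,10,16,0,27],
  [25,18,10,10,10,0,8,18,8,8,2,10,10,2,8,8,16,0,8,16,27],
  [25,2,18,10,18,10,2,18,10,0,10,16,8,0,8,16,0,8,8,16,0,27],
  [4,4,25,12,12],
  [36,25,18,10,10,2,10,18,10,2,10,36,12,12,16,2,10,16,10,16,0,27,4,4,36],
  [25,18,10,10,2,10,18,10,2,10,12,12,12,8,2,8,16,8,0,8,8,16,0,27,4,4,4],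
  [4,4,73,12,12],
  [4,25,2,2,57,12],
  [],
  [97,34,48,40,48,34,40,48,40,48,99],
  [97,48,32,40,34,48,32,50,32,99],
  [4,4,97,12,12],
  [97,48,42,12,12,12,42,32,67,4,4,4,12,12,34,50,99,4,4],
  [],
  [137,50,32,50,34,48,139],
  [137,34,48,34,48,34,42,42,48,139],
  [4,4,137,12,12],
  []]

/-- facts -/
def FL1 : List Fct := [
  ⟨1, 4, [0,0], 1, [4]⟩,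
  ⟨1, 3, [2,2,1,2,2,2,0,2,2,2,1,3,0,2,2,2], 4, [1,2,2,0,2,2,2,1,2,2,2,0,3,1,2,2,2]⟩,
  ⟨0, 3, [3,1,3,3,0,3,3,1,3,0,2,2,1,2,2,0,2,1,2,2,1], 4, [2,1,2,0,2,1,3,3,0,3,3,1,3,0,3,3,1,3,0,2,2,1]⟩,
  ⟨1, 1, [0,0,4], 3, [3,3,1,2,2,0,3,3,1,2,2,0,3,3,1,2,2]⟩,
  ⟨1, 3, [2,2,1,2,2,2,0,2,2,2,1,3,0,2,2,2], 3, [1,3,3,0,2,1,2,2,2,0,3,1,3,0,2,2,2,1,2,0,2,0,0]⟩,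
  ⟨1, 3, [3,3,0,2,2,1,3,3,0,2,2,1,3,3,0,2,2], 1, [4]⟩,
  ⟨1, 2, [1], 5, []⟩,
  ⟨1, 5, [0,0], 2, [0]⟩,
  ⟨0, 3, [1,3,3,0,2,1,3,0,2,2,1,3,0,3,3,1,3,0,4], 3, [3,3,1,3,3,0,2,2,1,3,3,0,2,2,1,2,2,0,3,3,0]⟩,
  ⟨0, 3, [1,2,2,2,0,2,2,1,3,0,2,2,1,2,2,0,2,2,1], 5, [0,3,3,0,2,1,3,3,0,3,1,2,2,0,3]⟩,
  ⟨1, 2, [1], 3, [3,3,0,3,1,3,3,3,0,3,3,3,1,2,0,3,1,2,2,0,3]⟩,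
  ⟨1, 3, [3,3,1,2,0,2,2,2,1,2,2,0,2,2,1,2,0,2,1,3], 2, [0]⟩,
  ⟨1, 2, [4], 6, []⟩,
  ⟨1, 6, [0,0], 2, [0,0,4]⟩,
  ⟨0, 1, [1,3,1,3,3,3,0,2,1,2,2,0,2,2,1,3,0,3,1,3,0], 6, [3,1,3,3,0,2,1,2,2,0,3,1,2,2,0,2,2,4]⟩,
  ⟨0, 2, [0,0,4], 2, []⟩,
  ⟨1, 1, [4,3,4], 7, []⟩,
  ⟨0, 7, [1,3,0,2,2,1,3,3,0,2,2,1,2,0,2,2,1,3,0], 7, []⟩,
  ⟨0, 7, [1,3,3,0,3,1,3,0,2,2,2,1,2,0,3], 7, []⟩,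
  ⟨1, 7, [0,0], 1, [0,0,4,3,4]⟩,
  ⟨1, 3, [2,1,2,0,2,2,1,2,2,0,2,2,2,1,2,0,2,1,2,2,0,3,3,1,2,2,0,4], 7, [1,2,2,0,3,1,3,3,0,3,1,2,2,0,3,1,3,3,0,2,2,1,3,3,1,4]⟩,
  ⟨1, 7, [1,2,2,0,3,1,3,3,0,3,1,2,2,0,3,1,3,3,0,2,2,1,3,3,0,4], 3, [2,1,2,0,2,2,1,2,2,0,2,2,2,1,2,0,2,1,2,2,0,3,3,1,2,2,1,4]⟩]

/-- paths -/
def PL1 : List (List ℕ) := [
  [4,4,169,12,12],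
  [137,50,34,48,12,12,12,50,32,48,171,4,4,4],
  [12,12,137,50,42,4,4,4,42,42,34,67,34,50,171,12],
  [171,192],
  [187,192],
  [194,179],
  [],
  [4,4,225,12,12],
  [36,137,48,40,36,12,12,83,4,4,36,12,12,50,42,50,203,4,4],
  [201,48,40,50,12,12,12,48,42,50,99,4,4,4,12,12,128,227,4,4],
  [227,248],
  [250,235],
  [],
  [4,4,273,12,12],
  [12,12,89,4,4,36,42,34,50,99,36,275,36],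
  [281,288,42,34,50,99],
  [],
  [305,42,42,34,34,42,42,48,42,34,307],
  [305,50,42,32,50,42,50,34,50,32,307],
  [4,4,305,12,12],
  [36,137,50,40,40,36,12,12,34,40,32,40,34,307,4,4,36],
  [4,4,337,12,12]]

/-- facts -/
def FL2 : List Fct := [
  ⟨1, 7, [2,1,2,0,2,1,2,2,2,0,2,2,1,3,0,2,2,4], 3, [3,3,1,3,3,0,2,2,1,2,2,0,2,2,1,2,2,0,0,4]⟩,
  ⟨1, 3, [3,3,1,3,3,0,2,2,1,2,2,0,2,2,1,2,2,4], 7, [2,1,2,0,2,1,2,2,2,0,2,2,1,3,0,2,2,0,0,4]⟩,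
  ⟨1, 1, [4,3,0,4], 8, []⟩,
  ⟨0, 8, [2,2,1,2,0,3,3,1,2,0,3,3,1,3,0,3,3,1,2,2,0], 8, []⟩,
  ⟨0, 8, [2,2,1,2,0,2,2,1,3,0,2,2,1,2,0,2], 8, []⟩,
  ⟨1, 8, [0,0], 1, [4,3,1,4]⟩,
  ⟨1, 7, [2,1,2,0,3,3,1,3,3,0,2,1,2,2,0,2,2,2,1,2,0,2], 8, [3,1,3,0,3,1,3,3,0,2,2,1,2,2,0,3,1,3]⟩,
  ⟨1, 8, [3,0,3,1,3,0,3,3,1,2,2,0,2,2,1,3,0,3], 7, [2,1,2,0,3,3,1,3,3,0,2,1,2,2,0,2,2,2,1,2,0,2,0,0]⟩,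
  ⟨1, 2, [2,2,1,3,0,3,1,3,3,0,3,3,1,2,0,2,2,1,2,2,0,2,2,4], 8, [1,2,0,2,2,2,1,2,2,0,3,1,3,3,0,2,2,1,2,0,3,3,1,3,1,4]⟩,
  ⟨1, 8, [1,2,0,2,2,2,1,2,2,0,3,1,3,3,0,2,2,1,2,0,3,3,1,3,0,4], 2, [2,2,1,3,0,3,1,3,3,0,3,3,1,2,0,2,2,1,2,2,0,2,2,0,0,4]⟩,
  ⟨0, 7, [2,1,2,2,0,3,3,1,3,0,2,2,1,2,0,2,2,2,1,3,0,3,3,4], 7, [3,3,1,2,0,3,3,1,2,0,2,2,1,3,0,3,3,1,3,0,2,0,0]⟩,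
  ⟨1, 3, [2,1,2,1,3,3,3,4,3,3,1,3,3,0,3,3,1,2,0,3,3,3], 8, [1,1,2,2,1,2,2,0,2,1,2,2,0,2,1,3,3,0,2,1,3,0,2,2]⟩,
  ⟨1, 8, [2,2,1,2,2,0,2,1,2,2,0,2,1,3,3,0,2,1,3,0,2,2], 3, [2,0,2,1,3,3,3,4,3,3,1,3,3,0,3,3,1,2,0,3,3,3]⟩,
  ⟨0, 3, [2,2,1,3,3,0,2,1,3,3,0,3,3,1,3,3,0,3,3,4,2,4,3,4,3,3], 7, [0,2,2,0,2,1,3,3,0,3,3,1,3,3,0,2,2,1,2,2,0,3,3,1,3,0]⟩,
  ⟨1, 1, [4,3,4], 3, [3,1,3,3,0,2,1,2,2,0,3,3,1,3,3,0,3,3,0,0,4,2,4,3,4]⟩,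
  ⟨1, 3, [3,3,1,3,3,0,2,2,1,2,2,0,2,2,1,2,2,4], 3, [2,2,2,1,2,2,2,0,3,3,1,3,0,3,1,3,3,0,3,3,1,3,3,0,4,2,2,4,3,3]⟩,
  ⟨1, 3, [2,1,2,0,2,2,1,2,2,0,2,2,2,1,2,0,2,1,2,2,0,3,3,1,2,2,0,4], 3, [3,1,3,3,4,1,3,4,1,2,0,3,3,1,3,3,0,3,3,1,2,2,0,3,3,1,2,0]⟩,
  ⟨1, 8, [3,0,3,1,3,0,3,3,1,2,2,0,2,2,1,3,0,3], 3, [2,2,2,1,2,2,0,2,1,3,3,0,2,1,2,2,0,3,3,0,4,3,3,0,3,1,3]⟩,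
  ⟨1, 3, [2,2,2,1,2,2,0,2,1,3,3,0,2,1,2,2,0,3,3,0,4,3,3,0,3,0,3], 8, [3,1,3,0,3,1,3,3,0,2,2,1,2,2,0,3,1,3]⟩,
  ⟨1, 3, [3,1,3,3,0,2,1,2,2,0,3,3,1,3,3,0,3,3,4,2,4,3,4], 1, [0,0,4,3,4]⟩,
  ⟨1, 3, [3,1,2,2,0,2,1,3,3,0,3,1,2,2,0,2,4], 8, [3,0,3,3,3,4,1,1,3,3,0,2,2,1,3,0,3,3,1,3,3,0,2]⟩,
  ⟨1, 8, [2,2,2,1,2,0,2,2,1,2,2,2,0,2,1,3,3,0,2,2,2,4], 3, [3,1,2,2,0,2,1,3,3,0,3,1,2,2,0,2,0,0,4]⟩]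

/-- paths -/
def PL2 : List (List ℕ) := [
  [36,305,32,42,32,42,36,12,12,50,32,32,203,4,4,36],
  [4,4,353,12,12],
  [],
  [369,32,50,32,42,34,42,32,32,371],
  [369,50,42,32,40,34,34,50,32,40,371],
  [4,4,369,12,12],
  [305,32,42,32,32,12,12,12,50,40,32,371,4,4,4],
  [4,4,401,12,12],
  [36,97,48,42,36,12,12,42,50,42,42,32,371,4,4,36],
  [4,4,417,12,12],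
  [36,305,32,40,50,32,36,12,12,42,32,67,4,4,36,12,12,32,42,34,48,307,4,4],
  [345,434,322,312,12,12,12,314,432,314,432,403,4,4,4],
  [4,4,441,12,12],
  [4,449,369,40,34,12,12,12,32,42,307,4,4],
  [307,456],
  [363,456],
  [339,456],
  [411,456],
  [458,403],
  [458,331],
  [36,137,34,48,32,42,36,12,12,42,32,48,371,4,4,36],
  [4,4,513,12,12]]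

/-- facts -/
def FL3 : List Fct := [
  ⟨0, 8, [1,2,0,2,2,1,3,0,3,3,1,2,2,0,2,1,3,3,0,4,2,2,2,0,3,0,2], 8, [3,1,3,3,3,4,1,2,2,1,2,0,2,2,1,3,3,0,3,3,1,2,0,3,3,3]⟩,
  ⟨0, 2, [3,3,4,0,2,0,2,1,2,0,3,3,3,1,2,2,0,3,1,2,2,0,3], 2, [2,2,1,3,0,3,1,3,3,0,3,3,1,2,0,2,2,1,2,2,0,2,2,0,0,4]⟩,
  ⟨1, 8, [1], 9, []⟩,
  ⟨0, 8, [2,1,2,0,3,1,3,0,2,2,1,2,0,2,2,2,1,3,4], 8, [1,2,2,0,2,2,1,2,2,0,2,2,2,1,3,1]⟩,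
  ⟨1, 8, [1,2,2,2,0,3,3,1,3,0,3,3,1,3,0,2,2,1,2,0,2,2,4,2,4,2,4,2,4,2], 8, [2,1,2,2,0,2,1,3,0,2,2,1,2,2,0,3,1,2,2,2,0,2,0,4,2,4,2,2,2,0,2]⟩,
  ⟨1, 8, [2,1,2,0,3,3,1,2,0,2,2,1,3,3,0,3,1,2,2,0,0,4,2,4,3], 8, [2,0,2,4,1,2,2,4,1,2,0,3,3,3,1,3,3,0,3,1,3,0,2,2]⟩,
  ⟨1, 9, [1], 10, []⟩,
  ⟨1, 10, [0,0], 9, [0]⟩,
  ⟨0, 3, [1,3,3,0,2,2,2,1,2,0,3,1,2,2,0,2,2,0,4,2,2,0,2,0,3], 10, [0,2,2,1,3,3,0,3,1,2,2,0,2,2,1,3,3,3,0,3,1,3,3,0,3]⟩,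
  ⟨0, 8, [1,2,0,2,1,2,2,2,0,2,2,1,3,0,2,2,2,1,2,0,3,1,2,2,1], 9, [0]⟩,
  ⟨1, 8, [1], 8, [0,3,3,1,3,0,3,3,3,1,2,0,3,1,2,2,0,3,1,2,2,0,3,3]⟩,
  ⟨1, 1, [4,3,4,3,4], 11, []⟩,
  ⟨0, 11, [2,1,2,2,2,0,2,2,1,3,0,2,2,1,3,0,3,3,1,3,3,0], 11, []⟩,
  ⟨0, 11, [1,2,0,2,2,2,1,2,2,0,3,1,3,3,0,2,2,1,2,2,0,2,2,2,1,2,0], 11, []⟩,
  ⟨0, 11, [1,2,2,0,3,3,1,3,0,2,2,2,1,2,0,2,2,1,3,3,0], 11, []⟩,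
  ⟨1, 11, [0,0], 1, [0,0,4,3,4,3,4]⟩,
  ⟨1, 8, [2,1,2,0,3,3,1,2,0,3,1,2,2,2,0,2,2,2,1,2,0,4], 11, [2,2,2,1,2,0,3,3,1,2,0,2,2,2,1,3,0,2,0,0,4]⟩,
  ⟨1, 11, [2,2,2,1,2,0,3,3,1,2,0,2,2,2,1,3,0,2,4], 8, [2,1,2,0,3,3,1,2,0,3,1,2,2,2,0,2,2,2,1,2,1,4]⟩,
  ⟨1, 8, [2,0,2,4,1,2,2,4,1,2,0,2,1,3,3,0], 11, [3,1,2,2,0,2,2,1,2,2,2,0,3,3,1,3,0,2,2,1,2,1,4,2,4,3,4]⟩,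
  ⟨1, 11, [3,1,2,2,0,2,2,1,2,2,2,0,3,3,1,3,0,2,2,1,2,0,4,2,4,3,4], 8, [2,1,2,4,1,2,2,4,1,2,0,2,1,3,3,0]⟩,
  ⟨1, 11, [1,3,0,3,3,1,2,0,2,2,1,3,0,3,3,1,2,2,0,2], 11, [2,2,1,2,2,2,0,3,1,3,0,3,3,1,2,2,0,2,1,2,2]⟩,
  ⟨1, 11, [2,2,0,3,3,3,1,3,0,3,1,3,3,0,2,2,1,2,0,2,2], 11, [0,3,0,3,3,1,2,0,2,2,1,3,0,3,3,1,2,2,0,2]⟩]

/-- paths -/
def PL3 : List (List ℕ) := [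
  [513,152,152,144,12,12,12,146,475,4,4,4,12,12,146,242,152,515,4,4],
  [425,530,530,530,376,427],
  [],
  [36,497,146,36,201,34,34,50,36,12,12,34,34,42,371,4,4],
  [36,417,106,106,130,36,12,12,296,128,112,419,4,4,36],
  [36,417,106,106,112,298,36,12,12,538,128,112,104,419,4,4,36],
  [],
  [4,4,577,12,12],
  [152,152,499,547,12,579,4],
  [441,154,154,594,587],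
  [547,600],
  [],
  [617,32,32,48,32,50,32,40,34,48,619],
  [617,34,40,32,50,34,34,50,32,40,48,619],
  [617,34,42,50,34,50,32,32,50,34,619],
  [4,4,617,12,12],
  [36,369,32,42,32,50,36,12,12,50,42,48,619,4,4,36],
  [4,4,657,12,12],
  [569,386,530,530,12,12,12,552,530,376,659,4,4,4],
  [4,4,673,12,12],
  [617,34,34,42,50,12,12,12,42,48,619,4,4,4],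
  [4,4,689,12,12]]

/-- facts -/
def FL4 : List Fct := [
  ⟨1, 3, [3,3,1,2,2,0,3,1,3,3,0,3,1,2,2,2,0,2,4,2,0,4], 11, [2,2,1,2,0,2,1,2,2,2,0,2,2,1,3,0,2,2,1,2,0,3,0,0,4]⟩,
  ⟨1, 11, [2,2,1,2,0,2,1,2,2,2,0,2,2,1,3,0,2,2,1,2,0,3,4], 3, [3,3,1,2,2,0,3,1,3,3,0,3,1,2,2,2,0,2,4,2,1,4]⟩,
  ⟨0, 11, [4,2,4,3,4,3,3,4,1,3,1,2,2,0,2,1,3,0,2,2,1,2,0,3], 11, [4,3,4,2,4,1,2,0,2,2,1,2,0,3,3,3,1,2,0]⟩,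
  ⟨1, 11, [4,3,4,2,4,1,1,3,0,3,3,3,1,3,0,3,1,3,3,0,3,1,2,2,0,3,3], 11, [2,1,2,0,2,2,2,1,2,0,2,2,1,2,0,2,1,2,2,2,0,0,4,3,1,4,3,4]⟩,
  ⟨1, 11, [1,3,3,4,1,3,4,1,3,0,2,1,2,0,3,1,3,3,0,3,1,2,2,0,3], 11, [1,2,0,2,2,1,2,0,2,1,2,2,2,0,3,1,3,3,0,3,3,0,4,2,2,4,2,0,3,4]⟩,
  ⟨1, 11, [4,2,4,0,3,3,4,2,1,3,3,3,0,2,1,3,3,0,3,3,1,3,3,3,0], 11, [1,2,0,2,2,1,2,0,2,1,2,2,2,0,3,1,3,3,0,3,3,0,4,2,2,4,2,0,3,1]⟩,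
  ⟨1, 11, [1], 12, []⟩,
  ⟨0, 11, [2,2,1,2,2,0,2,2,1,2,2,0,3,3,1,2,2,2,0,0,4,3,4,3,4,3,0], 12, [3,3,0,3,3,1,2,0,3,3,1,3,3,0,2,1,3,3,3,0,3,3]⟩,
  ⟨1, 11, [1], 11, [4,2,4,2,4,0,3,3,1,3,3,0,3,3,1,3,3,0,3,3,3,1,3,0,3]⟩,
  ⟨1, 2, [3,0,4], 13, []⟩,
  ⟨0, 13, [2,1,2,2,0,2,2,2,1,3,3,0,2,1,3,0,3,1,3,0], 13, []⟩,
  ⟨0, 13, [3,3,1,3,3,0,2,1,3,3,0,3,3,1,3,0], 13, []⟩,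
  ⟨1, 13, [0,0], 2, [3,1,4]⟩,
  ⟨1, 13, [2,2,1,3,3,0,2,1,2,2,2,0,2,2,1,3,3,0,3,3,1,2,2,2,0,4], 8, [2,1,2,0,2,1,2,2,0,2,2,1,2,2,0,3,1,3,3,0,3,3,0,4,3,3,0,4]⟩,
  ⟨1, 8, [2,1,2,0,2,1,2,2,0,2,2,1,2,2,0,3,1,3,3,0,3,3,0,4,3,3,1,4], 13, [2,2,1,3,3,0,2,1,2,2,2,0,2,2,1,3,3,0,3,3,1,2,2,2,1,4]⟩,
  ⟨1, 13, [1,3,3,0,3,1,3,3,0,2,1,2,0,3,1,3,3,0,3,3], 8, [0,3,1,3,1,3,3,4,2,1,2,2,0,2,1,3,0,2,2,1,2,2,0,3,1,3,3,0,2,2]⟩,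
  ⟨1, 8, [1,3,1,3,1,3,3,4,2,1,2,2,0,2,1,3,0,2,2,1,2,2,0,3,1,3,3,0,2,2], 13, [0,3,3,0,3,1,3,3,0,2,1,2,0,3,1,3,3,0,3,3]⟩,
  ⟨1, 8, [2,1,2,2,0,3,3,1,2,2,0,2,2,1,2,2,2,0,2,1,2,0,2,2,1,3,1,4,2], 13, [1,3,3,1,3,3,3,0,2,1,2,2,0,2,1,2,2,0,3,3,1,3,0,3]⟩,
  ⟨1, 13, [0,3,3,1,3,3,3,0,2,1,2,2,0,2,1,2,2,0,3,3,1,3,0,3], 8, [2,1,2,2,0,3,3,1,2,2,0,2,2,1,2,2,2,0,2,1,2,0,2,2,1,3,0,4,2]⟩,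
  ⟨1, 13, [4,3,0,3,3,3,4,1,1,3,3,3,0,2,2,1,3,3,0,2,2,1,2,0,3,3,1,3,3,0,2,1,3,0], 8, [1,2,2,4,1,1,3,3,3,0,2,1,3,3,3,0,3,1,3,0,3,3]⟩,
  ⟨1, 8, [0,2,2,4,1,1,3,3,3,0,2,1,3,3,3,0,3,1,3,0,3,3], 13, [4,3,1,3,3,3,4,1,1,3,3,3,0,2,2,1,3,3,0,2,2,1,2,0,3,3,1,3,3,0,2,1,3,0]⟩,
  ⟨1, 13, [2,2,2,1,2,0,3,1,2,2,0,2,2,1,2,2,2,0,3,1,3,3,0,0,4,2,0,4,2,2,0,2], 11, [4,3,4,2,4,2,2,1,2,0,2,1,2,2,0,3,3,1,3,0]⟩]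

/-- paths -/
def PL4 : List (List ℕ) := [
  [36,465,32,42,32,32,36,12,12,40,32,50,619,4,4,36],
  [4,4,705,12,12],
  [36,657,530,376,36,12,12,376,384,378,571,4,4,36,12,12,552,528,378,675,4,4],
  [657,530,376,12,12,12,530,554,384,675,4,4,4],
  [36,705,144,152,144,242,36,713,720,624,36],
  [4,705,146,152,144,152,713,720,624,12],
  [],
  [720,651,48,42,34,619,12,755,4],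
  [755,760],
  [],
  [777,106,128,114,128,104,104,779],
  [777,106,114,298,536,106,538,114,536,296,114,104,779],
  [4,4,777,12,12],
  [36,777,128,114,298,536,36,12,12,114,130,106,419,4,4,36],
  [4,4,809,12,12],
  [777,128,114,298,536,12,12,12,536,296,112,128,419,4,4,4],
  [4,4,825,12,12],
  [417,114,104,130,298,12,12,12,296,112,112,779,4,4,4],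
  [4,4,841,12,12],
  [36,817,528,554,384,36,12,12,528,528,571,4,4,36],
  [4,4,857,12,12],
  [12,12,12,794,784,859,4,4,4,12,12,378,554,384,675,4,4]]

/-- facts -/
def FL5 : List Fct := [
  ⟨1, 11, [4,3,4,2,4,1,1,2,2,1,2,0,2,1,2,2,0,3,3,1,3,0], 13, [2,2,2,1,2,0,3,1,2,2,0,2,2,1,2,2,2,0,3,1,3,3,0,0,4,2,0,4,2,2,1,2]⟩,
  ⟨1, 3, [1,2,2,2,0,2,1,2,0,3,1,2,2,0,2,1,3,3,0,0,4], 13, [2,2,1,3,3,0,3,1,2,2,0,3,3,1,3,0,2,2,1,2,0,2,0,0,4]⟩,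
  ⟨1, 13, [2,2,1,3,3,0,3,1,2,2,0,3,3,1,3,0,2,2,1,2,0,2,4], 3, [1,2,2,2,0,2,1,2,0,3,1,2,2,0,2,1,3,3,4]⟩,
  ⟨1, 13, [2,1,2,2,2,0,2,2,1,3,3,0,2,2,1,2,2,0,4], 13, [2,2,2,1,2,0,2,2,1,2,2,2,0,2,1,2,2,0,2,2,1,2,2,2,0,3,0,0,4]⟩,
  ⟨1, 11, [2,1,2,2,0,2,2,1,3,0,3,3,1,2,2,0,3,3,1,3,0,2,2,2,4,2,2,2,0,2,0,3,3,4], 13, [2,2,4,2,1,3,3,4,2,2,1,3,3,3,0,3,3,3,1,3,3,0,3,3,1,3,3,0,2,2]⟩,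
  ⟨1, 13, [2,2,4,2,0,3,3,4,2,2,1,3,3,3,0,3,3,3,1,3,3,0,3,3,1,3,3,0,2,2], 11, [4,2,2,4,2,2,4,2,4,3,3,1,3,0,3,1,3,3,0,3,3,1,2,2,0,3,3]⟩,
  ⟨1, 13, [2,1,3,4,3,3,3,4,3,1,2,2,0,3,3,1,3,0,3,1,3,3,3,0,3], 11, [0,3,4,1,3,4,3,4,1,1,2,0,3,1,3,3,3,0,2,1,2,0,2,2,1,3,3,0,3,3]⟩,
  ⟨1, 11, [1,3,4,1,3,4,3,4,1,1,2,0,3,1,3,3,3,0,2,1,2,0,2,2,1,3,3,0,3,3], 13, [2,0,3,4,3,3,3,4,3,1,2,2,0,3,3,1,3,0,3,1,3,3,3,0,3]⟩,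
  ⟨1, 13, [1,2,2,0,3,1,3,3,0,2,1,2,2,4,3,4,2,2], 13, [2,1,3,4,3,3,3,4,1,2,0,3,1,3,3,0,2,2,1,2,0,2,2,1,2,2,0,3]⟩,
  ⟨1, 13, [1], 14, []⟩,
  ⟨1, 13, [1,2,0,2,1,2,2,0,2,2,1,3,3,0,2,0,4,3,3,0,3,0,3,0], 11, [1,2,2,2,0,3,3,1,3,3,0,2,1,2,2,0,2,2,1,3,3,0,0,4,2,1,4,2,4,2]⟩,
  ⟨1, 11, [1,2,2,2,0,3,3,1,3,3,0,2,1,2,2,0,2,2,1,3,3,0,0,4,2,0,4,2,4,2], 13, [1,2,0,2,1,2,2,0,2,2,1,3,3,0,2,0,4,3,3,0,3,0,3,1]⟩,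
  ⟨1, 13, [2,1,3,3,4,3,4,1,2,2,1,3,3,3,0,3,3,1,3,0,2,2,1,3,0,2], 13, [3,4,0,3,4,3,3,4,1,1,3,3,3,0,3,1,2,2,0,2,1,3,3,0,3,3,1,3,0,2]⟩,
  ⟨1, 13, [3,4,1,3,4,3,3,4,1,1,3,3,3,0,3,1,2,2,0,2,1,3,3,0,3,3,1,3,0,2], 13, [2,0,3,3,4,3,4,1,2,2,1,3,3,3,0,3,3,1,3,0,2,2,1,3,0,2]⟩,
  ⟨1, 13, [2,1,3,0,3,1,2,2,2,0,2,1,2,0,0,4,2,0,4,2,0,4], 11, [3,3,1,2,0,2,1,3,0,3,3,1,3,0,3,1,2,2,2,0,0,4,2,2,0,2,0,2]⟩,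
  ⟨1, 11, [3,3,1,2,0,2,1,3,0,3,3,1,3,0,3,1,2,2,2,0,0,4,2,2,0,2,1,2], 13, [2,1,3,0,3,1,2,2,2,0,2,1,2,0,0,4,2,0,4,2,1,4]⟩,
  ⟨1, 13, [2,2,1,2,0,3,3,1,2,0,2,2,1,3,3,0,3,1,3,3,0,3,3,4,2,2,4], 3, [3,3,3,4,2,4,3,3,4,1,3,3,0,3,3,1,2,0,2,2,1,3,3,0,3,1,3,3,0,2]⟩,
  ⟨1, 3, [3,3,4,0,3,3,4,2,4,2,2,1,2,0,3,1,3,0,3,3,1,3,3,0,3,3,3], 13, [2,2,1,2,0,3,3,1,2,0,2,2,1,3,3,0,3,1,3,3,0,3,3,0,0,4,2,2,4]⟩,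
  ⟨0, 13, [3,0,3,1,3,3,3,4,1,2,1,3,3,0,2,1,3,0,3,3,3,1,2,0,2,1,3,0,3], 13, [2,1,2,2,0,2,1,2,2,2,0,2,2,1,3,3,0,2,2,2,4,2,4]⟩,
  ⟨1, 13, [1,2,4,3,1,2,2,0,2,2,1,3,0,3,3,1,3,3,0,3,3,3], 3, [3,3,1,3,3,0,3,3,1,2,2,0,3,3,1,2,2,0,4,2,2,2]⟩,
  ⟨1, 3, [3,3,1,3,3,0,3,3,1,2,2,0,3,3,1,2,2,1,4,2,2,2], 13, [0,2,4,3,1,2,2,0,2,2,1,3,0,3,3,1,3,3,0,3,3,3]⟩,
  ⟨1, 13, [4,2,4,3,1,3,3,4,2,1,2,2,0,2,1,3,0,3,1,3,3,0,3,3,3,1,3,0,3,3], 13, [1,3,3,0,2,1,2,2,0,2,1,2,0,3,0,4,2,2,2,1,4,2,4]⟩]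

/-- paths -/
def PL5 : List (List ℕ) := [
  [4,4,873,12,12],
  [36,257,538,106,112,36,12,12,130,536,104,104,779,4,4,36],
  [4,4,889,12,12],
  [36,777,104,298,536,36,12,12,104,538,112,779,4,4,36],
  [36,705,152,144,240,36,12,12,240,154,891,4,4,36],
  [4,4,913,12,12],
  [4,913,626,642,720,737,626,634,624,720,12],
  [4,4,929,12,12],
  [937,720,720,12,12,12,632,722,624,915,4,4,4],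
  [],
  [36,913,626,632,632,624,36,737,642,624,632,36],
  [4,4,961,12,12],
  [36,969,642,36,12,12,634,634,915,4,4,36],
  [4,4,977,12,12],
  [4,905,794,794,969,642,12],
  [4,4,993,12,12],
  [36,969,626,642,722,36,705,144,242,242,36],
  [4,4,1009,12,12],
  [4,969,634,634,705,144,242,242,12,12,12,242,154,1019,4,4],
  [4,889,144,240,473,146,12],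
  [4,4,1033,12,12],
  [36,12,12,792,786,792,947,4,4,36,12,12,786,794,987,4,4,36]]

/-- facts -/
def FL6 : List Fct := [
  ⟨1, 13, [1,3,3,0,2,1,2,2,0,2,1,2,0,3,0,4,2,2,2,0,4,2,4], 13, [4,2,4,3,0,3,3,4,2,1,2,2,0,2,1,3,0,3,1,3,3,0,3,3,3,1,3,0,3,3]⟩,
  ⟨1, 13, [0,2,4,1,3,1,3,3,3,0,3,1,3,3,0,3,3], 8, [2,1,2,2,0,3,3,1,2,0,3,3,1,3,0,2,2,0,4,2,2,0,2,2,0]⟩,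
  ⟨1, 8, [2,1,2,2,0,3,3,1,2,0,3,3,1,3,0,2,2,0,4,2,2,0,2,2,1], 13, [1,2,4,1,3,1,3,3,3,0,3,1,3,3,0,3,3]⟩,
  ⟨1, 13, [2,2,1,3,0,2,2,1,3,0,3,3,1,2,0,2,2,1,3,3,0,2,1,4], 13, [2,1,2,2,2,0,3,3,1,3,0,3,3,1,3,0,3,4,3,3,4]⟩,
  ⟨0, 13, [1,2,2,2,0,2,2,1,3,0,3,1,3,3,0,2,1,2,0], 14, [1,2,2,0,3,1,2,2,0,3,1,3,3,0,2,1,2,2,0,3,3,1,2]⟩,
  ⟨1, 13, [1], 13, [3,0,3,1,3,3,3,0,2,2,1,3,3,0,2,2,1,3,3,0,2]⟩,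
  ⟨1, 13, [0,4], 15, []⟩,
  ⟨0, 13, [1,3,3,0,3,3,1,3,3,0,2,1,3,0,3,3,1,2,0,3,3,4,3,1,4,3,4,3,4], 15, [2,1,3,3,0,2,2,1,2,0,3,3,1,3,0,3,1,3,3,0,4]⟩,
  ⟨1, 13, [0,4], 13, [3,1,2,2,0,3,1,4,3]⟩,
  ⟨1, 13, [2,4], 16, []⟩,
  ⟨1, 13, [2,0,4], 17, []⟩,
  ⟨0, 17, [1,3,3,0,2,2,1,3,0,3,3,1,2,2,0,3], 17, []⟩,
  ⟨0, 17, [2,1,3,3,0,2,1,2,2,0,3,3,1,2,2,0,2,1,3,3,0,2,2], 17, []⟩,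
  ⟨0, 17, [2,2,1,2,2,0,2,2,2,1,3,0,2,2,2,1,2,2,2,0,3,3], 17, []⟩,
  ⟨1, 13, [2,2,1,2,2,2,0,2,1,3,0,3,1,3,3,0,3,3,1,2,2,0,4,3,3,0], 13, [1,2,0,2,2,1,2,0,2,1,3,0,2,2,2,1,2,0,2,2,2,0,4,3,3,0]⟩,
  ⟨1, 13, [1,2,0,2,2,1,2,0,2,1,3,0,2,2,2,1,2,0,2,2,2,0,4,3,3,1], 13, [2,2,1,2,2,2,0,2,1,3,0,3,1,3,3,0,3,3,1,2,2,0,4,3,3,1]⟩,
  ⟨0, 13, [2,4,3,0,3,3,1,2,2,0,3,3,1,3,0,3,3,1,2,0,2], 16, [1,2,2,1,3,0,3,3,3,1,2,0,2,2,1,2,2,0,3,3]⟩,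
  ⟨1, 13, [2,4], 13, [2,4,0,2,0,3,3,1,2,0,2]⟩,
  ⟨1, 17, [], 18, []⟩,
  ⟨1, 18, [0,0], 17, [0,0]⟩,
  ⟨1, 17, [2,2,1,2,0,3,3,1,3,3,0,3,3,1,2,2,0,2,1,3,3,0,2,2,4], 17, [1,2,2,0,3,1,2,2,0,2,1,3,0,2,2,1,2,2,0,2,1,3,3,1,4]⟩,
  ⟨0, 13, [2,4,1,3,3,3,0,3,3,1,2,2,0,3,3,1,3,3,0,3,3,3], 18, [2,2,1,2,0,3,3,1,3,3,0,3,3,1,2,2,0,2,1,3,3,0,2,2,1]⟩]

/-- paths -/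
def PL6 : List (List ℕ) := [
  [4,4,1049,12,12],
  [889,152,240,152,12,12,12,240,152,515,4,4,4],
  [4,4,1065,12,12],
  [36,841,530,36,12,12,386,530,819,4,4,36],
  [12,12,833,530,4,4,4,528,843,955,12],
  [955,1088],
  [],
  [12,12,937,626,634,722,632,4,4,36,634,634,626,939,36,792,1107,36],
  [1107,1112],
  [],
  [],
  [1137,1024,786,1024,784,1139],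
  [1137,1026,786,1026,1139],
  [1137,784,794,784,1139],
  [36,12,12,794,1024,1024,786,931,4,4,36,12,12,626,626,632,915,4,4,36],
  [4,4,1169,12,12],
  [12,12,1177,786,4,4,4,1171,786,1131,12],
  [1131,1184],
  [],
  [4,4,1201,12,12],
  [36,1137,794,36,12,12,1024,786,1139,4,4,36],
  [12,12,1193,794,4,4,4,792,1139,1203,12]]

/-- facts -/
def FL7 : List Fct := [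
  ⟨1, 17, [], 13, [2,1,2,0,3,3,1,2,0,2,1,4]⟩,
  ⟨0, 17, [0,0], 17, [2,1,3,3,0,2,1,2,0]⟩,
  ⟨0, 17, [1,2,2,0,3,3,1,2,0,2,2,1,3,3,0,2,2,1,2,0,2,1,3,0,4], 17, [2,1,3,3,0,2,2,1,3,3,0,3,1,3,3,0,2,1,2,2,1]⟩,
  ⟨1, 8, [0,4,3,4], 19, []⟩,
  ⟨0, 19, [2,2,2,1,2,2,2,0,2,1,2,2,0,3,1,2,2,0,2], 19, []⟩,
  ⟨0, 19, [2,1,2,0,2,2,1,2,0,3,1,2,2,2,0,3,1,2,2,0,2,2], 19, []⟩,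
  ⟨1, 19, [0,0], 8, [1,4,3,4]⟩,
  ⟨1, 13, [1,2,2,2,0,2,1,2,0,3,3,1,3,3,0,2,1,3,0,4,2,2,2,0,3,0,2,2], 19, [2,1,2,0,2,2,2,1,2,2,0,2,2,1,3,0,3,3,1,3,0,2,2,1]⟩,
  ⟨1, 19, [2,1,2,0,2,2,2,1,2,2,0,2,2,1,3,0,3,3,1,3,0,2,2,0], 13, [1,2,2,2,0,2,1,2,0,3,3,1,3,3,0,2,1,3,0,4,2,2,2,0,3,1,2,2]⟩,
  ⟨1, 19, [3,1,2,2,0,2,1,2,0,3,3,1,2,0,2,2,1,2,2,0,3,1,4], 11, [2,1,2,0,2,2,1,2,0,2,2,1,3,0,3,3,1,2,0,0,4,2,2,0,2,4,3,4]⟩,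
  ⟨1, 11, [2,1,2,0,2,2,1,2,0,2,2,1,3,0,3,3,1,2,0,0,4,2,2,1,2,4,3,4], 19, [3,1,2,2,0,2,1,2,0,3,3,1,2,0,2,2,1,2,2,0,3,0,4]⟩,
  ⟨1, 19, [2,1,2,2,0,2,2,1,2,0,3,3,1,3,3,0,2,1,3,0,3,4,2,1,4], 19, [4,3,0,3,3,4,1,3,0,2,2,1,2,0,3,3,3,1,2,2,0,3,3,1,3,3,0,3]⟩,
  ⟨0, 19, [2,1,2,2,0,2,2,1,2,0,3,3,1,3,3,0,2,1,3,0,3,4,2,1], 19, [3,1,3,3,3,4,1,2,0,3,3,3,1,3,3,0,3,3,1,2,2,0,3,3,1,3,0,3,3]⟩,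
  ⟨0, 19, [1,2,2,0,2,1,3,0,2,2,1,2,2,0,3,1,2,2,0,4], 19, [3,1,3,3,3,4,2,1,3,0,3,3,1,2,2,0,3,3,1,3,0,3,1,3,3,0,3]⟩,
  ⟨1, 13, [3,3,1,3,3,0,3,3,1,2,2,0,2,2,1,3,0,3,3,1,3,1,4,3,4,3,3,4,3], 19, [2,2,2,1,3,0,2,2,2,1,2,0,2,1,2,2,0,3,3,1,2,2,0,0,4]⟩,
  ⟨1, 19, [2,2,2,1,3,0,2,2,2,1,2,0,2,1,2,2,0,3,3,1,2,2,4], 13, [2,4,2,2,4,3,4,2,1,2,0,3,3,3,1,3,3,3,0,2,1,3,0,3,1,3,3,0]⟩,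
  ⟨1, 19, [2,2,2,4], 20, []⟩,
  ⟨1, 19, [2,1,3,3,0,3,3,1,3,0,3,3,4,2,2,0,2,1,3,4,3], 13, [1,3,0,3,3,1,3,0,2,2,1,2,2,0,2,2,2,1,3,3,0,4,3,1,4,3,3,4,2,4,2]⟩,
  ⟨1, 13, [1,3,0,3,3,1,3,0,2,2,1,2,2,0,2,2,2,1,3,3,0,4,3,0,4,3,3,4,2,4,2], 19, [2,1,3,3,0,3,3,1,3,0,3,3,4,2,2,0,2,0,3,4,3]⟩,
  ⟨0, 19, [1,2,0,2,2,2,1,2,0,2,2,1,2,2,0,3,1,2,2,0,4], 19, [2,1,2,2,0,2,2,1,2,2,0,2,2,2,1,2,2,2,0,3,3,1,2,1]⟩,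
  ⟨0, 19, [4,3,0,3,3,4,1,1,2,0,2,2,1,3,0,2,2,1,2,2,0,3,3,3], 20, [4,3,4,0,3,4,1,1,3,0,3,3,1,2,2,0,3,3,3]⟩,
  ⟨1, 19, [2,2,2,4], 19, [1,2,2,0,2,1,2,0,2,2,1,2,0,2,2,2,0,4,2,2,4,3,4]⟩]

/-- paths -/
def PL7 : List (List ℕ) := [
  [1203,1224],
  [1209,1224,1139],
  [36,1137,1024,36,12,12,1026,792,1026,1051,4,4,36,12,12,1024,1139,4,4],
  [],
  [1257,386,376,554,554,528,376,376,1259],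
  [1257,378,378,384,378,530,530,378,528,376,1259],
  [4,4,1257,12,12],
  [817,376,552,378,528,12,12,12,552,384,378,386,1259,4,4,4],
  [4,4,1289,12,12],
  [36,1289,1026,786,1024,36,12,12,794,1024,1024,786,923,4,4,36],
  [4,4,1305,12,12],
  [36,1313,720,36,12,12,626,632,624,1315,4,4,36],
  [1313,720,12,12,12,720,720,634,739,4,4,4,12,12,632,626,626,1315,4,4],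
  [36,1257,554,384,36,681,626,632,36,12,12,722,634,626,1315,4,4],
  [36,985,786,792,1024,36,12,12,1024,1024,1291,4,4,36],
  [4,4,1345,12,12],
  [],
  [4,1321,1330,1336,1336,1330,1289,786,1024,784,12],
  [4,4,1369,12,12],
  [36,1257,530,530,378,36,12,12,386,552,386,571,4,4,36,12,12,552,376,386,528,1259,4,4],
  [12,12,1377,784,794,4,4,36,12,12,1297,1338,1384,1384,4,4,36,1338,1272,1264,1363,36],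
  [1363,1392]]

/-- all facts -/
def FL : List Fct := FL0 ++ (FL1 ++ (FL2 ++ (FL3 ++ (FL4 ++ (FL5 ++ (FL6 ++ (FL7)))))))

/-- all paths -/
def PL : List (List ℕ) := PL0 ++ (PL1 ++ (PL2 ++ (PL3 ++ (PL4 ++ (PL5 ++ (PL6 ++ (PL7)))))))

/-- words of the double coset representatives (including temporary ones) -/
def WW : List (List ℕ) := [
  [],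
  [5],
  [5,0,4,5],
  [5,1,4,5],
  [5,0,0,4,5],
  [5,0,4,5,1,5],
  [5,0,4,5,4,5],
  [5,4,3,4,5],
  [5,4,3,0,4,5],
  [5,4,3,0,4,5,1,5],
  [5,4,3,0,4,5,1,5,1,5],
  [5,4,3,4,3,4,5],
  [5,4,3,4,3,4,5,1,5],
  [5,0,4,5,3,0,4,5],
  [5,0,4,5,3,0,4,5,1,5],
  [5,0,4,5,3,0,4,5,0,4,5],
  [5,0,4,5,3,0,4,5,2,4,5],
  [5,0,4,5,3,0,4,5,2,0,4,5],
  [5,0,4,5,3,0,4,5,2,0,4,5,5],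
  [5,4,3,0,4,5,0,4,3,4,5],
  [5,4,3,0,4,5,0,4,3,4,5,2,2,2,4,5]]

end Cfsg.Agent.HN.DData
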