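import Cfsg.Agent.HN.DoubleCover

set_option autoImplicit false

/-!
The subgroup `H = ⟨x, y, z⟩` of the presented Harada–Norton group: if the group `H0` presented by the
`x, y, z`-relators has order at most `177408000` and `x² ≠ 1` in `HN`, then `H0 ≃* H` has order
`177408000`, every nontrivial normal subgroup of `H` contains `x²`, and `H` has a subgroup of index 2
which is a non-split double cover of the Higman–Sims group.
-/

namespace Cfsg.Agent.HN.NormalH

open Cfsg.Spor Cfsg.Agent.HN.Pres Cfsg.Agent.HN.HS100 Cfsg.Agent.HN.DoubleCover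
  Cfsg.Agent.SporadicRecognition MulAction Equiv
open scoped commutatorElement

/-- a permutation commuting with `Q` is trivial. -/
theorem eq_one_of_commute_Q {c : Perm (Fin 100)} (hc : ∀ q ∈ Q, q * c = c * q) : c = 1 := by
  have horb : orbit (stabilizer Q (0 : Fin 100)) (c 0) = {c 0} := by
    ext v
    simp only [Set.mem_singleton_iff]
    constructor
    · rintro ⟨⟨⟨g, hg⟩, hs⟩, rfl⟩
      change g (c 0) = c 0
      have h1 : g 0 = 0 := hs
      have h2 := congrArg (fun p : Perm (Fin 100) => p 0) (hc g hg)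
      simp only [Perm.mul_apply] at h2
      rw [h2, h1]
    · rintro rfl
      exact mem_orbit_self _
  have h0 : c 0 = 0 := by
    rcases rank_Q.cases_base (c 0) with h | h | h
    · exact h
    · exfalso
      rw [RankThree.orb_self_iff] at h
      have e := orbit_eq_iff.2 h
      have h22 := orbit22
      rw [← e, horb, Set.ncard_singleton] at h22
      omega
    · exfalso
      rw [RankThree.orb_self_iff] at h
      have e := orbit_eq_iff.2 h
      have h77 := orbit77
      rw [← e, horb, Set.ncard_singleton] at h77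
      omega
  apply Equiv.ext
  intro i
  obtain ⟨⟨q, hq⟩, hqi⟩ := trans_Q.exists_smul_eq 0 i
  have hqi' : q 0 = i := hqi
  have h2 := congrArg (fun p : Perm (Fin 100) => p 0) (hc q hq)
  simp only [Perm.mul_apply] at h2
  rw [h0, hqi'] at h2
  rw [← h2]
  rfl

section

variable (hcard : Nat.card H0 = 177408000) (hx : gx ^ 2 ≠ 1)

include hcard hx

/-- every nontrivial normal subgroup of `H0` contains `x²`. -/
theorem mem_of_normal (N : Subgroup H0) (hN : N.Normal) (hne : N ≠ ⊥) : gx ^ 2 ∈ N := by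
  by_contra hx2
  have hfin := finite_H0 hcard
  obtain ⟨-, hs⟩ := nonempty_Q hcard hx
  have hM : (N.subgroupOf K).Normal := Subgroup.normal_subgroupOf
  -- the element `x²` of `K`
  have hxK : (⟨gx ^ 2, K.pow_mem gx_mem 2⟩ : K) ∈ Subgroup.center K := by
    rw [center_K hcard hx, MonoidHom.mem_ker]
    apply Subtype.ext
    rw [φK_coe]
    change φ (gx ^ 2) = 1
    rw [map_pow, φ_gx, X_sq]
  have hc2 : Nat.card (Subgroup.center K) = 2 := by rw [center_K hcard hx, card_ker hcard hx]
  have hdisj : Subgroup.center K ⊓ N.subgroupOf K = ⊥ := by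
    rw [eq_bot_iff]
    rintro g ⟨h1, h2⟩
    rw [Subgroup.mem_bot]
    by_contra hg
    have h3 : g ≠ ⟨gx ^ 2, K.pow_mem gx_mem 2⟩ := by
      rintro rfl
      exact hx2 h2
    -- three different elements in a group of order two
    have h4 : (⟨gx ^ 2, K.pow_mem gx_mem 2⟩ : K) ≠ 1 := fun h => hx (congrArg Subtype.val h)
    obtain ⟨u, v, huv, huniv⟩ := Nat.card_eq_two_iff.1 hc2
    have m1 : (1 : Subgroup.center K) ∈ ({u, v} : Set (Subgroup.center K)) := by rw [huniv]; trivial
    have m2 : (⟨g, h1⟩ : Subgroup.center K) ∈ ({u, v} : Set (Subgroup.center K)) := by rw [huniv]; trivial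
    have m3 : (⟨_, hxK⟩ : Subgroup.center K) ∈ ({u, v} : Set (Subgroup.center K)) := by rw [huniv]; trivial
    have n12 : (⟨g, h1⟩ : Subgroup.center K) ≠ 1 := fun h => hg (congrArg Subtype.val h)
    have n13 : (⟨_, hxK⟩ : Subgroup.center K) ≠ 1 := fun h => h4 (congrArg Subtype.val h)
    have n23 : (⟨g, h1⟩ : Subgroup.center K) ≠ ⟨_, hxK⟩ := fun h => h3 (congrArg Subtype.val h)
    rcases m1 with h | h <;> rcases m2 with h' | h' <;> rcases m3 with h'' | h''
    · exact n12 (h'.trans h.symm)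
    · exact n12 (h'.trans h.symm)
    · exact n13 (h''.trans h.symm)
    · exact n23 (h'.trans h''.symm)
    · exact n23 (h'.trans h''.symm)
    · exact n13 (h''.trans h.symm)
    · exact n12 (h'.trans h.symm)
    · exact n12 (h'.trans h.symm)
  rcases hs.eq_bot_or_eq_top_of_normal ((N.subgroupOf K).map φK) (hM.map φK φK_surj) with h | h
  · have h1 : N.subgroupOf K ≤ Subgroup.center K := by
      rw [center_K hcard hx]
      exact (Subgroup.map_eq_bot_iff (N.subgroupOf K)).1 h
    have h2 : N.subgroupOf K = ⊥ := by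
      rw [← hdisj]
      exact (inf_eq_right.2 h1).symm
    have h3 : ∀ n ∈ N, n ∈ K → n = 1 := by
      intro n hn hk
      have h4 : (⟨n, hk⟩ : K) ∈ N.subgroupOf K := hn
      rw [h2, Subgroup.mem_bot] at h4
      exact congrArg Subtype.val h4
    apply hne
    rw [Subgroup.eq_bot_iff_forall]
    intro n hn
    have h5 : ∀ k ∈ K, k * n = n * k := by
      intro k hk
      have h6 : k * n * k⁻¹ * n⁻¹ = 1 := by
        apply h3
        · exact N.mul_mem (hN.conj_mem n hn k) (N.inv_mem hn)
        · have h7 : k * (n * k⁻¹ * n⁻¹) ∈ K := K.mul_mem hk (K_normal.conj_mem _ (K.inv_mem hk) n)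
          simpa only [mul_assoc] using h7
      rw [mul_inv_eq_one, mul_inv_eq_iff_eq_mul] at h6
      exact h6
    have h8 : φ n = 1 := by
      apply eq_one_of_commute_Q
      rintro _ ⟨k, hk, rfl⟩
      rw [← map_mul, ← map_mul, h5 k hk]
    exact h3 n hn (ker_le h8)
  · -- the intersection with `K` is a complement
    apply no_complement hcard hx (N.subgroupOf K)
    apply Subgroup.isComplement'_of_card_mul_and_disjoint
    · have h1 : Nat.card (N.subgroupOf K) = Nat.card Q := by
        have hinj : Function.Injective (φK.comp (N.subgroupOf K).subtype) := by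
          rw [← MonoidHom.ker_eq_bot_iff, eq_bot_iff]
          intro g hg
          rw [Subgroup.mem_bot]
          have h2 : (g : K) ∈ Subgroup.center K ⊓ N.subgroupOf K :=
            ⟨by rw [center_K hcard hx]; exact hg, g.2⟩
          rw [hdisj, Subgroup.mem_bot] at h2
          exact Subtype.ext h2
        apply Nat.card_eq_of_bijective (φK.comp (N.subgroupOf K).subtype)
        refine ⟨hinj, fun q => ?_⟩
        have hq : q ∈ (N.subgroupOf K).map φK := by rw [h]; trivial
        obtain ⟨k, hk, rfl⟩ := hq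
        exact ⟨⟨k, hk⟩, rfl⟩
      rw [h1, hc2, card_Q hcard hx, card_K hcard]
    · rw [disjoint_iff]
      exact hdisj

end

/-- the subgroup `⟨x, y, z⟩` of `HN`, as in the statements. -/
abbrev H : Subgroup Cfsg.Spor.HN :=
  (Subgroup.closure ({Cfsg.Spor.HN.x, Cfsg.Spor.HN.y, Cfsg.Spor.HN.z} :
    Set (FreeGroup Cfsg.Spor.HN.Gen))).map
    (PresentedGroup.mk (Cfsg.Spor.coxRelators Cfsg.Spor.HN.edges ∪ {r | r ∈ Cfsg.Spor.HN.extra}))

/-- the map from `H0` to `HN`. -/
def ψ : H0 →* Cfsg.Spor.HN := lift rels_HN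

theorem ψ_gx : ψ gx = Pres.hx := lift_gx rels_HN
theorem ψ_gy : ψ gy = Pres.hy := lift_gy rels_HN
theorem ψ_gz : ψ gz = Pres.hz := lift_gz rels_HN

theorem H_eq : H = Subgroup.closure {Pres.hx, Pres.hy, Pres.hz} := by
  change (Subgroup.closure _).map _ = _
  rw [MonoidHom.map_closure, Set.image_insert_eq, Set.image_pair]
  rfl

theorem range_ψ : ψ.range = H := by
  rw [H_eq, MonoidHom.range_eq_map, ← closure_gens, MonoidHom.map_closure, Set.image_insert_eq,
    Set.image_pair, ψ_gx, ψ_gy, ψ_gz]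

section

variable (hfin : Finite H0) (hle : Nat.card H0 ≤ 177408000) (hx : Pres.hx ^ 2 ≠ 1)

omit hfin in
include hx in
theorem gx_sq_ne : gx ^ 2 ≠ 1 := by
  intro h
  apply hx
  rw [← ψ_gx, ← map_pow, h, map_one]

include hfin hle hx in
/-- the order of `H0`. -/
theorem card_H0 : Nat.card H0 = 177408000 := by
  have h1 := K.card_mul_index
  rw [K_index] at h1
  have h2 := φK.ker.card_mul_index
  rw [Subgroup.index_ker, MonoidHom.range_eq_top.2 φK_surj, Subgroup.card_top] at h2
  have h3 : 1 < Nat.card φK.ker := by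
    rw [Finite.one_lt_card_iff_nontrivial]
    have hmem : (⟨gx ^ 2, K.pow_mem gx_mem 2⟩ : K) ∈ φK.ker := by
      rw [MonoidHom.mem_ker]
      apply Subtype.ext
      rw [φK_coe]
      change φ (gx ^ 2) = 1
      rw [map_pow, φ_gx, X_sq]
    exact ⟨⟨_, hmem⟩, 1, fun h => gx_sq_ne hx (congrArg (fun g : φK.ker => ((g : K) : H0)) h)⟩
  have h4 : 2 * 44352000 ≤ Nat.card φK.ker * Nat.card Q := Nat.mul_le_mul h3 card_Q_ge
  omega

include hfin hle hx

theorem ψ_injective : Function.Injective ψ := by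
  rw [← MonoidHom.ker_eq_bot_iff]
  by_contra hne
  have h1 := mem_of_normal (card_H0 hfin hle hx) (gx_sq_ne hx) ψ.ker (MonoidHom.normal_ker ψ) hne
  rw [MonoidHom.mem_ker, map_pow, ψ_gx] at h1
  exact hx h1

theorem ψ_rangeRestrict_injective : Function.Injective ψ.rangeRestrict := by
  intro a b h
  exact ψ_injective hfin hle hx (congrArg Subtype.val h)

/-- The isomorphism from `H0` to `H`. -/
theorem exists_mulEquiv : ∃ e : H0 ≃* H, ∀ g, ((e g : H) : Cfsg.Spor.HN) = ψ g := by
  rw [← range_ψ]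
  exact ⟨MulEquiv.ofBijective ψ.rangeRestrict
    ⟨ψ_rangeRestrict_injective hfin hle hx, ψ.rangeRestrict_surjective⟩, fun g => rfl⟩

/-- the order of `H`. -/
theorem card_H : Nat.card H = 177408000 := by
  obtain ⟨e, -⟩ := exists_mulEquiv hfin hle hx
  rw [← Nat.card_congr e.toEquiv, card_H0 hfin hle hx]

/-- every nontrivial subgroup of `H` normalised by `H` contains `x²`. -/
theorem sq_mem (N : Subgroup Cfsg.Spor.HN) (hN : N ≤ H) (hne : N ≠ ⊥)
    (hn : ∀ h ∈ H, ∀ n ∈ N, h * n * h⁻¹ ∈ N) : Pres.hx ^ 2 ∈ N := by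
  have hinj := ψ_injective hfin hle hx
  have h1 : (N.comap ψ).Normal := by
    refine ⟨fun n hn' g => ?_⟩
    rw [Subgroup.mem_comap] at hn' ⊢
    rw [map_mul, map_mul, map_inv]
    refine hn _ ?_ _ hn'
    rw [← range_ψ]
    exact ⟨g, rfl⟩
  have h2 : N.comap ψ ≠ ⊥ := by
    intro h
    apply hne
    rw [Subgroup.eq_bot_iff_forall] at h ⊢
    intro n hn'
    have h3 : n ∈ ψ.range := by rw [range_ψ]; exact hN hn'
    obtain ⟨g, rfl⟩ := h3
    rw [h g hn', map_one]
  have h3 := mem_of_normal (card_H0 hfin hle hx) (gx_sq_ne hx) _ h1 h2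
  rw [Subgroup.mem_comap, map_pow, ψ_gx] at h3
  exact h3

/-- the same for normal subgroups of the group `H`. -/
theorem sq_mem' (N : Subgroup H) (hN : N.Normal) (hne : N ≠ ⊥) : ∃ u ∈ N, (u : Cfsg.Spor.HN) = Pres.hx ^ 2 := by
  have h1 : Pres.hx ^ 2 ∈ N.map H.subtype := by
    apply sq_mem hfin hle hx
    · rintro _ ⟨u, -, rfl⟩
      exact u.2
    · intro h
      exact hne ((Subgroup.map_eq_bot_iff_of_injective N H.subtype_injective).1 h)
    · rintro h hh _ ⟨u, hu, rfl⟩
      exact ⟨⟨h, hh⟩ * u * ⟨h, hh⟩⁻¹, hN.conj_mem u hu _, rfl⟩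
  obtain ⟨u, hu, h2⟩ := h1
  exact ⟨u, hu, h2⟩

end

/-- `IsNonsplitDoubleCover` is invariant under isomorphism of the cover. -/
theorem isNonsplitDoubleCover_congr {A B C : Type*} [Group A] [Group B] [Group C] (e : A ≃* B)
    (h : Cfsg.IsNonsplitDoubleCover A C) : Cfsg.IsNonsplitDoubleCover B C := by
  obtain ⟨h1, ⟨f⟩, h3⟩ := h
  have hmem : ∀ a, e a ∈ Subgroup.center B ↔ a ∈ Subgroup.center A := by
    intro a
    rw [Subgroup.mem_center_iff, Subgroup.mem_center_iff]
    constructor
    · intro h g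
      apply e.injective
      rw [map_mul, map_mul, h]
    · intro h g
      rw [← e.apply_symm_apply g, ← map_mul, ← map_mul, h]
  have hmap : (Subgroup.center A).map (e : A →* B) = Subgroup.center B := by
    ext z
    rw [Subgroup.mem_map]
    constructor
    · rintro ⟨y, hy, rfl⟩
      exact (hmem y).2 hy
    · intro h
      refine ⟨e.symm z, ?_, e.apply_symm_apply z⟩
      rw [← hmem, e.apply_symm_apply]
      exact h
  refine ⟨?_, ?_, ?_⟩
  · rw [← Nat.card_congr (Subgroup.centerCongr e).toEquiv, h1]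
  · exact ⟨(QuotientGroup.congr (Subgroup.center A) (Subgroup.center B) e hmap).symm.trans f⟩
  · intro L hL
    apply h3 (L.comap (e : A →* B))
    rw [Subgroup.isComplement'_def, Subgroup.isComplement_iff_existsUnique] at hL ⊢
    intro g
    obtain ⟨⟨⟨a, ha⟩, ⟨b, hb⟩⟩, hab, huniq⟩ := hL (e g)
    have ha' : e.symm a ∈ (Subgroup.center A : Set A) := by
      rw [SetLike.mem_coe, ← hmem, e.apply_symm_apply]
      exact ha
    have hb' : e.symm b ∈ (L.comap (e : A →* B) : Set A) := by
      show e (e.symm b) ∈ L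
      rw [e.apply_symm_apply]; exact hb
    refine ⟨(⟨e.symm a, ha'⟩, ⟨e.symm b, hb'⟩), ?_, ?_⟩
    · show e.symm a * e.symm b = g
      have : a * b = e g := hab
      rw [← map_mul, this, e.symm_apply_apply]
    · rintro ⟨⟨c, hc⟩, ⟨d, hd⟩⟩ hcd
      have hc' : e c ∈ (Subgroup.center B : Set B) := (hmem c).2 hc
      have hd' : e d ∈ (L : Set B) := hd
      have hcd' : c * d = g := hcd
      have h4 := huniq (⟨e c, hc'⟩, ⟨e d, hd'⟩) (by
        show e c * e d = e g
        rw [← map_mul, hcd'])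
      have h5 : e c = a := congrArg (fun p => (p.1 : B)) h4
      have h6 : e d = b := congrArg (fun p => (p.2 : B)) h4
      refine Prod.ext (Subtype.ext ?_) (Subtype.ext ?_)
      · show c = e.symm a
        rw [← h5, e.symm_apply_apply]
      · show d = e.symm b
        rw [← h6, e.symm_apply_apply]

section

variable (hfin : Finite H0) (hle : Nat.card H0 ≤ 177408000) (hx : Pres.hx ^ 2 ≠ 1)

include hfin hle hx

/-- **The statement S1708**, from the upper bound for `|H0|` and `x² ≠ 1` in `HN`. -/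
theorem exists_double_cover_H : ∃ K' : Subgroup H, K'.Normal ∧ K'.index = 2 ∧
    Cfsg.IsNonsplitDoubleCover K' Cfsg.Spor.HS := by
  obtain ⟨e, -⟩ := exists_mulEquiv hfin hle hx
  obtain ⟨K', h1, h2, h3⟩ := exists_double_cover (card_H0 hfin hle hx) (gx_sq_ne hx)
  refine ⟨K'.map (e : H0 →* H), h1.map _ e.surjective, ?_, ?_⟩
  · rw [Subgroup.index_map_of_bijective (f := (e : H0 →* H)) e.bijective, h2]
  · exact isNonsplitDoubleCover_congr
      (K'.equivMapOfInjective (e : H0 →* H) e.injective) h3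

end

/-- `x² ≠ 1` in `HN` if `H` is a proper subgroup. -/
theorem hx_sq_ne_of_index (hidx : H.index ≠ 1) : Pres.hx ^ 2 ≠ 1 := by
  intro h
  apply hidx
  have h5 : ht ^ 5 = 1 := mk_extra (r := HN.t ^ 5) (by simp [HN.extra])
  have hc : (Pres.hx⁻¹ * ht * Pres.hx) * ht ^ 2 = 1 :=
    mk_extra (r := (HN.x⁻¹ * HN.t * HN.x) * HN.t ^ 2) (by simp [HN.extra])
  have h1 : Pres.hx⁻¹ * ht * Pres.hx = ht ^ 3 := by
    have h6 : ht ^ 3 * ht ^ 2 = 1 := by rw [← pow_add, h5]
    exact mul_right_cancel (hc.trans h6.symm)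
  have h2 : ht = ht ^ 9 := by
    have e1 : Pres.hx⁻¹ * (Pres.hx⁻¹ * ht * Pres.hx) * Pres.hx = ht ^ 9 := by
      rw [h1]
      have e2 : Pres.hx⁻¹ * ht ^ 3 * Pres.hx = (Pres.hx⁻¹ * ht * Pres.hx) ^ 3 := by
        simp only [pow_succ, pow_zero, one_mul]
        group
      rw [e2, h1, ← pow_mul]
    have e3 : Pres.hx⁻¹ * (Pres.hx⁻¹ * ht * Pres.hx) * Pres.hx = (Pres.hx ^ 2)⁻¹ * ht * Pres.hx ^ 2 := by
      rw [pow_two]
      group
    rw [e3, h, inv_one, one_mul, mul_one] at e1
    exact e1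
  have h3 : ht = 1 := by
    have e1 : ht ^ 9 = ht ^ 4 := by
      rw [show (9 : ℕ) = 5 + 4 from rfl, pow_add, h5, one_mul]
    have e2 : ht ^ 8 = 1 := by
      have : ht ^ 8 * ht = 1 * ht := by rw [← pow_succ, one_mul, ← h2]
      exact mul_right_cancel this
    have e3 : ht ^ 3 = 1 := by
      rw [show (8 : ℕ) = 5 + 3 from rfl, pow_add, h5, one_mul] at e2
      exact e2
    have e4 : ht ^ 2 = 1 := by
      rw [show (5 : ℕ) = 3 + 2 from rfl, pow_add, e3, one_mul] at h5
      exact h5
    rw [show (3 : ℕ) = 2 + 1 from rfl, pow_succ, e4, one_mul] at e3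
    exact e3
  have h4 : H = ⊤ := by
    rw [eq_top_iff, ← PresentedGroup.closure_range_of, Subgroup.closure_le]
    rintro _ ⟨i, rfl⟩
    rw [H_eq, SetLike.mem_coe]
    cases i
    · exact Subgroup.subset_closure (Or.inl rfl)
    · exact Subgroup.subset_closure (Or.inr (Or.inl rfl))
    · exact Subgroup.subset_closure (Or.inr (Or.inr rfl))
    · have : (PresentedGroup.of HN.Gen.t : Cfsg.Spor.HN) = 1 := h3
      rw [this]
      exact Subgroup.one_mem _
  rw [h4, Subgroup.index_top]

end Cfsg.Agent.HN.NormalH
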