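import Cfsg.Agent.HN.DCheck
import Cfsg.Agent.HN.NormalH

set_option autoImplicit false

/-!
Semantics of the certificate checker: facts about right cosets `H g` in the presented group `HN`.
-/

namespace Cfsg.Agent.HN.DSem

open Cfsg.Agent.HN.Pres Cfsg.Agent.HN.DCheck Cfsg.Agent.HN.NormalH Cfsg.Agent.SporadicA.PermTab
open Cfsg.Agent.HN.P1408 (hw tr okw il iw hw_append hw_iw fix0 eq_of_tr letG ev eqw)

/-- same right coset of `H` -/
def R (a b : Cfsg.Spor.HN) : Prop := a * b⁻¹ ∈ H

theorem R.refl (a : Cfsg.Spor.HN) : R a a := by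
  rw [R, mul_inv_cancel]; exact H.one_mem

theorem R.symm {a b : Cfsg.Spor.HN} (h : R a b) : R b a := by
  have := H.inv_mem h
  rwa [mul_inv_rev, inv_inv] at this

theorem R.trans {a b c : Cfsg.Spor.HN} (h : R a b) (h' : R b c) : R a c := by
  have := H.mul_mem h h'
  rwa [mul_assoc, inv_mul_cancel_left] at this

theorem R.mul {a b : Cfsg.Spor.HN} (h : R a b) (g : Cfsg.Spor.HN) : R (a * g) (b * g) := by
  rw [R, mul_inv_rev, mul_assoc, mul_inv_cancel_left]; exact h

theorem R.left {a : Cfsg.Spor.HN} (h : a ∈ H) (b : Cfsg.Spor.HN) : R (a * b) b := by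
  rw [R, mul_inv_cancel_right]; exact h

/-- value of an `x, y, z`-word in `HN` -/
noncomputable def vh (w : List ℕ) : Cfsg.Spor.HN := ψ (hw w)

/-- letters in `HN`: `5 = t`, `6 = t⁻¹`. -/
noncomputable def vl (l : ℕ) : Cfsg.Spor.HN := if l = 5 then ht else if l = 6 then ht⁻¹ else ψ (letG gx gy gz l)

/-- value of a word with letters `x, y, z, t`. -/
noncomputable def vw (w : List ℕ) : Cfsg.Spor.HN := (w.map vl).prod

theorem vh_nil : vh [] = 1 := map_one ψ

theorem vh_append (a b : List ℕ) : vh (a ++ b) = vh a * vh b := by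
  rw [vh, hw_append, map_mul]; rfl

theorem vh_mem (a : List ℕ) : vh a ∈ H := by
  rw [← range_ψ]; exact ⟨_, rfl⟩

theorem iwa_eq (w acc : List ℕ) : iwa w acc = iw w ++ acc := by
  induction w generalizing acc with
  | nil => rfl
  | cons l w ih =>
    have h : iw (l :: w) = iw w ++ [il l] := by rw [iw, iw, List.map_cons, List.reverse_cons]
    rw [h, List.append_assoc]
    exact ih (il l :: acc)

theorem hw_iwa (w acc : List ℕ) : hw (iwa w acc) = (hw w)⁻¹ * hw acc := by
  rw [iwa_eq, hw_append, hw_iw]

theorem vh_iw (w acc : List ℕ) : vh (iwa w acc) = (vh w)⁻¹ * vh acc := by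
  rw [vh, hw_iwa, map_mul, map_inv]; rfl

theorem t5 : ht ^ 5 = 1 := mk_extra (r := Cfsg.Spor.HN.t ^ 5) (by simp [Cfsg.Spor.HN.extra])

theorem tx : Pres.hx⁻¹ * ht * Pres.hx = ht ^ 3 := by
  have hc : (Pres.hx⁻¹ * ht * Pres.hx) * ht ^ 2 = 1 :=
    mk_extra (r := (Cfsg.Spor.HN.x⁻¹ * Cfsg.Spor.HN.t * Cfsg.Spor.HN.x) * Cfsg.Spor.HN.t ^ 2)
      (by simp [Cfsg.Spor.HN.extra])
  have h6 : ht ^ 3 * ht ^ 2 = 1 := by rw [← pow_add, t5]
  exact mul_right_cancel (hc.trans h6.symm)

theorem ty : ht * Pres.hy = Pres.hy * ht := by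
  have hc : ht⁻¹ * Pres.hy⁻¹ * ht * Pres.hy = 1 :=
    mk_extra (r := Cfsg.Spor.HN.t⁻¹ * Cfsg.Spor.HN.y⁻¹ * Cfsg.Spor.HN.t * Cfsg.Spor.HN.y)
      (by simp [Cfsg.Spor.HN.extra])
  have h2 : Pres.hy * ht * (ht⁻¹ * Pres.hy⁻¹ * ht * Pres.hy) = Pres.hy * ht := by rw [hc, mul_one]
  rw [← h2]; group

theorem zt : (Pres.hz * ht) ^ 3 = 1 :=
  mk_extra (r := (Cfsg.Spor.HN.z * Cfsg.Spor.HN.t) ^ 3) (by simp [Cfsg.Spor.HN.extra])

theorem zz : Pres.hz * Pres.hz = 1 := by rw [← pow_two]; exact rels_HN.r7

/-- elements of `U` commute with `t` -/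
theorem comm_U {u : H0} (hu : u ∈ Subgroup.closure {gy, gx⁻¹ * gy * gx}) :
    ψ u * ht = ht * ψ u := by
  have hle : Subgroup.closure {gy, gx⁻¹ * gy * gx} ≤ (Subgroup.centralizer {ht}).comap ψ := by
    rw [Subgroup.closure_le]
    rintro u (rfl | rfl)
    · change ψ gy ∈ Subgroup.centralizer {ht}
      rw [Subgroup.mem_centralizer_singleton_iff, ψ_gy, ty]
    · change ψ (gx⁻¹ * gy * gx) ∈ Subgroup.centralizer {ht}
      rw [Subgroup.mem_centralizer_singleton_iff]
      simp only [map_mul, map_inv, ψ_gx, ψ_gy]
      -- x t x⁻¹ = t²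
      have h1 : Pres.hx * ht * Pres.hx⁻¹ = ht ^ 2 := by
        have e1 : Pres.hx * (Pres.hx⁻¹ * ht * Pres.hx) ^ 2 * Pres.hx⁻¹ = ht ^ 2 := by
          rw [pow_two, pow_two]; group
        rw [← e1, tx, ← pow_mul]
        have : ht ^ (3 * 2) = ht := by
          rw [show 3 * 2 = 5 + 1 from rfl, pow_add, t5, one_mul, pow_one]
        rw [this]
      have h2 : Pres.hy * ht ^ 2 = ht ^ 2 * Pres.hy :=
        (((show Commute ht Pres.hy from ty).pow_left 2).eq).symm
      calc Pres.hx⁻¹ * Pres.hy * Pres.hx * ht
          = Pres.hx⁻¹ * Pres.hy * (Pres.hx * ht * Pres.hx⁻¹) * Pres.hx := by group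
        _ = Pres.hx⁻¹ * (Pres.hy * ht ^ 2) * Pres.hx := by rw [h1]; group
        _ = Pres.hx⁻¹ * (ht ^ 2 * Pres.hy) * Pres.hx := by rw [h2]
        _ = Pres.hx⁻¹ * (Pres.hx * ht * Pres.hx⁻¹ * Pres.hy) * Pres.hx := by rw [h1]
        _ = ht * (Pres.hx⁻¹ * Pres.hy * Pres.hx) := by group
  have := hle hu
  exact Subgroup.mem_centralizer_singleton_iff.1 this

section

variable (hfin : Finite H0) (hle : Nat.card H0 ≤ 177408000)

include hfin hle in
theorem comm_of_tr {a : List ℕ} (ha : okw a = true) (h : tr a 0 = 0) : vh a * ht = ht * vh a :=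
  comm_U (fix0 hfin hle ha h)

/-- the meaning of a fact, for coset representatives `w i`. -/
def holds (w : ℕ → Cfsg.Spor.HN) (F : Fct) : Prop :=
  (F.k = 0 → R (w F.i * vh F.a) (w F.j * vh F.b)) ∧
  (F.k = 1 → R (w F.i * vh F.a * ht) (w F.j * vh F.b))

theorem vw_nil : vw [] = 1 := rfl
theorem vw_append (a b : List ℕ) : vw (a ++ b) = vw a * vw b := by simp [vw]
theorem vw_single (a : ℕ) : vw [a] = vl a := by simp [vw]

include hfin hle in
theorem run_sound (w : ℕ → Cfsg.Spor.HN) (FL : List Fct) (n : ℕ)
    (hF : ∀ f < n, holds w (nth ⟨0, 0, [], 0, []⟩ FL f)) (ms : List ℕ) :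
    ∀ (i : ℕ) (h W : List ℕ) (k : ℕ → List ℕ → List ℕ → Bool), run FL n ms i h W k = true →
      ∃ i' h' W', k i' h' (W ++ W') = true ∧ R (w i * vh h * vw W') (w i' * vh h') := by
  induction ms with
  | nil =>
    intro i h W k hk
    exact ⟨i, h, [], by rw [List.append_nil]; exact hk, by rw [vw_nil, mul_one]; exact R.refl _⟩
  | cons m ms ih =>
    intro i h W k hk
    have hk' : (bif Nat.beq (Nat.land m 4) 4 then
        bif Nat.blt (Nat.shiftRight m 3) 5 then
        run FL n ms i (h ++ [Nat.shiftRight m 3]) (W ++ [Nat.shiftRight m 3]) k else false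
      else
        (fun (F : Fct) =>
          bif Nat.blt (Nat.shiftRight m 3) n then
            bif Nat.beq F.k (Nat.land m 1) then
              bif Nat.beq (Nat.land m 2) 2 then
                bif Nat.beq F.i i then
                  bif Nat.beq (Nat.land m 1) 0 then run FL n ms F.j (F.b ++ iwa F.a h) W k
                  else bif band (okw (iwa F.a h)) (Nat.beq (tr (iwa F.a h) 0) 0) then run FL n ms F.j (F.b ++ iwa F.a h) (W ++ [5]) k
                  else false
                else false
              else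
                bif Nat.beq F.j i then
                  bif Nat.beq (Nat.land m 1) 0 then run FL n ms F.i (F.a ++ iwa F.b h) W k
                  else bif band (okw (iwa F.b h)) (Nat.beq (tr (iwa F.b h) 0) 0) then run FL n ms F.i (F.a ++ iwa F.b h) (W ++ [6]) k
                  else false
                else false
            else false
          else false) (nth ⟨0, 0, [], 0, []⟩ FL (Nat.shiftRight m 3))) = true := hk
    clear hk
    have cond_true : ∀ {b : Bool} {x : Bool}, (bif b then x else false) = true → b = true ∧ x = true := by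
      intro b x hb; cases b
      · exact absurd hb (by simp)
      · exact ⟨rfl, hb⟩
    cases h4 : Nat.beq (Nat.land m 4) 4 with
    | true =>
      rw [h4] at hk'
      obtain ⟨h5, hk2⟩ := cond_true hk'
      have hs : Nat.shiftRight m 3 < 5 := by simpa [Nat.blt] using h5
      obtain ⟨i', h', W', hkk, hR⟩ := ih _ _ _ _ hk2
      refine ⟨i', h', [Nat.shiftRight m 3] ++ W', by rw [← List.append_assoc]; exact hkk, ?_⟩
      rw [vh_append] at hR
      rw [vw_append, vw_single]
      have e : vl (Nat.shiftRight m 3) = vh [Nat.shiftRight m 3] := by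
        rw [vl, if_neg (by omega), if_neg (by omega), vh, hw, P1408.ev_cons, P1408.ev_nil, mul_one]
      rw [e]
      simpa only [mul_assoc] using hR
    | false =>
      rw [h4] at hk'
      generalize hF0 : nth ⟨0, 0, [], 0, []⟩ FL (Nat.shiftRight m 3) = F at hk'
      have hk2 : (bif Nat.blt (Nat.shiftRight m 3) n then
            bif Nat.beq F.k (Nat.land m 1) then
              bif Nat.beq (Nat.land m 2) 2 then
                bif Nat.beq F.i i then
                  bif Nat.beq (Nat.land m 1) 0 then run FL n ms F.j (F.b ++ iwa F.a h) W k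
                  else bif band (okw (iwa F.a h)) (Nat.beq (tr (iwa F.a h) 0) 0) then run FL n ms F.j (F.b ++ iwa F.a h) (W ++ [5]) k
                  else false
                else false
              else
                bif Nat.beq F.j i then
                  bif Nat.beq (Nat.land m 1) 0 then run FL n ms F.i (F.a ++ iwa F.b h) W k
                  else bif band (okw (iwa F.b h)) (Nat.beq (tr (iwa F.b h) 0) 0) then run FL n ms F.i (F.a ++ iwa F.b h) (W ++ [6]) k
                  else false
                else false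
            else false
          else false) = true := hk'
      obtain ⟨hn, hk3⟩ := cond_true hk2
      obtain ⟨hkk, hk4⟩ := cond_true hk3
      have hlt : Nat.shiftRight m 3 < n := by simpa [Nat.blt] using hn
      have hk1 : F.k = Nat.land m 1 := by simpa using hkk
      have hFh : holds w F := by rw [← hF0]; exact hF _ hlt
      cases h2 : Nat.beq (Nat.land m 2) 2 with
      | true =>
        rw [h2] at hk4
        obtain ⟨hi, hk5⟩ := cond_true hk4
        have hi' : F.i = i := by simpa using hi
        subst hi'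
        cases h1 : Nat.beq (Nat.land m 1) 0 with
        | true =>
          rw [h1] at hk5
          have hk0 : F.k = 0 := by rw [hk1]; simpa using h1
          obtain ⟨i', h', W', hkf, hR⟩ := ih _ _ _ _ hk5
          refine ⟨i', h', W', hkf, R.trans ?_ hR⟩
          apply R.mul
          have := (hFh.1 hk0).mul ((vh F.a)⁻¹ * vh h)
          rw [vh_append, vh_iw]
          simpa only [mul_assoc, mul_inv_cancel_left] using this
        | false =>
          rw [h1] at hk5
          obtain ⟨htr, hk6⟩ := cond_true hk5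
          rw [band_eq_true] at htr
          have htr' : tr (iwa F.a h) 0 = 0 := Nat.eq_of_beq_eq_true htr.2
          have hk0 : F.k = 1 := by
            rw [hk1]
            have : Nat.land m 1 = m % 2 := Nat.and_one_is_mod m
            have h1' : Nat.land m 1 ≠ 0 := by
              intro h0; rw [h0] at h1; exact absurd h1 (by decide)
            omega
          obtain ⟨i', h', W', hkf, hR⟩ := ih _ _ _ _ hk6
          refine ⟨i', h', [5] ++ W', by rw [← List.append_assoc]; exact hkf, R.trans ?_ hR⟩
          rw [vw_append, vw_single, ← mul_assoc]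
          apply R.mul
          have hc := comm_of_tr hfin hle htr.1 htr'
          rw [vh_iw] at hc
          have := (hFh.2 hk0).mul ((vh F.a)⁻¹ * vh h)
          rw [vh_append, vh_iw]
          have e : w F.i * vh h * vl 5 = w F.i * vh F.a * ht * ((vh F.a)⁻¹ * vh h) := by
            rw [mul_assoc _ ht, ← hc]
            simp only [vl, if_true]
            group
          rw [e]
          simpa only [mul_assoc] using this
      | false =>
        rw [h2] at hk4
        obtain ⟨hi, hk5⟩ := cond_true hk4
        have hi' : F.j = i := by simpa using hi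
        subst hi'
        cases h1 : Nat.beq (Nat.land m 1) 0 with
        | true =>
          rw [h1] at hk5
          have hk0 : F.k = 0 := by rw [hk1]; simpa using h1
          obtain ⟨i', h', W', hkf, hR⟩ := ih _ _ _ _ hk5
          refine ⟨i', h', W', hkf, R.trans ?_ hR⟩
          apply R.mul
          have := (hFh.1 hk0).symm.mul ((vh F.b)⁻¹ * vh h)
          rw [vh_append, vh_iw]
          simpa only [mul_assoc, mul_inv_cancel_left] using this
        | false =>
          rw [h1] at hk5
          obtain ⟨htr, hk6⟩ := cond_true hk5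
          rw [band_eq_true] at htr
          have htr' : tr (iwa F.b h) 0 = 0 := Nat.eq_of_beq_eq_true htr.2
          have hk0 : F.k = 1 := by
            rw [hk1]
            have : Nat.land m 1 = m % 2 := Nat.and_one_is_mod m
            have h1' : Nat.land m 1 ≠ 0 := by
              intro h0; rw [h0] at h1; exact absurd h1 (by decide)
            omega
          obtain ⟨i', h', W', hkf, hR⟩ := ih _ _ _ _ hk6
          refine ⟨i', h', [6] ++ W', by rw [← List.append_assoc]; exact hkf, R.trans ?_ hR⟩
          rw [vw_append, vw_single, ← mul_assoc]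
          apply R.mul
          have hc := comm_of_tr hfin hle htr.1 htr'
          rw [vh_iw] at hc
          have := (hFh.2 hk0).symm.mul (ht⁻¹ * ((vh F.b)⁻¹ * vh h))
          rw [vh_append, vh_iw]
          have hc' : ht⁻¹ * ((vh F.b)⁻¹ * vh h) = (vh F.b)⁻¹ * vh h * ht⁻¹ := by
            rw [eq_mul_inv_iff_mul_eq, mul_assoc, hc, inv_mul_cancel_left]
          have e : w F.j * vh h * vl 6 = w F.j * vh F.b * (ht⁻¹ * ((vh F.b)⁻¹ * vh h)) := by
            rw [hc']
            simp only [vl, if_true, if_neg (by decide : (6 : ℕ) ≠ 5)]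
            group
          rw [e]
          have e2 : w F.i * vh F.a * ht * (ht⁻¹ * ((vh F.b)⁻¹ * vh h)) =
              w F.i * (vh F.a * ((vh F.b)⁻¹ * vh h)) := by group
          rw [e2] at this
          exact this

end

end Cfsg.Agent.HN.DSem
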