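import Mathlib
import Cfsg.Agent.S0848

/-!
# A finite group with an involution centraliser `D8` contained in a perfect subgroup of order 360
-/

set_option autoImplicit false

namespace Cfsg.Agent.HN.DihClose

open Subgroup

variable {K : Type*} [Group K]

theorem dih_sq : ∀ a : DihedralGroup 4, a ^ 2 = 1 ∨ a ^ 2 = DihedralGroup.r 2 := by decide

/-- There is a perfect normal subgroup above every perfect subgroup. -/
theorem exists_perfect [Finite K] (K0 : Subgroup K) (hperf : ⁅K0, K0⁆ = K0) :
    ∃ P : Subgroup K, P.Normal ∧ K0 ≤ P ∧ ⁅P, P⁆ = P := by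
  have key : ∀ n : ℕ, ∀ N : Subgroup K, Nat.card N = n → N.Normal → K0 ≤ N →
      ∃ P : Subgroup K, P.Normal ∧ K0 ≤ P ∧ ⁅P, P⁆ = P := by
    intro n
    induction n using Nat.strong_induction_on with
    | _ n ih =>
      intro N hn hN hK
      by_cases h : ⁅N, N⁆ = N
      · exact ⟨N, hN, hK, h⟩
      · have hle : ⁅N, N⁆ ≤ N := commutator_le_right N N
        have hlt : ⁅N, N⁆ < N := lt_of_le_of_ne hle h
        have hcard : Nat.card (⁅N, N⁆ : Subgroup K) < n := by
          rw [← hn]
          exact Set.Finite.card_lt_card (Set.toFinite _) hlt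
        refine ih _ hcard _ rfl inferInstance ?_
        rw [← hperf]
        exact commutator_mono hK hK
  exact key _ ⊤ rfl inferInstance le_top

theorem eq_top [Finite K] (K0 : Subgroup K) (t : K) (ht : orderOf t = 2)
    (e : centralizer ({t} : Set K) ≃* DihedralGroup 4) (hc : centralizer ({t} : Set K) ≤ K0)
    (hcard : Nat.card K0 = 360) (hperf : ⁅K0, K0⁆ = K0) (hsq : ∃ a : K, a ^ 2 = t) : K0 = ⊤ := by
  obtain ⟨P, hPn, hKP, hP⟩ := exists_perfect K0 hperf
  have tC : t ∈ centralizer ({t} : Set K) := by rw [mem_centralizer_singleton_iff]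
  have tK : t ∈ K0 := hc tC
  have tP : t ∈ P := hKP tK
  -- centraliser inside P
  let t' : P := ⟨t, tP⟩
  have ht' : orderOf t' = 2 := by rw [← ht]; exact (orderOf_injective P.subtype P.subtype_injective t').symm
  let e1 : centralizer ({t'} : Set P) ≃* centralizer ({t} : Set K) :=
    { toFun := fun g => ⟨g.1.1, by
        rw [mem_centralizer_singleton_iff]
        exact congrArg Subtype.val (mem_centralizer_singleton_iff.mp g.2)⟩
      invFun := fun g => ⟨⟨g.1, hKP (hc g.2)⟩, by
        rw [mem_centralizer_singleton_iff]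
        exact Subtype.ext (mem_centralizer_singleton_iff.mp g.2)⟩
      left_inv := fun g => rfl
      right_inv := fun g => rfl
      map_mul' := fun a b => rfl }
  have hPperf : commutator P = ⊤ := by
    have h1 : (commutator P).map P.subtype = P := by
      rw [_root_.commutator_def, map_commutator, ← MonoidHom.range_eq_map, P.range_subtype, hP]
    apply map_injective P.subtype_injective
    rw [h1, ← MonoidHom.range_eq_map, P.range_subtype]
  have hPcard := S0848.result hPperf t' ht' (e1.trans e)
  have hdvd : Nat.card K0 ∣ Nat.card P := card_dvd_of_le hKP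
  have hP360 : Nat.card P = 360 := by
    rcases hPcard with h | h
    · rw [h, hcard] at hdvd; exact absurd hdvd (by norm_num)
    · exact h
  have hPK : P = K0 := by
    symm
    apply eq_of_le_of_card_ge hKP
    rw [hP360, hcard]
  subst hPK
  -- Frattini
  obtain ⟨a, ha⟩ := hsq
  have haC : a ∈ centralizer ({t} : Set K) := by
    rw [mem_centralizer_singleton_iff, ← ha, ← pow_succ, ← pow_succ']
  have he : ∀ g : centralizer ({t} : Set K), (∃ b : centralizer ({t} : Set K), b ^ 2 = g) → g ≠ 1 → g.1 = t := by
    rintro g ⟨b, rfl⟩ hg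
    have h1 : e (b ^ 2) = DihedralGroup.r 2 := by
      rcases dih_sq (e b) with h | h
      · exfalso
        apply hg
        apply e.injective
        rw [map_pow, h, map_one]
      · rw [map_pow, h]
    have h2 : e ⟨t, tC⟩ = DihedralGroup.r 2 := by
      have h3 : (⟨t, tC⟩ : centralizer ({t} : Set K)) = ⟨a, haC⟩ ^ 2 := Subtype.ext ha.symm
      rw [h3, map_pow]
      rcases dih_sq (e ⟨a, haC⟩) with h | h
      · exfalso
        have h4 : (⟨t, tC⟩ : centralizer ({t} : Set K)) = 1 := by
          apply e.injective
          rw [h3, map_pow, h, map_one]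
        have h5 : t = 1 := congrArg Subtype.val h4
        rw [h5, orderOf_one] at ht
        exact absurd ht (by norm_num)
      · exact h
    have := e.injective (h1.trans h2.symm)
    exact congrArg Subtype.val this
  have : Fact (Nat.Prime 2) := ⟨Nat.prime_two⟩
  have hCcard : Nat.card (centralizer ({t} : Set K)) = 8 := by
    rw [Nat.card_congr e.toEquiv, DihedralGroup.nat_card]
  have hS : Nat.card ((centralizer ({t} : Set K)).subgroupOf P) = 2 ^ (Nat.card P).factorization 2 := by
    rw [Nat.card_congr (subgroupOfEquivOfLe hc).toEquiv, hCcard, hcard]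
    have h360 : (360 : ℕ) = 2 ^ 3 * 45 := by norm_num
    rw [h360, Nat.factorization_mul (by norm_num) (by norm_num), Nat.Prime.factorization_pow Nat.prime_two,
      Finsupp.add_apply, Finsupp.single_apply, if_pos rfl,
      Nat.factorization_eq_zero_of_not_dvd (by norm_num : ¬ 2 ∣ 45)]
    norm_num
  let S : Sylow 2 P := Sylow.ofCard _ hS
  have hF := Sylow.normalizer_sup_eq_top S
  have hSm : (S : Subgroup P).map P.subtype = centralizer ({t} : Set K) := by
    show ((centralizer ({t} : Set K)).subgroupOf P).map P.subtype = _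
    rw [map_subgroupOf_eq_of_le hc]
  have hNle : normalizer (((S : Subgroup P).map P.subtype : Subgroup K) : Set K) ≤ P := by
    rw [hSm]
    intro n hn
    apply hc
    rw [mem_centralizer_singleton_iff]
    have h1 : n * t * n⁻¹ ∈ centralizer ({t} : Set K) := (mem_normalizer_iff.mp hn t).mp tC
    have h2 : n * a * n⁻¹ ∈ centralizer ({t} : Set K) := (mem_normalizer_iff.mp hn a).mp haC
    have h3 : n * t * n⁻¹ = t := he ⟨_, h1⟩ ⟨⟨_, h2⟩, Subtype.ext (by
      show (n * a * n⁻¹) ^ 2 = n * t * n⁻¹
      rw [conj_pow, ha])⟩ (fun h => by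
      have h4 : n * t * n⁻¹ = 1 := congrArg Subtype.val h
      have h5 : t = 1 := by
        calc t = n⁻¹ * (n * t * n⁻¹) * n := by group
          _ = 1 := by rw [h4]; group
      rw [h5, orderOf_one] at ht
      exact absurd ht (by norm_num))
    calc n * t = (n * t * n⁻¹) * n := by group
      _ = t * n := by rw [h3]
  rw [eq_top_iff, ← hF]
  exact sup_le hNle le_rfl

end Cfsg.Agent.HN.DihClose
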