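import Cfsg.Agent.Lib.PackMatGroup

/-!
# Traces of words in matrix groups modulo `p`, computed in the kernel with `Cfsg.Agent.Lib.PackMat`

`checkTr C (cw L w) lo cnt v` : the diagonal entries number `lo, …, lo + cnt - 1` of the matrix of the word `w`
have sum `v` (as natural numbers).  `trace_of_chunks` adds up the checks.
-/

set_option autoImplicit false

namespace Cfsg.Agent.HN.Trace

open Cfsg.Agent.Lib.PackMat Cfsg.Agent.Lib.PackMatGroup

/-- sum of diagonal digits, starting with the unit row `R`, whose digit `1` has position `pos`. -/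
noncomputable def trK (s p r m t nf GM FM LO HI HT : ℕ) (w : List ℕ) : ℕ → ℕ → ℕ → ℕ → ℕ
  | 0, _, _, acc => acc
  | cnt + 1, pos, R, acc =>
      force (Nat.add acc (Nat.mod (Nat.shiftRight (runK p r m t nf GM FM LO HI HT w R) (Nat.mul s pos)) (Nat.pow 2 s)))
        fun acc' => force (Nat.shiftRight R s) fun R' => force (Nat.sub pos 1) fun pos' =>
          trK s p r m t nf GM FM LO HI HT w cnt pos' R' acc'

/-- Kernel check: the diagonal digits `lo, …, lo + cnt - 1` of the word have sum `v`. -/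
noncomputable def checkTr (C : Cfg) (w : List ℕ) (lo cnt v : ℕ) : Bool :=
  bif Nat.ble (lo + cnt) C.n then
    withC C fun s p r m t nf GM FM LO HI HT => force (unitRow C 1 lo) fun R => force (Nat.sub (Nat.sub C.n 1) lo) fun pos =>
      Nat.beq (trK s p r m t nf GM FM LO HI HT w cnt pos R 0) v
  else false

/-- the diagonal digit number `i` -/
noncomputable def dd (C : Cfg) (w : List ℕ) (i : ℕ) : ℕ := dg C.s (run C w (unitRow C 1 i)) (C.n - 1 - i)

theorem trK_spec {C : Cfg} {w : List ℕ} : ∀ (cnt lo acc : ℕ), lo + cnt ≤ C.n →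
    trK C.s C.p C.r C.m C.t C.nf (GMc C) (FMc C) (LOc C) (HIc C) (HTc C) w cnt (C.n - 1 - lo) (unitRow C 1 lo) acc =
      acc + ∑ i ∈ Finset.range cnt, dd C w (lo + i) := by
  intro cnt
  induction cnt with
  | zero => intro lo acc _; simp [trK]
  | succ cnt ih =>
    intro lo acc h
    rw [trK]
    simp only [force_eq]
    have e1 : runK C.p C.r C.m C.t C.nf (GMc C) (FMc C) (LOc C) (HIc C) (HTc C) w (unitRow C 1 lo) =
      run C w (unitRow C 1 lo) := rfl
    have e2 : Nat.mod (Nat.shiftRight (run C w (unitRow C 1 lo)) (Nat.mul C.s (C.n - 1 - lo))) (Nat.pow 2 C.s) =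
        dd C w lo := by
      rw [dd, dg_def]
      change (_ >>> (C.s * (C.n - 1 - lo))) % 2 ^ C.s = _
      rw [Nat.shiftRight_eq_div_pow]
    rw [e1, e2]
    have e3 : Nat.add acc (dd C w lo) = acc + dd C w lo := rfl
    rw [e3]
    rcases Nat.eq_zero_or_pos cnt with rfl | hc
    · simp [trK]
    · have e4 : Nat.sub (C.n - 1 - lo) 1 = C.n - 1 - (lo + 1) := by
        change C.n - 1 - lo - 1 = _
        omega
      rw [unitRow_shift (by omega), e4, ih (lo + 1) _ (by omega), Finset.sum_range_succ' (fun i => dd C w (lo + i))]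
      have e5 : ∀ i, lo + 1 + i = lo + (i + 1) := fun i => by omega
      simp only [e5, Nat.add_zero]
      omega

theorem checkTr_spec {C : Cfg} {w : List ℕ} {lo cnt v : ℕ} (h : checkTr C w lo cnt v = true) :
    ∑ i ∈ Finset.Ico lo (lo + cnt), dd C w i = v := by
  unfold checkTr at h
  cases hb : Nat.ble (lo + cnt) C.n with
  | false => rw [hb] at h; simp at h
  | true =>
    rw [hb, cond_true] at h
    have h2 := Nat.eq_of_beq_eq_true h
    have h3 := trK_spec (C := C) (w := w) cnt lo 0 (Nat.le_of_ble_eq_true hb)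
    rw [zero_add] at h3
    rw [Finset.sum_Ico_eq_sum_range, Nat.add_sub_cancel_left]
    exact h3.symm.trans h2

/-- chunks `(cnt, v)`, starting at `lo`. -/
def chunks (C : Cfg) (w : List ℕ) : List (ℕ × ℕ) → ℕ → Prop
  | [], _ => True
  | c :: cs, lo => checkTr C w lo c.1 c.2 = true ∧ chunks C w cs (lo + c.1)

theorem sum_of_chunks {C : Cfg} {w : List ℕ} (cs : List (ℕ × ℕ)) : ∀ (lo : ℕ), chunks C w cs lo →
    ∑ i ∈ Finset.Ico lo (lo + (cs.map Prod.fst).sum), dd C w i = (cs.map Prod.snd).sum := by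
  induction cs with
  | nil => intro lo _; simp
  | cons c cs ih =>
    intro lo h
    have h1 := checkTr_spec h.1
    have h2 := ih (lo + c.1) h.2
    rw [List.map_cons, List.sum_cons, List.map_cons, List.sum_cons, ← h1, ← h2, ← Nat.add_assoc,
      Finset.sum_Ico_consecutive _ (by omega) (by omega)]

/-- The trace of a word. -/
theorem trace_of_chunks {C : Cfg} (hC : C.good = true) (hp : 1 < C.p) {LG : List (U C)} {L : List ℕ}
    (h : List.Forall₂ (Codes C) LG L) {w : List ℕ} (hw : okW L.length w = true) (cs : List (ℕ × ℕ))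
    (hn : (cs.map Prod.fst).sum = C.n) (hcs : chunks C (cw L w) cs 0) :
    Matrix.trace ((evG LG w : U C) : M C) = (((cs.map Prod.snd).sum : ℕ) : ZMod C.p) := by
  rw [← sum_of_chunks cs 0 hcs, hn, Nat.zero_add, Nat.cast_sum, Matrix.trace, ← Finset.range_eq_Ico,
    Finset.sum_range]
  refine Finset.sum_congr rfl fun i _ => ?_
  have hC' := good_of_check hC
  obtain ⟨h1, h2⟩ := unitRow_ok (C := C) (c := 1) hC' hp i.2
  obtain ⟨_, h4⟩ := vecMul_word hC h hw h1
  have h5 := congrFun h4 i
  rw [h2, Nat.cast_one, one_smul] at h5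
  have e : (⟨(i : ℕ), i.2⟩ : Fin C.n) = i := rfl
  rw [e, Matrix.single_one_vecMul, rowVec_def] at h5
  rw [Matrix.diag_apply]
  exact h5.symm

end Cfsg.Agent.HN.Trace
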