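import Cfsg.Agent.HN.Rep
import Cfsg.Agent.HN.Trace

/-!
# Traces of the squares of m i
`m i = x² w⁻¹ x² w` for the representative `w` number `i` of the double cosets of `H` in HN.
-/

set_option autoImplicit false

namespace Cfsg.Agent.HN.TraceData

open Cfsg.Agent.Lib.PackMat Cfsg.Agent.Lib.PackMatGroup Cfsg.Agent.HN.RepData Cfsg.Agent.HN.Rep Cfsg.Agent.HN.Trace

/-- word number 11, squared -/
def m11_2 : List ℕ := [0, 0, 7, 5, 2, 5, 2, 5, 7, 0, 0, 6, 4, 3, 4, 3, 4, 6, 0, 0, 7, 5, 2, 5, 2, 5, 7, 0, 0, 6, 4, 3, 4, 3, 4, 6]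
theorem m11_2_c0 : checkTr C (cw L m11_2) 0 27 455 = true := by decide +kernel
theorem m11_2_c1 : checkTr C (cw L m11_2) 27 27 450 = true := by decide +kernel
theorem m11_2_c2 : checkTr C (cw L m11_2) 54 27 392 = true := by decide +kernel
theorem m11_2_c3 : checkTr C (cw L m11_2) 81 27 387 = true := by decide +kernel
theorem m11_2_c4 : checkTr C (cw L m11_2) 108 25 365 = true := by decide +kernel
theorem tr_m11_2 : Matrix.trace ((evG LG m11_2 : U C) : M C) = (3 : ZMod 31) := by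
  rw [trace_of_chunks good one_lt codes (by decide) [(27, 455), (27, 450), (27, 392), (27, 387), (25, 365)] (by decide) ⟨m11_2_c0, m11_2_c1, m11_2_c2, m11_2_c3, m11_2_c4, trivial⟩]
  decide

/-- word number 13, squared -/
def m13_2 : List ℕ := [0, 0, 7, 5, 1, 2, 7, 5, 1, 7, 0, 0, 6, 0, 4, 6, 3, 0, 4, 6, 0, 0, 7, 5, 1, 2, 7, 5, 1, 7, 0, 0, 6, 0, 4, 6, 3, 0, 4, 6]
theorem m13_2_c0 : checkTr C (cw L m13_2) 0 25 332 = true := by decide +kernel
theorem m13_2_c1 : checkTr C (cw L m13_2) 25 25 399 = true := by decide +kernel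
theorem m13_2_c2 : checkTr C (cw L m13_2) 50 25 307 = true := by decide +kernel
theorem m13_2_c3 : checkTr C (cw L m13_2) 75 25 376 = true := by decide +kernel
theorem m13_2_c4 : checkTr C (cw L m13_2) 100 25 455 = true := by decide +kernel
theorem m13_2_c5 : checkTr C (cw L m13_2) 125 8 91 = true := by decide +kernel
theorem tr_m13_2 : Matrix.trace ((evG LG m13_2 : U C) : M C) = (7 : ZMod 31) := by
  rw [trace_of_chunks good one_lt codes (by decide) [(25, 332), (25, 399), (25, 307), (25, 376), (25, 455), (8, 91)] (by decide) ⟨m13_2_c0, m13_2_c1, m13_2_c2, m13_2_c3, m13_2_c4, m13_2_c5, trivial⟩]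
  decide

/-- word number 17, squared -/
def m17_2 : List ℕ := [0, 0, 7, 5, 1, 3, 7, 5, 1, 2, 7, 5, 1, 7, 0, 0, 6, 0, 4, 6, 3, 0, 4, 6, 2, 0, 4, 6, 0, 0, 7, 5, 1, 3, 7, 5, 1, 2, 7, 5, 1, 7, 0, 0, 6, 0, 4, 6, 3, 0, 4, 6, 2, 0, 4, 6]
theorem m17_2_c0 : checkTr C (cw L m17_2) 0 17 17 = true := by decide +kernel
theorem m17_2_c1 : checkTr C (cw L m17_2) 17 17 17 = true := by decide +kernel
theorem m17_2_c2 : checkTr C (cw L m17_2) 34 17 17 = true := by decide +kernel
theorem m17_2_c3 : checkTr C (cw L m17_2) 51 17 17 = true := by decide +kernel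
theorem m17_2_c4 : checkTr C (cw L m17_2) 68 17 17 = true := by decide +kernel
theorem m17_2_c5 : checkTr C (cw L m17_2) 85 17 17 = true := by decide +kernel
theorem m17_2_c6 : checkTr C (cw L m17_2) 102 17 17 = true := by decide +kernel
theorem m17_2_c7 : checkTr C (cw L m17_2) 119 14 14 = true := by decide +kernel
theorem tr_m17_2 : Matrix.trace ((evG LG m17_2 : U C) : M C) = (9 : ZMod 31) := by
  rw [trace_of_chunks good one_lt codes (by decide) [(17, 17), (17, 17), (17, 17), (17, 17), (17, 17), (17, 17), (17, 17), (14, 14)] (by decide) ⟨m17_2_c0, m17_2_c1, m17_2_c2, m17_2_c3, m17_2_c4, m17_2_c5, m17_2_c6, m17_2_c7, trivial⟩]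
  decide

/-- word number 19, squared -/
def m19_2 : List ℕ := [0, 0, 7, 5, 2, 5, 1, 7, 5, 1, 2, 5, 7, 0, 0, 6, 4, 3, 0, 4, 6, 0, 4, 3, 4, 6, 0, 0, 7, 5, 2, 5, 1, 7, 5, 1, 2, 5, 7, 0, 0, 6, 4, 3, 0, 4, 6, 0, 4, 3, 4, 6]
theorem m19_2_c0 : checkTr C (cw L m19_2) 0 19 309 = true := by decide +kernel
theorem m19_2_c1 : checkTr C (cw L m19_2) 19 19 284 = true := by decide +kernel
theorem m19_2_c2 : checkTr C (cw L m19_2) 38 19 322 = true := by decide +kernel
theorem m19_2_c3 : checkTr C (cw L m19_2) 57 19 340 = true := by decide +kernel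
theorem m19_2_c4 : checkTr C (cw L m19_2) 76 19 290 = true := by decide +kernel
theorem m19_2_c5 : checkTr C (cw L m19_2) 95 19 261 = true := by decide +kernel
theorem m19_2_c6 : checkTr C (cw L m19_2) 114 19 307 = true := by decide +kernel
theorem tr_m19_2 : Matrix.trace ((evG LG m19_2 : U C) : M C) = (5 : ZMod 31) := by
  rw [trace_of_chunks good one_lt codes (by decide) [(19, 309), (19, 284), (19, 322), (19, 340), (19, 290), (19, 261), (19, 307)] (by decide) ⟨m19_2_c0, m19_2_c1, m19_2_c2, m19_2_c3, m19_2_c4, m19_2_c5, m19_2_c6, trivial⟩]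
  decide

end Cfsg.Agent.HN.TraceData
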