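import Cfsg.Agent.HN.TraceDataA
import Cfsg.Agent.HN.TraceDataB

/-!
# Two invariants of the double cosets `H g H` of the presented group HN

`inv1 g`, `inv2 g` are the traces of `m = ρ(x² g⁻¹ x² g)` and of `m²` modulo 31; they are constant on `H g H`.
Their values on nine words are pairwise distinct.
-/

set_option autoImplicit false

namespace Cfsg.Agent.HN.Distinct

open Cfsg.Agent.Lib.PackMat Cfsg.Agent.Lib.PackMatGroup Cfsg.Agent.HN.RepData Cfsg.Agent.HN.TraceData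

/-- `⟨x, y, z⟩` -/
def K0 : Subgroup Cfsg.Spor.HN := Subgroup.closure {Rep.x, Rep.y, Rep.z}

/-- The element `x² g⁻¹ x² g`. -/
noncomputable def mm (g : Cfsg.Spor.HN) : Cfsg.Spor.HN := Rep.x * Rep.x * g⁻¹ * (Rep.x * Rep.x) * g

/-- the trace of the matrix -/
noncomputable def tr (g : Cfsg.Spor.HN) : ZMod 31 := Matrix.trace ((Rep.rho g : U C) : M C)

/-- first invariant -/
noncomputable def inv1 (g : Cfsg.Spor.HN) : ZMod 31 := tr (mm g)

/-- second invariant -/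
noncomputable def inv2 (g : Cfsg.Spor.HN) : ZMod 31 := tr (mm g * mm g)

theorem x_four : Rep.xg * (Rep.xg * (Rep.xg * Rep.xg)) = 1 := by
  have h : evG Rep.LG [0, 0, 0, 0] = 1 := by
    have hc : checkScalar C (cw Rep.L [0, 0, 0, 0]) 1 0 133 = true := by decide +kernel
    refine eq_one_of_rows Rep.good Rep.one_lt Rep.codes (by decide) fun i hi => ?_
    have hi' : i < 133 := hi
    exact checkScalar_spec hc i (Nat.zero_le _) (by omega)
  simpa only [Rep.LG, evG_cons, evG_nil, List.getD_cons_zero, mul_one] using h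

/-- `ρ(x²)` is centralised by `ρ(H)`. -/
theorem rho_comm {h : Cfsg.Spor.HN} (hh : h ∈ K0) :
    Rep.xg * Rep.xg * Rep.rho h = Rep.rho h * (Rep.xg * Rep.xg) := by
  have hle : K0 ≤ (Subgroup.centralizer {Rep.xg * Rep.xg}).comap Rep.rho := by
    rw [K0, Subgroup.closure_le]
    have key : ∀ a : Cfsg.Spor.HN, Rep.xg * Rep.xg * Rep.rho a = Rep.rho a * (Rep.xg * Rep.xg) →
        a ∈ (Subgroup.centralizer {Rep.xg * Rep.xg}).comap Rep.rho := by
      intro a ha
      rw [Subgroup.mem_comap, Subgroup.mem_centralizer_singleton_iff]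
      exact ha.symm
    rintro a (rfl | rfl | rfl)
    · apply key
      rw [Rep.rho_x, mul_assoc]
    · apply key
      rw [Rep.rho_y]
      have h2 := Rep.rel2
      have h4 := x_four
      rw [pow_two] at h2
      have e1 : Rep.xg * Rep.xg * Rep.yg * (Rep.xg * Rep.xg) = Rep.yg := by
        rw [mul_inv_eq_one] at h2; exact h2
      have e2 : Rep.xg * Rep.xg * (Rep.xg * Rep.xg) = 1 := by
        rw [mul_assoc]; exact h4
      calc Rep.xg * Rep.xg * Rep.yg = Rep.xg * Rep.xg * Rep.yg * (Rep.xg * Rep.xg * (Rep.xg * Rep.xg)) := by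
            rw [e2, mul_one]
        _ = Rep.xg * Rep.xg * Rep.yg * (Rep.xg * Rep.xg) * (Rep.xg * Rep.xg) := by group
        _ = Rep.yg * (Rep.xg * Rep.xg) := by rw [e1]
    · apply key
      rw [Rep.rho_z]
      have h7 := Rep.rel7
      have h8 := Rep.rel8
      have h4 := x_four
      rw [pow_two] at h7 h8
      have e0 : Rep.zg⁻¹ = Rep.zg := by rw [inv_eq_iff_mul_eq_one]; exact h7
      have e1 : Rep.zg * Rep.xg * Rep.zg = Rep.xg⁻¹ := by
        rw [eq_inv_iff_mul_eq_one, mul_assoc]; exact h8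
      have e2 : Rep.xg⁻¹ * Rep.xg⁻¹ = Rep.xg * Rep.xg := by
        rw [← mul_inv_rev, inv_eq_iff_mul_eq_one, mul_assoc]; exact h4
      have e3 : Rep.zg * (Rep.xg * Rep.xg) * Rep.zg = Rep.xg * Rep.xg := by
        calc Rep.zg * (Rep.xg * Rep.xg) * Rep.zg
            = Rep.zg * Rep.xg * (Rep.zg * Rep.zg) * Rep.xg * Rep.zg := by rw [h7]; group
          _ = Rep.zg * Rep.xg * Rep.zg * (Rep.zg * Rep.xg * Rep.zg) := by group
          _ = Rep.xg * Rep.xg := by rw [e1, e2]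
      calc Rep.xg * Rep.xg * Rep.zg = Rep.zg * (Rep.xg * Rep.xg) * Rep.zg * Rep.zg := by rw [e3]
        _ = Rep.zg * (Rep.xg * Rep.xg) * (Rep.zg * Rep.zg) := by group
        _ = Rep.zg * (Rep.xg * Rep.xg) := by rw [h7, mul_one]
  have h3 := hle hh
  rw [Subgroup.mem_comap, Subgroup.mem_centralizer_singleton_iff] at h3
  exact h3.symm

theorem rho_mm (g : Cfsg.Spor.HN) : Rep.rho (mm g) =
    Rep.xg * Rep.xg * (Rep.rho g)⁻¹ * (Rep.xg * Rep.xg) * Rep.rho g := by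
  unfold mm
  simp only [map_mul, map_inv, Rep.rho_x]

theorem mm_mul {h h' : Cfsg.Spor.HN} (g : Cfsg.Spor.HN) (hh : h ∈ K0) (hh' : h' ∈ K0) :
    Rep.rho (mm (h * g * h')) = (Rep.rho h')⁻¹ * Rep.rho (mm g) * Rep.rho h' := by
  rw [rho_mm, rho_mm, map_mul, map_mul]
  have e1 := rho_comm hh
  have e2 := rho_comm (K0.inv_mem hh')
  rw [map_inv] at e2
  set X := Rep.xg * Rep.xg with hX
  set a := Rep.rho h
  set b := Rep.rho h'
  set c := Rep.rho g
  have e3 : a⁻¹ * X * a = X := by rw [mul_assoc, e1, inv_mul_cancel_left]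
  calc X * (a * c * b)⁻¹ * X * (a * c * b) = X * b⁻¹ * c⁻¹ * (a⁻¹ * X * a) * c * b := by group
    _ = b⁻¹ * X * c⁻¹ * X * c * b := by rw [e3, e2]
    _ = _ := by group

theorem trace_conj (a b : U C) : Matrix.trace ((b⁻¹ * a * b : U C) : M C) = Matrix.trace ((a : U C) : M C) := by
  rw [Units.val_mul, Units.val_mul, Matrix.trace_mul_cycle, ← Units.val_mul, mul_inv_cancel, Units.val_one, one_mul]

theorem inv1_mul {h h' : Cfsg.Spor.HN} (g : Cfsg.Spor.HN) (hh : h ∈ K0) (hh' : h' ∈ K0) :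
    inv1 (h * g * h') = inv1 g := by
  unfold inv1 tr
  rw [mm_mul g hh hh', trace_conj]

theorem inv2_mul {h h' : Cfsg.Spor.HN} (g : Cfsg.Spor.HN) (hh : h ∈ K0) (hh' : h' ∈ K0) :
    inv2 (h * g * h') = inv2 g := by
  unfold inv2 tr
  rw [map_mul, map_mul, mm_mul g hh hh']
  set b := Rep.rho h'
  set c := Rep.rho (mm g)
  have : b⁻¹ * c * b * (b⁻¹ * c * b) = b⁻¹ * (c * c) * b := by group
  rw [this, trace_conj]

/-- Representatives as words in the letters of `Rep`. -/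
def wd : Fin 9 → List ℕ
  | 0 => []
  | 1 => [6]
  | 2 => [6, 0, 4, 6]
  | 3 => [6, 1, 4, 6]
  | 4 => [6, 4, 3, 0, 4, 6]
  | 5 => [6, 4, 3, 4, 3, 4, 6]
  | 6 => [6, 0, 4, 6, 3, 0, 4, 6]
  | 7 => [6, 0, 4, 6, 3, 0, 4, 6, 2, 0, 4, 6]
  | 8 => [6, 4, 3, 0, 4, 6, 0, 4, 3, 4, 6]

/-- the elements -/
noncomputable def rw9 (i : Fin 9) : Cfsg.Spor.HN := evG Rep.gens (wd i)

theorem inv1_word {w v : List ℕ} (h : (evG Rep.gens w)⁻¹ = evG Rep.gens v) {c : ZMod 31}
    (ht : Matrix.trace ((evG Rep.LG (0 :: 0 :: (v ++ 0 :: 0 :: w)) : U C) : M C) = c) :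
    inv1 (evG Rep.gens w) = c := by
  have e : Rep.rho (mm (evG Rep.gens w)) = evG Rep.LG (0 :: 0 :: (v ++ 0 :: 0 :: w)) := by
    rw [← Rep.rho_word]
    have e0 : mm (evG Rep.gens w) = evG Rep.gens (0 :: 0 :: (v ++ 0 :: 0 :: w)) := by
      rw [evG_cons, evG_cons, evG_append, evG_cons, evG_cons]
      unfold mm
      rw [h]
      change Rep.x * Rep.x * evG Rep.gens v * (Rep.x * Rep.x) * evG Rep.gens w =
        Rep.x * (Rep.x * (evG Rep.gens v * (Rep.x * (Rep.x * evG Rep.gens w))))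
      simp only [mul_assoc]
    rw [e0]
  unfold inv1 tr
  rw [e, ht]

theorem inv2_word {w v : List ℕ} (h : (evG Rep.gens w)⁻¹ = evG Rep.gens v) {c : ZMod 31}
    (ht : Matrix.trace ((evG Rep.LG (0 :: 0 :: (v ++ 0 :: 0 :: (w ++ 0 :: 0 :: (v ++ 0 :: 0 :: w)))) : U C) : M C) = c) :
    inv2 (evG Rep.gens w) = c := by
  have e : Rep.rho (mm (evG Rep.gens w) * mm (evG Rep.gens w)) =
      evG Rep.LG (0 :: 0 :: (v ++ 0 :: 0 :: (w ++ 0 :: 0 :: (v ++ 0 :: 0 :: w)))) := by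
    rw [← Rep.rho_word]
    have e0 : mm (evG Rep.gens w) * mm (evG Rep.gens w) =
        evG Rep.gens (0 :: 0 :: (v ++ 0 :: 0 :: (w ++ 0 :: 0 :: (v ++ 0 :: 0 :: w)))) := by
      rw [evG_cons, evG_cons, evG_append, evG_cons, evG_cons, evG_append, evG_cons, evG_cons, evG_append,
        evG_cons, evG_cons]
      unfold mm
      rw [h]
      change Rep.x * Rep.x * evG Rep.gens v * (Rep.x * Rep.x) * evG Rep.gens w *
        (Rep.x * Rep.x * evG Rep.gens v * (Rep.x * Rep.x) * evG Rep.gens w) =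
        Rep.x * (Rep.x * (evG Rep.gens v * (Rep.x * (Rep.x * (evG Rep.gens w *
        (Rep.x * (Rep.x * (evG Rep.gens v * (Rep.x * (Rep.x * evG Rep.gens w))))))))))
      simp only [mul_assoc]
    rw [e0]
  unfold inv2 tr
  rw [e, ht]

/-- inverse of a letter -/
def il : ℕ → ℕ
  | 0 => 1 | 1 => 0 | 2 => 3 | 3 => 2 | 4 => 5 | 5 => 4 | 6 => 7 | 7 => 6 | n => n

/-- inverse of a word -/
def iw (w : List ℕ) : List ℕ := (w.map il).reverse

theorem inv_word (w : List ℕ) (hw : ∀ l ∈ w, l < 8) : (evG Rep.gens w)⁻¹ = evG Rep.gens (iw w) := by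
  induction w with
  | nil => exact inv_one
  | cons l w ih =>
    have e : iw (l :: w) = iw w ++ [il l] := by rw [iw, iw, List.map_cons, List.reverse_cons]
    rw [e, evG_append, evG_cons, mul_inv_rev, ih fun m hm => hw m (List.mem_cons_of_mem _ hm)]
    congr 1
    rw [evG_cons, evG_nil, mul_one]
    have hl := hw l (List.mem_cons_self)
    have h8 : l = 0 ∨ l = 1 ∨ l = 2 ∨ l = 3 ∨ l = 4 ∨ l = 5 ∨ l = 6 ∨ l = 7 := by omega
    rcases h8 with rfl | rfl | rfl | rfl | rfl | rfl | rfl | rfl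
    · rfl
    · exact inv_inv _
    · rfl
    · exact inv_inv _
    · rfl
    · exact inv_inv _
    · rfl
    · exact inv_inv _

theorem iv1 (i : Fin 9) : inv1 (rw9 i) = ![9, 24, 21, 7, 1, 3, 3, 5, 5] i := by
  fin_cases i
  · exact inv1_word (inv_word _ (by decide)) tr_m0_1
  · exact inv1_word (inv_word _ (by decide)) tr_m1_1
  · exact inv1_word (inv_word _ (by decide)) tr_m2_1
  · exact inv1_word (inv_word _ (by decide)) tr_m3_1
  · exact inv1_word (inv_word _ (by decide)) tr_m8_1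
  · exact inv1_word (inv_word _ (by decide)) tr_m11_1
  · exact inv1_word (inv_word _ (by decide)) tr_m13_1
  · exact inv1_word (inv_word _ (by decide)) tr_m17_1
  · exact inv1_word (inv_word _ (by decide)) tr_m19_1

theorem iv2_5 : inv2 (rw9 5) = 3 := inv2_word (inv_word _ (by decide)) tr_m11_2
theorem iv2_6 : inv2 (rw9 6) = 7 := inv2_word (inv_word _ (by decide)) tr_m13_2
theorem iv2_7 : inv2 (rw9 7) = 9 := inv2_word (inv_word _ (by decide)) tr_m17_2
theorem iv2_8 : inv2 (rw9 8) = 5 := inv2_word (inv_word _ (by decide)) tr_m19_2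

/-- The nine double cosets are distinct. -/
theorem distinct (i j : Fin 9) (h : rw9 j ∈ DoubleCoset.doubleCoset (rw9 i) (K0 : Set Cfsg.Spor.HN)
    (K0 : Set Cfsg.Spor.HN)) : i = j := by
  rw [DoubleCoset.mem_doubleCoset] at h
  obtain ⟨a, ha, b, hb, e⟩ := h
  have h1 : inv1 (rw9 j) = inv1 (rw9 i) := by rw [e]; exact inv1_mul _ ha hb
  have h2 : inv2 (rw9 j) = inv2 (rw9 i) := by rw [e]; exact inv2_mul _ ha hb
  rw [iv1, iv1] at h1
  have key : ∀ i j : Fin 9, (![9, 24, 21, 7, 1, 3, 3, 5, 5] j : ZMod 31) = ![9, 24, 21, 7, 1, 3, 3, 5, 5] i →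
      i = j ∨ (i = 5 ∧ j = 6) ∨ (i = 6 ∧ j = 5) ∨ (i = 7 ∧ j = 8) ∨ (i = 8 ∧ j = 7) := by
    decide
  rcases key i j h1 with h | ⟨rfl, rfl⟩ | ⟨rfl, rfl⟩ | ⟨rfl, rfl⟩ | ⟨rfl, rfl⟩
  · exact h
  · rw [iv2_5, iv2_6] at h2; exact absurd h2 (by decide)
  · rw [iv2_5, iv2_6] at h2; exact absurd h2 (by decide)
  · rw [iv2_7, iv2_8] at h2; exact absurd h2 (by decide)
  · rw [iv2_7, iv2_8] at h2; exact absurd h2 (by decide)

/-- An element of `K0 w_i K0` which commutes with `x²` is in `K0`. -/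
theorem mem_of_comm {g : Cfsg.Spor.HN} (hg : Rep.x * Rep.x * g = g * (Rep.x * Rep.x)) (i : Fin 9)
    (h : g ∈ DoubleCoset.doubleCoset (rw9 i) (K0 : Set Cfsg.Spor.HN) (K0 : Set Cfsg.Spor.HN)) : i = 0 := by
  rw [DoubleCoset.mem_doubleCoset] at h
  obtain ⟨a, ha, b, hb, e⟩ := h
  have h1 : inv1 g = inv1 (rw9 i) := by rw [e]; exact inv1_mul _ ha hb
  have h2 : inv1 g = inv1 (rw9 0) := by
    unfold inv1 tr
    have e1 : mm g = mm (rw9 0) := by
      have e2 : rw9 0 = 1 := rfl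
      rw [e2]
      unfold mm
      have e3 : g⁻¹ * (Rep.x * Rep.x) * g = Rep.x * Rep.x := by
        rw [mul_assoc, hg, inv_mul_cancel_left]
      calc Rep.x * Rep.x * g⁻¹ * (Rep.x * Rep.x) * g = Rep.x * Rep.x * (g⁻¹ * (Rep.x * Rep.x) * g) := by group
        _ = _ := by rw [e3]; group
    rw [e1]
  rw [h1, iv1, iv1] at h2
  have key : ∀ i : Fin 9, (![9, 24, 21, 7, 1, 3, 3, 5, 5] i : ZMod 31) = ![9, 24, 21, 7, 1, 3, 3, 5, 5] 0 → i = 0 := by
    decide
  exact key i h2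

end Cfsg.Agent.HN.Distinct
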