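import Cfsg.Agent.HN.Index
import Cfsg.Agent.HN.DistinctCore

/-!
# The nine double cosets of `H = ⟨x, y, z⟩` in the presented group HN are distinct, and `C(x²) ≤ H`
-/

set_option autoImplicit false

namespace Cfsg.Agent.HN.Distinct

open Cfsg.Agent.Lib.PackMat Cfsg.Agent.Lib.PackMatGroup Cfsg.Agent.HN.RepData
  Cfsg.Agent.HN.NormalH Cfsg.Agent.HN.DSem Cfsg.Agent.HN.DCert Cfsg.Agent.HN.DCover

/-- The letters of `DCert` in `Rep`. -/
def cv (l : ℕ) : ℕ := if l = 5 then 6 else if l = 6 then 7 else l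

theorem vw_eq (w : List ℕ) (hw : ∀ l ∈ w, l < 7) : vw w = evG Rep.gens (w.map cv) := by
  induction w with
  | nil => rfl
  | cons l w ih =>
    rw [vcons, List.map_cons, evG_cons, ih fun m hm => hw m (List.mem_cons_of_mem _ hm)]
    congr 1
    have hl := hw l (List.mem_cons_self)
    have h7 : l = 0 ∨ l = 1 ∨ l = 2 ∨ l = 3 ∨ l = 4 ∨ l = 5 ∨ l = 6 := by omega
    rw [vw_single, vl]
    rcases h7 with rfl | rfl | rfl | rfl | rfl | rfl | rfl
    · exact ψ_gx
    · rw [if_neg (by decide), if_neg (by decide)]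
      change ψ (Pres.gx⁻¹) = _
      rw [map_inv, ψ_gx]; rfl
    · exact ψ_gy
    · rw [if_neg (by decide), if_neg (by decide)]
      change ψ (Pres.gy⁻¹) = _
      rw [map_inv, ψ_gy]; rfl
    · exact ψ_gz
    · rw [if_pos rfl]; rfl
    · rw [if_neg (by decide), if_pos rfl]; rfl

theorem H_eq_K0 : H = K0 := H_eq

theorem w9_eq (i : Fin 9) : w9 i = rw9 i := by
  fin_cases i
  · rfl
  · exact vw_eq [5] (by decide)
  · exact vw_eq [5,0,4,5] (by decide)
  · exact vw_eq [5,1,4,5] (by decide)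
  · exact vw_eq [5,4,3,0,4,5] (by decide)
  · exact vw_eq [5,4,3,4,3,4,5] (by decide)
  · exact vw_eq [5,0,4,5,3,0,4,5] (by decide)
  · exact vw_eq [5,0,4,5,3,0,4,5,2,0,4,5] (by decide)
  · exact vw_eq [5,4,3,0,4,5,0,4,3,4,5] (by decide)

/-- **The nine double cosets are distinct.** -/
theorem hdis (i j : Fin 9) (h : w9 j ∈ DoubleCoset.doubleCoset (w9 i) (H : Set Cfsg.Spor.HN)
    (H : Set Cfsg.Spor.HN)) : i = j := by
  rw [w9_eq, w9_eq, H_eq_K0] at h
  exact distinct i j h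

/-- **The centraliser of `x²` is contained in `H`.** -/
theorem hC : Subgroup.centralizer ({Pres.hx ^ 2} : Set Cfsg.Spor.HN) ≤ H := by
  intro g hg
  obtain ⟨i, hi⟩ := Index.covers g
  rw [Subgroup.mem_centralizer_singleton_iff] at hg
  have hg' : Rep.x * Rep.x * g = g * (Rep.x * Rep.x) := by
    have e : Rep.x * Rep.x = Pres.hx ^ 2 := (pow_two Pres.hx).symm
    rw [e]; exact hg.symm
  rw [w9_eq, H_eq_K0] at hi
  have h0 := mem_of_comm hg' i hi
  subst h0
  rw [DoubleCoset.mem_doubleCoset] at hi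
  obtain ⟨a, ha, b, hb, e⟩ := hi
  rw [e, H_eq_K0]
  exact K0.mul_mem (K0.mul_mem ha K0.one_mem) hb

end Cfsg.Agent.HN.Distinct
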