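import Cfsg.Agent.HN.Upper
import Cfsg.Agent.HN.P1408
import Cfsg.Agent.HN.NormalH

set_option autoImplicit false

/-!
The group `H0` (`2.HS.2`, presented on `x, y, z`) unconditionally: order, equality of words, the central
involution `τ = x²`, the kernel of the action on 100 points, parity.
-/

namespace Cfsg.Agent.HN.H0Basic

open Cfsg.Agent.HN.Pres Cfsg.Agent.HN.HS100 Cfsg.Agent.HN.P1408 Equiv
open Cfsg.Agent.SporadicA.PermTab (band_eq_true allB allB_iff)

instance finite_H0 : Finite H0 := Upper.card_H0_le.1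

theorem card_H0_le : Nat.card H0 ≤ 177408000 := Upper.card_H0_le.2

/-- **The order of `H0`.** -/
theorem card_H0 : Nat.card H0 = 177408000 := P1408.card_H0 finite_H0 card_H0_le

/-- **Equality of words in `H0`.** -/
theorem hw_eq {a b : List ℕ} (h : eqw a b = true) : hw a = hw b := eq_of_tr finite_H0 card_H0_le h

/-- The test `eqw` is complete. -/
theorem eqw_of_hw_eq {a b : List ℕ} (ha : okw a = true) (hb : okw b = true) (h : hw a = hw b) :
    eqw a b = true := by
  have key : ∀ p : Fin 1408, tr a p = tr b p := by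
    intro p
    rw [← ψ_hw_inv_apply ha, ← ψ_hw_inv_apply hb, h]
  unfold eqw
  rw [band_eq_true, band_eq_true, band_eq_true, band_eq_true, band_eq_true]
  refine ⟨ha, hb, ?_, ?_, ?_, ?_⟩
  · rw [show tr a 0 = tr b 0 from key 0]; exact Nat.beq_refl _
  · rw [show tr a 17 = tr b 17 from key 17]; exact Nat.beq_refl _
  · rw [show tr a 221 = tr b 221 from key 221]; exact Nat.beq_refl _
  · rw [show tr a 8 = tr b 8 from key 8]; exact Nat.beq_refl _

/-- Words with different images of a point are different elements. -/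
theorem hw_ne {a b : List ℕ} (ha : okw a = true) (hb : okw b = true) {p : ℕ} (hp : p < 1408)
    (h : tr a p ≠ tr b p) : hw a ≠ hw b := by
  intro h'
  apply h
  have := ψ_hw_inv_apply ha ⟨p, hp⟩
  rw [h', ψ_hw_inv_apply hb ⟨p, hp⟩] at this
  exact this.symm

theorem okw_append {a b : List ℕ} (ha : okw a = true) (hb : okw b = true) : okw (a ++ b) = true := by
  induction a with
  | nil => exact hb
  | cons l a ih =>
    obtain ⟨h1, h2⟩ := okw_cons ha
    have : okw (l :: a ++ b) = Cfsg.Agent.SporadicA.PermTab.band (Nat.blt l 5) (okw (a ++ b)) := rfl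
    rw [this, band_eq_true]
    exact ⟨Nat.blt_eq.symm ▸ h1, ih h2⟩

theorem okw_iw {a : List ℕ} (ha : okw a = true) : okw (iw a) = true := by
  have hil : ∀ l, l < 5 → il l < 5 := by
    intro l hl
    match l, hl with
    | 0, _ => decide
    | 1, _ => decide
    | 2, _ => decide
    | 3, _ => decide
    | 4, _ => decide
  induction a with
  | nil => rfl
  | cons l a ih =>
    obtain ⟨h1, h2⟩ := okw_cons ha
    have h : iw (l :: a) = iw a ++ [il l] := by
      rw [iw, iw, List.map_cons, List.reverse_cons]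
    rw [h]
    apply okw_append (ih h2)
    change Cfsg.Agent.SporadicA.PermTab.band (Nat.blt (il l) 5) true = true
    rw [band_eq_true]
    exact ⟨Nat.blt_eq.symm ▸ hil l h1, rfl⟩

/-- every element of `H0` is given by a word. -/
theorem exists_word (g : H0) : ∃ a : List ℕ, okw a = true ∧ hw a = g := by
  have hg : g ∈ Subgroup.closure ({gx, gy, gz} : Set H0) := by rw [closure_gens]; trivial
  induction hg using Subgroup.closure_induction with
  | mem x hx =>
    rcases hx with rfl | rfl | rfl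
    · exact ⟨[0], rfl, hw_x⟩
    · exact ⟨[2], rfl, hw_y⟩
    · exact ⟨[4], rfl, hw_z⟩
  | one => exact ⟨[], rfl, rfl⟩
  | mul x y _ _ hx hy =>
    obtain ⟨a, ha, rfl⟩ := hx
    obtain ⟨b, hb, rfl⟩ := hy
    exact ⟨a ++ b, okw_append ha hb, hw_append a b⟩
  | inv x _ hx =>
    obtain ⟨a, ha, rfl⟩ := hx
    exact ⟨iw a, okw_iw ha, hw_iw a⟩

/-- The central involution. -/
def τ : H0 := gx ^ 2

theorem hw_τ : hw [0, 0] = τ := by
  rw [hw_cons, hw_x, τ, pow_two]

theorem τ_ne_one : τ ≠ 1 := gx_sq_ne_one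

theorem τ_mul_τ : τ * τ = 1 := by
  rw [← hw_τ, ← hw_append, ← hw_nil]
  exact hw_eq (by decide +kernel)

theorem τ_sq : τ ^ 2 = 1 := by rw [pow_two, τ_mul_τ]

theorem τ_inv : τ⁻¹ = τ := by rw [inv_eq_iff_mul_eq_one, τ_mul_τ]

theorem φ_τ : φ τ = 1 := by rw [τ, map_pow, φ_gx, X_sq]

theorem τ_mem_K : τ ∈ K := K.pow_mem gx_mem 2

theorem φ_eq_one_iff {g : H0} : φ g = 1 ↔ g = 1 ∨ g = τ := by
  constructor
  · intro h
    have hK : g ∈ K := DoubleCover.ker_le h
    have h2 : Nat.card DoubleCover.φK.ker = 2 := DoubleCover.card_ker card_H0 gx_sq_ne_one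
    obtain ⟨u, v, huv, huniv⟩ := Nat.card_eq_two_iff.1 h2
    have hm : ∀ (k : H0) (hk : k ∈ K) (h1 : φ k = 1),
        (⟨k, hk⟩ : K) ∈ DoubleCover.φK.ker := by
      intro k hk h1
      rw [MonoidHom.mem_ker]
      exact Subtype.ext h1
    have e1 : (⟨⟨1, K.one_mem⟩, hm 1 K.one_mem (map_one φ)⟩ : DoubleCover.φK.ker) ∈ ({u, v} : Set _) := by
      rw [huniv]; trivial
    have e2 : (⟨⟨τ, τ_mem_K⟩, hm τ τ_mem_K φ_τ⟩ : DoubleCover.φK.ker) ∈ ({u, v} : Set _) := by
      rw [huniv]; trivial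
    have e3 : (⟨⟨g, hK⟩, hm g hK h⟩ : DoubleCover.φK.ker) ∈ ({u, v} : Set _) := by
      rw [huniv]; trivial
    have val : ∀ {k l : H0} {hk : k ∈ K} {hl : l ∈ K} {hk' : (⟨k, hk⟩ : K) ∈ DoubleCover.φK.ker}
        {hl' : (⟨l, hl⟩ : K) ∈ DoubleCover.φK.ker},
        (⟨⟨k, hk⟩, hk'⟩ : DoubleCover.φK.ker) = ⟨⟨l, hl⟩, hl'⟩ → k = l := by
      intro k l hk hl hk' hl' h
      exact congrArg (fun g : DoubleCover.φK.ker => ((g : K) : H0)) h
    rcases e1 with e1 | e1 <;> rcases e2 with e2 | e2 <;> rcases e3 with e3 | e3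
    · exact Or.inl (val (e3.trans e1.symm))
    · exact absurd (val (e2.trans e1.symm)) τ_ne_one
    · exact Or.inl (val (e3.trans e1.symm))
    · exact Or.inr (val (e3.trans e2.symm))
    · exact Or.inr (val (e3.trans e2.symm))
    · exact Or.inl (val (e3.trans e1.symm))
    · exact absurd (val (e2.trans e1.symm)) τ_ne_one
    · exact Or.inl (val (e3.trans e1.symm))
  · rintro (rfl | rfl)
    · exact map_one φ
    · exact φ_τ

/-- `τ` is central. -/
theorem τ_comm (g : H0) : g * τ = τ * g := by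
  have h1 : φ (g * τ * g⁻¹) = 1 := by
    rw [map_mul, map_mul, φ_τ, mul_one, map_inv, mul_inv_cancel]
  rcases φ_eq_one_iff.1 h1 with h | h
  · exact absurd (conj_eq_one_iff.1 h) τ_ne_one
  · rwa [mul_inv_eq_iff_eq_mul] at h

theorem φ_eq_iff {g k : H0} : φ g = φ k ↔ g = k ∨ g = k * τ := by
  have h1 : φ g = φ k ↔ φ (k⁻¹ * g) = 1 := by
    rw [map_mul, map_inv, inv_mul_eq_one, eq_comm]
  rw [h1, φ_eq_one_iff, inv_mul_eq_one, inv_mul_eq_iff_eq_mul, eq_comm (a := k)]

/-! ### parity -/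

theorem sgn_τ : sgn τ = 1 := τ_mem_K

theorem sgn_sq (g : H0) : sgn (g ^ 2) = 1 := by
  rw [map_pow]
  exact Int.units_sq _

/-- squares are even. -/
theorem sq_mem_K (g : H0) : g ^ 2 ∈ K := sgn_sq g

theorem mem_K_iff {g : H0} : g ∈ K ↔ sgn g = 1 := Iff.rfl

/-- The parity of a word: the number of letters `z`, modulo 2. -/
def par (a : List ℕ) : Bool :=
  List.rec false (fun l _ ih => Bool.rec ih (Bool.rec true false ih) (Nat.beq l 4)) a

theorem sgn_hw {a : List ℕ} (ha : okw a = true) : sgn (hw a) = Bool.rec 1 (-1) (par a) := by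
  induction a with
  | nil => rw [hw_nil, map_one]; rfl
  | cons l a ih =>
    obtain ⟨h1, h2⟩ := okw_cons ha
    rw [hw_cons, map_mul, ih h2]
    have hp : par (l :: a) = Bool.rec (par a) (Bool.rec true false (par a)) (Nat.beq l 4) := rfl
    rw [hp]
    match l, h1 with
    | 0, _ => rw [hw_x, sgn_gx, one_mul]; rfl
    | 1, _ => rw [hw_xi, map_inv, sgn_gx, inv_one, one_mul]; rfl
    | 2, _ => rw [hw_y, sgn_gy, one_mul]; rfl
    | 3, _ => rw [hw_yi, map_inv, sgn_gy, inv_one, one_mul]; rfl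
    | 4, _ =>
      rw [hw_z, sgn_gz]
      cases par a
      · rfl
      · rfl

theorem mem_K_of_par {a : List ℕ} (ha : okw a = true) (hp : par a = false) : hw a ∈ K := by
  rw [mem_K_iff, sgn_hw ha, hp]

theorem not_mem_K_of_par {a : List ℕ} (ha : okw a = true) (hp : par a = true) : hw a ∉ K := by
  rw [mem_K_iff, sgn_hw ha, hp]
  decide

end Cfsg.Agent.HN.H0Basic
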