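import Cfsg.Agent.HN.SimpleAbs
import Cfsg.Agent.HN.NormalH

set_option autoImplicit false

/-!
Simplicity of the presented Harada–Norton group from its order, `|H0| ≤ 177408000`, `x² ≠ 1` and
`C(x²) ≤ H`.
-/

namespace Cfsg.Agent.HN.SimpleHN

open Cfsg.Spor Cfsg.Agent.HN.Pres Cfsg.Agent.HN.HS100 Cfsg.Agent.HN.DoubleCover
  Cfsg.Agent.HN.NormalH

theorem closure_HN : Subgroup.closure ({Pres.hx, Pres.hy, Pres.hz, Pres.ht} :
    Set Cfsg.Spor.HN) = ⊤ := by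
  rw [← PresentedGroup.closure_range_of]
  congr 1
  ext g
  constructor
  · rintro (rfl | rfl | rfl | rfl)
    · exact ⟨HN.Gen.x, rfl⟩
    · exact ⟨HN.Gen.y, rfl⟩
    · exact ⟨HN.Gen.z, rfl⟩
    · exact ⟨HN.Gen.t, rfl⟩
  · rintro ⟨i, rfl⟩
    cases i
    · exact Or.inl rfl
    · exact Or.inr (Or.inl rfl)
    · exact Or.inr (Or.inr (Or.inl rfl))
    · exact Or.inr (Or.inr (Or.inr rfl))

theorem t_five : Pres.ht ^ 5 = 1 := mk_extra (by simp [HN.extra])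

theorem x_t : (Pres.hx⁻¹ * Pres.ht * Pres.hx) * Pres.ht ^ 2 = 1 := mk_extra (by simp [HN.extra])

theorem t_y : Pres.ht⁻¹ * Pres.hy⁻¹ * Pres.ht * Pres.hy = 1 := mk_extra (by simp [HN.extra])

theorem z_t : (Pres.hz * Pres.ht) ^ 3 = 1 := mk_extra (by simp [HN.extra])

theorem x_four (hfin : Finite H0) (hle : Nat.card H0 ≤ 177408000) (hx : Pres.hx ^ 2 ≠ 1) :
    (Pres.hx ^ 2) ^ 2 = 1 := by
  have hmem : (⟨gx ^ 2, K.pow_mem gx_mem 2⟩ : K) ∈ φK.ker := by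
    rw [MonoidHom.mem_ker]
    apply Subtype.ext
    rw [φK_coe]
    change φ (gx ^ 2) = 1
    rw [map_pow, φ_gx, X_sq]
  have h2 := pow_card_eq_one' (x := (⟨_, hmem⟩ : φK.ker))
  rw [card_ker (card_H0 hfin hle hx) (gx_sq_ne hx)] at h2
  have h3 : (gx ^ 2) ^ 2 = 1 := congrArg (fun g : φK.ker => ((g : K) : H0)) h2
  rw [← ψ_gx, ← map_pow, ← map_pow, h3, map_one]

/-- `HN` is simple. -/
theorem isSimpleGroup_HN [Finite Cfsg.Spor.HN] (hfin : Finite H0)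
    (hle : Nat.card H0 ≤ 177408000) (hx : Pres.hx ^ 2 ≠ 1)
    (hcG : Nat.card Cfsg.Spor.HN = 273030912000000)
    (hC : Subgroup.centralizer ({Pres.hx ^ 2} : Set Cfsg.Spor.HN) ≤ H) :
    IsSimpleGroup Cfsg.Spor.HN :=
  SimpleAbs.isSimpleGroup closure_HN rels_HN t_five x_t z_t H hcG (card_H hfin hle hx) hx
    (x_four hfin hle hx) hC (sq_mem hfin hle hx)

end Cfsg.Agent.HN.SimpleHN
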