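import Cfsg.Agent.HN.Rep
import Cfsg.Agent.HN.NormalH

set_option autoImplicit false

/-!
`x² ≠ 1` in the presented Harada–Norton group (from the 133-dimensional representation).
-/

namespace Cfsg.Agent.HN.XSq

open Cfsg.Spor Cfsg.Agent.Lib.PackMat Cfsg.Agent.Lib.PackMatGroup Cfsg.Agent.HN.RepData

/-- the square of the matrix of x is not the identity. -/
theorem xg_sq_ne : Rep.xg * Rep.xg ≠ 1 := by
  have h := ne_of_row (C := C) Rep.good Rep.codes (w₁ := [0, 0]) (w₂ := []) (by decide) (by decide)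
    (R := unitRow C 1 0) (unitRow_ok (c := 1) (i := 0) (good_of_check Rep.good) (by decide) (by decide)).1
    (by decide +kernel)
  intro h1
  apply h
  simp only [Rep.LG, evG_cons, evG_nil, List.getD_cons_zero, mul_one]
  exact h1

theorem hx_sq_ne : Pres.hx ^ 2 ≠ 1 := by
  intro h
  apply xg_sq_ne
  have h1 : Rep.rho Pres.hx = Rep.xg := Rep.rho_x
  rw [← h1, ← map_mul, ← pow_two, h, map_one]

end Cfsg.Agent.HN.XSq
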