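import Cfsg.Agent.HN.DCover
import Cfsg.Agent.HN.Count
import Cfsg.Agent.HN.XSq
import Cfsg.Agent.HN.H0Basic
import Cfsg.Agent.HN.SimpleHN

set_option autoImplicit false

/-!
The presented Harada–Norton group is covered by nine double cosets `H w_i H`; if they are distinct the
index of `H` is `1539000`.
-/

namespace Cfsg.Agent.HN.Index

open Cfsg.Agent.HN.Pres Cfsg.Agent.HN.DCover Cfsg.Agent.HN.NormalH Cfsg.Agent.HN.DSem
  Cfsg.Agent.SporadicA.PermTab Equiv DoubleCoset

theorem w9_zero : w9 0 = 1 := rfl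

/-- **The nine double cosets cover the group.** -/
theorem covers (g : Cfsg.Spor.HN) :
    ∃ i : Fin 9, g ∈ doubleCoset (w9 i) (H : Set Cfsg.Spor.HN) (H : Set Cfsg.Spor.HN) := by
  let S : Set Cfsg.Spor.HN := {g | ∃ i : Fin 9, ∃ a ∈ H, ∃ b ∈ H, g = a * w9 i * b}
  have hone : (1 : Cfsg.Spor.HN) ∈ S := ⟨0, 1, H.one_mem, 1, H.one_mem, by rw [w9_zero]; simp⟩
  have hH : ∀ u ∈ H, ∀ s ∈ S, s * u ∈ S := by
    rintro u hu _ ⟨i, a, ha, b, hb, rfl⟩
    exact ⟨i, a, ha, b * u, H.mul_mem hb hu, by group⟩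
  have ht1 : ∀ s ∈ S, s * ht ∈ S := by
    rintro _ ⟨i, a, ha, b, hb, rfl⟩
    rw [← range_ψ] at hb
    obtain ⟨h, rfl⟩ := hb
    obtain ⟨a', ha', b', hb', e⟩ := closure_t H0Basic.finite_H0 H0Basic.card_H0_le i h
    refine ⟨τ i (pt h), a * a', H.mul_mem ha ha', b', hb', ?_⟩
    rw [mul_assoc a, mul_assoc a, e]
    simp only [mul_assoc]
  have ht2 : ∀ s ∈ S, s * ht⁻¹ ∈ S := by
    intro s hs
    have e : ht⁻¹ = ht * ht * ht * ht := by
      rw [inv_eq_iff_mul_eq_one, ← SimpleHN.t_five]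
      simp only [pow_succ, pow_zero, one_mul, mul_assoc]
    rw [e, ← mul_assoc, ← mul_assoc, ← mul_assoc]
    exact ht1 _ (ht1 _ (ht1 _ (ht1 _ hs)))
  have hgen : ∀ u : Cfsg.Spor.HN, (∀ s ∈ S, s * u ∈ S) ∧ (∀ s ∈ S, s * u⁻¹ ∈ S) := by
    intro u
    have hu : u ∈ Subgroup.closure ({Pres.hx, Pres.hy, Pres.hz, Pres.ht} : Set Cfsg.Spor.HN) := by
      rw [SimpleHN.closure_HN]; trivial
    have hsub : ∀ v ∈ ({Pres.hx, Pres.hy, Pres.hz} : Set Cfsg.Spor.HN), v ∈ H := by
      intro v hv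
      rw [H_eq]
      exact Subgroup.subset_closure hv
    induction hu using Subgroup.closure_induction with
    | mem v hv =>
      rcases hv with rfl | rfl | rfl | rfl
      · exact ⟨hH _ (hsub _ (by simp)), hH _ (H.inv_mem (hsub _ (by simp)))⟩
      · exact ⟨hH _ (hsub _ (by simp)), hH _ (H.inv_mem (hsub _ (by simp)))⟩
      · exact ⟨hH _ (hsub _ (by simp)), hH _ (H.inv_mem (hsub _ (by simp)))⟩
      · exact ⟨ht1, ht2⟩
    | one => exact ⟨fun s hs => by rw [mul_one]; exact hs, fun s hs => by rw [inv_one, mul_one]; exact hs⟩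
    | mul a b _ _ ha hb =>
      refine ⟨fun s hs => ?_, fun s hs => ?_⟩
      · rw [← mul_assoc]; exact hb.1 _ (ha.1 _ hs)
      · rw [mul_inv_rev, ← mul_assoc]; exact ha.2 _ (hb.2 _ hs)
    | inv a _ ha => exact ⟨ha.2, by rw [inv_inv]; exact ha.1⟩
  obtain ⟨i, a, ha, b, hb, e⟩ := (hgen g).1 1 hone
  rw [one_mul] at e
  exact ⟨i, mem_doubleCoset.2 ⟨a, ha, b, hb, e⟩⟩

instance finite_H : Finite H := by
  obtain ⟨e, -⟩ := exists_mulEquiv H0Basic.finite_H0 H0Basic.card_H0_le XSq.hx_sq_ne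
  exact Finite.of_equiv H0 e.toEquiv

theorem card_H : Nat.card H = 177408000 :=
  NormalH.card_H H0Basic.finite_H0 H0Basic.card_H0_le XSq.hx_sq_ne

/-- The group is finite. -/
instance finite_HN : Finite Cfsg.Spor.HN := by
  have hS : (Set.univ : Set Cfsg.Spor.HN) ⊆
      ⋃ i : Fin 9, doubleCoset (w9 i) (H : Set Cfsg.Spor.HN) (H : Set Cfsg.Spor.HN) := by
    intro g _
    obtain ⟨i, hi⟩ := covers g
    exact Set.mem_iUnion.2 ⟨i, hi⟩
  have hf : ∀ i : Fin 9, (doubleCoset (w9 i) (H : Set Cfsg.Spor.HN) (H : Set Cfsg.Spor.HN)).Finite := by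
    intro i
    have hH : (H : Set Cfsg.Spor.HN).Finite := Set.finite_coe_iff.1 finite_H
    exact (hH.mul (Set.finite_singleton _)).mul hH
  exact Set.finite_univ_iff.1 ((Set.finite_iUnion hf).subset hS)

theorem trans1408 (q : Fin 1408) : ∃ h : H0, P1408.ψ h 0 = q := by
  have hc := card_fin_of_cntB _ 1408 1408 P1408.cnt0
  have hall := Finset.eq_univ_of_card _ (hc.trans (Fintype.card_fin 1408).symm)
  have hq := Finset.mem_univ q
  rw [← hall, Finset.mem_filter] at hq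
  obtain ⟨g, ⟨h, -, rfl⟩, hg⟩ := orb_of_chk (x := 0) (L := [P1408.tX, P1408.tY, P1408.tZ])
    P1408.inX (P1408.mem3 P1408.inX P1408.inY P1408.inZ) P1408.chk0 q (by
      intro he
      have := hq.2
      rw [he] at this
      exact absurd this (by decide))
  exact ⟨h, hg⟩

theorem card_fiber (q : Fin 1408) :
    Nat.card {h : H0 // P1408.ψ h 0 = q} = Nat.card (Count.stab P1408.ψ 0) := by
  rw [← Count.card_fiber_inv P1408.ψ 0 trans1408 q]
  refine Nat.card_congr
    { toFun := fun h => ⟨h.1⁻¹, ?_⟩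
      invFun := fun h => ⟨h.1⁻¹, ?_⟩
      left_inv := fun h => Subtype.ext (inv_inv _)
      right_inv := fun h => Subtype.ext (inv_inv _) }
  · rw [map_inv, inv_inv]; exact h.2
  · rw [map_inv]; exact h.2

/-! ### the counts -/

/-- the row check of the counts -/
def chkRow (i : ℕ) (L : List ℕ) : Bool :=
  allB (fun j => cntB (fun q => Nat.beq (lab i q) j) 1408 (DCheck.nth 0 L j)) 9

/-- the numbers of points -/
def kk (i j : Fin 9) : ℕ := DCheck.nth 0 (DCheck.nth [] DCoverData.KK i) j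

set_option maxRecDepth 100000 in
theorem r0 : chkRow 0 (DCheck.nth [] DCoverData.KK 0) = true := by decide +kernel
set_option maxRecDepth 100000 in
theorem r1 : chkRow 1 (DCheck.nth [] DCoverData.KK 1) = true := by decide +kernel
set_option maxRecDepth 100000 in
theorem r2 : chkRow 2 (DCheck.nth [] DCoverData.KK 2) = true := by decide +kernel
set_option maxRecDepth 100000 in
theorem r3 : chkRow 3 (DCheck.nth [] DCoverData.KK 3) = true := by decide +kernel
set_option maxRecDepth 100000 in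
theorem r4 : chkRow 4 (DCheck.nth [] DCoverData.KK 4) = true := by decide +kernel
set_option maxRecDepth 100000 in
theorem r5 : chkRow 5 (DCheck.nth [] DCoverData.KK 5) = true := by decide +kernel
set_option maxRecDepth 100000 in
theorem r6 : chkRow 6 (DCheck.nth [] DCoverData.KK 6) = true := by decide +kernel
set_option maxRecDepth 100000 in
theorem r7 : chkRow 7 (DCheck.nth [] DCoverData.KK 7) = true := by decide +kernel
set_option maxRecDepth 100000 in
theorem r8 : chkRow 8 (DCheck.nth [] DCoverData.KK 8) = true := by decide +kernel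

theorem rAll (i : Fin 9) : chkRow i (DCheck.nth [] DCoverData.KK i) = true := by
  fin_cases i
  · exact r0
  · exact r1
  · exact r2
  · exact r3
  · exact r4
  · exact r5
  · exact r6
  · exact r7
  · exact r8

theorem card_τ (i j : Fin 9) : (Finset.univ.filter (fun q => τ i q = j)).card = kk i j := by
  apply Count.card_filter_of_cntB τ lab (fun _ _ => rfl)
  exact (allB_iff _ _).1 (rAll i) j j.2

/-! ### the sizes -/

/-- the point of an element of `H` -/
noncomputable def ptH (h : H) : Fin 1408 :=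
  pt ((exists_mulEquiv H0Basic.finite_H0 H0Basic.card_H0_le XSq.hx_sq_ne).choose.symm h)

theorem card_ptH (q : Fin 1408) : Nat.card {h : H // ptH h = q} = Nat.card (Count.stab P1408.ψ 0) := by
  rw [← card_fiber q]
  set e := (exists_mulEquiv H0Basic.finite_H0 H0Basic.card_H0_le XSq.hx_sq_ne).choose with he
  refine Nat.card_congr
    { toFun := fun h => ⟨e.symm h.1, h.2⟩
      invFun := fun h => ⟨e h.1, ?_⟩
      left_inv := fun h => Subtype.ext (e.apply_symm_apply _)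
      right_inv := fun h => Subtype.ext (e.symm_apply_apply _) }
  change pt (e.symm (e h.1)) = q
  rw [e.symm_apply_apply]
  exact h.2

theorem mul_mem_doubleCoset (i : Fin 9) (h : H) : w9 i * (h : Cfsg.Spor.HN) * ht ∈
    doubleCoset (w9 (τ i (ptH h))) (H : Set Cfsg.Spor.HN) (H : Set Cfsg.Spor.HN) := by
  have he := (exists_mulEquiv H0Basic.finite_H0 H0Basic.card_H0_le XSq.hx_sq_ne).choose_spec
  set e := (exists_mulEquiv H0Basic.finite_H0 H0Basic.card_H0_le XSq.hx_sq_ne).choose with he'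
  obtain ⟨a, ha, b, hb, h1⟩ := closure_t H0Basic.finite_H0 H0Basic.card_H0_le i (e.symm h)
  have h2 : ψ (e.symm h) = (h : Cfsg.Spor.HN) := by
    rw [← he, e.apply_symm_apply]
  rw [h2] at h1
  exact mem_doubleCoset.2 ⟨a, ha, b, hb, h1⟩

theorem x_mem : Pres.hx ∈ H := by
  rw [H_eq]
  exact Subgroup.subset_closure (by simp)

theorem inv_t : (Pres.hx ^ 2)⁻¹ * ht * Pres.hx ^ 2 = ht⁻¹ := by
  have h1 : Pres.hx⁻¹ * ht * Pres.hx = (ht ^ 2)⁻¹ := eq_inv_of_mul_eq_one_left SimpleHN.x_t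
  have h5 := SimpleHN.t_five
  have h3 : (ht ^ 2)⁻¹ = ht ^ 3 := by
    rw [inv_eq_iff_mul_eq_one, ← pow_add]
    exact h5
  rw [h3] at h1
  have h4 : Pres.hx⁻¹ * ht ^ 3 * Pres.hx = (Pres.hx⁻¹ * ht * Pres.hx) ^ 3 := by
    simp only [pow_succ, pow_zero, one_mul]
    group
  have h6 : (Pres.hx ^ 2)⁻¹ * ht * Pres.hx ^ 2 = Pres.hx⁻¹ * (Pres.hx⁻¹ * ht * Pres.hx) * Pres.hx := by
    simp only [pow_two, mul_inv_rev, mul_assoc]
  rw [h6, h1, h4, h1, ← pow_mul]
  rw [eq_inv_iff_mul_eq_one, ← pow_succ, show 3 * 3 + 1 = 5 * 2 from rfl, pow_mul, h5, one_pow]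

section

variable (hdis : ∀ i j : Fin 9, w9 j ∈ doubleCoset (w9 i) (H : Set Cfsg.Spor.HN) (H : Set Cfsg.Spor.HN) → i = j)

include hdis

theorem balance (i j : Fin 9) : Count.sz H (w9 i) * kk i j = Count.sz H (w9 j) * kk j i :=
  Count.sz_mul_eq' H w9 ht (Pres.hx ^ 2) hdis ptH _ card_ptH τ mul_mem_doubleCoset
    (Count.card_stab_pos _ _) (H.pow_mem x_mem 2) inv_t kk card_τ i j

omit hdis in
theorem sum9 (f : Fin 9 → ℕ) : ∑ i, f i =
    f 0 + (f 1 + (f 2 + (f 3 + (f 4 + (f 5 + (f 6 + (f 7 + (f 8 + 0)))))))) := by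
  simp only [Fin.sum_univ_succ, Fin.sum_univ_zero]
  rfl

omit hdis in
theorem sum_aux {a0 a1 a2 a3 a4 a5 a6 a7 a8 : ℕ} (s0 : a0 = 1) (s1 : a0 * 1408 = a1 * 1)
    (s2 : a1 * 50 = a2 * 32) (s3 : a1 * 450 = a3 * 18) (s4 : a1 * 350 = a4 * 4)
    (s5 : a1 * 504 = a5 * 2) (s6 : a2 * 672 = a6 * 2) (s7 : a6 * 10 = a7 * 1280)
    (s8 : a6 * 240 = a8 * 640) :
    a0 + (a1 + (a2 + (a3 + (a4 + (a5 + (a6 + (a7 + (a8 + 0)))))))) = 1539000 := by
  omega

/-- **The index of `H`** (`S1707`), assuming that the nine double cosets are distinct. -/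
theorem index_H : H.index = 1539000 := by
  rw [Count.index_eq_sum H w9 hdis covers]
  have s0 : Count.sz H (w9 0) = 1 := by rw [w9_zero]; exact Count.sz_one H
  have s1 : Count.sz H (w9 0) * 1408 = Count.sz H (w9 1) * 1 := balance hdis 0 1
  have s2 : Count.sz H (w9 1) * 50 = Count.sz H (w9 2) * 32 := balance hdis 1 2
  have s3 : Count.sz H (w9 1) * 450 = Count.sz H (w9 3) * 18 := balance hdis 1 3
  have s4 : Count.sz H (w9 1) * 350 = Count.sz H (w9 4) * 4 := balance hdis 1 4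
  have s5 : Count.sz H (w9 1) * 504 = Count.sz H (w9 5) * 2 := balance hdis 1 5
  have s6 : Count.sz H (w9 2) * 672 = Count.sz H (w9 6) * 2 := balance hdis 2 6
  have s7 : Count.sz H (w9 6) * 10 = Count.sz H (w9 7) * 1280 := balance hdis 6 7
  have s8 : Count.sz H (w9 6) * 240 = Count.sz H (w9 8) * 640 := balance hdis 6 8
  rw [sum9]
  exact sum_aux s0 s1 s2 s3 s4 s5 s6 s7 s8

/-- **The order of `HN`.** -/
theorem card_HN : Nat.card Cfsg.Spor.HN = 273030912000000 := by
  rw [← H.card_mul_index, index_H hdis, card_H]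

end

end Cfsg.Agent.HN.Index
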