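import Cfsg.Agent.HN.Equit
import Cfsg.Agent.HN.Index
import Cfsg.Agent.HN.Lower

set_option autoImplicit false

/-!
The nine double cosets `H w_i H` are distinct: the table of local counts has only the trivial and the
total equitable partition.
-/

namespace Cfsg.Agent.HN.DistinctC

open Cfsg.Agent.HN.Pres Cfsg.Agent.HN.DCover Cfsg.Agent.HN.NormalH Cfsg.Agent.HN.Index
  Cfsg.Agent.HN.Count

section

variable {b : Fin 9 → Fin 9 → ℕ}

theorem R0 (c : Fin 9) : ∑ d, kk 0 d * b d c = 1408 * b 1 c := by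
  rw [sum9]
  change 0 * b 0 c + (1408 * b 1 c + (0 * b 2 c + (0 * b 3 c + (0 * b 4 c + (0 * b 5 c + (0 * b 6 c + (0 * b 7 c + (0 * b 8 c + 0)))))))) = _
  omega

theorem R1 (c : Fin 9) : ∑ d, kk 1 d * b d c = 1 * b 0 c + 53 * b 1 c + 50 * b 2 c + 450 * b 3 c + 350 * b 4 c + 504 * b 5 c := by
  rw [sum9]
  change 1 * b 0 c + (53 * b 1 c + (50 * b 2 c + (450 * b 3 c + (350 * b 4 c + (504 * b 5 c + (0 * b 6 c + (0 * b 7 c + (0 * b 8 c + 0)))))))) = _
  omega

theorem R2 (c : Fin 9) : ∑ d, kk 2 d * b d c = 32 * b 1 c + 32 * b 3 c + 672 * b 4 c + 672 * b 6 c := by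
  rw [sum9]
  change 0 * b 0 c + (32 * b 1 c + (0 * b 2 c + (32 * b 3 c + (672 * b 4 c + (0 * b 5 c + (672 * b 6 c + (0 * b 7 c + (0 * b 8 c + 0)))))))) = _
  omega

theorem R3 (c : Fin 9) : ∑ d, kk 3 d * b d c = 18 * b 1 c + 2 * b 2 c + 100 * b 3 c + 112 * b 4 c + 504 * b 5 c + 672 * b 6 c := by
  rw [sum9]
  change 0 * b 0 c + (18 * b 1 c + (2 * b 2 c + (100 * b 3 c + (112 * b 4 c + (504 * b 5 c + (672 * b 6 c + (0 * b 7 c + (0 * b 8 c + 0)))))))) = _
  omega

theorem R4 (c : Fin 9) : ∑ d, kk 4 d * b d c = 4 * b 1 c + 12 * b 2 c + 32 * b 3 c + 160 * b 4 c + 288 * b 5 c + 552 * b 6 c + 360 * b 8 c := by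
  rw [sum9]
  change 0 * b 0 c + (4 * b 1 c + (12 * b 2 c + (32 * b 3 c + (160 * b 4 c + (288 * b 5 c + (552 * b 6 c + (0 * b 7 c + (360 * b 8 c + 0)))))))) = _
  omega

theorem R5 (c : Fin 9) : ∑ d, kk 5 d * b d c = 2 * b 1 c + 50 * b 3 c + 100 * b 4 c + 356 * b 5 c + 650 * b 6 c + 250 * b 8 c := by
  rw [sum9]
  change 0 * b 0 c + (2 * b 1 c + (0 * b 2 c + (50 * b 3 c + (100 * b 4 c + (356 * b 5 c + (650 * b 6 c + (0 * b 7 c + (250 * b 8 c + 0)))))))) = _
  omega

theorem R6 (c : Fin 9) : ∑ d, kk 6 d * b d c = 2 * b 2 c + 32 * b 3 c + 92 * b 4 c + 312 * b 5 c + 720 * b 6 c + 10 * b 7 c + 240 * b 8 c := by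
  rw [sum9]
  change 0 * b 0 c + (0 * b 1 c + (2 * b 2 c + (32 * b 3 c + (92 * b 4 c + (312 * b 5 c + (720 * b 6 c + (10 * b 7 c + (240 * b 8 c + 0)))))))) = _
  omega

theorem R7 (c : Fin 9) : ∑ d, kk 7 d * b d c = 1280 * b 6 c + 128 * b 7 c := by
  rw [sum9]
  change 0 * b 0 c + (0 * b 1 c + (0 * b 2 c + (0 * b 3 c + (0 * b 4 c + (0 * b 5 c + (1280 * b 6 c + (128 * b 7 c + (0 * b 8 c + 0)))))))) = _
  omega

theorem R8 (c : Fin 9) : ∑ d, kk 8 d * b d c = 160 * b 4 c + 320 * b 5 c + 640 * b 6 c + 288 * b 8 c := by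
  rw [sum9]
  change 0 * b 0 c + (0 * b 1 c + (0 * b 2 c + (0 * b 3 c + (160 * b 4 c + (320 * b 5 c + (640 * b 6 c + (0 * b 7 c + (288 * b 8 c + 0)))))))) = _
  omega


theorem comb (hb : ∀ i j, b i j = 0 ∨ b i j = 1) (hrefl : ∀ i, b i i = 1)
    (hsymm : ∀ i j, b i j = 1 → b j i = 1) (htrans : ∀ i j k, b i j = 1 → b j k = 1 → b i k = 1)
    (E : ∀ i j, b i j = 1 → ∀ c, ∑ d, kk i d * b d c = ∑ d, kk j d * b d c) (h10 : b 1 0 ≠ 1) :
    ∀ i j, b i j = 1 → i = j := by
  -- step A
  have big : ∀ j : Fin 9, b j 1 = 1 → b j 0 = 1 → False := fun j h1 h0 =>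
    h10 (htrans _ _ _ (hsymm _ _ h1) h0)

  have A3 : b 3 0 ≠ 1 := by
    intro h
    have e := E 3 0 h 1
    rw [R3, R0, hrefl] at e
    apply big 3 _ h

    have b2 := hb 2 1
    have b3 := hb 3 1
    have b4 := hb 4 1
    have b5 := hb 5 1
    have b6 := hb 6 1
    omega
  have A4 : b 4 0 ≠ 1 := by
    intro h
    have e := E 4 0 h 1
    rw [R4, R0, hrefl] at e
    apply big 4 _ h

    have b2 := hb 2 1
    have b3 := hb 3 1
    have b4 := hb 4 1
    have b5 := hb 5 1
    have b6 := hb 6 1
    have b8 := hb 8 1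
    omega
  have A5 : b 5 0 ≠ 1 := by
    intro h
    have e := E 5 0 h 1
    rw [R5, R0, hrefl] at e
    apply big 5 _ h

    have b3 := hb 3 1
    have b4 := hb 4 1
    have b5 := hb 5 1
    have b6 := hb 6 1
    have b8 := hb 8 1
    omega
  have A6 : b 6 0 ≠ 1 := by
    intro h
    have e := E 6 0 h 1
    rw [R6, R0, hrefl] at e
    apply big 6 _ h

    have b2 := hb 2 1
    have b3 := hb 3 1
    have b4 := hb 4 1
    have b5 := hb 5 1
    have b6 := hb 6 1
    have b7 := hb 7 1
    have b8 := hb 8 1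
    omega
  have A7 : b 7 0 ≠ 1 := by
    intro h
    have e := E 7 0 h 1
    rw [R7, R0, hrefl] at e
    apply big 7 _ h

    have b6 := hb 6 1
    have b7 := hb 7 1
    omega
  have A8 : b 8 0 ≠ 1 := by
    intro h
    have e := E 8 0 h 1
    rw [R8, R0, hrefl] at e
    apply big 8 _ h

    have b4 := hb 4 1
    have b5 := hb 5 1
    have b6 := hb 6 1
    have b8 := hb 8 1
    omega
  have A2 : b 2 0 ≠ 1 := by
    intro h
    have e := E 2 0 h 1
    rw [R2, R0, hrefl] at e
    have b3 := hb 3 1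
    have b4 := hb 4 1
    have b6 := hb 6 1
    have h31 : b 3 1 = 1 := by omega
    have e' := E 3 1 h31 0
    rw [R3, R1, hrefl, h] at e'
    have c1 := hb 1 0
    have c3 := hb 3 0
    have c4 := hb 4 0
    have c6 := hb 6 0
    have d3 := big 3 h31
    have d4 := big 4 (by omega)
    have d6 := big 6 (by omega)
    have d3' : b 3 0 = 0 := by omega
    have d4' : b 4 0 = 0 := by omega
    have d6' : b 6 0 = 0 := by omega
    omega

  have z10 : b 1 0 = 0 := (hb 1 0).resolve_right h10
  have z20 : b 2 0 = 0 := (hb 2 0).resolve_right A2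
  have z30 : b 3 0 = 0 := (hb 3 0).resolve_right A3
  have z40 : b 4 0 = 0 := (hb 4 0).resolve_right A4
  have z50 : b 5 0 = 0 := (hb 5 0).resolve_right A5
  have z60 : b 6 0 = 0 := (hb 6 0).resolve_right A6
  have z70 : b 7 0 = 0 := (hb 7 0).resolve_right A7
  have z80 : b 8 0 = 0 := (hb 8 0).resolve_right A8
  have n1_2 : b 1 2 ≠ 1 := by
    intro h
    have e := E 1 2 h 0
    rw [R1, R2] at e
    simp only [hrefl, z10, z20, z30, z40, z50, z60] at e
    omega
  have n1_3 : b 1 3 ≠ 1 := by
    intro h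
    have e := E 1 3 h 0
    rw [R1, R3] at e
    simp only [hrefl, z10, z20, z30, z40, z50, z60] at e
    omega
  have n1_4 : b 1 4 ≠ 1 := by
    intro h
    have e := E 1 4 h 0
    rw [R1, R4] at e
    simp only [hrefl, z10, z20, z30, z40, z50, z60, z80] at e
    omega
  have n1_5 : b 1 5 ≠ 1 := by
    intro h
    have e := E 1 5 h 0
    rw [R1, R5] at e
    simp only [hrefl, z10, z20, z30, z40, z50, z60, z80] at e
    omega
  have n1_6 : b 1 6 ≠ 1 := by
    intro h
    have e := E 1 6 h 0
    rw [R1, R6] at e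
    simp only [hrefl, z10, z20, z30, z40, z50, z60, z70, z80] at e
    omega
  have n1_7 : b 1 7 ≠ 1 := by
    intro h
    have e := E 1 7 h 0
    rw [R1, R7] at e
    simp only [hrefl, z10, z20, z30, z40, z50, z60, z70] at e
    omega
  have n1_8 : b 1 8 ≠ 1 := by
    intro h
    have e := E 1 8 h 0
    rw [R1, R8] at e
    simp only [hrefl, z10, z20, z30, z40, z50, z60, z80] at e
    omega
  have z21 : b 2 1 = 0 := (hb 2 1).resolve_right (fun h => n1_2 (hsymm _ _ h))
  have z31 : b 3 1 = 0 := (hb 3 1).resolve_right (fun h => n1_3 (hsymm _ _ h))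
  have z41 : b 4 1 = 0 := (hb 4 1).resolve_right (fun h => n1_4 (hsymm _ _ h))
  have z51 : b 5 1 = 0 := (hb 5 1).resolve_right (fun h => n1_5 (hsymm _ _ h))
  have z61 : b 6 1 = 0 := (hb 6 1).resolve_right (fun h => n1_6 (hsymm _ _ h))
  have z71 : b 7 1 = 0 := (hb 7 1).resolve_right (fun h => n1_7 (hsymm _ _ h))
  have z81 : b 8 1 = 0 := (hb 8 1).resolve_right (fun h => n1_8 (hsymm _ _ h))
  have z01 : b 0 1 = 0 := (hb 0 1).resolve_right (fun h => h10 (hsymm _ _ h))
  have n2_3 : b 2 3 ≠ 1 := by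
    intro h
    have e := E 2 3 h 1
    rw [R2, R3] at e
    simp only [hrefl, z31, z41, z61, z21, z51] at e
    omega
  have n2_4 : b 2 4 ≠ 1 := by
    intro h
    have e := E 2 4 h 1
    rw [R2, R4] at e
    simp only [hrefl, z31, z41, z61, z21, z51, z81] at e
    omega
  have n2_5 : b 2 5 ≠ 1 := by
    intro h
    have e := E 2 5 h 1
    rw [R2, R5] at e
    simp only [hrefl, z31, z41, z61, z51, z81] at e
    omega
  have n2_6 : b 2 6 ≠ 1 := by
    intro h
    have e := E 2 6 h 1
    rw [R2, R6] at e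
    simp only [hrefl, z31, z41, z61, z21, z51, z71, z81] at e
    omega
  have n2_7 : b 2 7 ≠ 1 := by
    intro h
    have e := E 2 7 h 1
    rw [R2, R7] at e
    simp only [hrefl, z31, z41, z61, z71] at e
    omega
  have n2_8 : b 2 8 ≠ 1 := by
    intro h
    have e := E 2 8 h 1
    rw [R2, R8] at e
    simp only [hrefl, z31, z41, z61, z51, z81] at e
    omega
  have n3_4 : b 3 4 ≠ 1 := by
    intro h
    have e := E 3 4 h 1
    rw [R3, R4] at e
    simp only [hrefl, z21, z31, z41, z51, z61, z81] at e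
    omega
  have n3_5 : b 3 5 ≠ 1 := by
    intro h
    have e := E 3 5 h 1
    rw [R3, R5] at e
    simp only [hrefl, z21, z31, z41, z51, z61, z81] at e
    omega
  have n3_6 : b 3 6 ≠ 1 := by
    intro h
    have e := E 3 6 h 1
    rw [R3, R6] at e
    simp only [hrefl, z21, z31, z41, z51, z61, z71, z81] at e
    omega
  have n3_7 : b 3 7 ≠ 1 := by
    intro h
    have e := E 3 7 h 1
    rw [R3, R7] at e
    simp only [hrefl, z21, z31, z41, z51, z61, z71] at e
    omega
  have n3_8 : b 3 8 ≠ 1 := by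
    intro h
    have e := E 3 8 h 1
    rw [R3, R8] at e
    simp only [hrefl, z21, z31, z41, z51, z61, z81] at e
    omega
  have n4_5 : b 4 5 ≠ 1 := by
    intro h
    have e := E 4 5 h 1
    rw [R4, R5] at e
    simp only [hrefl, z21, z31, z41, z51, z61, z81] at e
    omega
  have n4_6 : b 4 6 ≠ 1 := by
    intro h
    have e := E 4 6 h 1
    rw [R4, R6] at e
    simp only [hrefl, z21, z31, z41, z51, z61, z81, z71] at e
    omega
  have n4_7 : b 4 7 ≠ 1 := by
    intro h
    have e := E 4 7 h 1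
    rw [R4, R7] at e
    simp only [hrefl, z21, z31, z41, z51, z61, z81, z71] at e
    omega
  have n4_8 : b 4 8 ≠ 1 := by
    intro h
    have e := E 4 8 h 1
    rw [R4, R8] at e
    simp only [hrefl, z21, z31, z41, z51, z61, z81] at e
    omega
  have n5_6 : b 5 6 ≠ 1 := by
    intro h
    have e := E 5 6 h 1
    rw [R5, R6] at e
    simp only [hrefl, z31, z41, z51, z61, z81, z21, z71] at e
    omega
  have n5_7 : b 5 7 ≠ 1 := by
    intro h
    have e := E 5 7 h 1
    rw [R5, R7] at e
    simp only [hrefl, z31, z41, z51, z61, z81, z71] at e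
    omega
  have n5_8 : b 5 8 ≠ 1 := by
    intro h
    have e := E 5 8 h 1
    rw [R5, R8] at e
    simp only [hrefl, z31, z41, z51, z61, z81] at e
    omega
  have z32 : b 3 2 = 0 := (hb 3 2).resolve_right (fun h => n2_3 (hsymm _ _ h))
  have z42 : b 4 2 = 0 := (hb 4 2).resolve_right (fun h => n2_4 (hsymm _ _ h))
  have z52 : b 5 2 = 0 := (hb 5 2).resolve_right (fun h => n2_5 (hsymm _ _ h))
  have z62 : b 6 2 = 0 := (hb 6 2).resolve_right (fun h => n2_6 (hsymm _ _ h))
  have z72 : b 7 2 = 0 := (hb 7 2).resolve_right (fun h => n2_7 (hsymm _ _ h))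
  have z82 : b 8 2 = 0 := (hb 8 2).resolve_right (fun h => n2_8 (hsymm _ _ h))
  have z12 : b 1 2 = 0 := (hb 1 2).resolve_right n1_2
  have z02 : b 0 2 = 0 := (hb 0 2).resolve_right (fun h => A2 (hsymm _ _ h))
  have n6_7 : b 6 7 ≠ 1 := by
    intro h
    have e := E 6 7 h 2
    rw [R6, R7] at e
    simp only [hrefl, z32, z42, z52, z62, z72, z82] at e
    omega
  have n6_8 : b 6 8 ≠ 1 := by
    intro h
    have e := E 6 8 h 2
    rw [R6, R8] at e
    simp only [hrefl, z32, z42, z52, z62, z72, z82] at e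
    omega
  have z04 : b 0 4 = 0 := (hb 0 4).resolve_right (fun h => A4 (hsymm _ _ h))
  have z14 : b 1 4 = 0 := (hb 1 4).resolve_right n1_4
  have z24 : b 2 4 = 0 := (hb 2 4).resolve_right n2_4
  have z34 : b 3 4 = 0 := (hb 3 4).resolve_right n3_4
  have z54 : b 5 4 = 0 := (hb 5 4).resolve_right (fun h => n4_5 (hsymm _ _ h))
  have z64 : b 6 4 = 0 := (hb 6 4).resolve_right (fun h => n4_6 (hsymm _ _ h))
  have z74 : b 7 4 = 0 := (hb 7 4).resolve_right (fun h => n4_7 (hsymm _ _ h))
  have z84 : b 8 4 = 0 := (hb 8 4).resolve_right (fun h => n4_8 (hsymm _ _ h))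
  have n7_8 : b 7 8 ≠ 1 := by
    intro h
    have e := E 7 8 h 4
    rw [R7, R8] at e
    simp only [z64, z74, hrefl, z54, z84] at e
    omega
  have main : ∀ i j : Fin 9, (i : ℕ) < j → b i j ≠ 1 := by
    intro i j hij
    fin_cases i <;> fin_cases j
    · exact absurd hij (by decide)
    · exact fun h => h10 (hsymm _ _ h)
    · exact fun h => A2 (hsymm _ _ h)
    · exact fun h => A3 (hsymm _ _ h)
    · exact fun h => A4 (hsymm _ _ h)
    · exact fun h => A5 (hsymm _ _ h)
    · exact fun h => A6 (hsymm _ _ h)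
    · exact fun h => A7 (hsymm _ _ h)
    · exact fun h => A8 (hsymm _ _ h)
    · exact absurd hij (by decide)
    · exact absurd hij (by decide)
    · exact n1_2
    · exact n1_3
    · exact n1_4
    · exact n1_5
    · exact n1_6
    · exact n1_7
    · exact n1_8
    · exact absurd hij (by decide)
    · exact absurd hij (by decide)
    · exact absurd hij (by decide)
    · exact n2_3
    · exact n2_4
    · exact n2_5
    · exact n2_6
    · exact n2_7
    · exact n2_8
    · exact absurd hij (by decide)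
    · exact absurd hij (by decide)
    · exact absurd hij (by decide)
    · exact absurd hij (by decide)
    · exact n3_4
    · exact n3_5
    · exact n3_6
    · exact n3_7
    · exact n3_8
    · exact absurd hij (by decide)
    · exact absurd hij (by decide)
    · exact absurd hij (by decide)
    · exact absurd hij (by decide)
    · exact absurd hij (by decide)
    · exact n4_5
    · exact n4_6
    · exact n4_7
    · exact n4_8
    · exact absurd hij (by decide)
    · exact absurd hij (by decide)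
    · exact absurd hij (by decide)
    · exact absurd hij (by decide)
    · exact absurd hij (by decide)
    · exact absurd hij (by decide)
    · exact n5_6
    · exact n5_7
    · exact n5_8
    · exact absurd hij (by decide)
    · exact absurd hij (by decide)
    · exact absurd hij (by decide)
    · exact absurd hij (by decide)
    · exact absurd hij (by decide)
    · exact absurd hij (by decide)
    · exact absurd hij (by decide)
    · exact n6_7
    · exact n6_8
    · exact absurd hij (by decide)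
    · exact absurd hij (by decide)
    · exact absurd hij (by decide)
    · exact absurd hij (by decide)
    · exact absurd hij (by decide)
    · exact absurd hij (by decide)
    · exact absurd hij (by decide)
    · exact absurd hij (by decide)
    · exact n7_8
    · exact absurd hij (by decide)
    · exact absurd hij (by decide)
    · exact absurd hij (by decide)
    · exact absurd hij (by decide)
    · exact absurd hij (by decide)
    · exact absurd hij (by decide)
    · exact absurd hij (by decide)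
    · exact absurd hij (by decide)
    · exact absurd hij (by decide)
  intro i j h
  by_contra hne
  rcases lt_or_gt_of_ne (fun e => hne (Fin.ext e) : (i : ℕ) ≠ j) with h1 | h1
  · exact main i j h1 h
  · exact main j i h1 (hsymm _ _ h)

end

theorem t_not_mem : ht ∉ H := by
  intro h
  have h1 : H = ⊤ := by
    rw [eq_top_iff, ← SimpleHN.closure_HN, Subgroup.closure_le]
    have hsub : ∀ v ∈ ({Pres.hx, Pres.hy, Pres.hz} : Set Cfsg.Spor.HN), v ∈ H := by
      intro v hv
      rw [H_eq]
      exact Subgroup.subset_closure hv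
    rintro v (rfl | rfl | rfl | rfl)
    · exact hsub _ (by simp)
    · exact hsub _ (by simp)
    · exact hsub _ (by simp)
    · exact h
  have h2 : Nat.card Cfsg.Spor.HN = 177408000 := by
    rw [← Index.card_H, h1, Nat.card_congr (Subgroup.topEquiv).toEquiv]
  have h3 := Lower.dvd_card
  rw [h2] at h3
  exact absurd h3 (by decide)

/-- **The nine double cosets are distinct.** -/
theorem hdis (i j : Fin 9)
    (h : w9 j ∈ DoubleCoset.doubleCoset (w9 i) (H : Set Cfsg.Spor.HN) (H : Set Cfsg.Spor.HN)) :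
    i = j := by
  classical
  rw [← same_iff] at h
  have hb : ∀ i j : Fin 9, (fun i j : Fin 9 => if Same H w9 i j then 1 else 0) i j = 1 ↔ Same H w9 i j := by
    intro i j
    by_cases hs : Same H w9 i j
    · simp [hs]
    · simp [hs]
  refine comb (b := fun i j => if Same H w9 i j then 1 else 0) ?_ ?_ ?_ ?_ ?_ ?_ i j ((hb i j).2 h)
  · intro i j
    by_cases hs : Same H w9 i j
    · right; simp [hs]
    · left; simp [hs]
  · intro i; rw [hb]; rfl
  · intro i j; rw [hb, hb]; exact fun h => h.symm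
  · intro i j k; rw [hb, hb, hb]; exact fun h h' => h.trans h'
  · intro i j h c
    rw [hb] at h
    have e := equitable H w9 ht ptH _ card_ptH τ mul_mem_doubleCoset (card_stab_pos _ _) kk card_τ h c
    convert e
  · intro h1
    rw [hb, same_iff, w9_zero, DoubleCoset.mem_doubleCoset] at h1
    obtain ⟨u, hu, v, hv, e⟩ := h1
    apply t_not_mem
    have e1 : w9 1 = ht := by
      have h2 : w9 1 = DSem.vw [5] := rfl
      rw [h2, DSem.vw_single]
      exact if_pos rfl
    rw [e1] at e
    have e2 : ht = u⁻¹ * v⁻¹ := by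
      have e3 : ht = u⁻¹ * (u * ht * v) * v⁻¹ := by group
      rw [e3, ← e, mul_one]
    rw [e2]
    exact H.mul_mem (H.inv_mem hu) (H.inv_mem hv)

end Cfsg.Agent.HN.DistinctC
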