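import Cfsg.Agent.SporRec.LyReduce

set_option autoImplicit false

/-!
General lemmas for the fusion analysis of an involution `t` of a finite group `G` whose centraliser is
identified with a group `H` by an injective homomorphism `φ : H →* G`.
-/

namespace Cfsg.Agent.HN.FusGen

open Subgroup Pointwise

/-- `φ : H →* G` identifies `H` with the centraliser of the involution `φ τ`. -/
structure Emb {H G : Type*} [Group H] [Group G] (φ : H →* G) (τ : H) : Prop where
  inj : Function.Injective φ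
  cent : ∀ g : G, g * φ τ = φ τ * g → ∃ h, φ h = g
  comm : ∀ h : H, h * τ = τ * h
  sq : τ * τ = 1
  ne : τ ≠ 1

/-- The element `φ h` is conjugate to `φ τ` in `G`. -/
def InK {H G : Type*} [Group H] [Group G] (φ : H →* G) (τ : H) (h : H) : Prop := IsConj (φ τ) (φ h)

variable {H G : Type*} [Group H] [Group G] {φ : H →* G} {τ : H}

theorem InK.refl : InK φ τ τ := IsConj.refl _

theorem InK.conj {h k : H} (hh : InK φ τ h) (hk : IsConj h k) : InK φ τ k :=
  IsConj.trans hh (φ.map_isConj hk)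

theorem InK.iff_of_isConj {h k : H} (hk : IsConj h k) : InK φ τ h ↔ InK φ τ k :=
  ⟨fun hh => hh.conj hk, fun hh => hh.conj hk.symm⟩

/-- transport: conjugation in `G` -/
theorem InK.iff_of_conj {h k : H} {g : G} (hg : φ k = g * φ h * g⁻¹) : InK φ τ h ↔ InK φ τ k := by
  have h1 : IsConj (φ h) (φ k) := isConj_iff.2 ⟨g, hg.symm⟩
  exact ⟨fun hh => IsConj.trans hh h1, fun hh => IsConj.trans hh h1.symm⟩

namespace Emb

variable (E : Emb φ τ)
include E

theorem t_ne : φ τ ≠ 1 := fun h => E.ne (E.inj (h.trans (map_one φ).symm))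

theorem t_sq : φ τ * φ τ = 1 := by rw [← map_mul, E.sq, map_one]

theorem orderOf_t : orderOf (φ τ) = 2 :=
  orderOf_eq_prime (by rw [pow_two]; exact E.t_sq) E.t_ne

theorem sq_of_inK {h : H} (hh : InK φ τ h) : h * h = 1 := by
  obtain ⟨c, hc⟩ := isConj_iff.1 hh
  apply E.inj
  rw [map_mul, ← hc, map_one]
  calc c * φ τ * c⁻¹ * (c * φ τ * c⁻¹) = c * (φ τ * φ τ) * c⁻¹ := by group
    _ = 1 := by rw [E.t_sq]; group

theorem ne_one_of_inK {h : H} (hh : InK φ τ h) : h ≠ 1 := by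
  rintro rfl
  obtain ⟨c, hc⟩ := isConj_iff.1 hh
  rw [map_one, mul_inv_eq_one, mul_eq_left] at hc
  exact E.t_ne hc

theorem exists_iff {g : G} : (∃ h, φ h = g) ↔ g * φ τ = φ τ * g := by
  constructor
  · rintro ⟨h, rfl⟩
    rw [← map_mul, ← map_mul, E.comm]
  · exact E.cent g

/-- A conjugate `k` of `t` can be conjugated to `t`, and then its centraliser goes to `φ(H)`. -/
theorem exists_conj {k : G} (hk : IsConj (φ τ) k) :
    ∃ g : G, g * k * g⁻¹ = φ τ ∧ ∀ j, j * k = k * j → ∃ c, φ c = g * j * g⁻¹ := by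
  obtain ⟨c, hc⟩ := isConj_iff.1 hk.symm
  refine ⟨c, hc, fun j hj => E.cent _ ?_⟩
  rw [← hc]
  calc c * j * c⁻¹ * (c * k * c⁻¹) = c * (j * k) * c⁻¹ := by group
    _ = c * (k * j) * c⁻¹ := by rw [hj]
    _ = c * k * c⁻¹ * (c * j * c⁻¹) := by group

/-- `a₁, a₂, a₁a₂` all conjugate to `a`: if `a` is fused to `τ` and `aτ` is not then there is an involution of
`H` fused to `τ` which is neither `τ` nor a conjugate of `a`. -/
theorem f4 {a a₁ a₂ : H} (h12 : a₁ * a₂ = a₂ * a₁) (h1 : IsConj a a₁) (h2 : IsConj a a₂)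
    (h3 : IsConj a (a₁ * a₂)) (ha : InK φ τ a) (hb : ¬ InK φ τ (a * τ))
    (hK : ∀ h, InK φ τ h → h = τ ∨ IsConj a h) : False := by
  obtain ⟨g, hg, hc⟩ := E.exists_conj (k := φ a₁) (ha.conj h1)
  obtain ⟨c, hc2⟩ := hc (φ a₂) (by rw [← map_mul, ← map_mul, h12])
  have hcK : InK φ τ c := (InK.iff_of_conj hc2).1 (ha.conj h2)
  have e : φ (c * τ) = g * φ (a₁ * a₂) * g⁻¹ := by
    rw [map_mul, hc2, ← hg, h12, map_mul]
    group
  have hcτ : InK φ τ (c * τ) := (InK.iff_of_conj e).1 (ha.conj h3)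
  rcases hK c hcK with h | h
  · rw [h, E.sq] at hcτ
    exact E.ne_one_of_inK hcτ rfl
  · apply hb
    obtain ⟨k, rfl⟩ := isConj_iff.1 h
    refine hcτ.conj (isConj_iff.2 ⟨k⁻¹, ?_⟩)
    have := E.comm k
    calc k⁻¹ * (k * a * k⁻¹ * τ) * k⁻¹⁻¹ = a * (k⁻¹ * (τ * k)) := by
          have h := E.comm k⁻¹
          calc k⁻¹ * (k * a * k⁻¹ * τ) * k⁻¹⁻¹ = a * (k⁻¹ * τ) * k := by group
            _ = a * (k⁻¹ * (τ * k)) := by group
      _ = a * (k⁻¹ * (k * τ)) := by rw [this]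
      _ = a * τ := by group

theorem isConj_mul_τ {h k : H} (hk : IsConj h k) : IsConj (h * τ) (k * τ) := by
  obtain ⟨c, rfl⟩ := isConj_iff.1 hk
  refine isConj_iff.2 ⟨c, ?_⟩
  have := E.comm c⁻¹
  calc c * (h * τ) * c⁻¹ = c * h * (τ * c⁻¹) := by group
    _ = c * h * (c⁻¹ * τ) := by rw [this]
    _ = c * h * c⁻¹ * τ := by group

theorem finite [Finite G] : Finite H := Finite.of_injective φ E.inj

/-- `Z*`: some element of `H` other than `τ` is fused to `τ`. -/
theorem exists_inK [Finite G] [IsSimpleGroup G] (hH : ∃ a b : H, a * b ≠ b * a) :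
    ∃ h : H, InK φ τ h ∧ h ≠ τ := by
  obtain ⟨a, b, hab⟩ := hH
  obtain ⟨g, hg, hcomm⟩ := Cfsg.Agent.SporRec.LyReduce.exists_conj_ne (φ τ) E.orderOf_t
    ⟨φ a, φ b, fun h => hab (E.inj (by rw [map_mul, map_mul, h]))⟩
  obtain ⟨h, hh⟩ := E.cent (g * φ τ * g⁻¹) hcomm.symm
  refine ⟨h, ?_, ?_⟩
  · refine isConj_iff.2 ⟨g, hh.symm⟩
  · rintro rfl
    exact hg hh.symm

/-- Sylow argument: `S` is a Sylow 2-subgroup of `H` centralising `u`; if no automorphism of `S` maps `τ` to `u` then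
`u` is not fused to `τ`. -/
theorem not_inK_of_sylow [Finite G] (S : Sylow 2 H) (u : H) (hSu : ∀ s ∈ S, s * u = u * s)
    (hno : ∀ σ : (S : Subgroup H) ≃* (S : Subgroup H), ∀ s : (S : Subgroup H), (s : H) = τ → (σ s : H) ≠ u) :
    ¬ InK φ τ u := by
  intro hu
  have : Finite H := E.finite
  have : Fact (Nat.Prime 2) := ⟨Nat.prime_two⟩
  -- `τ ∈ S`
  have hτS : τ ∈ (S : Subgroup H) := by
    have hp : IsPGroup 2 (zpowers τ) := by
      rw [IsPGroup.iff_card]
      refine ⟨1, ?_⟩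
      rw [Nat.card_zpowers, pow_one]
      exact orderOf_eq_prime (by rw [pow_two]; exact E.sq) E.ne
    obtain ⟨P, hP⟩ := hp.exists_le_sylow
    obtain ⟨g, hg⟩ := MulAction.exists_smul_eq H P S
    have h1 : τ ∈ P := hP (mem_zpowers τ)
    have h2 : g * τ * g⁻¹ ∈ g • P := by
      rw [Sylow.smul_def]
      exact (⟨τ, h1, rfl⟩ : g * τ * g⁻¹ ∈ (MulAut.conj g • (P : Subgroup H) : Subgroup H))
    rw [hg, E.comm g, mul_inv_cancel_right] at h2
    exact h2
  -- the two Sylow subgroups of the centraliser of `φ u`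
  obtain ⟨c, hc⟩ := isConj_iff.1 hu
  set S' : Subgroup G := (S : Subgroup H).map φ with hS'
  set C : Subgroup G := centralizer {φ u} with hC
  set C₀ : Subgroup G := centralizer {φ τ} with hC₀
  have hmap : C₀.map (MulAut.conj c).toMonoidHom = C := by
    ext x
    constructor
    · rintro ⟨y, hy, rfl⟩
      have hy' := mem_centralizer_singleton_iff.1 hy
      rw [hC, mem_centralizer_singleton_iff]
      change c * y * c⁻¹ * φ u = φ u * (c * y * c⁻¹)
      rw [← hc]
      calc c * y * c⁻¹ * (c * φ τ * c⁻¹) = c * (y * φ τ) * c⁻¹ := by group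
        _ = c * (φ τ * y) * c⁻¹ := by rw [hy']
        _ = c * φ τ * c⁻¹ * (c * y * c⁻¹) := by group
    · intro hx
      rw [hC, mem_centralizer_singleton_iff, ← hc] at hx
      refine ⟨c⁻¹ * x * c, ?_, ?_⟩
      · rw [SetLike.mem_coe, hC₀, mem_centralizer_singleton_iff]
        calc c⁻¹ * x * c * φ τ = c⁻¹ * (x * (c * φ τ * c⁻¹)) * c := by group
          _ = c⁻¹ * (c * φ τ * c⁻¹ * x) * c := by rw [hx]
          _ = φ τ * (c⁻¹ * x * c) := by group
      · change c * (c⁻¹ * x * c) * c⁻¹ = x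
        group
  have hrange : φ.range = C₀ := by
    ext x
    rw [MonoidHom.mem_range, E.exists_iff, hC₀, mem_centralizer_singleton_iff]
  have hcardH : Nat.card C₀ = Nat.card H := by
    rw [← hrange]
    exact (Nat.card_congr (MonoidHom.ofInjective E.inj).toEquiv).symm
  have hcardC : Nat.card C = Nat.card H := by
    rw [← hmap, ← hcardH]
    exact Nat.card_congr (C₀.equivMapOfInjective _ (MulAut.conj c).injective).toEquiv.symm
  have hcardS : Nat.card S' = 2 ^ (Nat.card C).factorization 2 := by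
    rw [hcardC, ← S.card_eq_multiplicity]
    exact Nat.card_congr ((S : Subgroup H).equivMapOfInjective φ E.inj).toEquiv.symm
  have hS'C : S' ≤ C := by
    rintro _ ⟨s, hs, rfl⟩
    rw [hC, mem_centralizer_singleton_iff, ← map_mul, ← map_mul, hSu s hs]
  have hS'C₀ : S' ≤ C₀ := by
    rintro _ ⟨s, -, rfl⟩
    rw [hC₀, mem_centralizer_singleton_iff, ← map_mul, ← map_mul, E.comm]
  set S'' : Subgroup G := S'.map (MulAut.conj c).toMonoidHom with hS''
  have hS''C : S'' ≤ C := by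
    rw [← hmap]
    exact map_mono hS'C₀
  have hcardS'' : Nat.card S'' = 2 ^ (Nat.card C).factorization 2 := by
    rw [← hcardS]
    exact Nat.card_congr (S'.equivMapOfInjective _ (MulAut.conj c).injective).toEquiv.symm
  have e1 : Nat.card (S'.subgroupOf C) = 2 ^ (Nat.card C).factorization 2 := by
    rw [← hcardS]
    exact Nat.card_congr (subgroupOfEquivOfLe hS'C).toEquiv
  have e2 : Nat.card (S''.subgroupOf C) = 2 ^ (Nat.card C).factorization 2 := by
    rw [← hcardS'']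
    exact Nat.card_congr (subgroupOfEquivOfLe hS''C).toEquiv
  obtain ⟨k, hk⟩ := MulAction.exists_smul_eq C (Sylow.ofCard _ e2) (Sylow.ofCard _ e1)
  set n : G := (k : G) * c with hn
  -- `n` normalises `S'` and maps `t` to `φ u`
  have hnS : ∀ s ∈ S', n * s * n⁻¹ ∈ S' := by
    intro s hs
    have h1 : c * s * c⁻¹ ∈ S'' := ⟨s, hs, rfl⟩
    have h2 : (⟨c * s * c⁻¹, hS''C h1⟩ : C) ∈ (Sylow.ofCard _ e2 : Sylow 2 C) := by
      change (⟨c * s * c⁻¹, hS''C h1⟩ : C) ∈ S''.subgroupOf C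
      exact mem_subgroupOf.2 h1
    have h3 : k * (⟨c * s * c⁻¹, hS''C h1⟩ : C) * k⁻¹ ∈ k • (Sylow.ofCard _ e2 : Sylow 2 C) := by
      rw [Sylow.smul_def]
      exact (⟨_, h2, rfl⟩ : k * (⟨c * s * c⁻¹, hS''C h1⟩ : C) * k⁻¹ ∈
        (MulAut.conj k • ((Sylow.ofCard _ e2 : Sylow 2 C) : Subgroup C) : Subgroup C))
    rw [hk] at h3
    have h4 : ((k * (⟨c * s * c⁻¹, hS''C h1⟩ : C) * k⁻¹ : C) : G) ∈ S' := mem_subgroupOf.1 h3
    have h5 : ((k * (⟨c * s * c⁻¹, hS''C h1⟩ : C) * k⁻¹ : C) : G) = n * s * n⁻¹ := by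
      change (k : G) * (c * s * c⁻¹) * (k : G)⁻¹ = n * s * n⁻¹
      rw [hn]; group
    rwa [h5] at h4
  have hnt : n * φ τ * n⁻¹ = φ u := by
    have h1 := mem_centralizer_singleton_iff.1 k.2
    calc n * φ τ * n⁻¹ = (k : G) * (c * φ τ * c⁻¹) * (k : G)⁻¹ := by rw [hn]; group
      _ = φ u := by rw [hc, h1, mul_inv_cancel_right]
  have hmapn : S'.map (MulAut.conj n).toMonoidHom = S' := by
    apply eq_of_le_of_card_ge
    · rintro _ ⟨s, hs, rfl⟩
      exact hnS s hs
    · exact (Nat.card_congr (S'.equivMapOfInjective _ (MulAut.conj n).injective).toEquiv).le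
  let e₀ : (S : Subgroup H) ≃* S' := (S : Subgroup H).equivMapOfInjective φ E.inj
  let e₁ : S' ≃* S' := (S'.equivMapOfInjective _ (MulAut.conj n).injective).trans
    (MulEquiv.subgroupCongr hmapn)
  refine hno ((e₀.trans e₁).trans e₀.symm) ⟨τ, hτS⟩ rfl ?_
  apply E.inj
  have h1 : ∀ x : S', φ (e₀.symm x : H) = x := by
    intro x
    have := e₀.apply_symm_apply x
    have h2 := congrArg Subtype.val this
    exact h2
  rw [MulEquiv.trans_apply, h1, ← hnt]
  rfl

end Emb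

end Cfsg.Agent.HN.FusGen
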