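import Cfsg.Agent.HN.CloseTop
import Cfsg.Agent.HN.FusGen
import Cfsg.Agent.HN.NormalH
import Cfsg.Agent.HN.Classes

set_option autoImplicit false

/-!
Final assembly of the recognition of the Harada–Norton group (the parts which only combine other files).
-/

namespace Cfsg.Agent.HN.Final

open Cfsg.Agent.HN.Pres Cfsg.Agent.HN.H0Basic Cfsg.Agent.HN.FusGen Cfsg.Agent.HN.Syl Subgroup

theorem orderOf_aτ : orderOf (a * τ) = 2 := by
  refine orderOf_eq_prime ?_ Classes.aτ_ne_one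
  have h1 : a * a = 1 := by
    rw [a, ← pow_add]
    exact rels_H0.r1
  rw [pow_two, mul_assoc, ← mul_assoc τ a τ, ← τ_comm, mul_assoc a τ τ, τ_mul_τ, mul_one, h1]

theorem orderOf_map_of_injective {A B : Type*} [Group A] [Group B] {f : A →* B} (hf : Function.Injective f) (x : A) :
    orderOf (f x) = orderOf x := orderOf_injective f hf x

/-- **The last step**: a homomorphism `θ : HN →* G` extending `f : H0 →* G` is surjective. -/
theorem surjective {G : Type*} [Group G] [Finite G] [IsSimpleGroup G] {f : H0 →* G} (E : Emb f τ)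
    (hb : ¬ InK f τ (a * τ)) {θ : Cfsg.Spor.HN →* G} (hfθ : ∀ g, θ (NormalH.ψ g) = f g)
    (hcw : centralizer ({f (a * τ)} : Set G) ≤ θ.range)
    (hinv : ∀ v : H0, orderOf v = 2 → ∃ g : Cfsg.Spor.HN,
      g * NormalH.ψ v * g⁻¹ = NormalH.ψ τ ∨ g * NormalH.ψ v * g⁻¹ = NormalH.ψ (a * τ)) :
    Function.Surjective θ := by
  rw [← MonoidHom.range_eq_top]
  refine CloseTop.eq_top (t := f τ) (w := f (a * τ)) θ.range E.orderOf_t ?_ ?_ ?_ hb ?_
  · rw [orderOf_map_of_injective E.inj, orderOf_aτ]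
  · intro g hg
    obtain ⟨h, rfl⟩ := E.cent g hg
    exact ⟨NormalH.ψ h, hfθ h⟩
  · intro g hg
    exact hcw (mem_centralizer_singleton_iff.2 hg)
  · intro v hv hvt
    obtain ⟨h, rfl⟩ := E.cent v hvt
    rw [orderOf_map_of_injective E.inj] at hv
    obtain ⟨g, hg⟩ := hinv h hv
    refine ⟨θ g, ⟨g, rfl⟩, ?_⟩
    rw [← hfθ h, ← hfθ τ, ← hfθ (a * τ), ← map_mul, ← map_inv, ← map_mul]
    rcases hg with hg | hg
    · left; rw [hg]
    · right; rw [hg]

/-- `θ` extends `f` as soon as it does so on generators. -/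
theorem comp_eq {G : Type*} [Group G] {f : H0 →* G} {θ : Cfsg.Spor.HN →* G} (hx : θ Pres.hx = f gx)
    (hy : θ Pres.hy = f gy) (hz : θ Pres.hz = f gz) (g : H0) : θ (NormalH.ψ g) = f g := by
  have h : θ.comp NormalH.ψ = f := by
    refine PresentedGroup.ext ?_
    intro i
    cases i
    · change θ (NormalH.ψ gx) = f gx
      rw [NormalH.ψ_gx, hx]
    · change θ (NormalH.ψ gy) = f gy
      rw [NormalH.ψ_gy, hy]
    · change θ (NormalH.ψ gz) = f gz
      rw [NormalH.ψ_gz, hz]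
  exact DFunLike.congr_fun h g

/-- involutions of `H0` inside `HN`, from three fusions. -/
theorem inv_of (h1 : IsConj (NormalH.ψ a) (NormalH.ψ τ)) (h2 : IsConj (NormalH.ψ gz) (NormalH.ψ τ))
    (h3 : IsConj (NormalH.ψ d) (NormalH.ψ (a * τ))) :
    ∀ v : H0, orderOf v = 2 → ∃ g : Cfsg.Spor.HN,
      g * NormalH.ψ v * g⁻¹ = NormalH.ψ τ ∨ g * NormalH.ψ v * g⁻¹ = NormalH.ψ (a * τ) := by
  intro v hv
  have hv2 : v ^ 2 = 1 := by rw [← hv, pow_orderOf_eq_one]
  rcases involution_cases hv2 with h | h | h | h | h | h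
  · rw [h, orderOf_one] at hv
    exact absurd hv (by norm_num)
  · exact ⟨1, Or.inl (by rw [h]; group)⟩
  · obtain ⟨c, hc⟩ := isConj_iff.1 ((NormalH.ψ.map_isConj h).symm.trans h1)
    exact ⟨c, Or.inl hc⟩
  · obtain ⟨c, hc⟩ := isConj_iff.1 (NormalH.ψ.map_isConj h).symm
    exact ⟨c, Or.inr hc⟩
  · obtain ⟨c, hc⟩ := isConj_iff.1 ((NormalH.ψ.map_isConj h).symm.trans h2)
    exact ⟨c, Or.inl hc⟩
  · obtain ⟨c, hc⟩ := isConj_iff.1 ((NormalH.ψ.map_isConj h).symm.trans h3)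
    exact ⟨c, Or.inr hc⟩

end Cfsg.Agent.HN.Final
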