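import Cfsg.Agent.HN.InvH0
import Cfsg.Agent.HN.Final
import Cfsg.Agent.HN.A12Group

set_option autoImplicit false

/-!
Every involution of `H0` is conjugate in the presented group `HN` to `τ` or to `a τ`: the element
`r = t² z t⁻¹` of `HN` commutes with the images of `iota A8` and maps `τ` to `z`.
-/

namespace Cfsg.Agent.HN.InvHN

open Cfsg.Agent.HN.Pres Cfsg.Agent.HN.P1408 Cfsg.Agent.HN.H0Basic Cfsg.Agent.HN.Syl
open Cfsg.Agent.HN.Iota Cfsg.Agent.HN.Local Cfsg.Agent.Lib.PackMat Cfsg.Agent.Lib.PackMatGroup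
open Cfsg.Agent.HN.RepData (C)
open Cfsg.Agent.HN.Rep (L LG gens rho good one_lt codes)
open Cfsg.Agent.Lib.AltCarmichael (cyc cyc_mem)

/-- short words for the images of the 3-cycles -/
def sw : ℕ → List ℕ
  | 0 => [2, 0, 2, 4, 2, 2, 2, 4, 2, 2, 1, 3]
  | 1 => [2, 0, 2, 0, 4, 2, 2, 2, 4, 2, 2, 2, 0, 3, 0, 3]
  | 2 => [3, 0, 3, 0, 4, 2, 2, 2, 4, 2, 2, 2, 0, 2, 0, 2]
  | 3 => [2, 2, 4, 0, 2, 2, 0, 2, 2, 0, 4, 3, 4, 3, 0, 2, 2, 2, 1, 4, 3]
  | 4 => [3, 0, 2, 0, 2, 0, 3, 0, 3, 0, 2, 0, 2, 2, 4, 3, 1, 3, 4]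
  | _ => [3, 3, 4, 1, 3, 3, 0, 3, 3, 0, 4, 2, 4, 2, 0, 2, 2, 2, 0, 4, 2]

theorem sw_chk : ∀ i < 6, eqw (gw i) (sw i) = true := by decide +kernel

theorem sw_ok : ∀ i < 6, okw (sw i) = true := by decide +kernel

/-- a word which is trivial in HN -/
def w_c0 : List ℕ := [6, 6, 4, 7, 2, 0, 2, 4, 2, 2, 2, 4, 2, 2, 1, 3, 6, 4, 7, 7, 2, 0, 3, 3, 4, 3, 3, 3, 4, 3, 1, 3]
theorem k_c0_0 : checkScalar C (cw L w_c0) 1 0 31 = true := by decide +kernel
theorem k_c0_1 : checkScalar C (cw L w_c0) 1 31 31 = true := by decide +kernel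
theorem k_c0_2 : checkScalar C (cw L w_c0) 1 62 31 = true := by decide +kernel
theorem k_c0_3 : checkScalar C (cw L w_c0) 1 93 31 = true := by decide +kernel
theorem k_c0_4 : checkScalar C (cw L w_c0) 1 124 9 = true := by decide +kernel
theorem e_c0 : evG LG w_c0 = 1 := by
  refine eq_one_of_rows good one_lt codes (by decide) fun i hi => ?_
  have hi' : i < 133 := hi
  rcases lt_or_ge i 31 with h0 | h0
  · exact checkScalar_spec k_c0_0 i (Nat.zero_le _) h0
  rcases lt_or_ge i 62 with h1 | h1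
  · exact checkScalar_spec k_c0_1 i h0 h1
  rcases lt_or_ge i 93 with h2 | h2
  · exact checkScalar_spec k_c0_2 i h1 h2
  rcases lt_or_ge i 124 with h3 | h3
  · exact checkScalar_spec k_c0_3 i h2 h3
  exact checkScalar_spec k_c0_4 i h3 (by omega)

/-- a word which is trivial in HN -/
def w_c1 : List ℕ := [6, 6, 4, 7, 2, 0, 2, 0, 4, 2, 2, 2, 4, 2, 2, 2, 0, 3, 0, 3, 6, 4, 7, 7, 2, 1, 2, 1, 3, 3, 3, 4, 3, 3, 3, 4, 1, 3, 1, 3]
theorem k_c1_0 : checkScalar C (cw L w_c1) 1 0 25 = true := by decide +kernel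
theorem k_c1_1 : checkScalar C (cw L w_c1) 1 25 25 = true := by decide +kernel
theorem k_c1_2 : checkScalar C (cw L w_c1) 1 50 25 = true := by decide +kernel
theorem k_c1_3 : checkScalar C (cw L w_c1) 1 75 25 = true := by decide +kernel
theorem k_c1_4 : checkScalar C (cw L w_c1) 1 100 25 = true := by decide +kernel
theorem k_c1_5 : checkScalar C (cw L w_c1) 1 125 8 = true := by decide +kernel
theorem e_c1 : evG LG w_c1 = 1 := by
  refine eq_one_of_rows good one_lt codes (by decide) fun i hi => ?_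
  have hi' : i < 133 := hi
  rcases lt_or_ge i 25 with h0 | h0
  · exact checkScalar_spec k_c1_0 i (Nat.zero_le _) h0
  rcases lt_or_ge i 50 with h1 | h1
  · exact checkScalar_spec k_c1_1 i h0 h1
  rcases lt_or_ge i 75 with h2 | h2
  · exact checkScalar_spec k_c1_2 i h1 h2
  rcases lt_or_ge i 100 with h3 | h3
  · exact checkScalar_spec k_c1_3 i h2 h3
  rcases lt_or_ge i 125 with h4 | h4
  · exact checkScalar_spec k_c1_4 i h3 h4
  exact checkScalar_spec k_c1_5 i h4 (by omega)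

/-- a word which is trivial in HN -/
def w_c2 : List ℕ := [6, 6, 4, 7, 3, 0, 3, 0, 4, 2, 2, 2, 4, 2, 2, 2, 0, 2, 0, 2, 6, 4, 7, 7, 3, 1, 3, 1, 3, 3, 3, 4, 3, 3, 3, 4, 1, 2, 1, 2]
theorem k_c2_0 : checkScalar C (cw L w_c2) 1 0 25 = true := by decide +kernel
theorem k_c2_1 : checkScalar C (cw L w_c2) 1 25 25 = true := by decide +kernel
theorem k_c2_2 : checkScalar C (cw L w_c2) 1 50 25 = true := by decide +kernel
theorem k_c2_3 : checkScalar C (cw L w_c2) 1 75 25 = true := by decide +kernel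
theorem k_c2_4 : checkScalar C (cw L w_c2) 1 100 25 = true := by decide +kernel
theorem k_c2_5 : checkScalar C (cw L w_c2) 1 125 8 = true := by decide +kernel
theorem e_c2 : evG LG w_c2 = 1 := by
  refine eq_one_of_rows good one_lt codes (by decide) fun i hi => ?_
  have hi' : i < 133 := hi
  rcases lt_or_ge i 25 with h0 | h0
  · exact checkScalar_spec k_c2_0 i (Nat.zero_le _) h0
  rcases lt_or_ge i 50 with h1 | h1
  · exact checkScalar_spec k_c2_1 i h0 h1
  rcases lt_or_ge i 75 with h2 | h2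
  · exact checkScalar_spec k_c2_2 i h1 h2
  rcases lt_or_ge i 100 with h3 | h3
  · exact checkScalar_spec k_c2_3 i h2 h3
  rcases lt_or_ge i 125 with h4 | h4
  · exact checkScalar_spec k_c2_4 i h3 h4
  exact checkScalar_spec k_c2_5 i h4 (by omega)

/-- a word which is trivial in HN -/
def w_c3 : List ℕ := [6, 6, 4, 7, 2, 2, 4, 0, 2, 2, 0, 2, 2, 0, 4, 3, 4, 3, 0, 2, 2, 2, 1, 4, 3, 6, 4, 7, 7, 2, 4, 0, 3, 3, 3, 1, 2, 4, 2, 4, 1, 3, 3, 1, 3, 3, 1, 4, 3, 3]
theorem k_c3_0 : checkScalar C (cw L w_c3) 1 0 20 = true := by decide +kernel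
theorem k_c3_1 : checkScalar C (cw L w_c3) 1 20 20 = true := by decide +kernel
theorem k_c3_2 : checkScalar C (cw L w_c3) 1 40 20 = true := by decide +kernel
theorem k_c3_3 : checkScalar C (cw L w_c3) 1 60 20 = true := by decide +kernel
theorem k_c3_4 : checkScalar C (cw L w_c3) 1 80 20 = true := by decide +kernel
theorem k_c3_5 : checkScalar C (cw L w_c3) 1 100 20 = true := by decide +kernel
theorem k_c3_6 : checkScalar C (cw L w_c3) 1 120 13 = true := by decide +kernel
theorem e_c3 : evG LG w_c3 = 1 := by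
  refine eq_one_of_rows good one_lt codes (by decide) fun i hi => ?_
  have hi' : i < 133 := hi
  rcases lt_or_ge i 20 with h0 | h0
  · exact checkScalar_spec k_c3_0 i (Nat.zero_le _) h0
  rcases lt_or_ge i 40 with h1 | h1
  · exact checkScalar_spec k_c3_1 i h0 h1
  rcases lt_or_ge i 60 with h2 | h2
  · exact checkScalar_spec k_c3_2 i h1 h2
  rcases lt_or_ge i 80 with h3 | h3
  · exact checkScalar_spec k_c3_3 i h2 h3
  rcases lt_or_ge i 100 with h4 | h4
  · exact checkScalar_spec k_c3_4 i h3 h4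
  rcases lt_or_ge i 120 with h5 | h5
  · exact checkScalar_spec k_c3_5 i h4 h5
  exact checkScalar_spec k_c3_6 i h5 (by omega)

/-- a word which is trivial in HN -/
def w_c4 : List ℕ := [6, 6, 4, 7, 3, 0, 2, 0, 2, 0, 3, 0, 3, 0, 2, 0, 2, 2, 4, 3, 1, 3, 4, 6, 4, 7, 7, 4, 2, 0, 2, 4, 3, 3, 1, 3, 1, 2, 1, 2, 1, 3, 1, 3, 1, 2]
theorem k_c4_0 : checkScalar C (cw L w_c4) 1 0 21 = true := by decide +kernel
theorem k_c4_1 : checkScalar C (cw L w_c4) 1 21 21 = true := by decide +kernel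
theorem k_c4_2 : checkScalar C (cw L w_c4) 1 42 21 = true := by decide +kernel
theorem k_c4_3 : checkScalar C (cw L w_c4) 1 63 21 = true := by decide +kernel
theorem k_c4_4 : checkScalar C (cw L w_c4) 1 84 21 = true := by decide +kernel
theorem k_c4_5 : checkScalar C (cw L w_c4) 1 105 21 = true := by decide +kernel
theorem k_c4_6 : checkScalar C (cw L w_c4) 1 126 7 = true := by decide +kernel
theorem e_c4 : evG LG w_c4 = 1 := by
  refine eq_one_of_rows good one_lt codes (by decide) fun i hi => ?_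
  have hi' : i < 133 := hi
  rcases lt_or_ge i 21 with h0 | h0
  · exact checkScalar_spec k_c4_0 i (Nat.zero_le _) h0
  rcases lt_or_ge i 42 with h1 | h1
  · exact checkScalar_spec k_c4_1 i h0 h1
  rcases lt_or_ge i 63 with h2 | h2
  · exact checkScalar_spec k_c4_2 i h1 h2
  rcases lt_or_ge i 84 with h3 | h3
  · exact checkScalar_spec k_c4_3 i h2 h3
  rcases lt_or_ge i 105 with h4 | h4
  · exact checkScalar_spec k_c4_4 i h3 h4
  rcases lt_or_ge i 126 with h5 | h5
  · exact checkScalar_spec k_c4_5 i h4 h5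
  exact checkScalar_spec k_c4_6 i h5 (by omega)

/-- a word which is trivial in HN -/
def w_c5 : List ℕ := [6, 6, 4, 7, 3, 3, 4, 1, 3, 3, 0, 3, 3, 0, 4, 2, 4, 2, 0, 2, 2, 2, 0, 4, 2, 6, 4, 7, 7, 3, 4, 1, 3, 3, 3, 1, 3, 4, 3, 4, 1, 2, 2, 1, 2, 2, 0, 4, 2, 2]
theorem k_c5_0 : checkScalar C (cw L w_c5) 1 0 20 = true := by decide +kernel
theorem k_c5_1 : checkScalar C (cw L w_c5) 1 20 20 = true := by decide +kernel
theorem k_c5_2 : checkScalar C (cw L w_c5) 1 40 20 = true := by decide +kernel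
theorem k_c5_3 : checkScalar C (cw L w_c5) 1 60 20 = true := by decide +kernel
theorem k_c5_4 : checkScalar C (cw L w_c5) 1 80 20 = true := by decide +kernel
theorem k_c5_5 : checkScalar C (cw L w_c5) 1 100 20 = true := by decide +kernel
theorem k_c5_6 : checkScalar C (cw L w_c5) 1 120 13 = true := by decide +kernel
theorem e_c5 : evG LG w_c5 = 1 := by
  refine eq_one_of_rows good one_lt codes (by decide) fun i hi => ?_
  have hi' : i < 133 := hi
  rcases lt_or_ge i 20 with h0 | h0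
  · exact checkScalar_spec k_c5_0 i (Nat.zero_le _) h0
  rcases lt_or_ge i 40 with h1 | h1
  · exact checkScalar_spec k_c5_1 i h0 h1
  rcases lt_or_ge i 60 with h2 | h2
  · exact checkScalar_spec k_c5_2 i h1 h2
  rcases lt_or_ge i 80 with h3 | h3
  · exact checkScalar_spec k_c5_3 i h2 h3
  rcases lt_or_ge i 100 with h4 | h4
  · exact checkScalar_spec k_c5_4 i h3 h4
  rcases lt_or_ge i 120 with h5 | h5
  · exact checkScalar_spec k_c5_5 i h4 h5
  exact checkScalar_spec k_c5_6 i h5 (by omega)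

/-- a word which is trivial in HN -/
def w_b : List ℕ := [6, 6, 4, 7, 0, 0, 6, 4, 7, 7, 4]
theorem k_b_0 : checkScalar C (cw L w_b) 1 0 90 = true := by decide +kernel
theorem k_b_1 : checkScalar C (cw L w_b) 1 90 43 = true := by decide +kernel
theorem e_b : evG LG w_b = 1 := by
  refine eq_one_of_rows good one_lt codes (by decide) fun i hi => ?_
  have hi' : i < 133 := hi
  rcases lt_or_ge i 90 with h0 | h0
  · exact checkScalar_spec k_b_0 i (Nat.zero_le _) h0
  exact checkScalar_spec k_b_1 i h0 (by omega)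

theorem ok_all : ∀ i < 6, okw (sw i) = true ∧ okw (iw (sw i)) = true := by decide +kernel

theorem e_all : ∀ i < 6, evG LG ([6, 6, 4, 7] ++ (sw i ++ ([6, 4, 7, 7] ++ iw (sw i)))) = 1 := by
  intro i hi
  match i, hi with
  | 0, _ => exact e_c0
  | 1, _ => exact e_c1
  | 2, _ => exact e_c2
  | 3, _ => exact e_c3
  | 4, _ => exact e_c4
  | 5, _ => exact e_c5

/-- the element `t² z t⁻¹` of `HN` -/
def r : Cfsg.Spor.HN := evG gens [6, 6, 4, 7]

theorem r_inv : evG gens [6, 4, 7, 7] = r⁻¹ := by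
  have hz : Rep.z⁻¹ = Rep.z := by
    rw [inv_eq_iff_mul_eq_one, ← pow_two]
    exact rels_HN.r7
  simp only [r, gens, evG_cons, evG_nil, List.getD_cons_zero, List.getD_cons_succ, mul_one, mul_inv_rev,
    inv_inv, hz, mul_assoc]

theorem ev_gens {w : List ℕ} (h : okw w = true) : evG gens w = NormalH.ψ (hw w) := by
  rw [map_hw, NormalH.ψ_gx, NormalH.ψ_gy, NormalH.ψ_gz]
  induction w with
  | nil => rfl
  | cons l w ih =>
    obtain ⟨hl, h1⟩ := okw_cons h
    rw [evG_cons, ev_cons, ih h1]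
    congr 1
    match l, hl with
    | 0, _ => rfl
    | 1, _ => rfl
    | 2, _ => rfl
    | 3, _ => rfl
    | 4, _ => rfl

section

variable [IsSimpleGroup Cfsg.Spor.HN]

theorem gens_one {w : List ℕ} (h : evG LG w = 1) : evG gens w = 1 := by
  apply A12Group.rho_injective
  rw [Rep.rho_word, h, map_one]

/-- `r` maps `τ` to `z`. -/
theorem r_τ : r * NormalH.ψ τ * r⁻¹ = NormalH.ψ gz := by
  have h : evG gens ([6, 6, 4, 7] ++ ([0, 0] ++ ([6, 4, 7, 7] ++ [4]))) = 1 := gens_one e_b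
  rw [evG_append, evG_append, evG_append, r_inv, ev_gens (w := [0, 0]) rfl, ev_gens (w := [4]) rfl, hw_τ,
    hw_z] at h
  change r * _ = 1 at h
  have hz : (NormalH.ψ gz)⁻¹ = NormalH.ψ gz := by
    rw [inv_eq_iff_mul_eq_one, ← pow_two, NormalH.ψ_gz]
    exact rels_HN.r7
  rw [← mul_assoc, ← mul_assoc, mul_eq_one_iff_eq_inv, hz] at h
  exact h

/-- `r` commutes with the images of `iota A8`. -/
theorem r_iota (s : A8) : Commute r (NormalH.ψ (iota s)) := by
  have h : ((Subgroup.centralizer ({r} : Set Cfsg.Spor.HN)).comap (NormalH.ψ.comp iota)) = ⊤ := by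
    refine top_of_gens fun i hi => ?_
    rw [Subgroup.mem_comap, MonoidHom.comp_apply, iota_cyc hi, Subgroup.mem_centralizer_singleton_iff, xg,
      hw_eq (sw_chk i hi)]
    have h1 := gens_one (e_all i hi)
    rw [evG_append, evG_append, evG_append, r_inv, ev_gens (ok_all i hi).1, ev_gens (ok_all i hi).2, hw_iw,
      map_inv] at h1
    change r * _ = 1 at h1
    rw [← mul_assoc, ← mul_assoc, mul_inv_eq_one, mul_inv_eq_iff_eq_mul] at h1
    first
      | exact h1
      | exact h1.symm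
  have h2 : s ∈ ((Subgroup.centralizer ({r} : Set Cfsg.Spor.HN)).comap (NormalH.ψ.comp iota)) := by
    rw [h]; exact Subgroup.mem_top s
  rw [Subgroup.mem_comap, MonoidHom.comp_apply, Subgroup.mem_centralizer_singleton_iff] at h2
  first
    | exact h2
    | exact h2.symm

theorem isConj_z : IsConj (NormalH.ψ gz) (NormalH.ψ τ) := (InvH0.isConj_z r_τ).symm

theorem isConj_a : IsConj (NormalH.ψ a) (NormalH.ψ τ) := (InvH0.isConj_a r_τ r_iota).symm

theorem isConj_d : IsConj (NormalH.ψ d) (NormalH.ψ (a * τ)) := (InvH0.isConj_d r_τ r_iota).symm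

/-- **Every involution of `H0` is conjugate in `HN` to `τ` or to `a τ`.** -/
theorem hinv : ∀ v : H0, orderOf v = 2 → ∃ g : Cfsg.Spor.HN,
    g * NormalH.ψ v * g⁻¹ = NormalH.ψ τ ∨ g * NormalH.ψ v * g⁻¹ = NormalH.ψ (a * τ) :=
  Final.inv_of isConj_a isConj_z isConj_d

end

end Cfsg.Agent.HN.InvHN
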