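import Cfsg.Agent.HN.StepDFinal
import Cfsg.Agent.HN.H0Basic

/-!
# Lifting a homomorphism from `HN` through a kernel of odd order

`π : G →* Q` has kernel `W` of odd order, `X, Y, Z : G` satisfy the relations of `H0` and commute with `W`.
A homomorphism `θ : HN →* Q` with `θ hx = π X`, `θ hy = π Y`, `θ hz = π Z` lifts to `Θ : HN →* G`, with image
commuting with `W`.
-/

set_option autoImplicit false

namespace Cfsg.Agent.HN.LiftW

open Cfsg Cfsg.Spor Cfsg.Agent.HN.Pres Cfsg.Agent.HN.StepDFinal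

theorem ht5 : ht ^ 5 = 1 := mk_extra (by simp [HN.extra])
theorem htx : (hx⁻¹ * ht * hx) * (ht ^ 2) = 1 := mk_extra (by simp [HN.extra])
theorem hty : ht⁻¹ * hy⁻¹ * ht * hy = 1 := mk_extra (by simp [HN.extra])
theorem htz : (hz * ht) ^ 3 = 1 := mk_extra (by simp [HN.extra])

theorem ht_eq : ht = (ht⁻¹ * hx⁻¹ * ht * hx)⁻¹ ^ 2 := by
  have h1 : hx⁻¹ * ht * hx = (ht ^ 2)⁻¹ := eq_inv_of_mul_eq_one_left htx
  have h2 : ht⁻¹ * hx⁻¹ * ht * hx = (ht ^ 3)⁻¹ := by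
    calc ht⁻¹ * hx⁻¹ * ht * hx = ht⁻¹ * (hx⁻¹ * ht * hx) := by group
      _ = ht⁻¹ * (ht ^ 2)⁻¹ := by rw [h1]
      _ = (ht ^ 3)⁻¹ := by group
  rw [h2, inv_inv, ← pow_mul, show 3 * 2 = 5 + 1 by norm_num, pow_succ, ht5, one_mul]

section

variable {G Q : Type*} [Group G] [Group Q]

theorem rels_pow_four {X Y Z : G} (h : Rels X Y Z) : X ^ 4 = 1 := by
  have h1 : (gx : H0) ^ 4 = 1 := by
    have h0 : (gx ^ 2 : H0) ^ 2 = 1 := H0Basic.τ_sq
    rw [← pow_mul] at h0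
    exact h0
  have h2 := congrArg (lift h) h1
  rwa [map_pow, lift_gx, map_one] at h2

theorem rels_comm {X Y Z : G} (h : Rels X Y Z) : Z * X ^ 2 = X ^ 2 * Z := by
  have h1 : gz * gx ^ 2 = gx ^ 2 * gz := H0Basic.τ_comm gz
  have h2 := congrArg (lift h) h1
  rwa [map_mul, map_mul, map_pow, lift_gx, lift_gz] at h2

theorem comm_prod {w a b : G} (ha : w * a = a * w) (hb : w * b = b * w) : w * (a * b) = a * b * w := by
  rw [← mul_assoc, ha, mul_assoc, hb, mul_assoc]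

/-- **The lift.** -/
theorem exists_lift (π : G →* Q) [Finite G] (hodd : Odd (Nat.card π.ker)) (θ : Spor.HN →* Q) {X Y Z : G}
    (hR : Rels X Y Z) (hX : π X = θ hx) (hY : π Y = θ hy) (hZ : π Z = θ hz) (hT : θ ht ∈ π.range)
    (cX : ∀ w ∈ π.ker, Commute w X) (cY : ∀ w ∈ π.ker, Commute w Y) (cZ : ∀ w ∈ π.ker, Commute w Z) :
    ∃ Θ : Spor.HN →* G, Θ hx = X ∧ Θ hy = Y ∧ Θ hz = Z ∧ (∀ h, π (Θ h) = θ h) ∧
      ∀ w ∈ π.ker, ∀ h, Commute w (Θ h) := by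
  obtain ⟨T1, hT1⟩ := hT
  -- first correction: a lift commuting with the kernel
  obtain ⟨T0, hT0, cT0⟩ : ∃ T0 : G, π T0 = θ ht ∧ ∀ w ∈ π.ker, Commute w T0 := by
    refine ⟨(T1⁻¹ * X⁻¹ * T1 * X)⁻¹ ^ 2, ?_, ?_⟩
    · rw [map_pow, map_inv, map_mul, map_mul, map_mul, map_inv, map_inv, hT1, hX]
      conv_rhs => rw [ht_eq]
      simp only [map_mul, map_pow, map_inv]
    · intro w hw
      have h1 : Commute w (T1⁻¹ * X⁻¹ * T1) := by
        have h2 : T1 * w * T1⁻¹ ∈ π.ker := (MonoidHom.normal_ker π).conj_mem w hw T1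
        have h3 : Commute (T1 * w * T1⁻¹) X⁻¹ := (cX _ h2).inv_right
        have h4 : T1 * w * T1⁻¹ * X⁻¹ = X⁻¹ * (T1 * w * T1⁻¹) := h3.eq
        change w * (T1⁻¹ * X⁻¹ * T1) = T1⁻¹ * X⁻¹ * T1 * w
        calc w * (T1⁻¹ * X⁻¹ * T1) = T1⁻¹ * (T1 * w * T1⁻¹ * X⁻¹) * T1 := by group
          _ = T1⁻¹ * (X⁻¹ * (T1 * w * T1⁻¹)) * T1 := by rw [h4]
          _ = T1⁻¹ * X⁻¹ * T1 * w := by group
      exact ((h1.mul_right (cX w hw)).inv_right).pow_right 2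
  -- the defects
  have kerc : ∀ {a : G}, a ∈ π.ker → Commute a T0 ∧ Commute a X ∧ Commute a Y ∧ Commute a Z :=
    fun ha => ⟨cT0 _ ha, cX _ ha, cY _ ha, cZ _ ha⟩
  have m1 : X⁻¹ * T0 * X * T0 ^ 2 ∈ π.ker := by
    rw [MonoidHom.mem_ker]
    simp only [map_mul, map_pow, map_inv, hX, hT0]
    rw [← map_inv, ← map_mul, ← map_mul, ← map_pow, ← map_mul, htx, map_one]
  have m2 : T0 ^ 5 ∈ π.ker := by
    rw [MonoidHom.mem_ker, map_pow, hT0, ← map_pow, ht5, map_one]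
  obtain ⟨o1, ho1⟩ : ∃ o1, o1 = X⁻¹ * T0 * X * T0 ^ 2 := ⟨_, rfl⟩
  obtain ⟨o2, ho2⟩ : ∃ o2, o2 = T0 ^ 5 := ⟨_, rfl⟩
  rw [← ho1] at m1
  rw [← ho2] at m2
  have c12 : Commute o1 o2 := by
    rw [ho2]
    exact (kerc m1).1.pow_right 5
  have hconj : X⁻¹ * T0 * X = o1 * (T0 ^ 2)⁻¹ := by
    rw [ho1]; group
  have h35 : o2 ^ 3 = o1 ^ 5 := by
    have e1 : X⁻¹ * T0 ^ 5 * X = (o1 * (T0 ^ 2)⁻¹) ^ 5 := by
      rw [← hconj]
      have := conj_pow (a := X⁻¹) (b := T0) (i := 5)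
      rw [inv_inv] at this
      exact this.symm
    have e2 : (o1 * (T0 ^ 2)⁻¹) ^ 5 = o1 ^ 5 * ((o2) ^ 2)⁻¹ := by
      have hc : Commute o1 (T0 ^ 2)⁻¹ := ((kerc m1).1.pow_right 2).inv_right
      rw [hc.mul_pow, ho2]
      congr 1
      rw [inv_pow, ← pow_mul, ← pow_mul]
    have e3 : X⁻¹ * o2 * X = o2 := by
      rw [mul_assoc, (kerc m2).2.1.eq, ← mul_assoc, inv_mul_cancel, one_mul]
    rw [← ho2, e3, e2] at e1
    calc o2 ^ 3 = o2 * o2 ^ 2 := by rw [pow_succ' o2 2]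
      _ = o1 ^ 5 * (o2 ^ 2)⁻¹ * o2 ^ 2 := by rw [← e1]
      _ = o1 ^ 5 := by rw [inv_mul_cancel_right]
  -- second correction
  obtain ⟨c, hc⟩ : ∃ c, c = o2 * (o1 ^ 2)⁻¹ := ⟨_, rfl⟩
  have mc : c ∈ π.ker := by
    rw [hc]
    exact mul_mem m2 (inv_mem (pow_mem m1 2))
  have c3 : c ^ 3 = o1⁻¹ := by
    have h0 : Commute o2 (o1 ^ 2)⁻¹ := (c12.symm.pow_right 2).inv_right
    rw [hc, h0.mul_pow, h35]
    group
  have c5 : c ^ 5 = o2⁻¹ := by
    have h0 : Commute o2 (o1 ^ 2)⁻¹ := (c12.symm.pow_right 2).inv_right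
    rw [hc, h0.mul_pow]
    have h1 : (o1 ^ 2)⁻¹ ^ 5 = (o2 ^ 6)⁻¹ := by
      rw [inv_pow, ← pow_mul, show 2 * 5 = 5 * 2 by norm_num, pow_mul, ← h35, ← pow_mul]
    rw [h1]
    group
  obtain ⟨T, hTe⟩ : ∃ T, T = T0 * c := ⟨_, rfl⟩
  have hcT0 : Commute T0 c := (kerc mc).1.symm
  have πT : π T = θ ht := by
    rw [hTe, map_mul, hT0, MonoidHom.mem_ker.1 mc, mul_one]
  have cc : ∀ w ∈ π.ker, Commute w c := by
    intro w hw
    rw [hc, ho2, ho1]
    have a := cT0 w hw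
    have b := cX w hw
    exact (a.pow_right 5).mul_right
      (((((b.inv_right).mul_right a).mul_right b).mul_right (a.pow_right 2)).pow_right 2).inv_right
  have cT : ∀ w ∈ π.ker, Commute w T := by
    intro w hw
    rw [hTe]
    exact (cT0 w hw).mul_right (cc w hw)
  have T5 : T ^ 5 = 1 := by
    rw [hTe, hcT0.mul_pow, c5, ← ho2, mul_inv_cancel]
  have Tx : X⁻¹ * T * X * T ^ 2 = 1 := by
    have hcX : c * X = X * c := (kerc mc).2.1.eq
    have e1 : X⁻¹ * T * X = o1 * (T0 ^ 2)⁻¹ * c := by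
      rw [← hconj, hTe]
      calc X⁻¹ * (T0 * c) * X = X⁻¹ * T0 * (c * X) := by group
        _ = X⁻¹ * T0 * (X * c) := by rw [hcX]
        _ = X⁻¹ * T0 * X * c := by group
    rw [e1, hTe, hcT0.mul_pow]
    have h0 : Commute c (T0 ^ 2) := (hcT0.symm).pow_right 2
    calc o1 * (T0 ^ 2)⁻¹ * c * (T0 ^ 2 * c ^ 2) = o1 * (T0 ^ 2)⁻¹ * (c * T0 ^ 2) * c ^ 2 := by group
      _ = o1 * (T0 ^ 2)⁻¹ * (T0 ^ 2 * c) * c ^ 2 := by rw [h0.eq]
      _ = o1 * c ^ 3 := by group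
      _ = 1 := by rw [c3, mul_inv_cancel]
  have Ty : T⁻¹ * Y⁻¹ * T * Y = 1 := by
    obtain ⟨o3, ho3⟩ : ∃ o3, o3 = T⁻¹ * Y⁻¹ * T * Y := ⟨_, rfl⟩
    have m3 : o3 ∈ π.ker := by
      rw [ho3, MonoidHom.mem_ker]
      simp only [map_mul, map_inv, hY, πT]
      rw [← map_inv, ← map_inv, ← map_mul, ← map_mul, ← map_mul, hty, map_one]
    have h1 : Y⁻¹ * T * Y = T * o3 := by rw [ho3]; group
    have h2 : o3 ^ 5 = 1 := by
      have e1 : (Y⁻¹ * T * Y) ^ 5 = 1 := by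
        have := conj_pow (a := Y⁻¹) (b := T) (i := 5)
        rw [inv_inv] at this
        rw [this, T5, mul_one, inv_mul_cancel]
      rw [h1, (cT o3 m3).symm.mul_pow, T5, one_mul] at e1
      exact e1
    have h3 : T⁻¹ * Y⁻¹ * T = o3 * Y⁻¹ := by rw [ho3]; group
    have h4 : o3 ^ 6 = 1 := by
      have e1 : (T⁻¹ * Y⁻¹ * T) ^ 6 = 1 := by
        have := conj_pow (a := T⁻¹) (b := Y⁻¹) (i := 6)
        rw [inv_inv] at this
        rw [this, inv_pow, hR.r1, inv_one, mul_one, inv_mul_cancel]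
      rw [h3, ((cY o3 m3).inv_right).mul_pow, inv_pow, hR.r1, inv_one, mul_one] at e1
      exact e1
    rw [← ho3]
    rw [pow_succ, h2, one_mul] at h4
    exact h4
  have Tz : (Z * T) ^ 3 = 1 := by
    obtain ⟨o, ho⟩ : ∃ o, o = (Z * T) ^ 3 := ⟨_, rfl⟩
    have mo : o ∈ π.ker := by
      rw [ho, MonoidHom.mem_ker, map_pow, map_mul, hZ, πT, ← map_mul, ← map_pow, htz, map_one]
    have e1 : X⁻¹ * T * X = (T ^ 2)⁻¹ := eq_inv_of_mul_eq_one_left Tx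
    have e2 : (X ^ 2)⁻¹ * T * X ^ 2 = T⁻¹ := by
      calc (X ^ 2)⁻¹ * T * X ^ 2 = X⁻¹ * (X⁻¹ * T * X) * X := by
            simp only [pow_two, mul_inv_rev, mul_assoc]
        _ = X⁻¹ * (T ^ 2)⁻¹ * X := by rw [e1]
        _ = ((X⁻¹ * T * X) ^ 2)⁻¹ := by
          have := conj_pow (a := X⁻¹) (b := T) (i := 2)
          rw [inv_inv] at this
          rw [this]
          group
        _ = T ^ 4 := by rw [e1]; group
        _ = T ^ 5 * T⁻¹ := by group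
        _ = T⁻¹ := by rw [T5, one_mul]
    have hZX : Z * X ^ 2 = X ^ 2 * Z := rels_comm hR
    have e3 : (X ^ 2)⁻¹ * (Z * T) * X ^ 2 = Z * T⁻¹ := by
      calc (X ^ 2)⁻¹ * (Z * T) * X ^ 2 = (X ^ 2)⁻¹ * (Z * X ^ 2) * ((X ^ 2)⁻¹ * T * X ^ 2) := by group
        _ = (X ^ 2)⁻¹ * (X ^ 2 * Z) * ((X ^ 2)⁻¹ * T * X ^ 2) := by rw [hZX]
        _ = Z * T⁻¹ := by rw [e2]; group
    have e4 : (Z * T⁻¹) ^ 3 = o := by
      have h1 := conj_pow (a := (X ^ 2)⁻¹) (b := Z * T) (i := 3)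
      rw [inv_inv, e3, ← ho] at h1
      rw [h1, mul_assoc, ((kerc mo).2.1.pow_right 2).eq, ← mul_assoc, inv_mul_cancel, one_mul]
    have e5 : Z * (Z * T⁻¹) * Z⁻¹ = (Z * T)⁻¹ := by
      have hz2 : Z * Z = 1 := by rw [← pow_two]; exact hR.r7
      calc Z * (Z * T⁻¹) * Z⁻¹ = Z * Z * T⁻¹ * Z⁻¹ := by group
        _ = (Z * T)⁻¹ := by rw [hz2]; group
    have e6 : o⁻¹ = o := by
      have h1 := conj_pow (a := Z) (b := Z * T⁻¹) (i := 3)
      rw [e5, e4, inv_pow, ← ho] at h1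
      rw [h1, ← (kerc mo).2.2.2.eq, mul_inv_cancel_right]
    have e7 : o ^ 2 = 1 := by
      rw [pow_two]
      nth_rw 1 [← e6]
      exact inv_mul_cancel o
    have e8 : o ^ Nat.card π.ker = 1 := by
      have := pow_card_eq_one' (x := (⟨o, mo⟩ : π.ker))
      have h := congrArg Subtype.val this
      simpa using h
    rw [← ho]
    obtain ⟨k, hk⟩ := hodd
    rw [hk, pow_succ, pow_mul, e7, one_pow, one_mul] at e8
    exact e8
  -- the homomorphism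
  let Θ := liftHN hR T5 Tx Ty Tz
  have Θx : Θ hx = X := PresentedGroup.toGroup.of _
  have Θy : Θ hy = Y := PresentedGroup.toGroup.of _
  have Θz : Θ hz = Z := PresentedGroup.toGroup.of _
  have Θt : Θ ht = T := PresentedGroup.toGroup.of _
  refine ⟨Θ, Θx, Θy, Θz, ?_, ?_⟩
  · have h1 : π.comp Θ = θ := by
      apply PresentedGroup.ext
      intro i
      cases i
      · change π (Θ hx) = θ hx
        rw [Θx, hX]
      · change π (Θ hy) = θ hy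
        rw [Θy, hY]
      · change π (Θ hz) = θ hz
        rw [Θz, hZ]
      · change π (Θ ht) = θ ht
        rw [Θt, πT]
    intro h
    exact DFunLike.congr_fun h1 h
  · intro w hw h
    have h1 : (⊤ : Subgroup Spor.HN) ≤ (Subgroup.centralizer {w}).comap Θ := by
      rw [← PresentedGroup.closure_range_of, Subgroup.closure_le]
      rintro _ ⟨i, rfl⟩
      change Θ (PresentedGroup.of i) ∈ Subgroup.centralizer {w}
      rw [Subgroup.mem_centralizer_singleton_iff]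
      cases i
      · change Θ hx * w = w * Θ hx
        rw [Θx]
        exact (cX w hw).symm.eq
      · change Θ hy * w = w * Θ hy
        rw [Θy]
        exact (cY w hw).symm.eq
      · change Θ hz * w = w * Θ hz
        rw [Θz]
        exact (cZ w hw).symm.eq
      · change Θ ht * w = w * Θ ht
        rw [Θt]
        exact (cT w hw).symm.eq
    have h2 : h ∈ (Subgroup.centralizer {w}).comap Θ := h1 (Subgroup.mem_top h)
    exact (Subgroup.mem_centralizer_singleton_iff.1 h2 : Θ h * w = w * Θ h).symm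

end

end Cfsg.Agent.HN.LiftW
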