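import Cfsg.Agent.HN.MainFus
import Cfsg.Agent.HN.FusK0
import Cfsg.Agent.HN.LiftW
import Cfsg.Agent.HN.InvHN
import Cfsg.Agent.HN.Final
import Cfsg.Agent.S1701

/-!
# Centralisers `W × φ(H)` with `W` of odd order

`φ : H →* G` is injective, `W` is a subgroup of odd order commuting with `φ(H)`, the centraliser of `t = φ τ` is
`W φ(H)`, and `W` is normalised by every `g` such that `gtg⁻¹` commutes with `t`.  In `N_G(W)/W` the centraliser of the
image of `t` is the image of `φ(H)`.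
-/

set_option autoImplicit false

namespace Cfsg.Agent.HN.EmbW

open Subgroup Cfsg.Agent.HN.FusGen

/-- `C_G(φ τ) = W × φ(H)` with `W` of odd order, normalised by the elements conjugating `φ τ` to an involution
commuting with `φ τ`. -/
structure EmbO {H G : Type*} [Group H] [Group G] (φ : H →* G) (τ : H) (W : Subgroup G) : Prop where
  inj : Function.Injective φ
  comm : ∀ h : H, h * τ = τ * h
  sq : τ * τ = 1
  ne : τ ≠ 1
  odd : Odd (Nat.card W)
  comW : ∀ w ∈ W, ∀ h, w * φ h = φ h * w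
  cent : ∀ g : G, g * φ τ = φ τ * g → ∃ w ∈ W, ∃ h, g = w * φ h
  nrm : ∀ g : G, Commute (φ τ) (g * φ τ * g⁻¹) → ∀ w ∈ W, g * w * g⁻¹ ∈ W
  cen : ∀ h : H, (∀ k, h * k = k * h) → h = 1 ∨ h = τ

theorem eq_one_of_sq {G : Type*} [Group G] {W : Subgroup G} (hodd : Odd (Nat.card W)) {w : G} (hw : w ∈ W)
    (h2 : w * w = 1) : w = 1 := by
  have h1 : (⟨w, hw⟩ : W) ^ Nat.card W = 1 := pow_card_eq_one'
  have h3 : w ^ Nat.card W = 1 := congrArg Subtype.val h1
  obtain ⟨k, hk⟩ := hodd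
  rw [hk, pow_succ, pow_mul, pow_two, h2, one_pow, one_mul] at h3
  exact h3

variable {H G : Type*} [Group H] [Group G] {φ : H →* G} {τ : H} {W : Subgroup G}

namespace EmbO

section basic

variable (E : EmbO φ τ W)
include E

theorem t_ne : φ τ ≠ 1 := fun h => E.ne (E.inj (h.trans (map_one φ).symm))

theorem t_sq : φ τ * φ τ = 1 := by rw [← map_mul, E.sq, map_one]

theorem orderOf_t : orderOf (φ τ) = 2 :=
  orderOf_eq_prime (by rw [pow_two]; exact E.t_sq) E.t_ne

theorem disj {h : H} (hh : φ h ∈ W) : h = 1 := by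
  have h1 : ∀ k, h * k = k * h := by
    intro k
    apply E.inj
    rw [map_mul, map_mul]
    exact E.comW _ hh k
  have h2 : h * h = 1 := by
    rcases E.cen h h1 with rfl | rfl
    · rw [one_mul]
    · exact E.sq
  apply E.inj
  rw [map_one]
  apply eq_one_of_sq E.odd hh
  rw [← map_mul, h2, map_one]

/-- an involution in the coset `W t` is `t`. -/
theorem eq_t {u w : G} (hw : w ∈ W) (hu : u = w * φ τ) (h2 : u * u = 1) : u = φ τ := by
  have h1 : w * w = 1 := by
    have h3 := E.comW w hw τ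
    calc w * w = w * (φ τ * φ τ) * w := by rw [E.t_sq, mul_one]
      _ = (w * φ τ) * (φ τ * w) := by group
      _ = u * u := by rw [← h3, hu]
      _ = 1 := h2
  rw [hu, eq_one_of_sq E.odd hw h1, one_mul]

theorem conj_sq (g : G) : g * φ τ * g⁻¹ * (g * φ τ * g⁻¹) = 1 := by
  calc g * φ τ * g⁻¹ * (g * φ τ * g⁻¹) = g * (φ τ * φ τ) * g⁻¹ := by group
    _ = 1 := by rw [E.t_sq]; group

theorem mem_normalizer_φ (h : H) : φ h ∈ normalizer (W : Set G) := by
  rw [mem_normalizer_iff]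
  intro w
  constructor
  · intro hw
    have h1 := E.comW w hw h
    rw [← h1, mul_inv_cancel_right]
    exact hw
  · intro hw
    have h3 : φ h * w * (φ h)⁻¹ * φ h = φ h * (φ h * w * (φ h)⁻¹) := E.comW _ hw h
    have h4 : φ h * w = φ h * (φ h * w * (φ h)⁻¹) := by
      rw [← h3]; group
    have h5 := mul_left_cancel h4
    rw [h5]
    exact hw

end basic

section quot

variable [Finite G] (E : EmbO φ τ W)
include E

theorem mem_normalizer {g : G} (hg : Commute (φ τ) (g * φ τ * g⁻¹)) : g ∈ normalizer (W : Set G) := by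
  have h1 : W.map (MulAut.conj g).toMonoidHom ≤ W := by
    rintro _ ⟨w, hw, rfl⟩
    exact E.nrm g hg w hw
  have h2 : W.map (MulAut.conj g).toMonoidHom = W := by
    apply Subgroup.eq_of_le_of_card_ge h1
    rw [Nat.card_congr (Subgroup.equivMapOfInjective W (MulAut.conj g).toMonoidHom (MulAut.conj g).injective).toEquiv]
  rw [mem_normalizer_iff]
  intro w
  constructor
  · intro hw
    exact E.nrm g hg w hw
  · intro hw
    rw [← h2] at hw
    obtain ⟨v, hv, he⟩ := hw
    have h3 : g * v * g⁻¹ = g * w * g⁻¹ := he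
    have h4 : v = w := mul_left_cancel (mul_right_cancel h3)
    rwa [← h4]

end quot

end EmbO

/-! ### the quotient -/

/-- `N_G(W)` -/
abbrev NN (W : Subgroup G) : Subgroup G := normalizer (W : Set G)

/-- `W` as a subgroup of `N_G(W)` -/
def WN (W : Subgroup G) : Subgroup (NN W) := W.subgroupOf (NN W)

instance normal_WN (W : Subgroup G) : (WN W).Normal := Subgroup.normal_in_normalizer

/-- `N_G(W)/W` -/
abbrev QN (W : Subgroup G) : Type _ := NN W ⧸ WN W

theorem mem_WN {W : Subgroup G} {g : NN W} : g ∈ WN W ↔ (g : G) ∈ W := Subgroup.mem_subgroupOf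

/-- the projection -/
def pr (W : Subgroup G) : NN W →* QN W := QuotientGroup.mk' (WN W)

theorem pr_surj (W : Subgroup G) : Function.Surjective (pr W) := QuotientGroup.mk'_surjective _

theorem ker_pr (W : Subgroup G) : (pr W).ker = WN W := QuotientGroup.ker_mk' _

theorem pr_eq_one {W : Subgroup G} {g : NN W} : pr W g = 1 ↔ (g : G) ∈ W := by
  rw [← MonoidHom.mem_ker, ker_pr, mem_WN]

theorem card_ker_pr (W : Subgroup G) : Nat.card (pr W).ker = Nat.card W := by
  rw [ker_pr]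
  exact Nat.card_congr (Subgroup.subgroupOfEquivOfLe le_normalizer).toEquiv

namespace EmbO

variable (E : EmbO φ τ W)

/-- `φ` with values in `N_G(W)` -/
def φN : H →* NN W := φ.codRestrict (NN W) E.mem_normalizer_φ

theorem φN_val (h : H) : (E.φN h : G) = φ h := rfl

/-- `φ` with values in `N_G(W)/W` -/
def φQ : H →* QN W := (pr W).comp E.φN

theorem φQ_apply (h : H) : E.φQ h = pr W (E.φN h) := rfl

theorem emb : Emb E.φQ τ where
  inj := by
    rw [injective_iff_map_eq_one]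
    intro h hh
    exact E.disj (pr_eq_one.1 hh)
  cent := by
    intro x hx
    obtain ⟨g, rfl⟩ := pr_surj W x
    have h1 : pr W (g * E.φN τ * g⁻¹ * (E.φN τ)⁻¹) = 1 := by
      rw [map_mul, map_mul, map_mul, map_inv, map_inv]
      rw [φQ_apply] at hx
      rw [hx]
      group
    have h2 : (g : G) * φ τ * (g : G)⁻¹ * (φ τ)⁻¹ ∈ W := pr_eq_one.1 h1
    have h3 : (g : G) * φ τ * (g : G)⁻¹ = φ τ := by
      apply E.eq_t h2 _ (E.conj_sq _)
      group
    obtain ⟨w, hw, h, hh⟩ := E.cent (g : G) (mul_inv_eq_iff_eq_mul.1 h3)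
    refine ⟨h, ?_⟩
    have h4 : pr W (E.φN h * g⁻¹) = 1 := by
      apply pr_eq_one.2
      change φ h * (g : G)⁻¹ ∈ W
      rw [hh]
      have : φ h * (w * φ h)⁻¹ = w⁻¹ := by group
      rw [this]
      exact W.inv_mem hw
    rw [map_mul, map_inv, mul_inv_eq_one] at h4
    exact h4
  comm := E.comm
  sq := E.sq
  ne := E.ne

/-- a conjugation in `G` between commuting conjugates of `t` comes from a conjugation in `N_G(W)/W`. -/
theorem inK_of_isConj [Finite G] {h : H} (hc : IsConj (φ τ) (φ h)) : InK E.φQ τ h := by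
  obtain ⟨g, hg⟩ := isConj_iff.1 hc
  have hcomm : Commute (φ τ) (g * φ τ * g⁻¹) := by
    rw [hg]
    change φ τ * φ h = φ h * φ τ
    rw [← map_mul, ← map_mul, E.comm]
  have hN := E.mem_normalizer hcomm
  refine isConj_iff.2 ⟨pr W ⟨g, hN⟩, ?_⟩
  rw [φQ_apply, φQ_apply, ← map_inv, ← map_mul, ← map_mul]
  congr 1
  exact Subtype.ext hg

theorem exists_inK [Finite G] [IsSimpleGroup G] (hH : ∃ a b : H, a * b ≠ b * a) :
    ∃ h : H, InK E.φQ τ h ∧ h ≠ τ := by
  obtain ⟨a, b, hab⟩ := hH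
  obtain ⟨g, hg, hcomm⟩ := Cfsg.Agent.SporRec.LyReduce.exists_conj_ne (φ τ) E.orderOf_t
    ⟨φ a, φ b, fun h => hab (E.inj (by rw [map_mul, map_mul, h]))⟩
  have hN := E.mem_normalizer hcomm
  obtain ⟨x, hx⟩ : ∃ x : NN W, (x : G) = g := ⟨⟨g, hN⟩, rfl⟩
  have h1 : (pr W x * E.φQ τ * (pr W x)⁻¹) * E.φQ τ = E.φQ τ * (pr W x * E.φQ τ * (pr W x)⁻¹) := by
    rw [φQ_apply, ← map_inv, ← map_mul, ← map_mul, ← map_mul, ← map_mul]
    congr 1
    apply Subtype.ext
    change (x : G) * φ τ * (x : G)⁻¹ * φ τ = φ τ * ((x : G) * φ τ * (x : G)⁻¹)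
    rw [hx]
    exact hcomm.symm.eq
  obtain ⟨h, hh⟩ := E.emb.cent _ h1
  refine ⟨h, isConj_iff.2 ⟨pr W x, hh.symm⟩, ?_⟩
  rintro rfl
  apply hg
  have h2 : pr W (x * E.φN h * x⁻¹ * (E.φN h)⁻¹) = 1 := by
    rw [map_mul, map_mul, map_mul, map_inv, map_inv]
    rw [φQ_apply] at hh
    rw [← hh, mul_inv_cancel]
  have h3 : (x : G) * φ h * (x : G)⁻¹ * (φ h)⁻¹ ∈ W := pr_eq_one.1 h2
  rw [hx] at h3
  exact E.eq_t h3 (by group) (E.conj_sq g)

end EmbO

end Cfsg.Agent.HN.EmbW
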