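import Cfsg.Agent.HN.Gens
import Cfsg.Agent.HN.H0Basic

set_option autoImplicit false

/-!
The involution centraliser of a group of Harada–Norton type is `H0` (or the isoclinic group).
-/

namespace Cfsg.Agent.HN.Embed

open Cfsg.Agent.HN.Pres Cfsg.Agent.HN.HS100 Cfsg.Agent.HN.SignSplit Cfsg.Agent.HN.H0Basic
  Cfsg.Agent.SporadicA.PermTab Equiv Subgroup

universe u

/-- the order of the centraliser -/
theorem card_of {C : Type u} [Group C] [Finite C] {τ' : C} (hτ : orderOf τ' = 2)
    {π : C →* Perm (Fin 100)} (hker : π.ker = zpowers τ') (hrange : π.range = autG 100 adjA) :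
    Nat.card C = 177408000 := by
  have h1 : Nat.card π.ker = 2 := by rw [hker, Nat.card_zpowers, hτ]
  have h2 : Nat.card π.range = 88704000 := by rw [hrange, AutBound.card_autG]
  have h3 : Nat.card C = Nat.card (C ⧸ π.ker) * Nat.card π.ker :=
    Subgroup.card_eq_card_quotient_mul_card_subgroup π.ker
  have h4 : Nat.card (C ⧸ π.ker) = Nat.card π.range :=
    Nat.card_congr (QuotientGroup.quotientKerEquivRange π).toEquiv
  rw [h3, h4, h1, h2]

/-- Generators satisfying the relations give an isomorphism from `H0`. -/
theorem bijective_lift {C : Type u} [Group C] [Finite C] (hcard : Nat.card C = 177408000) {x y z : C}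
    (hcl : closure ({x, y, z} : Set C) = ⊤) (h : Rels x y z) : Function.Bijective (lift h) := by
  haveI : Finite H0 := finite_H0
  have hsurj : Function.Surjective (lift h) := by
    rw [← MonoidHom.range_eq_top, eq_top_iff, ← hcl, closure_le]
    rintro g (rfl | rfl | rfl)
    · exact ⟨gx, lift_gx h⟩
    · exact ⟨gy, lift_gy h⟩
    · exact ⟨gz, lift_gz h⟩
  haveI := Fintype.ofFinite H0
  haveI := Fintype.ofFinite C
  rw [Fintype.bijective_iff_surjective_and_card]
  refine ⟨hsurj, ?_⟩
  rw [← Nat.card_eq_fintype_card, ← Nat.card_eq_fintype_card, hcard, card_H0]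

/-- **The involution centraliser of a group of Harada–Norton type.** -/
theorem exists_embed {G : Type u} [Group G] [Finite G] (t : G) (ht : orderOf t = 2)
    (M : Subgroup (centralizer ({t} : Set G)))
    (hcov : Cfsg.IsNonsplitDoubleCover M Cfsg.Spor.HS) (t' : centralizer ({t} : Set G))
    (ht' : (t' : G) = t)
    (π : centralizer ({t} : Set G) →* Perm (Fin 100))
    (hker : π.ker = zpowers t') (hrange : π.range = autG 100 adjA) (hM : M = Q.comap π) :
    (∃ f : H0 →* G, Function.Injective f ∧ f.range = centralizer ({t} : Set G) ∧ f τ = t ∧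
      (∀ (g : H0) (c : centralizer ({t} : Set G)), f g = c → π c = φ g)) ∨
    (∃ x y z : centralizer ({t} : Set G), π x = X ∧ π y = Y ∧ π z = Z ∧ x ^ 2 = t' ∧
      closure ({x, y, z} : Set (centralizer ({t} : Set G))) = ⊤ ∧ RelsI x y z) := by
  have hτ : orderOf t' = 2 := by
    have h1 : orderOf (t' : G) = orderOf t' := orderOf_coe t'
    rw [← h1, ht', ht]
  obtain ⟨x, y, z, hx, hy, hz, hxx, hcl, h | h⟩ := Gens.exists_gens hτ M hcov hker hrange hM
  · left
    have hbij := bijective_lift (card_of hτ hker hrange) hcl h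
    refine ⟨(centralizer ({t} : Set G)).subtype.comp (lift h),
      Subtype.val_injective.comp hbij.1, ?_, ?_, ?_⟩
    · ext g
      constructor
      · rintro ⟨k, rfl⟩
        exact (lift h k).2
      · intro hg
        obtain ⟨k, hk⟩ := hbij.2 ⟨g, hg⟩
        exact ⟨k, congrArg Subtype.val hk⟩
    · change ((lift h τ : centralizer ({t} : Set G)) : G) = t
      rw [τ, map_pow, lift_gx h, hxx, ht']
    · have hcomp : π.comp (lift h) = φ := by
        refine PresentedGroup.ext ?_
        intro i
        cases i
        · change π (lift h gx) = φ gx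
          rw [lift_gx, φ_gx, hx]
        · change π (lift h gy) = φ gy
          rw [lift_gy, φ_gy, hy]
        · change π (lift h gz) = φ gz
          rw [lift_gz, φ_gz, hz]
      intro g c hc
      have h1 : lift h g = c := Subtype.ext hc
      rw [← h1]
      exact DFunLike.congr_fun hcomp g
  · right
    exact ⟨x, y, z, hx, hy, hz, hxx, hcl, h⟩

end Cfsg.Agent.HN.Embed
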