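import Cfsg.Agent.HN.Count

set_option autoImplicit false

/-!
The relation "same double coset" is an equitable equivalence relation for the table of local counts.
-/

namespace Cfsg.Agent.HN.Count

open MulAction

section

variable {G : Type*} [Group G] (H : Subgroup G) {m n : ℕ} (w : Fin m → G) (t : G)

/-- `i` and `j` give the same double coset -/
def Same (i j : Fin m) : Prop := orbit H (pnt H (w i)) = orbit H (pnt H (w j))

theorem same_iff (i j : Fin m) : Same H w i j ↔
    w j ∈ DoubleCoset.doubleCoset (w i) (H : Set G) (H : Set G) := by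
  rw [← mem_orbit_iff', Same, ← orbit_eq_iff, eq_comm]

theorem mem_orbit_iff_same {i j : Fin m} {p : G ⧸ H} (hp : p ∈ orbit H (pnt H (w i))) :
    p ∈ orbit H (pnt H (w j)) ↔ Same H w i j := by
  rw [← orbit_eq_iff, Same, orbit_eq_iff.2 hp]

/-- the number of `h` moving `p` into the orbit number `c`. -/
noncomputable def B (p : G ⧸ H) (c : Fin m) : ℕ :=
  Nat.card {h : H // (t⁻¹ * (h : G)⁻¹) • p ∈ orbit H (pnt H (w c))}

theorem B_smul (g : H) (p : G ⧸ H) (c : Fin m) : B H w t ((g : G) • p) c = B H w t p c := by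
  refine Nat.card_congr
    { toFun := fun h => ⟨g⁻¹ * h.1, ?_⟩
      invFun := fun h => ⟨g * h.1, ?_⟩
      left_inv := fun h => Subtype.ext (mul_inv_cancel_left _ _)
      right_inv := fun h => Subtype.ext (inv_mul_cancel_left _ _) }
  · have h2 := h.2
    rw [← mul_smul] at h2
    have e : t⁻¹ * ((g⁻¹ * h.1 : H) : G)⁻¹ = t⁻¹ * (h.1 : G)⁻¹ * (g : G) := by
      rw [Subgroup.coe_mul, Subgroup.coe_inv]; group
    rw [e]
    exact h2
  · have h2 := h.2
    rw [← mul_smul]
    have e : t⁻¹ * ((g * h.1 : H) : G)⁻¹ * (g : G) = t⁻¹ * (h.1 : G)⁻¹ := by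
      rw [Subgroup.coe_mul]; group
    rw [e]
    exact h2

theorem B_same {i j : Fin m} (h : Same H w i j) (c : Fin m) :
    B H w t (pnt H (w i)) c = B H w t (pnt H (w j)) c := by
  have h1 : pnt H (w j) ∈ orbit H (pnt H (w i)) := by
    rw [h]; exact mem_orbit_self _
  obtain ⟨g, hg⟩ := h1
  have hg' : (g : G) • pnt H (w i) = pnt H (w j) := hg
  rw [← hg', B_smul]

variable (pt : H → Fin n) (N : ℕ) (hpt : ∀ q, Nat.card {h : H // pt h = q} = N)
  (τ : Fin m → Fin n → Fin m)
  (hτ : ∀ i (h : H), w i * h * t ∈ DoubleCoset.doubleCoset (w (τ i (pt h))) (H : Set G) (H : Set G))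

include hτ in
theorem mem_base {i c : Fin m} {h : H} :
    (t⁻¹ * (h : G)⁻¹) • pnt H (w i) ∈ orbit H (pnt H (w c)) ↔ Same H w (τ i (pt h)) c := by
  have h1 : (t⁻¹ * (h : G)⁻¹) • pnt H (w i) = pnt H (w i * h * t) := by
    rw [pnt_smul]
    congr 1
    group
  rw [h1]
  exact mem_orbit_iff_same H w ((mem_orbit_iff' H _ _).2 (hτ i h))

include hpt in
theorem card_pred (hN : 0 < N) (P : Fin n → Prop) :
    Nat.card {h : H // P (pt h)} = Nat.card {q : Fin n // P q} * N := by
  have e : {h : H // P (pt h)} ≃ Σ q : {q : Fin n // P q}, {h : H // pt h = q} :=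
    { toFun := fun h => ⟨⟨pt h.1, h.2⟩, ⟨h.1, rfl⟩⟩
      invFun := fun x => ⟨x.2.1, by rw [x.2.2]; exact x.1.2⟩
      left_inv := fun h => rfl
      right_inv := by
        intro x
        obtain ⟨⟨q, hq⟩, ⟨h, hh⟩⟩ := x
        have hh' : pt h = q := hh
        subst hh'
        rfl }
  have hf : ∀ q : {q : Fin n // P q}, Finite {h : H // pt h = q} := fun q =>
    Nat.finite_of_card_ne_zero (by rw [hpt]; exact hN.ne')
  classical
  rw [Nat.card_congr e, Nat.card_sigma]
  simp only [hpt]
  rw [Finset.sum_const, Finset.card_univ, smul_eq_mul, Nat.card_eq_fintype_card]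

open Classical in
include hpt hτ in
theorem B_base (hN : 0 < N) (k : Fin m → Fin m → ℕ)
    (hk : ∀ i j, (Finset.univ.filter (fun q => τ i q = j)).card = k i j) (i c : Fin m) :
    B H w t (pnt H (w i)) c = (∑ d, k i d * (if Same H w d c then 1 else 0)) * N := by
  have h1 : B H w t (pnt H (w i)) c = Nat.card {h : H // Same H w (τ i (pt h)) c} :=
    Nat.card_congr (Equiv.subtypeEquivRight fun h => mem_base H w t pt τ hτ)
  rw [h1, card_pred H pt N hpt hN (fun q => Same H w (τ i q) c)]
  congr 1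
  rw [Nat.card_eq_fintype_card, Fintype.card_subtype,
    Finset.card_eq_sum_card_fiberwise (f := fun q => τ i q) (t := Finset.univ) (fun _ _ => Finset.mem_coe.2 (Finset.mem_univ _))]
  apply Finset.sum_congr rfl
  intro d _
  rw [Finset.filter_filter]
  split_ifs with hd
  · rw [mul_one, ← hk]
    congr 1
    ext q
    simp only [Finset.mem_filter, Finset.mem_univ, true_and]
    constructor
    · exact fun h => h.2
    · intro h; rw [h]; exact ⟨hd, rfl⟩
  · rw [mul_zero, Finset.card_eq_zero, Finset.filter_eq_empty_iff]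
    rintro q - ⟨h2, h3⟩
    rw [h3] at h2
    exact hd h2

open Classical in
include hpt hτ in
/-- **"Same double coset" is equitable.** -/
theorem equitable (hN : 0 < N) (k : Fin m → Fin m → ℕ)
    (hk : ∀ i j, (Finset.univ.filter (fun q => τ i q = j)).card = k i j) {i j : Fin m}
    (h : Same H w i j) (c : Fin m) :
    ∑ d, k i d * (if Same H w d c then 1 else 0) = ∑ d, k j d * (if Same H w d c then 1 else 0) := by
  have h1 := B_same H w t h c
  rw [B_base H w t pt N hpt τ hτ hN k hk, B_base H w t pt N hpt τ hτ hN k hk] at h1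
  exact Nat.eq_of_mul_eq_mul_right hN h1

end

end Cfsg.Agent.HN.Count
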