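import Cfsg.Agent.HN.Twist
import Cfsg.Agent.HN.FusGen

set_option autoImplicit false

/-!
The involution centraliser is not the isoclinic group `T`.
-/

namespace Cfsg.Agent.HN.Isoclinic

open Cfsg.Agent.HN.Pres Cfsg.Agent.HN.H0Basic Cfsg.Agent.HN.FusGen Cfsg.Agent.HN.Syl Cfsg.Agent.HN.Twist
open Subgroup
open scoped commutatorElement

/-- an automorphism of the Sylow subgroup fixes `bT` -/
theorem aut_bT (σ : (sylT : Subgroup T) ≃* (sylT : Subgroup T)) (b : (sylT : Subgroup T)) (hb : (b : T) = bT) :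
    (σ b : T) = bT := by
  obtain ⟨g1, h1, g2, h2, g3, h3, g4, h4, g5, h5, h⟩ := comm5_eq_T
  let c1 : (sylT : Subgroup T) := ⟨g1, h1⟩
  let c2 : (sylT : Subgroup T) := ⟨g2, h2⟩
  let c3 : (sylT : Subgroup T) := ⟨g3, h3⟩
  let c4 : (sylT : Subgroup T) := ⟨g4, h4⟩
  let c5 : (sylT : Subgroup T) := ⟨g5, h5⟩
  have hb' : b = ⁅⁅⁅⁅c1, c2⁆, c3⁆, c4⁆, c5⁆ := by
    apply Subtype.ext
    rw [hb, ← h]
    rfl
  have h6 : (σ b : T) = ⁅⁅⁅⁅(σ c1 : T), (σ c2 : T)⁆, (σ c3 : T)⁆, (σ c4 : T)⁆, (σ c5 : T)⁆ := by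
    rw [hb', map_commutatorElement, map_commutatorElement, map_commutatorElement, map_commutatorElement]
    rfl
  rcases comm5_T (σ c1).2 (σ c2).2 (σ c3).2 (σ c4).2 (σ c5).2 with h7 | h7
  · exfalso
    rw [h7] at h6
    have h8 : σ b = 1 := Subtype.ext h6
    have h9 : b = 1 := by
      apply σ.injective
      rw [h8, map_one]
    rw [h9] at hb
    exact bT_ne_one hb.symm
  · rw [h6, h7]

variable {G : Type*} [Group G] [Finite G] {φ : T →* G}

theorem not_inK_bT (E : Emb φ τT) : ¬ InK φ τT bT := by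
  refine E.not_inK_of_sylow sylT bT (fun s hs => ?_) ?_
  · rw [bT_eq, ← mul_assoc, aT_comm hs, mul_assoc, τT_comm, ← mul_assoc]
  · intro σ s hs hb
    have h1 := aut_bT σ ⟨bT, bT_mem⟩ rfl
    have h2 : σ s = σ ⟨bT, bT_mem⟩ := Subtype.ext (hb.trans h1.symm)
    have h3 := σ.injective h2
    rw [h3] at hs
    exact bT_ne_τT hs

theorem false_of_emb [IsSimpleGroup G] (E : Emb φ τT) (hnc : ∃ a b : T, a * b ≠ b * a) : False := by
  have hK : ∀ h, InK φ τT h → h = τT ∨ IsConj aT h := by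
    intro h hh
    have h1 := E.sq_of_inK hh
    rcases involution_cases_T (g := h) (by rw [pow_two, h1]) with h2 | h2 | h2 | h2
    · exact absurd h2 (E.ne_one_of_inK hh)
    · exact Or.inl h2
    · exact Or.inr h2
    · exact absurd (hh.conj h2.symm) (not_inK_bT E)
  obtain ⟨h, hh, hne⟩ := E.exists_inK hnc
  have ha : InK φ τT aT := by
    rcases hK h hh with h2 | h2
    · exact absurd h2 hne
    · exact hh.conj h2.symm
  refine E.f4 (a₁ := aT) (a₂ := a2T) a2T_comm.symm (IsConj.refl _) isConj_aT_a2T isConj_aT_mul ha ?_ hK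
  rw [← bT_eq]
  exact not_inK_bT E

end Cfsg.Agent.HN.Isoclinic
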