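import Cfsg.Agent.HN.CoverHS
import Cfsg.Agent.HN.Embed
import Cfsg.Agent.HN.Isoclinic

set_option autoImplicit false

/-!
The involution centraliser of a simple group of Harada–Norton type is `H0`.
-/

namespace Cfsg.Agent.HN.ExistsEmb

open Cfsg.Agent.HN.Pres Cfsg.Agent.HN.HS100 Cfsg.Agent.HN.SignSplit Cfsg.Agent.HN.H0Basic
  Cfsg.Agent.HN.FusGen Cfsg.Agent.HN.Twist Equiv Subgroup

universe u

/-- **The involution centraliser of a simple group of Harada–Norton type.** -/
theorem exists_emb {G : Type u} [Group G] [Finite G] [IsSimpleGroup G] (t : G) (ht : orderOf t = 2)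
    (M : Subgroup (centralizer ({t} : Set G))) (hMn : M.Normal) (hidx : M.index = 2)
    (hout : centralizer (M : Set (centralizer ({t} : Set G))) ≤ M)
    (hcov : Cfsg.IsNonsplitDoubleCover M Cfsg.Spor.HS) :
    ∃ f : H0 →* G, Emb f τ ∧ f τ = t := by
  let t' : centralizer ({t} : Set G) := ⟨t, mem_centralizer_singleton_iff.2 rfl⟩
  have hτ : orderOf t' = 2 := by
    have h1 : orderOf (t' : G) = orderOf t' := orderOf_coe t'
    rw [← h1]
    exact ht
  have hτc : ∀ c : centralizer ({t} : Set G), c * t' = t' * c := fun c =>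
    Subtype.ext (mem_centralizer_singleton_iff.1 c.2)
  obtain ⟨π, hker, hrange, hM⟩ := CoverHS.exists_pi hτ hτc M hMn hidx hout hcov
  rcases Embed.exists_embed t ht M hcov t' rfl π hker hrange hM with ⟨f, hinj, hr, hf, -⟩ |
    ⟨x, y, z, hx, hy, hz, hxx, hcl, hR⟩
  · refine ⟨f, ⟨hinj, ?_, τ_comm, τ_mul_τ, τ_ne_one⟩, hf⟩
    intro g hg
    have h1 : g ∈ f.range := by
      rw [hr, mem_centralizer_singleton_iff, ← hf]
      exact hg
    exact h1
  · exfalso
    have hne : x ^ 2 ≠ 1 := by
      rw [hxx]
      intro h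
      rw [h, orderOf_one] at hτ
      exact absurd hτ (by norm_num)
    obtain ⟨e, hex, -, -⟩ := exists_equiv_T hR hx hy hz hne
      (by rw [hxx, ← pow_two, ← hτ, pow_orderOf_eq_one]) (fun g => by rw [hxx, hτc]) hcl
    have heτ : e τT = t' := by
      have h1 : τT = ofH gx ^ 2 := (sq_even gx_mem).symm
      rw [h1, map_pow, hex, hxx]
    have E : Emb ((centralizer ({t} : Set G)).subtype.comp e.toMonoidHom) τT := by
      refine ⟨Subtype.val_injective.comp e.injective, ?_, τT_comm, ?_, τT_ne_one⟩
      · intro g hg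
        have h1 : ((centralizer ({t} : Set G)).subtype.comp e.toMonoidHom) τT = t := congrArg Subtype.val heτ
        rw [h1] at hg
        refine ⟨e.symm ⟨g, mem_centralizer_singleton_iff.2 hg⟩, ?_⟩
        exact congrArg Subtype.val (e.apply_symm_apply ⟨g, mem_centralizer_singleton_iff.2 hg⟩)
      · rw [← pow_two, τT_sq]
    refine Isoclinic.false_of_emb E ?_
    have h : ∃ a b : H0, a * b ≠ b * a := by
      by_contra hcon
      push Not at hcon
      apply Classes.not_isConj_z_d
      have h1 : ∀ g h : H0, IsConj g h → g = h := by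
        intro g h hgh
        obtain ⟨c, rfl⟩ := isConj_iff.1 hgh
        rw [hcon c g, mul_assoc, mul_inv_cancel, mul_one]
      -- a commutative group: `a2` is conjugate to `a` and `a * a2` is conjugate to `a`
      exfalso
      have h2 := h1 _ _ Classes.isConj_a_a2
      have h3 := h1 _ _ Classes.isConj_a_mul
      rw [← h2] at h3
      exact Classes.a_ne_one (by
        have h4 : Syl.a * Syl.a = Syl.a * 1 := by rw [← h3, mul_one]
        exact mul_left_cancel h4)
    obtain ⟨a, b, hab⟩ := h
    exact ⟨ofH a, ofH b, fun h => hab (comm_iff.1 h)⟩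

end Cfsg.Agent.HN.ExistsEmb
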