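import Cfsg.Agent.HN.FinA56

set_option autoImplicit false

/-!
Step (D) of the Harada–Norton recognition: from `C_G(A₇) ≅ A₅`, `C_G(A₆) ≅ A₆` and an element of
`C_G(A₈)` moving `τ` to `z` to an element `t` of order 5 satisfying the relations of `HN`.
-/

namespace Cfsg.Agent.HN.StepD

open Equiv Cfsg.Agent.HN.FinA56

/-- No group whose order is divisible by 4 and not by 8 has an involution with centraliser of
order two. -/
theorem not_four_dvd {Q : Type*} [Group Q] [Finite Q] {τ : Q} (h2 : τ * τ = 1)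
    (hc : ∀ q : Q, q * τ = τ * q → q = 1 ∨ q = τ) (h8 : ¬ 8 ∣ Nat.card Q) : ¬ 4 ∣ Nat.card Q := by
  classical
  intro h4
  have hp : Fact (Nat.Prime 2) := ⟨Nat.prime_two⟩
  have hz : IsPGroup 2 (Subgroup.zpowers τ) := by
    intro g
    obtain ⟨k, hk⟩ := Subgroup.mem_zpowers_iff.1 g.2
    refine ⟨1, Subtype.ext ?_⟩
    rw [pow_one, Subgroup.coe_pow, ← hk, ← zpow_natCast, ← zpow_mul, mul_comm, zpow_mul, zpow_natCast,
      pow_two, h2, one_zpow]
    rfl
  obtain ⟨P, hP⟩ := hz.exists_le_sylow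
  have hcard : Nat.card P = 2 ^ 2 := by
    rw [P.card_eq_multiplicity]
    congr 1
    refine le_antisymm ?_ ?_
    · by_contra h
      push Not at h
      apply h8
      have := Nat.ordProj_dvd (Nat.card Q) 2
      exact (pow_dvd_pow 2 h).trans this
    · exact (Nat.Prime.pow_dvd_iff_le_factorization Nat.prime_two Nat.card_pos.ne').1 h4
  have hcomm : ∀ a b : P, a * b = b * a := by
    let _ := IsPGroup.commGroupOfCardEqPrimeSq hcard
    exact fun a b => mul_comm a b
  have hτ : τ ∈ P := hP (Subgroup.mem_zpowers τ)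
  have hle : Nat.card P ≤ 2 := by
    have h3 : ∀ a : P, (a : Q) = 1 ∨ (a : Q) = τ := fun a =>
      hc a (congrArg Subtype.val (hcomm a ⟨τ, hτ⟩))
    have h4 : Function.Injective (fun a : P => (decide ((a : Q) = 1) : Bool)) := by
      intro a b hab
      have hab' : ((a : Q) = 1) ↔ ((b : Q) = 1) := decide_eq_decide.1 hab
      rcases h3 a with h | h <;> rcases h3 b with h' | h'
      · exact Subtype.ext (h.trans h'.symm)
      · exact Subtype.ext (h.trans (hab'.1 h).symm)
      · exact Subtype.ext ((hab'.2 h').trans h'.symm)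
      · exact Subtype.ext (h.trans h'.symm)
    exact (Nat.card_le_card_of_injective _ h4).trans (by simp)
  rw [hcard] at hle
  omega

section

variable {G : Type*} [Group G]

/-- transport of a centraliser isomorphism -/
theorem exists_hom {n : ℕ} {D : Subgroup G} (h : Nonempty (D ≃* alternatingGroup (Fin n))) :
    ∃ f : D →* Perm (Fin n), Function.Injective f ∧ ∀ d, Perm.sign (f d) = 1 := by
  obtain ⟨e⟩ := h
  exact ⟨(alternatingGroup (Fin n)).subtype.comp e.toMonoidHom,
    (Subgroup.subtype_injective _).comp e.injective, fun d => (e d).2⟩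

theorem card_A5 {D : Subgroup G} (h : Nonempty (D ≃* alternatingGroup (Fin 5))) :
    Nat.card D = 60 := by
  obtain ⟨e⟩ := h
  rw [Nat.card_congr e.toEquiv, Nat.card_eq_fintype_card]
  rfl

theorem card_A6 {D : Subgroup G} (h : Nonempty (D ≃* alternatingGroup (Fin 6))) :
    Nat.card D = 360 := by
  obtain ⟨e⟩ := h
  have h1 := nat_card_alternatingGroup (α := Fin 6)
  rw [Nat.card_congr e.toEquiv, h1, Nat.card_eq_fintype_card, Fintype.card_fin]
  rfl

/-- a subgroup of `A₅` has no index two. -/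
theorem card_ne_30 {D E : Subgroup G} (h : Nonempty (D ≃* alternatingGroup (Fin 5)))
    (hE : E ≤ D) : Nat.card E ≠ 30 := by
  intro h30
  obtain ⟨e⟩ := h
  have hD := card_A5 ⟨e⟩
  have hfin : Finite D := Nat.finite_of_card_ne_zero (by rw [hD]; norm_num)
  have hcard : Nat.card (E.subgroupOf D) = 30 := by
    rw [← h30]
    exact Nat.card_congr (Subgroup.subgroupOfEquivOfLe hE).toEquiv
  have hidx : (E.subgroupOf D).index = 2 := by
    have h1 := (E.subgroupOf D).card_mul_index
    rw [hcard, hD] at h1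
    omega
  have hn : (E.subgroupOf D).Normal := Subgroup.normal_of_index_eq_two hidx
  have hs : IsSimpleGroup D := by
    have : Nontrivial D := by
      rw [← Finite.one_lt_card_iff_nontrivial, hD]
      norm_num
    exact IsSimpleGroup.isSimpleGroup_of_surjective e.symm.toMonoidHom e.symm.surjective
  rcases hn.eq_bot_or_eq_top with h1 | h1
  · rw [h1, Subgroup.card_bot] at hcard
    norm_num at hcard
  · rw [h1, Subgroup.index_top] at hidx
    norm_num at hidx

theorem eq_one_of_35 {a : G} (h3 : a ^ 3 = 1) (h5 : a ^ 5 = 1) : a = 1 := by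
  calc a = (a ^ 3) ^ 2 * (a ^ 5)⁻¹ := by group
    _ = 1 := by rw [h3, h5]; group

/-- In a group of order 10 with an involution having centraliser of order two. -/
theorem order_ten {E : Subgroup G} [Finite E] (hE : Nat.card E = 10) {τ : G} (hτE : τ ∈ E)
    (h2 : τ * τ = 1) (hc : ∀ q ∈ E, q * τ = τ * q → q = 1 ∨ q = τ) :
    ∃ t ∈ E, t ≠ 1 ∧ t * t * t * t * t = 1 ∧ τ * t * τ * t = 1 ∧
      ∀ s ∈ E, s * s * s * s * s = 1 → ∃ k : ℕ, k < 5 ∧ s = t ^ k := by
  have hp : Fact (Nat.Prime 5) := ⟨by norm_num⟩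
  obtain ⟨t, ht⟩ := exists_prime_orderOf_dvd_card' (G := E) 5 (by rw [hE]; norm_num)
  have ht5 : (t : G) ^ 5 = 1 := by
    have h := pow_orderOf_eq_one t
    rw [ht] at h
    exact congrArg Subtype.val h
  have ht1 : (t : G) ≠ 1 := by
    intro h
    have : t = 1 := Subtype.ext h
    rw [this, orderOf_one] at ht
    norm_num at ht
  have hidx : (Subgroup.zpowers t).index = 2 := by
    have h1 := (Subgroup.zpowers t).card_mul_index
    rw [Nat.card_zpowers, ht, hE] at h1
    omega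
  have key : ∀ s ∈ E, s * s * s * s * s = 1 → ∃ k : ℕ, k < 5 ∧ s = (t : G) ^ k := by
    intro s hs hs5
    have h1 := Subgroup.sq_mem_of_index_two hidx ⟨s, hs⟩
    have h2 : (⟨s, hs⟩ : E) ∈ Subgroup.zpowers t := by
      have h3 := Subgroup.pow_mem _ h1 3
      have h4 : ((⟨s, hs⟩ : E) ^ 2) ^ 3 = ⟨s, hs⟩ := by
        apply Subtype.ext
        change (s ^ 2) ^ 3 = s
        calc (s ^ 2) ^ 3 = (s * s * s * s * s) * s := by
              simp only [pow_succ, pow_zero, one_mul, mul_assoc]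
          _ = s := by rw [hs5, one_mul]
      rwa [h4] at h3
    obtain ⟨k, hk⟩ := Subgroup.mem_zpowers_iff.1 h2
    have h6 : 0 ≤ k % 5 := Int.emod_nonneg k (by norm_num)
    have h7 : k % 5 < 5 := Int.emod_lt_of_pos k (by norm_num)
    refine ⟨(k % 5).toNat, by omega, ?_⟩
    have h8 : t ^ (k % 5) = ⟨s, hs⟩ := by
      rw [← hk, ← zpow_mod_orderOf t k, ht]
      rfl
    have h9 : t ^ (k % 5).toNat = ⟨s, hs⟩ := by
      rw [← h8, ← zpow_natCast, Int.toNat_of_nonneg h6]
    exact (congrArg Subtype.val h9).symm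
  have ht5' : (t : G) * t * t * t * t = 1 := by
    rw [← ht5]
    simp only [pow_succ, pow_zero, one_mul, mul_assoc]
  refine ⟨t, t.2, ht1, ht5', ?_, key⟩
  have hττ : τ⁻¹ = τ := inv_eq_of_mul_eq_one_left h2
  have h3 : τ * t * τ ∈ E := E.mul_mem (E.mul_mem hτE t.2) hτE
  have h4 : ∀ k : ℕ, τ * (t : G) ^ k * τ = (τ * t * τ) ^ k := by
    intro k
    have h5 := conj_pow (i := k) (a := τ) (b := (t : G))
    rw [hττ] at h5
    exact h5.symm
  obtain ⟨k, hk, hk'⟩ := key _ h3 (by
    have h5 := h4 5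
    rw [ht5, mul_one, h2] at h5
    rw [h5]
    simp only [pow_succ, pow_zero, one_mul])
  -- `k² ≡ 1`
  have h6 : (t : G) = t ^ (k * k) := by
    calc (t : G) = τ * (τ * t * τ) * τ := by
          rw [← mul_assoc, ← mul_assoc, h2, one_mul, mul_assoc, h2, mul_one]
      _ = τ * (t : G) ^ k * τ := by rw [hk']
      _ = (τ * t * τ) ^ k := h4 k
      _ = ((t : G) ^ k) ^ k := by rw [hk']
      _ = t ^ (k * k) := by rw [pow_mul]
  have h7 : ∀ m : ℕ, (t : G) ^ (m % 5) = t ^ m := by
    intro m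
    conv_rhs => rw [← Nat.mod_add_div m 5, pow_add, pow_mul, ht5, one_pow, mul_one]
  have h8 : k = 4 := by
    interval_cases k
    · exact absurd (by simpa using h6) ht1
    · exfalso
      rw [pow_one] at hk'
      have h9 := hc t t.2 (by
        calc (t : G) * τ = (τ * t * τ) * τ := by rw [hk']
          _ = τ * t := by rw [mul_assoc, h2, mul_one])
      rcases h9 with h9 | h9
      · exact ht1 h9
      · apply ht1
        have h10 : (t : G) * t = 1 := by rw [h9]; exact h2
        rw [h10, one_mul, h10, one_mul] at ht5'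
        exact ht5'
    · exfalso
      have h9 : (t : G) ^ 3 = 1 := by
        have : (t : G) * 1 = t * t ^ 3 := by
          rw [mul_one]
          exact h6.trans (by rw [← pow_succ'])
        exact (mul_left_cancel this).symm
      apply ht1
      exact eq_one_of_35 h9 ht5
    · exfalso
      have h9 : (t : G) ^ 3 = 1 := by
        have h10 : (t : G) ^ 8 = 1 := by
          have : (t : G) * 1 = t * t ^ 8 := by
            rw [mul_one]
            exact h6.trans (by rw [← pow_succ'])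
          exact (mul_left_cancel this).symm
        have h11 := h7 8
        rw [h10] at h11
        exact h11
      apply ht1
      exact eq_one_of_35 h9 ht5
    · rfl
  rw [hk', h8, ← pow_succ, ht5]

theorem card_mul_relIndex' {H K : Subgroup G} (h : H ≤ K) :
    Nat.card H * H.relIndex K = Nat.card K := by
  have h1 := Subgroup.relIndex_mul_relIndex ⊥ H K bot_le h
  rwa [Subgroup.relIndex_bot_left, Subgroup.relIndex_bot_left] at h1

/-- The product formula as an inequality. -/
theorem card_inf_ge [Finite G] {D E K : Subgroup G} (hD : D ≤ K) (hE : E ≤ K) :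
    Nat.card D * Nat.card E ≤ Nat.card K * Nat.card (D ⊓ E : Subgroup G) := by
  have h1 := card_mul_relIndex' hD
  have h2 := card_mul_relIndex' (inf_le_right : D ⊓ E ≤ E)
  rw [Subgroup.inf_relIndex_right] at h2
  have h3 : D.relIndex E ≤ D.relIndex K := by
    refine Subgroup.relIndex_le_of_le_right hE ?_
    intro h0
    rw [h0, mul_zero] at h1
    exact absurd h1.symm Nat.card_pos.ne'
  calc Nat.card D * Nat.card E = Nat.card D * (Nat.card (D ⊓ E : Subgroup G) * D.relIndex E) := by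
        rw [h2]
    _ ≤ Nat.card D * (Nat.card (D ⊓ E : Subgroup G) * D.relIndex K) := by gcongr
    _ = (Nat.card D * D.relIndex K) * Nat.card (D ⊓ E : Subgroup G) := by ring
    _ = Nat.card K * Nat.card (D ⊓ E : Subgroup G) := by rw [h1]

/-- The centraliser of an involution in `A₅`. -/
theorem cent_in_A5 {D : Subgroup G} (h : Nonempty (D ≃* alternatingGroup (Fin 5))) {τ z d : G}
    (hτD : τ ∈ D) (hzD : z ∈ D) (hdD : d ∈ D) (hτ : τ * τ = 1) (hτ1 : τ ≠ 1) (hz1 : z ≠ 1)
    (hzτ : z ≠ τ) (hzc : z * τ = τ * z) (hdc : d * τ = τ * d) :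
    d = 1 ∨ d = τ ∨ d = z ∨ d = z * τ := by
  obtain ⟨f, hf, hs⟩ := exists_hom h
  have inj : ∀ {a b : G} (ha : a ∈ D) (hb : b ∈ D), f ⟨a, ha⟩ = f ⟨b, hb⟩ → a = b :=
    fun ha hb h => congrArg Subtype.val (hf h)
  have m : ∀ {a b : G} (ha : a ∈ D) (hb : b ∈ D),
      f ⟨a, ha⟩ * f ⟨b, hb⟩ = f ⟨a * b, D.mul_mem ha hb⟩ := fun ha hb => (map_mul f _ _).symm
  have one : f ⟨1, D.one_mem⟩ = 1 := map_one f
  have h1 := a5_cent (τ := f ⟨τ, hτD⟩) (z := f ⟨z, hzD⟩) (h := f ⟨d, hdD⟩)
    (by rw [m, ← one]; congr 1; exact Subtype.ext hτ)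
    (fun h => hτ1 (inj hτD D.one_mem (h.trans one.symm))) (hs _)
    (fun h => hz1 (inj hzD D.one_mem (h.trans one.symm)))
    (fun h => hzτ (inj hzD hτD h))
    (by rw [m, m]; congr 1; exact Subtype.ext hzc) (hs _)
    (by rw [m, m]; congr 1; exact Subtype.ext hdc) (hs _)
  rcases h1 with h1 | h1 | h1 | h1
  · exact Or.inl (inj hdD D.one_mem (h1.trans one.symm))
  · exact Or.inr (Or.inl (inj hdD hτD h1))
  · exact Or.inr (Or.inr (Or.inl (inj hdD hzD h1)))
  · refine Or.inr (Or.inr (Or.inr (inj hdD (D.mul_mem hzD hτD) ?_)))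
    rw [h1, m]

/-- The relations of `τ, z, t` in `A₅`. -/
theorem rel_in_A5 {D : Subgroup G} (h : Nonempty (D ≃* alternatingGroup (Fin 5))) {τ z t : G}
    (hτD : τ ∈ D) (hzD : z ∈ D) (htD : t ∈ D) (hτ : τ * τ = 1) (hτ1 : τ ≠ 1) (hz1 : z ≠ 1)
    (hzτ : z ≠ τ) (hzc : z * τ = τ * z) (ht : τ * t * τ * t = 1) (ht5 : t * t * t * t * t = 1)
    (ht1 : t ≠ 1) :
    (z * t * (z * t) * (z * t) = 1 ∨ z * (t * t) * (z * (t * t)) * (z * (t * t)) = 1) ∧
      (z * t * (z * t) * (z * t) = 1 → t * t * z * t⁻¹ * τ * t * z * t⁻¹ * t⁻¹ = z) := by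
  obtain ⟨f, hf, hs⟩ := exists_hom h
  set τ' : D := ⟨τ, hτD⟩
  set z' : D := ⟨z, hzD⟩
  set t' : D := ⟨t, htD⟩
  have one : ∀ a : D, f a = 1 ↔ (a : G) = 1 := by
    intro a
    constructor
    · intro h
      have h1 : a = 1 := hf (h.trans (map_one f).symm)
      rw [h1]
      rfl
    · intro h
      have h1 : a = 1 := Subtype.ext h
      rw [h1, map_one]
  have h1 := a5_main (τ := f τ') (z := f z') (t := f t')
    (by rw [← map_mul, one]; exact hτ)
    (fun h => hτ1 ((one _).1 h)) (hs _) (fun h => hz1 ((one _).1 h))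
    (fun h => hzτ (congrArg Subtype.val (hf h)))
    (by rw [← map_mul, ← map_mul]; congr 1; exact Subtype.ext hzc) (hs _)
    (by simp only [← map_mul]; rw [one]; exact ht)
    (by simp only [← map_mul]; rw [one]; exact ht5)
    (fun h => ht1 ((one _).1 h))
  refine ⟨?_, fun h3 => ?_⟩
  · rcases h1.1 with h4 | h4
    · left
      simp only [← map_mul] at h4
      exact (one _).1 h4
    · right
      simp only [← map_mul] at h4
      exact (one _).1 h4
  · have h4 := h1.2 (by simp only [← map_mul]; rw [one]; exact h3)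
    simp only [← map_mul, ← map_inv] at h4
    exact congrArg Subtype.val (hf h4)

/-- The relation of `τ, z, u, t` in `A₆`. -/
theorem rel_in_A6 {K : Subgroup G} (h : Nonempty (K ≃* alternatingGroup (Fin 6))) {τ z u t : G}
    (hτK : τ ∈ K) (hzK : z ∈ K) (huK : u ∈ K) (htK : t ∈ K) (hτ : τ * τ = 1) (hτ1 : τ ≠ 1)
    (hz2 : z * z = 1) (hu2 : u * u = 1)
    (hzc : z * τ = τ * z) (huc : u * τ = τ * u) (huz : (u * z) * (u * z) = τ)
    (ht : τ * t * τ * t = 1) (ht5 : t * t * t * t * t = 1)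
    (hzt : z * t * (z * t) * (z * t) = 1) (hut : u * t * (u * t) * (u * t) = 1) :
    t * z * (t * t * t) * z * u * (t * t * t * t) * u * z * u * (t * t * t) * u * z = 1 := by
  obtain ⟨f, hf, hs⟩ := exists_hom h
  set τ' : K := ⟨τ, hτK⟩
  set z' : K := ⟨z, hzK⟩
  set u' : K := ⟨u, huK⟩
  set t' : K := ⟨t, htK⟩
  have one : ∀ a : K, f a = 1 ↔ (a : G) = 1 := by
    intro a
    constructor
    · intro h
      have h1 : a = 1 := hf (h.trans (map_one f).symm)
      rw [h1]
      rfl
    · intro h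
      have h1 : a = 1 := Subtype.ext h
      rw [h1, map_one]
  have h1 := a6_main (τ := f τ') (z := f z') (u := f u') (t := f t')
    (by rw [← map_mul, one]; exact hτ)
    (fun h => hτ1 ((one _).1 h)) (hs _)
    (by rw [← map_mul, one]; exact hz2) (by rw [← map_mul, one]; exact hu2) (hs _) (hs _)
    (by rw [← map_mul, ← map_mul]; congr 1; exact Subtype.ext hzc)
    (by rw [← map_mul, ← map_mul]; congr 1; exact Subtype.ext huc)
    (by simp only [← map_mul]; congr 1; exact Subtype.ext huz)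
    (by simp only [← map_mul]; rw [one]; exact ht)
    (by simp only [← map_mul]; rw [one]; exact ht5)
    (by simp only [← map_mul]; rw [one]; exact hzt)
    (by simp only [← map_mul]; rw [one]; exact hut)
  simp only [← map_mul] at h1
  exact (one _).1 h1

/-- The purely algebraic final contradiction. -/
theorem sign_aux {z s : G} (hz2 : z * z = 1) (hs5 : s * s * s * s * s = 1)
    (h : s⁻¹ * z * (s * s) = s * z * s⁻¹ * s⁻¹) : s = 1 := by
  have hz : z⁻¹ = z := inv_eq_of_mul_eq_one_left hz2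
  have h5 : s ^ 5 = 1 := by
    rw [← hs5]
    simp only [pow_succ, pow_zero, one_mul]
  have h4 : s * s * s * s = s⁻¹ := by
    rw [eq_inv_iff_mul_eq_one]
    exact hs5
  have h1 : s * s = z * s⁻¹ * z := by
    have h2 : z * (s * s * s * s) = s * s * z := by
      calc z * (s * s * s * s) = s * (s⁻¹ * z * (s * s)) * (s * s) := by group
        _ = s * (s * z * s⁻¹ * s⁻¹) * (s * s) := by rw [h]
        _ = s * s * z := by group
    rw [h4] at h2
    calc s * s = s * s * z * z⁻¹ := by group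
      _ = z * s⁻¹ * z⁻¹ := by rw [← h2]
      _ = z * s⁻¹ * z := by rw [hz]
  have h2 : s⁻¹ * s⁻¹ = z * s * z := by
    calc s⁻¹ * s⁻¹ = (s * s)⁻¹ := by group
      _ = (z * s⁻¹ * z)⁻¹ := by rw [h1]
      _ = z⁻¹ * s * z⁻¹ := by group
      _ = z * s * z := by rw [hz]
  have h3 : s * s * s * s = s := by
    calc s * s * s * s = (s * s) * (s * s) := by group
      _ = (z * s⁻¹ * z) * (z * s⁻¹ * z) := by rw [h1]
      _ = z * s⁻¹ * (z * z) * s⁻¹ * z := by group
      _ = z * (s⁻¹ * s⁻¹) * z := by rw [hz2]; group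
      _ = (z * z) * s * (z * z) := by rw [h2]; group
      _ = s := by rw [hz2]; group
  have h6 : s ^ 3 = 1 := by
    have h7 : s ^ 3 * s = 1 * s := by
      rw [one_mul, ← pow_succ]
      calc s ^ 4 = s * s * s * s := by simp only [pow_succ, pow_zero, one_mul]
        _ = s := h3
    exact mul_right_cancel h7
  exact eq_one_of_35 h6 h5

/-- **Step (D).** -/
theorem exists_t [Finite G] {x y z c u g a1 a2 a3 τ : G}
    (hx2 : x * x = τ) (hτ2 : τ * τ = 1) (hτ1 : τ ≠ 1) (hz2 : z * z = 1) (hz1 : z ≠ 1)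
    (hzτ : z ≠ τ) (hτz : z * τ = τ * z) (hτ1' : a1 * τ = τ * a1) (hτ2' : a2 * τ = τ * a2)
    (hτ3' : a3 * τ = τ * a3) (hτc : c * τ = τ * c)
    (hza1 : a1 * z = z * a1) (hza2 : a2 * z = z * a2) (hza3 : a3 * z = z * a3)
    (hu : u = c⁻¹ * z * c) (huz : (u * z) * (u * z) = τ) (hg : g = x⁻¹ * u * z)
    (hgz : g * z = z * g)
    (hca1 : c * a1 * c⁻¹ ∈ Subgroup.closure ({a1, a2, a3} : Set G))
    (hca2 : c * a2 * c⁻¹ ∈ Subgroup.closure ({a1, a2, a3} : Set G))
    (hy : y ∈ Subgroup.closure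
      ({a1, a2, a3, c⁻¹ * a1 * c, c⁻¹ * a2 * c, c⁻¹ * a3 * c} : Set G))
    (hyx : x⁻¹ * y * x ∈ Subgroup.closure
      ({a1, a2, a3, c⁻¹ * a1 * c, c⁻¹ * a2 * c, c⁻¹ * a3 * c} : Set G))
    (ha1U : a1 ∈ Subgroup.closure ({y, x⁻¹ * y * x} : Set G))
    (ha2U : a2 ∈ Subgroup.closure ({y, x⁻¹ * y * x} : Set G))
    (ha3U : a3 ∈ Subgroup.closure ({y, x⁻¹ * y * x} : Set G))
    (hcU : c ∈ Subgroup.closure ({y, x⁻¹ * y * x} : Set G))
    (hyτ : y * τ = τ * y)
    (hD : Nonempty (Subgroup.centralizer ({a1, a2, a3} : Set G) ≃* alternatingGroup (Fin 5)))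
    (hK : Nonempty (Subgroup.centralizer ({a1, a2} : Set G) ≃* alternatingGroup (Fin 6)))
    (hr : ∃ r ∈ Subgroup.centralizer ({a1, a2, a3, g} : Set G), r⁻¹ * τ * r = z) :
    ∃ t : G, t ≠ 1 ∧ t * t * t * t * t = 1 ∧ t * y = y * t ∧ x⁻¹ * t * x * (t * t) = 1 ∧
      z * t * (z * t) * (z * t) = 1 ∧ τ * t * τ * t = 1 := by
  set D := Subgroup.centralizer ({a1, a2, a3} : Set G) with hDdef
  set K := Subgroup.centralizer ({a1, a2} : Set G) with hKdef
  set U := Subgroup.closure ({y, x⁻¹ * y * x} : Set G) with hUdef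
  have memD : ∀ d : G, d ∈ D ↔ a1 * d = d * a1 ∧ a2 * d = d * a2 ∧ a3 * d = d * a3 := by
    intro d
    rw [hDdef, Subgroup.mem_centralizer_iff]
    simp
  have memK : ∀ d : G, d ∈ K ↔ a1 * d = d * a1 ∧ a2 * d = d * a2 := by
    intro d
    rw [hKdef, Subgroup.mem_centralizer_iff]
    simp
  have hττ : τ⁻¹ = τ := inv_eq_of_mul_eq_one_left hτ2
  have hzz : z⁻¹ = z := inv_eq_of_mul_eq_one_left hz2
  have hτD : τ ∈ D := (memD τ).2 ⟨hτ1', hτ2', hτ3'⟩
  have hzD : z ∈ D := (memD z).2 ⟨hza1, hza2, hza3⟩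
  have hDK : D ≤ K := fun d hd => (memK d).2 ⟨((memD d).1 hd).1, ((memD d).1 hd).2.1⟩
  -- elements of the closure of `a1, a2, a3` commute with `D`
  have hcomm : ∀ s ∈ Subgroup.closure ({a1, a2, a3} : Set G), ∀ d ∈ D, s * d = d * s := by
    intro s hs d hd
    have h1 : D = Subgroup.centralizer (Subgroup.closure ({a1, a2, a3} : Set G) : Set G) :=
      (Subgroup.centralizer_closure _).symm
    rw [h1, Subgroup.mem_centralizer_iff] at hd
    exact hd s hs
  -- the conjugate
  set D' := D.map (MulAut.conj c⁻¹).toMonoidHom with hD'def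
  have memD' : ∀ d : G, d ∈ D' ↔ c * d * c⁻¹ ∈ D := by
    intro d
    rw [hD'def, Subgroup.mem_map]
    constructor
    · rintro ⟨e, he, rfl⟩
      simp only [MulEquiv.coe_toMonoidHom, MulAut.conj_apply, inv_inv]
      have : c * (c⁻¹ * e * c) * c⁻¹ = e := by group
      rw [this]
      exact he
    · intro h
      refine ⟨_, h, ?_⟩
      simp only [MulEquiv.coe_toMonoidHom, MulAut.conj_apply, inv_inv]
      group
  have hD'K : D' ≤ K := by
    intro d hd
    rw [memD'] at hd
    have h1 := hcomm _ hca1 _ hd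
    have h2 := hcomm _ hca2 _ hd
    rw [memK]
    constructor
    · calc a1 * d = c⁻¹ * ((c * a1 * c⁻¹) * (c * d * c⁻¹)) * c := by group
        _ = c⁻¹ * ((c * d * c⁻¹) * (c * a1 * c⁻¹)) * c := by rw [h1]
        _ = d * a1 := by group
    · calc a2 * d = c⁻¹ * ((c * a2 * c⁻¹) * (c * d * c⁻¹)) * c := by group
        _ = c⁻¹ * ((c * d * c⁻¹) * (c * a2 * c⁻¹)) * c := by rw [h2]
        _ = d * a2 := by group
  have cardD : Nat.card D = 60 := card_A5 hD
  have cardD' : Nat.card D' = 60 := by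
    rw [hD'def, Subgroup.card_map_of_injective (MulAut.conj c⁻¹).injective, cardD]
  have cardK : Nat.card K = 360 := card_A6 hK
  set E := D ⊓ D' with hEdef
  have hτD' : τ ∈ D' := by
    rw [memD', hτc, mul_inv_cancel_right]
    exact hτD
  have hτE : τ ∈ E := ⟨hτD, hτD'⟩
  have cardE : 10 ≤ Nat.card E := by
    have h1 := card_inf_ge hDK hD'K
    rw [cardD, cardD', cardK, ← hEdef] at h1
    omega
  have cardE' : Nat.card E ∣ 60 := by
    rw [← cardD]
    exact Subgroup.card_dvd_of_le inf_le_left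
  -- `u ≠ z, zτ`
  have huD' : u ∈ D' := by
    rw [memD', hu]
    have : c * (c⁻¹ * z * c) * c⁻¹ = z := by group
    rw [this]
    exact hzD
  have hu2 : u * u = 1 := by
    rw [hu]
    calc c⁻¹ * z * c * (c⁻¹ * z * c) = c⁻¹ * (z * z) * c := by group
      _ = 1 := by rw [hz2]; group
  have huτ : u * τ = τ * u := by
    rw [hu]
    calc c⁻¹ * z * c * τ = c⁻¹ * z * (c * τ) := by group
      _ = c⁻¹ * (z * τ) * c := by rw [hτc]; group
      _ = c⁻¹ * τ * z * c := by rw [hτz]; group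
      _ = (c⁻¹ * τ * c) * (c⁻¹ * z * c) := by group
      _ = (c⁻¹ * (τ * c)) * (c⁻¹ * z * c) := by group
      _ = τ * (c⁻¹ * z * c) := by rw [← hτc]; group
  have hu1 : u ≠ 1 := by
    intro h
    apply hτ1
    rw [← huz, h, one_mul, hz2]
  have hunτ : u ≠ τ := by
    intro h
    apply hτ1
    rw [← huz, h]
    calc τ * z * (τ * z) = τ * (z * τ) * z := by group
      _ = (τ * τ) * (z * z) := by rw [hτz]; group
      _ = 1 := by rw [hτ2, hz2, one_mul]
  have hD'5 : Nonempty (D' ≃* alternatingGroup (Fin 5)) := by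
    obtain ⟨e⟩ := hD
    exact ⟨(D.equivMapOfInjective _ (MulAut.conj c⁻¹).injective).symm.trans e⟩
  have hcE : ∀ q ∈ E, q * τ = τ * q → q = 1 ∨ q = τ := by
    intro q hq hqτ
    have h1 := cent_in_A5 hD hτD hzD hq.1 hτ2 hτ1 hz1 hzτ hτz hqτ
    have h2 := cent_in_A5 hD'5 hτD' huD' hq.2 hτ2 hτ1 hu1 hunτ huτ hqτ
    have e1 : z ≠ u := by
      intro h
      apply hτ1
      rw [← huz, ← h, hz2, one_mul]
    have e2 : z ≠ u * τ := by
      intro h
      apply hτ1
      have h3 : u * z = τ := by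
        rw [h, ← mul_assoc, hu2, one_mul]
      rw [← huz, h3, hτ2]
    rcases h1 with h1 | h1 | h1 | h1
    · exact Or.inl h1
    · exact Or.inr h1
    · exfalso
      rcases h2 with h2 | h2 | h2 | h2
      · exact hz1 (h1.symm.trans h2)
      · exact hzτ (h1.symm.trans h2)
      · exact e1 (h1.symm.trans h2)
      · exact e2 (h1.symm.trans h2)
    · exfalso
      have h3 := h1.symm
      rcases h2 with h2 | h2 | h2 | h2
      · have h4 : z * τ = 1 := h3.trans h2
        apply hzτ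
        rw [← hττ]
        exact eq_inv_of_mul_eq_one_left h4
      · have h4 : z * τ = τ := h3.trans h2
        exact hz1 (mul_eq_right.1 h4)
      · have h4 : z * τ = u := h3.trans h2
        apply e2
        rw [← h4, mul_assoc, hτ2, mul_one]
      · have h4 : z * τ = u * τ := h3.trans h2
        exact e1 (mul_right_cancel h4)
  have hEfin : Finite E := inferInstance
  have card10 : Nat.card E = 10 := by
    have h1 : ¬ 4 ∣ Nat.card E := by
      refine not_four_dvd (τ := (⟨τ, hτE⟩ : E)) (Subtype.ext hτ2) ?_ ?_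
      · intro q hq
        rcases hcE q q.2 (congrArg Subtype.val hq) with h | h
        · exact Or.inl (Subtype.ext h)
        · exact Or.inr (Subtype.ext h)
      · intro h8
        have := h8.trans cardE'
        omega
    have h2 : 2 ∣ Nat.card E := by
      have h3 : orderOf (⟨τ, hτE⟩ : E) = 2 := by
        refine orderOf_eq_prime ?_ ?_
        · rw [pow_two]
          exact Subtype.ext hτ2
        · intro h
          exact hτ1 (congrArg Subtype.val h)
      rw [← h3]
      exact orderOf_dvd_natCard _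
    have h3 : Nat.card E ≠ 30 := card_ne_30 hD inf_le_left
    have h4 : Nat.card E ≤ 60 := Nat.le_of_dvd (by norm_num) cardE'
    generalize Nat.card E = n at *
    interval_cases n <;> omega
  obtain ⟨t0, ht0E, ht01, ht05, ht0τ, ht0k⟩ := order_ten card10 hτE hτ2 hcE
  -- the centraliser of `U` is `E`
  have memE : ∀ e : G, e ∈ E ↔ ∀ v ∈ U, v * e = e * v := by
    intro e
    constructor
    · intro he0
      obtain ⟨he, he'⟩ : e ∈ D ∧ e ∈ D' := he0
      have h1 : ∀ v ∈ Subgroup.closure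
          ({a1, a2, a3, c⁻¹ * a1 * c, c⁻¹ * a2 * c, c⁻¹ * a3 * c} : Set G), v * e = e * v := by
        intro v hv
        have h2 : e ∈ Subgroup.centralizer (Subgroup.closure
          ({a1, a2, a3, c⁻¹ * a1 * c, c⁻¹ * a2 * c, c⁻¹ * a3 * c} : Set G) : Set G) := by
          rw [Subgroup.centralizer_closure, Subgroup.mem_centralizer_iff]
          rw [memD'] at he'
          have h3 := (memD _).1 he
          have h4 := (memD _).1 he'
          have h5 : ∀ a : G, a * (c * e * c⁻¹) = (c * e * c⁻¹) * a →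
              (c⁻¹ * a * c) * e = e * (c⁻¹ * a * c) := by
            intro a ha
            calc (c⁻¹ * a * c) * e = c⁻¹ * (a * (c * e * c⁻¹)) * c := by group
              _ = c⁻¹ * ((c * e * c⁻¹) * a) * c := by rw [ha]
              _ = e * (c⁻¹ * a * c) := by group
          intro h hh
          simp only [Set.mem_insert_iff, Set.mem_singleton_iff] at hh
          rcases hh with rfl | rfl | rfl | rfl | rfl | rfl
          · exact h3.1
          · exact h3.2.1
          · exact h3.2.2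
          · exact h5 _ h4.1
          · exact h5 _ h4.2.1
          · exact h5 _ h4.2.2
        rw [Subgroup.mem_centralizer_iff] at h2
        exact h2 v hv
      have h2 : e ∈ Subgroup.centralizer (U : Set G) := by
        rw [hUdef, Subgroup.centralizer_closure, Subgroup.mem_centralizer_iff]
        intro h hh
        simp only [Set.mem_insert_iff, Set.mem_singleton_iff] at hh
        rcases hh with rfl | rfl
        · exact h1 _ hy
        · exact h1 _ hyx
      rw [Subgroup.mem_centralizer_iff] at h2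
      exact h2
    · intro h
      have hc := h c hcU
      have h1 := h a1 ha1U
      have h2 := h a2 ha2U
      have h3 := h a3 ha3U
      have he : e ∈ D := (memD e).2 ⟨h1, h2, h3⟩
      refine ⟨he, (memD' e).2 ?_⟩
      rw [hc, mul_inv_cancel_right]
      exact he
  -- `x` normalises `E`
  have hxE : ∀ e ∈ E, x⁻¹ * e * x ∈ E := by
    intro e he
    have h1 := (memE e).1 he
    have hyy : y ∈ U := Subgroup.subset_closure (by simp)
    have hyy' : x⁻¹ * y * x ∈ U := Subgroup.subset_closure (by simp)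
    rw [memE]
    have h2 : x⁻¹ * e * x ∈ Subgroup.centralizer (U : Set G) := by
      rw [hUdef, Subgroup.centralizer_closure, Subgroup.mem_centralizer_iff]
      intro h hh
      simp only [Set.mem_insert_iff, Set.mem_singleton_iff] at hh
      rcases hh with rfl | rfl
      · -- `y = x⁻¹ (x⁻¹ y x) x` up to `τ`
        have h3 := h1 _ hyy'
        have h4 : h = x⁻¹ * (x⁻¹ * h * x) * x := by
          calc h = τ⁻¹ * (τ * h) := by group
            _ = τ⁻¹ * (h * τ) := by rw [hyτ]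
            _ = x⁻¹ * (x⁻¹ * h * x) * x := by rw [← hx2]; group
        calc h * (x⁻¹ * e * x) = x⁻¹ * (x⁻¹ * h * x) * x * (x⁻¹ * e * x) := by rw [← h4]
          _ = x⁻¹ * ((x⁻¹ * h * x) * e) * x := by group
          _ = x⁻¹ * (e * (x⁻¹ * h * x)) * x := by rw [h3]
          _ = (x⁻¹ * e * x) * (x⁻¹ * (x⁻¹ * h * x) * x) := by group
          _ = (x⁻¹ * e * x) * h := by rw [← h4]
      · have h3 := h1 _ hyy
        calc (x⁻¹ * y * x) * (x⁻¹ * e * x) = x⁻¹ * (y * e) * x := by group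
          _ = x⁻¹ * (e * y) * x := by rw [h3]
          _ = (x⁻¹ * e * x) * (x⁻¹ * y * x) := by group
    rw [Subgroup.mem_centralizer_iff] at h2
    exact h2
  have hgτ : g * τ = τ * g := by
    have hxτ : x⁻¹ * τ = τ * x⁻¹ := by
      rw [← hx2]
      group
    rw [hg]
    calc x⁻¹ * u * z * τ = x⁻¹ * u * (z * τ) := by group
      _ = x⁻¹ * (u * τ) * z := by rw [hτz]; group
      _ = (x⁻¹ * τ) * u * z := by rw [huτ]; group
      _ = τ * (x⁻¹ * u * z) := by rw [hxτ]; group
  have hyy : y ∈ U := Subgroup.subset_closure (by simp)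
  -- the sign
  have sign : ∀ t ∈ E, t ≠ 1 → t * t * t * t * t = 1 → τ * t * τ * t = 1 →
      z * t * (z * t) * (z * t) = 1 → x⁻¹ * t * x = t * t → False := by
    intro t ht ht1 ht5 htτ hzt hxt
    have htU := (memE t).1 ht
    have hct : c * t = t * c := htU c hcU
    have hut : u * t * (u * t) * (u * t) = 1 := by
      rw [hu]
      have e1 : c⁻¹ * z * c * t = c⁻¹ * (z * t) * c := by
        calc c⁻¹ * z * c * t = c⁻¹ * z * (c * t) := by group
          _ = c⁻¹ * (z * t) * c := by rw [hct]; group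
      rw [e1]
      calc c⁻¹ * (z * t) * c * (c⁻¹ * (z * t) * c) * (c⁻¹ * (z * t) * c) =
          c⁻¹ * (z * t * (z * t) * (z * t)) * c := by group
        _ = 1 := by rw [hzt]; group
    have hA6 := rel_in_A6 hK (hDK hτD) (hDK hzD) (hD'K huD') (hDK ht.1) hτ2 hτ1 hz2 hu2 hτz huτ huz
      htτ ht5 hzt hut
    have hA5 := (rel_in_A5 hD hτD hzD ht.1 hτ2 hτ1 hz1 hzτ hτz htτ ht5 ht1).2 hzt
    obtain ⟨r, hrc, hr⟩ := hr
    -- `ρ = t z t⁻²` commutes with `g`
    set ρ := t * z * t⁻¹ * t⁻¹ with hρ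
    have hρτ : ρ⁻¹ * τ * ρ = z := by
      rw [← hA5, hρ]
      simp only [mul_inv_rev, inv_inv, hzz]
      group
    have hrD : r ∈ D := by
      rw [memD]
      rw [Subgroup.mem_centralizer_iff] at hrc
      exact ⟨hrc a1 (by simp), hrc a2 (by simp), hrc a3 (by simp)⟩
    have hrg : g * r = r * g := by
      rw [Subgroup.mem_centralizer_iff] at hrc
      exact hrc g (by simp)
    have hρD : ρ ∈ D := by
      rw [hρ]
      exact D.mul_mem (D.mul_mem (D.mul_mem ht.1 hzD) (D.inv_mem ht.1)) (D.inv_mem ht.1)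
    have hq : (ρ * r⁻¹) * τ = τ * (ρ * r⁻¹) := by
      have e1 : r⁻¹ * τ = z * r⁻¹ := by rw [← hr]; group
      have e2 : ρ * z = τ * ρ := by rw [← hρτ]; group
      calc (ρ * r⁻¹) * τ = ρ * (r⁻¹ * τ) := by group
        _ = (ρ * z) * r⁻¹ := by rw [e1]; group
        _ = τ * (ρ * r⁻¹) := by rw [e2]; group
    have hρg : g * ρ = ρ * g := by
      have h1 := cent_in_A5 hD hτD hzD (D.mul_mem hρD (D.inv_mem hrD)) hτ2 hτ1 hz1 hzτ hτz hq
      have e1 : ρ = (ρ * r⁻¹) * r := by group
      have e2 : g * (ρ * r⁻¹) = (ρ * r⁻¹) * g := by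
        rcases h1 with h1 | h1 | h1 | h1
        · rw [h1, mul_one, one_mul]
        · rw [h1, hgτ]
        · rw [h1, hgz]
        · rw [h1]
          calc g * (z * τ) = (g * z) * τ := by group
            _ = z * (g * τ) := by rw [hgz]; group
            _ = z * τ * g := by rw [hgτ]; group
      calc g * ρ = g * (ρ * r⁻¹) * r := by group
        _ = (ρ * r⁻¹) * (g * r) := by rw [e2]; group
        _ = ρ * g := by rw [hrg]; group
    -- `t^g`
    set s := (u * z)⁻¹ * (t * t) * (u * z) with hs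
    have ht4 : t⁻¹ = t * t * t * t := by
      rw [inv_eq_iff_mul_eq_one]
      calc t * (t * t * t * t) = t * t * t * t * t := by group
        _ = 1 := ht5
    have hxt' : x * t * x⁻¹ = t * t * t := by
      have e1 : x⁻¹ * (t * t * t) * x = t := by
        calc x⁻¹ * (t * t * t) * x = (x⁻¹ * t * x) * (x⁻¹ * t * x) * (x⁻¹ * t * x) := by group
          _ = t * t * t * t * t * t := by rw [hxt]; group
          _ = t := by rw [ht5, one_mul]
      rw [← e1]
      calc x * (x⁻¹ * (t * t * t) * x) * x⁻¹ = t * t * t := by group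
        _ = x⁻¹ * (t * t * t) * x * (x⁻¹ * (t * t * t) * x) * (x⁻¹ * (t * t * t) * x) := by
            rw [e1]
    have hs5 : s * s * s * s * s = 1 := by
      rw [hs]
      calc (u * z)⁻¹ * (t * t) * (u * z) * ((u * z)⁻¹ * (t * t) * (u * z)) *
          ((u * z)⁻¹ * (t * t) * (u * z)) * ((u * z)⁻¹ * (t * t) * (u * z)) *
          ((u * z)⁻¹ * (t * t) * (u * z)) =
          (u * z)⁻¹ * ((t * t * t * t * t) * (t * t * t * t * t)) * (u * z) := by group
        _ = 1 := by rw [ht5]; group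
    have htg : g⁻¹ * t * g = s⁻¹ := by
      rw [hs, hg]
      calc (x⁻¹ * u * z)⁻¹ * t * (x⁻¹ * u * z) = (u * z)⁻¹ * (x * t * x⁻¹) * (u * z) := by group
        _ = (u * z)⁻¹ * (t⁻¹ * (t * t * t * t)) * (u * z) := by rw [hxt']; group
        _ = ((u * z)⁻¹ * (t * t) * (u * z))⁻¹ := by rw [← ht4]; group
    have hρ2 : ρ = s⁻¹ * z * (s * s) := by
      calc ρ = g⁻¹ * (g * ρ) := by group
        _ = g⁻¹ * ρ * g := by rw [hρg]; group
        _ = (g⁻¹ * t * g) * (g⁻¹ * z * g) * (g⁻¹ * t * g)⁻¹ * (g⁻¹ * t * g)⁻¹ := by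
            rw [hρ]; group
        _ = (g⁻¹ * t * g) * (g⁻¹ * (z * g)) * (g⁻¹ * t * g)⁻¹ * (g⁻¹ * t * g)⁻¹ := by group
        _ = s⁻¹ * z * (s * s) := by rw [← hgz, htg]; group
    have hρ3 : ρ = s * z * s⁻¹ * s⁻¹ := by
      have huu : u⁻¹ = u := inv_eq_of_mul_eq_one_left hu2
      have e3 : t * t * t = t⁻¹ * t⁻¹ := by
        rw [eq_inv_mul_iff_mul_eq, eq_inv_iff_mul_eq_one]
        calc t * (t * t * t) * t = t * t * t * t * t := by group
          _ = 1 := ht5
      have e4 : t * t * t * t = t⁻¹ := ht4.symm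
      have e5 : ρ * (s * s * z * s⁻¹) = 1 := by
        calc ρ * (s * s * z * s⁻¹) = t * z * (t⁻¹ * t⁻¹) * (u * z)⁻¹ * (t * t * t * t) * (u * z) *
              z * (u * z)⁻¹ * (t⁻¹ * t⁻¹) * (u * z) := by
              rw [hρ, hs]; group
          _ = t * z * (t * t * t) * (z⁻¹ * u⁻¹) * (t * t * t * t) * u * (z * z * z⁻¹) * u⁻¹ *
              (t * t * t) * u * z := by
              rw [← e3]; group
          _ = t * z * (t * t * t) * z * u * (t * t * t * t) * u * z * u * (t * t * t) * u * z := by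
              rw [huu, hzz, hz2]; group
          _ = 1 := hA6
      calc ρ = ρ * (s * s * z * s⁻¹) * (s * z⁻¹ * s⁻¹ * s⁻¹) := by group
        _ = s * z * s⁻¹ * s⁻¹ := by rw [e5, hzz]; group
    have hs1 := sign_aux hz2 hs5 (hρ2.symm.trans hρ3)
    apply ht1
    have e6 : t * t = 1 := by
      calc t * t = (u * z) * s * (u * z)⁻¹ := by rw [hs]; group
        _ = 1 := by rw [hs1]; group
    have e7 := ht5
    rw [e6, one_mul, e6, one_mul] at e7
    exact e7
  -- the exponent of `x`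
  obtain ⟨k, hk, hxk⟩ := ht0k _ (hxE _ ht0E) (by
    calc x⁻¹ * t0 * x * (x⁻¹ * t0 * x) * (x⁻¹ * t0 * x) * (x⁻¹ * t0 * x) * (x⁻¹ * t0 * x) =
        x⁻¹ * (t0 * t0 * t0 * t0 * t0) * x := by group
      _ = 1 := by rw [ht05]; group)
  have ht05' : t0 ^ 5 = 1 := by
    rw [← ht05]
    simp only [pow_succ, pow_zero, one_mul]
  have hτt0 : τ * t0 * τ = t0⁻¹ := eq_inv_of_mul_eq_one_left ht0τ
  have hconj : ∀ (j : ℕ), x⁻¹ * t0 ^ j * x = (x⁻¹ * t0 * x) ^ j := by
    intro j
    have h5 := conj_pow (i := j) (a := x⁻¹) (b := t0)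
    rw [inv_inv] at h5
    exact h5.symm
  have hkk : t0⁻¹ = t0 ^ (k * k) := by
    calc t0⁻¹ = τ * t0 * τ := hτt0.symm
      _ = τ⁻¹ * t0 * τ := by rw [hττ]
      _ = x⁻¹ * (x⁻¹ * t0 * x) * x := by rw [← hx2]; group
      _ = x⁻¹ * t0 ^ k * x := by rw [hxk]
      _ = (t0 ^ k) ^ k := by rw [hconj, hxk]
      _ = t0 ^ (k * k) := by rw [pow_mul]
  have hpow : ∀ m : ℕ, t0 ^ m = t0⁻¹ → t0 ^ (m + 1) = 1 := by
    intro m hm
    rw [pow_succ, hm, inv_mul_cancel]
  have hk23 : k = 2 ∨ k = 3 := by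
    have h1 := hpow _ hkk.symm
    interval_cases k
    · exfalso
      rw [show 0 * 0 + 1 = 1 from rfl, pow_one] at h1
      exact ht01 h1
    · exfalso
      have h2 : t0 ^ 2 = 1 := h1
      apply ht01
      calc t0 = t0 ^ 5 * (t0 ^ 2)⁻¹ * (t0 ^ 2)⁻¹ := by group
        _ = 1 := by rw [ht05', h2]; group
    · exact Or.inl rfl
    · exact Or.inr rfl
    · exfalso
      have h2 : t0 ^ 17 = 1 := h1
      apply ht01
      have h3 : t0 ^ 2 = 1 := by
        calc t0 ^ 2 = t0 ^ 17 * (t0 ^ 5)⁻¹ * (t0 ^ 5)⁻¹ * (t0 ^ 5)⁻¹ := by group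
          _ = 1 := by rw [ht05', h2]; group
      calc t0 = t0 ^ 5 * (t0 ^ 2)⁻¹ * (t0 ^ 2)⁻¹ := by group
        _ = 1 := by rw [ht05', h3]; group
  -- choose the power with `(z t)³ = 1`
  have hfin : ∀ t ∈ E, t ≠ 1 → t * t * t * t * t = 1 → τ * t * τ * t = 1 →
      z * t * (z * t) * (z * t) = 1 → x⁻¹ * t * x = t ^ k → ∃ t : G, t ≠ 1 ∧
      t * t * t * t * t = 1 ∧ t * y = y * t ∧ x⁻¹ * t * x * (t * t) = 1 ∧
      z * t * (z * t) * (z * t) = 1 ∧ τ * t * τ * t = 1 := by
    intro t ht ht1 ht5 htτ hzt hxt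
    refine ⟨t, ht1, ht5, ((memE t).1 ht y hyy).symm, ?_, hzt, htτ⟩
    rcases hk23 with rfl | rfl
    · exact (sign t ht ht1 ht5 htτ hzt (by rw [hxt, pow_two])).elim
    · rw [hxt, ← ht5]
      simp only [pow_succ, pow_zero, one_mul, mul_assoc]
  have hA5 := (rel_in_A5 hD hτD hzD ht0E.1 hτ2 hτ1 hz1 hzτ hτz ht0τ ht05 ht01).1
  rcases hA5 with h1 | h1
  · exact hfin t0 ht0E ht01 ht05 ht0τ h1 hxk
  · refine hfin (t0 * t0) (E.mul_mem ht0E ht0E) ?_ ?_ ?_ h1 ?_
    · intro h2
      apply ht01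
      have e7 := ht05
      rw [h2, one_mul, h2, one_mul] at e7
      exact e7
    · calc t0 * t0 * (t0 * t0) * (t0 * t0) * (t0 * t0) * (t0 * t0) =
          (t0 * t0 * t0 * t0 * t0) * (t0 * t0 * t0 * t0 * t0) := by group
        _ = 1 := by rw [ht05, one_mul]
    · calc τ * (t0 * t0) * τ * (t0 * t0) = (τ * t0 * τ) * (τ⁻¹ * t0 * τ) * (t0 * t0) := by group
        _ = (τ * t0 * τ) * (τ * t0 * τ) * (t0 * t0) := by rw [hττ]
        _ = 1 := by rw [hτt0]; group
    · calc x⁻¹ * (t0 * t0) * x = (x⁻¹ * t0 * x) * (x⁻¹ * t0 * x) := by group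
        _ = t0 ^ k * t0 ^ k := by rw [hxk]
        _ = (t0 * t0) ^ k := by rw [← pow_two t0, ← pow_add, ← pow_mul]; congr 1; ring

end

end Cfsg.Agent.HN.StepD
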