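import Cfsg.Agent.HN.Hom
import Cfsg.Agent.HN.H0Basic
import Cfsg.Agent.HN.StepDWords

set_option autoImplicit false

/-!
A group of Harada–Norton type contains the presented group `HN` with `C_G(t) ≤ HN`.
-/

namespace Cfsg.Agent.HN.ExistsHN

open Cfsg.Agent.HN.Pres Cfsg.Agent.HN.StepDWords Cfsg.Agent.HN.H0Basic Subgroup

theorem rels_of {G : Type*} [Group G] (f : H0 →* G) : Rels (f gx) (f gy) (f gz) := by
  obtain ⟨a1, a2, a3, a4, a5, a6, a7, a8, a9, a10⟩ := rels_H0
  constructor <;> simp only [← map_inv, ← map_pow, ← map_mul]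
  · rw [a1, map_one]
  · rw [a2, map_one]
  · rw [a3, map_one]
  · rw [a4, map_one]
  · rw [a5, map_one]
  · rw [a6, map_one]
  · rw [a7, map_one]
  · rw [a8, map_one]
  · rw [a9, map_one]
  · rw [a10, map_one]

/-- **Step (D)** in terms of the embedding of `H0`. -/
theorem exists_HN {G : Type*} [Group G] [Finite G] (hs : IsSimpleGroup Cfsg.Spor.HN)
    (f : H0 →* G) (hinj : Function.Injective f)
    (hD : Nonempty (Subgroup.centralizer (S7 (f gx) (f gy) (f gz)) ≃* alternatingGroup (Fin 5)))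
    (hK : Nonempty (Subgroup.centralizer (S6 (f gx) (f gy) (f gz)) ≃* alternatingGroup (Fin 6)))
    (hr : ∃ r ∈ Subgroup.centralizer (S8 (f gx) (f gy) (f gz)), r⁻¹ * (f τ) * r = f gz) :
    ∃ ψ : Cfsg.Spor.HN →* G, Function.Injective ψ ∧ f.range ≤ ψ.range ∧
      ψ Pres.hx = f gx ∧ ψ Pres.hy = f gy ∧ ψ Pres.hz = f gz := by
  have hR := rels_of f
  have hX : f gx * f gx ≠ 1 := by
    rw [← map_mul, ← pow_two]
    intro h
    exact τ_ne_one (hinj (h.trans (map_one f).symm))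
  obtain ⟨T, hT1, hT5, hTY, hTX, hTZ, -⟩ := exists_t hR hX hD hK (by
    rw [← map_mul, ← pow_two]
    exact hr)
  obtain ⟨ψ, h1, h2, h3, h4⟩ := Hom.exists_hom (T := T) hR
    (by rw [pow_succ, pow_succ, pow_succ, pow_two, hT5]) (by rw [pow_two T]; exact hTX)
    (by
      have : T⁻¹ * (f gy)⁻¹ * T * f gy = T⁻¹ * (f gy)⁻¹ * (T * f gy) := by group
      rw [this, hTY]; group)
    (by rw [pow_succ, pow_two]; exact hTZ)
  have hψ : Function.Injective ψ := by
    rw [← MonoidHom.ker_eq_bot_iff]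
    rcases hs.eq_bot_or_eq_top_of_normal ψ.ker inferInstance with h | h
    · exact h
    · exfalso
      apply hX
      have : Pres.hx ∈ ψ.ker := by rw [h]; trivial
      rw [MonoidHom.mem_ker, h1] at this
      rw [this, mul_one]
  refine ⟨ψ, hψ, ?_, h1, h2, h3⟩
  rw [MonoidHom.range_eq_map, ← closure_gens, MonoidHom.map_closure, closure_le]
  rintro _ ⟨g, rfl | rfl | rfl, rfl⟩
  · exact ⟨_, h1⟩
  · exact ⟨_, h2⟩
  · exact ⟨_, h3⟩

end Cfsg.Agent.HN.ExistsHN
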