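import Cfsg.Agent.HN.StepDGlue

set_option autoImplicit false

/-!
Step (D), final form: a homomorphism from the presented Harada–Norton group.
-/

namespace Cfsg.Agent.HN.StepDFinal

open Cfsg Cfsg.Spor Cfsg.Agent.HN.Pres Cfsg.Agent.HN.Local Cfsg.Agent.HN.LocalCent
open Cfsg.Agent.HN.StepDGlue Cfsg.Agent.HN.LocalMain Cfsg.Agent.HN.P1408 Cfsg.Agent.HN.StepDWords
open Equiv

variable {G : Type*} [Group G]

/-- assignment of the four generators -/
def asg4 (X Y Z T : G) : HN.Gen → G
  | HN.Gen.x => X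
  | HN.Gen.y => Y
  | HN.Gen.z => Z
  | HN.Gen.t => T

/-- The homomorphism from the presented group `HN` given by four elements satisfying the relations. -/
def liftHN {X Y Z T : G} (h : Rels X Y Z) (h5 : T ^ 5 = 1) (hx : (X⁻¹ * T * X) * (T ^ 2) = 1)
    (hy : T⁻¹ * Y⁻¹ * T * Y = 1) (hz : (Z * T) ^ 3 = 1) : Spor.HN →* G :=
  PresentedGroup.toGroup (f := asg4 X Y Z T) (by
    intro r hr
    rcases hr with hr | hr
    · obtain ⟨u, hu, -⟩ := hr
      simp [coxNodes, HN.edges] at hu
    simp only [HN.extra, Set.mem_ofPred_eq, List.mem_cons, List.not_mem_nil, or_false] at hr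
    rcases hr with rfl | rfl | rfl | rfl | rfl | rfl | rfl | rfl | rfl | rfl | rfl | rfl | rfl | rfl
    · simpa only [map_mul, map_pow, map_inv, FreeGroup.lift_apply_of, asg4] using h.r1
    · simpa only [map_mul, map_pow, map_inv, FreeGroup.lift_apply_of, asg4] using h.r2
    · simpa only [map_mul, map_pow, map_inv, FreeGroup.lift_apply_of, asg4] using h.r3
    · simpa only [map_mul, map_pow, map_inv, FreeGroup.lift_apply_of, asg4] using h.r4
    · simpa only [map_mul, map_pow, map_inv, FreeGroup.lift_apply_of, asg4] using h.r5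
    · simpa only [map_mul, map_pow, map_inv, FreeGroup.lift_apply_of, asg4] using h.r6
    · simpa only [map_mul, map_pow, map_inv, FreeGroup.lift_apply_of, asg4] using h.r7
    · simpa only [map_mul, map_pow, map_inv, FreeGroup.lift_apply_of, asg4] using h.r8
    · simpa only [map_mul, map_pow, map_inv, FreeGroup.lift_apply_of, asg4] using h.r9
    · simpa only [map_mul, map_pow, map_inv, FreeGroup.lift_apply_of, asg4] using h.r10
    · simpa only [map_mul, map_pow, map_inv, FreeGroup.lift_apply_of, asg4] using h5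
    · simpa only [map_mul, map_pow, map_inv, FreeGroup.lift_apply_of, asg4] using hx
    · simpa only [map_mul, map_pow, map_inv, FreeGroup.lift_apply_of, asg4] using hy
    · simpa only [map_mul, map_pow, map_inv, FreeGroup.lift_apply_of, asg4] using hz)

theorem injective_of_simple [IsSimpleGroup Spor.HN] (θ : Spor.HN →* G) {g : Spor.HN}
    (hg : θ g ≠ 1) : Function.Injective θ := by
  rw [← MonoidHom.ker_eq_bot_iff]
  rcases (MonoidHom.normal_ker θ).eq_bot_or_eq_top with h | h
  · exact h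
  · exfalso
    apply hg
    rw [← MonoidHom.mem_ker, h]
    trivial

/-- **Step (D).** -/
theorem exists_HN [Finite G] [IsSimpleGroup Spor.HN] {ι : A8 →* G} {X Y Z : G} (hR : Rels X Y Z)
    (hX : X * X ≠ 1) {x y : G} (O : Out (X * X) Z ι x y)
    (e1 : ι p1 = ev X Y Z wa1) (e2 : ι p2 = ev X Y Z wa2) (e3 : ι p3 = ev X Y Z wa3)
    (e4 : ι p4 = ev X Y Z wg)
    (h7 : ∀ g : G, Commute g (X * X) → g ∈ cen ι LocalCent.S7 → g ∈ four (X * X) Z)
    (h6 : Nat.card (Subgroup.centralizer ({X * X} : Set G) ⊓ cen ι LocalCent.S6 : Subgroup G) ≤ 8) :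
    ∃ θ : Spor.HN →* G, Function.Injective θ ∧ θ hx = X ∧ θ hy = Y ∧ θ hz = Z := by
  obtain ⟨t, -, t5, ty, tx, tz, -⟩ := exists_t hR hX O e1 e2 e3 e4 h7 h6
  have a5 : t ^ 5 = 1 := by
    rw [← t5]
    simp only [pow_succ, pow_zero, one_mul]
  have ax : (X⁻¹ * t * X) * (t ^ 2) = 1 := by
    rw [pow_two]
    exact tx
  have ay : t⁻¹ * Y⁻¹ * t * Y = 1 := by
    calc t⁻¹ * Y⁻¹ * t * Y = t⁻¹ * Y⁻¹ * (t * Y) := by group
      _ = t⁻¹ * Y⁻¹ * (Y * t) := by rw [ty]
      _ = 1 := by group
  have az : (Z * t) ^ 3 = 1 := by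
    rw [← tz]
    simp only [pow_succ, pow_zero, one_mul]
  let θ := liftHN hR a5 ax ay az
  have θx : θ hx = X := PresentedGroup.toGroup.of _
  have θy : θ hy = Y := PresentedGroup.toGroup.of _
  have θz : θ hz = Z := PresentedGroup.toGroup.of _
  refine ⟨θ, injective_of_simple θ (g := hx * hx) ?_, θx, θy, θz⟩
  rw [map_mul, θx]
  exact hX

end Cfsg.Agent.HN.StepDFinal
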