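import Cfsg.Agent.HN.StepD

set_option autoImplicit false

/-!
Step (D) of the Harada–Norton recognition when the centralisers of the alternating groups are only known up to outer
elements (`C(A₇)` of type `S₅`, `C(A₆)` of type `S₆`).
-/

namespace Cfsg.Agent.HN.StepDS

open Cfsg.Agent.HN.StepD Cfsg.Agent.HN.FinA56 Equiv

section

variable {G : Type*} [Group G]

/-- **Step (D), with outer elements allowed in the centralisers.** -/
theorem exists_t [Finite G] {x y z c u g a1 a2 a3 τ : G}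
    (hx2 : x * x = τ) (hτ2 : τ * τ = 1) (hτ1 : τ ≠ 1) (hz2 : z * z = 1) (hz1 : z ≠ 1)
    (hzτ : z ≠ τ) (hτz : z * τ = τ * z) (hτ1' : a1 * τ = τ * a1) (hτ2' : a2 * τ = τ * a2)
    (hτ3' : a3 * τ = τ * a3) (hτc : c * τ = τ * c)
    (hza1 : a1 * z = z * a1) (hza2 : a2 * z = z * a2) (hza3 : a3 * z = z * a3)
    (hu : u = c⁻¹ * z * c) (huz : (u * z) * (u * z) = τ) (hg : g = x⁻¹ * u * z)
    (hgz : g * z = z * g)
    (hca1 : c * a1 * c⁻¹ ∈ Subgroup.closure ({a1, a2, a3} : Set G))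
    (hca2 : c * a2 * c⁻¹ ∈ Subgroup.closure ({a1, a2, a3} : Set G))
    (hy : y ∈ Subgroup.closure
      ({a1, a2, a3, c⁻¹ * a1 * c, c⁻¹ * a2 * c, c⁻¹ * a3 * c} : Set G))
    (hyx : x⁻¹ * y * x ∈ Subgroup.closure
      ({a1, a2, a3, c⁻¹ * a1 * c, c⁻¹ * a2 * c, c⁻¹ * a3 * c} : Set G))
    (ha1U : a1 ∈ Subgroup.closure ({y, x⁻¹ * y * x} : Set G))
    (ha2U : a2 ∈ Subgroup.closure ({y, x⁻¹ * y * x} : Set G))
    (ha3U : a3 ∈ Subgroup.closure ({y, x⁻¹ * y * x} : Set G))
    (hcU : c ∈ Subgroup.closure ({y, x⁻¹ * y * x} : Set G))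
    (hyτ : y * τ = τ * y)
    {D K : Subgroup G} (hDA : D ≤ Subgroup.centralizer ({a1, a2, a3} : Set G))
    (hDK : D ≤ K) (hD'K' : ∀ d ∈ D, c⁻¹ * d * c ∈ K)
    (h5A : ∀ d ∈ Subgroup.centralizer ({a1, a2, a3} : Set G), d * d * d * d * d = 1 → d ∈ D)
    (hτD : τ ∈ D) (hzD : z ∈ D)
    (hD : Nonempty (D ≃* alternatingGroup (Fin 5)))
    (hK : Nonempty (K ≃* alternatingGroup (Fin 6)))
    (hr : ∃ r ∈ D, g * r = r * g ∧ r⁻¹ * τ * r = z) :
    ∃ t : G, t ≠ 1 ∧ t * t * t * t * t = 1 ∧ t * y = y * t ∧ x⁻¹ * t * x * (t * t) = 1 ∧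
      z * t * (z * t) * (z * t) = 1 ∧ τ * t * τ * t = 1 ∧ t ∈ D ∧ c * t * c⁻¹ ∈ D ∧
      ∀ s ∈ D, c * s * c⁻¹ ∈ D → s * s * s * s * s = 1 → ∃ k : ℕ, s = t ^ k := by
  set U := Subgroup.closure ({y, x⁻¹ * y * x} : Set G) with hUdef
  have memA : ∀ d : G, d ∈ Subgroup.centralizer ({a1, a2, a3} : Set G) ↔
      a1 * d = d * a1 ∧ a2 * d = d * a2 ∧ a3 * d = d * a3 := by
    intro d
    rw [Subgroup.mem_centralizer_iff]
    simp
  have memD : ∀ d ∈ D, a1 * d = d * a1 ∧ a2 * d = d * a2 ∧ a3 * d = d * a3 :=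
    fun d hd => (memA d).1 (hDA hd)
  have hττ : τ⁻¹ = τ := inv_eq_of_mul_eq_one_left hτ2
  have hzz : z⁻¹ = z := inv_eq_of_mul_eq_one_left hz2
  -- the conjugate
  set D' := D.map (MulAut.conj c⁻¹).toMonoidHom with hD'def
  have memD' : ∀ d : G, d ∈ D' ↔ c * d * c⁻¹ ∈ D := by
    intro d
    rw [hD'def, Subgroup.mem_map]
    constructor
    · rintro ⟨e, he, rfl⟩
      simp only [MulEquiv.coe_toMonoidHom, MulAut.conj_apply, inv_inv]
      have : c * (c⁻¹ * e * c) * c⁻¹ = e := by group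
      rw [this]
      exact he
    · intro h
      refine ⟨_, h, ?_⟩
      simp only [MulEquiv.coe_toMonoidHom, MulAut.conj_apply, inv_inv]
      group
  have hD'K : D' ≤ K := by
    intro d hd
    rw [memD'] at hd
    have h1 := hD'K' _ hd
    have e1 : c⁻¹ * (c * d * c⁻¹) * c = d := by group
    rwa [e1] at h1
  have cardD : Nat.card D = 60 := card_A5 hD
  have cardD' : Nat.card D' = 60 := by
    rw [hD'def, Subgroup.card_map_of_injective (MulAut.conj c⁻¹).injective, cardD]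
  have cardK : Nat.card K = 360 := card_A6 hK
  set E := D ⊓ D' with hEdef
  have hτD' : τ ∈ D' := by
    rw [memD', hτc, mul_inv_cancel_right]
    exact hτD
  have hτE : τ ∈ E := ⟨hτD, hτD'⟩
  have cardE : 10 ≤ Nat.card E := by
    have h1 := card_inf_ge hDK hD'K
    rw [cardD, cardD', cardK, ← hEdef] at h1
    omega
  have cardE' : Nat.card E ∣ 60 := by
    rw [← cardD]
    exact Subgroup.card_dvd_of_le inf_le_left
  -- `u ≠ z, zτ`
  have huD' : u ∈ D' := by
    rw [memD', hu]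
    have : c * (c⁻¹ * z * c) * c⁻¹ = z := by group
    rw [this]
    exact hzD
  have hu2 : u * u = 1 := by
    rw [hu]
    calc c⁻¹ * z * c * (c⁻¹ * z * c) = c⁻¹ * (z * z) * c := by group
      _ = 1 := by rw [hz2]; group
  have huτ : u * τ = τ * u := by
    rw [hu]
    calc c⁻¹ * z * c * τ = c⁻¹ * z * (c * τ) := by group
      _ = c⁻¹ * (z * τ) * c := by rw [hτc]; group
      _ = c⁻¹ * τ * z * c := by rw [hτz]; group
      _ = (c⁻¹ * τ * c) * (c⁻¹ * z * c) := by group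
      _ = (c⁻¹ * (τ * c)) * (c⁻¹ * z * c) := by group
      _ = τ * (c⁻¹ * z * c) := by rw [← hτc]; group
  have hu1 : u ≠ 1 := by
    intro h
    apply hτ1
    rw [← huz, h, one_mul, hz2]
  have hunτ : u ≠ τ := by
    intro h
    apply hτ1
    rw [← huz, h]
    calc τ * z * (τ * z) = τ * (z * τ) * z := by group
      _ = (τ * τ) * (z * z) := by rw [hτz]; group
      _ = 1 := by rw [hτ2, hz2, one_mul]
  have hD'5 : Nonempty (D' ≃* alternatingGroup (Fin 5)) := by
    obtain ⟨e⟩ := hD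
    exact ⟨(D.equivMapOfInjective _ (MulAut.conj c⁻¹).injective).symm.trans e⟩
  have hcE : ∀ q ∈ E, q * τ = τ * q → q = 1 ∨ q = τ := by
    intro q hq hqτ
    have h1 := cent_in_A5 hD hτD hzD hq.1 hτ2 hτ1 hz1 hzτ hτz hqτ
    have h2 := cent_in_A5 hD'5 hτD' huD' hq.2 hτ2 hτ1 hu1 hunτ huτ hqτ
    have e1 : z ≠ u := by
      intro h
      apply hτ1
      rw [← huz, ← h, hz2, one_mul]
    have e2 : z ≠ u * τ := by
      intro h
      apply hτ1
      have h3 : u * z = τ := by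
        rw [h, ← mul_assoc, hu2, one_mul]
      rw [← huz, h3, hτ2]
    rcases h1 with h1 | h1 | h1 | h1
    · exact Or.inl h1
    · exact Or.inr h1
    · exfalso
      rcases h2 with h2 | h2 | h2 | h2
      · exact hz1 (h1.symm.trans h2)
      · exact hzτ (h1.symm.trans h2)
      · exact e1 (h1.symm.trans h2)
      · exact e2 (h1.symm.trans h2)
    · exfalso
      have h3 := h1.symm
      rcases h2 with h2 | h2 | h2 | h2
      · have h4 : z * τ = 1 := h3.trans h2
        apply hzτ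
        rw [← hττ]
        exact eq_inv_of_mul_eq_one_left h4
      · have h4 : z * τ = τ := h3.trans h2
        exact hz1 (mul_eq_right.1 h4)
      · have h4 : z * τ = u := h3.trans h2
        apply e2
        rw [← h4, mul_assoc, hτ2, mul_one]
      · have h4 : z * τ = u * τ := h3.trans h2
        exact e1 (mul_right_cancel h4)
  have hEfin : Finite E := inferInstance
  have card10 : Nat.card E = 10 := by
    have h1 : ¬ 4 ∣ Nat.card E := by
      refine not_four_dvd (τ := (⟨τ, hτE⟩ : E)) (Subtype.ext hτ2) ?_ ?_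
      · intro q hq
        rcases hcE q q.2 (congrArg Subtype.val hq) with h | h
        · exact Or.inl (Subtype.ext h)
        · exact Or.inr (Subtype.ext h)
      · intro h8
        have := h8.trans cardE'
        omega
    have h2 : 2 ∣ Nat.card E := by
      have h3 : orderOf (⟨τ, hτE⟩ : E) = 2 := by
        refine orderOf_eq_prime ?_ ?_
        · rw [pow_two]
          exact Subtype.ext hτ2
        · intro h
          exact hτ1 (congrArg Subtype.val h)
      rw [← h3]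
      exact orderOf_dvd_natCard _
    have h3 : Nat.card E ≠ 30 := card_ne_30 hD inf_le_left
    have h4 : Nat.card E ≤ 60 := Nat.le_of_dvd (by norm_num) cardE'
    generalize Nat.card E = n at *
    interval_cases n <;> omega
  obtain ⟨t0, ht0E, ht01, ht05, ht0τ, ht0k⟩ := order_ten card10 hτE hτ2 hcE
  -- `E` centralises `U`
  have memE : ∀ e ∈ E, ∀ v ∈ U, v * e = e * v := by
    intro e he0
    obtain ⟨he, he'⟩ : e ∈ D ∧ e ∈ D' := he0
    have h1 : ∀ v ∈ Subgroup.closure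
        ({a1, a2, a3, c⁻¹ * a1 * c, c⁻¹ * a2 * c, c⁻¹ * a3 * c} : Set G), v * e = e * v := by
      intro v hv
      have h2 : e ∈ Subgroup.centralizer (Subgroup.closure
        ({a1, a2, a3, c⁻¹ * a1 * c, c⁻¹ * a2 * c, c⁻¹ * a3 * c} : Set G) : Set G) := by
        rw [Subgroup.centralizer_closure, Subgroup.mem_centralizer_iff]
        rw [memD'] at he'
        have h3 := memD _ he
        have h4 := memD _ he'
        have h5 : ∀ a : G, a * (c * e * c⁻¹) = (c * e * c⁻¹) * a →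
            (c⁻¹ * a * c) * e = e * (c⁻¹ * a * c) := by
          intro a ha
          calc (c⁻¹ * a * c) * e = c⁻¹ * (a * (c * e * c⁻¹)) * c := by group
            _ = c⁻¹ * ((c * e * c⁻¹) * a) * c := by rw [ha]
            _ = e * (c⁻¹ * a * c) := by group
        intro h hh
        simp only [Set.mem_insert_iff, Set.mem_singleton_iff] at hh
        rcases hh with rfl | rfl | rfl | rfl | rfl | rfl
        · exact h3.1
        · exact h3.2.1
        · exact h3.2.2
        · exact h5 _ h4.1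
        · exact h5 _ h4.2.1
        · exact h5 _ h4.2.2
      rw [Subgroup.mem_centralizer_iff] at h2
      exact h2 v hv
    have h2 : e ∈ Subgroup.centralizer (U : Set G) := by
      rw [hUdef, Subgroup.centralizer_closure, Subgroup.mem_centralizer_iff]
      intro h hh
      simp only [Set.mem_insert_iff, Set.mem_singleton_iff] at hh
      rcases hh with rfl | rfl
      · exact h1 _ hy
      · exact h1 _ hyx
    rw [Subgroup.mem_centralizer_iff] at h2
    exact h2
  -- elements of order five of the centraliser of `U` lie in `E`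
  have memE5 : ∀ e : G, (∀ v ∈ U, v * e = e * v) → e * e * e * e * e = 1 → e ∈ E := by
    intro e h he5
    have hc := h c hcU
    have h1 := h a1 ha1U
    have h2 := h a2 ha2U
    have h3 := h a3 ha3U
    have he : e ∈ D := h5A e ((memA e).2 ⟨h1, h2, h3⟩) he5
    refine ⟨he, (memD' e).2 ?_⟩
    rw [hc, mul_inv_cancel_right]
    exact he
  -- `x` normalises the Sylow 5-subgroup of `E`
  have hxE : ∀ e ∈ E, e * e * e * e * e = 1 → x⁻¹ * e * x ∈ E := by
    intro e he he5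
    have h1 := memE e he
    have hyy : y ∈ U := Subgroup.subset_closure (by simp)
    have hyy' : x⁻¹ * y * x ∈ U := Subgroup.subset_closure (by simp)
    refine memE5 _ ?_ (by
      calc x⁻¹ * e * x * (x⁻¹ * e * x) * (x⁻¹ * e * x) * (x⁻¹ * e * x) * (x⁻¹ * e * x) =
          x⁻¹ * (e * e * e * e * e) * x := by group
        _ = 1 := by rw [he5]; group)
    have h2 : x⁻¹ * e * x ∈ Subgroup.centralizer (U : Set G) := by
      rw [hUdef, Subgroup.centralizer_closure, Subgroup.mem_centralizer_iff]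
      intro h hh
      simp only [Set.mem_insert_iff, Set.mem_singleton_iff] at hh
      rcases hh with rfl | rfl
      · -- `y = x⁻¹ (x⁻¹ y x) x` up to `τ`
        have h3 := h1 _ hyy'
        have h4 : h = x⁻¹ * (x⁻¹ * h * x) * x := by
          calc h = τ⁻¹ * (τ * h) := by group
            _ = τ⁻¹ * (h * τ) := by rw [hyτ]
            _ = x⁻¹ * (x⁻¹ * h * x) * x := by rw [← hx2]; group
        calc h * (x⁻¹ * e * x) = x⁻¹ * (x⁻¹ * h * x) * x * (x⁻¹ * e * x) := by rw [← h4]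
          _ = x⁻¹ * ((x⁻¹ * h * x) * e) * x := by group
          _ = x⁻¹ * (e * (x⁻¹ * h * x)) * x := by rw [h3]
          _ = (x⁻¹ * e * x) * (x⁻¹ * (x⁻¹ * h * x) * x) := by group
          _ = (x⁻¹ * e * x) * h := by rw [← h4]
      · have h3 := h1 _ hyy
        calc (x⁻¹ * y * x) * (x⁻¹ * e * x) = x⁻¹ * (y * e) * x := by group
          _ = x⁻¹ * (e * y) * x := by rw [h3]
          _ = (x⁻¹ * e * x) * (x⁻¹ * y * x) := by group
    rw [Subgroup.mem_centralizer_iff] at h2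
    exact h2
  have hgτ : g * τ = τ * g := by
    have hxτ : x⁻¹ * τ = τ * x⁻¹ := by
      rw [← hx2]
      group
    rw [hg]
    calc x⁻¹ * u * z * τ = x⁻¹ * u * (z * τ) := by group
      _ = x⁻¹ * (u * τ) * z := by rw [hτz]; group
      _ = (x⁻¹ * τ) * u * z := by rw [huτ]; group
      _ = τ * (x⁻¹ * u * z) := by rw [hxτ]; group
  have hyy : y ∈ U := Subgroup.subset_closure (by simp)
  -- the sign
  have sign : ∀ t ∈ E, t ≠ 1 → t * t * t * t * t = 1 → τ * t * τ * t = 1 →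
      z * t * (z * t) * (z * t) = 1 → x⁻¹ * t * x = t * t → False := by
    intro t ht ht1 ht5 htτ hzt hxt
    have htU := memE t ht
    have hct : c * t = t * c := htU c hcU
    have hut : u * t * (u * t) * (u * t) = 1 := by
      rw [hu]
      have e1 : c⁻¹ * z * c * t = c⁻¹ * (z * t) * c := by
        calc c⁻¹ * z * c * t = c⁻¹ * z * (c * t) := by group
          _ = c⁻¹ * (z * t) * c := by rw [hct]; group
      rw [e1]
      calc c⁻¹ * (z * t) * c * (c⁻¹ * (z * t) * c) * (c⁻¹ * (z * t) * c) =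
          c⁻¹ * (z * t * (z * t) * (z * t)) * c := by group
        _ = 1 := by rw [hzt]; group
    have hA6 := rel_in_A6 hK (hDK hτD) (hDK hzD) (hD'K huD') (hDK ht.1) hτ2 hτ1 hz2 hu2 hτz huτ huz
      htτ ht5 hzt hut
    have hA5 := (rel_in_A5 hD hτD hzD ht.1 hτ2 hτ1 hz1 hzτ hτz htτ ht5 ht1).2 hzt
    obtain ⟨r, hrD, hrg, hr⟩ := hr
    -- `ρ = t z t⁻²` commutes with `g`
    set ρ := t * z * t⁻¹ * t⁻¹ with hρ
    have hρτ : ρ⁻¹ * τ * ρ = z := by
      rw [← hA5, hρ]
      simp only [mul_inv_rev, inv_inv, hzz]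
      group
    have hρD : ρ ∈ D := by
      rw [hρ]
      exact D.mul_mem (D.mul_mem (D.mul_mem ht.1 hzD) (D.inv_mem ht.1)) (D.inv_mem ht.1)
    have hq : (ρ * r⁻¹) * τ = τ * (ρ * r⁻¹) := by
      have e1 : r⁻¹ * τ = z * r⁻¹ := by rw [← hr]; group
      have e2 : ρ * z = τ * ρ := by rw [← hρτ]; group
      calc (ρ * r⁻¹) * τ = ρ * (r⁻¹ * τ) := by group
        _ = (ρ * z) * r⁻¹ := by rw [e1]; group
        _ = τ * (ρ * r⁻¹) := by rw [e2]; group
    have hρg : g * ρ = ρ * g := by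
      have h1 := cent_in_A5 hD hτD hzD (D.mul_mem hρD (D.inv_mem hrD)) hτ2 hτ1 hz1 hzτ hτz hq
      have e1 : ρ = (ρ * r⁻¹) * r := by group
      have e2 : g * (ρ * r⁻¹) = (ρ * r⁻¹) * g := by
        rcases h1 with h1 | h1 | h1 | h1
        · rw [h1, mul_one, one_mul]
        · rw [h1, hgτ]
        · rw [h1, hgz]
        · rw [h1]
          calc g * (z * τ) = (g * z) * τ := by group
            _ = z * (g * τ) := by rw [hgz]; group
            _ = z * τ * g := by rw [hgτ]; group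
      calc g * ρ = g * (ρ * r⁻¹) * r := by group
        _ = (ρ * r⁻¹) * (g * r) := by rw [e2]; group
        _ = ρ * g := by rw [hrg]; group
    -- `t^g`
    set s := (u * z)⁻¹ * (t * t) * (u * z) with hs
    have ht4 : t⁻¹ = t * t * t * t := by
      rw [inv_eq_iff_mul_eq_one]
      calc t * (t * t * t * t) = t * t * t * t * t := by group
        _ = 1 := ht5
    have hxt' : x * t * x⁻¹ = t * t * t := by
      have e1 : x⁻¹ * (t * t * t) * x = t := by
        calc x⁻¹ * (t * t * t) * x = (x⁻¹ * t * x) * (x⁻¹ * t * x) * (x⁻¹ * t * x) := by group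
          _ = t * t * t * t * t * t := by rw [hxt]; group
          _ = t := by rw [ht5, one_mul]
      rw [← e1]
      calc x * (x⁻¹ * (t * t * t) * x) * x⁻¹ = t * t * t := by group
        _ = x⁻¹ * (t * t * t) * x * (x⁻¹ * (t * t * t) * x) * (x⁻¹ * (t * t * t) * x) := by
            rw [e1]
    have hs5 : s * s * s * s * s = 1 := by
      rw [hs]
      calc (u * z)⁻¹ * (t * t) * (u * z) * ((u * z)⁻¹ * (t * t) * (u * z)) *
          ((u * z)⁻¹ * (t * t) * (u * z)) * ((u * z)⁻¹ * (t * t) * (u * z)) *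
          ((u * z)⁻¹ * (t * t) * (u * z)) =
          (u * z)⁻¹ * ((t * t * t * t * t) * (t * t * t * t * t)) * (u * z) := by group
        _ = 1 := by rw [ht5]; group
    have htg : g⁻¹ * t * g = s⁻¹ := by
      rw [hs, hg]
      calc (x⁻¹ * u * z)⁻¹ * t * (x⁻¹ * u * z) = (u * z)⁻¹ * (x * t * x⁻¹) * (u * z) := by group
        _ = (u * z)⁻¹ * (t⁻¹ * (t * t * t * t)) * (u * z) := by rw [hxt']; group
        _ = ((u * z)⁻¹ * (t * t) * (u * z))⁻¹ := by rw [← ht4]; group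
    have hρ2 : ρ = s⁻¹ * z * (s * s) := by
      calc ρ = g⁻¹ * (g * ρ) := by group
        _ = g⁻¹ * ρ * g := by rw [hρg]; group
        _ = (g⁻¹ * t * g) * (g⁻¹ * z * g) * (g⁻¹ * t * g)⁻¹ * (g⁻¹ * t * g)⁻¹ := by
            rw [hρ]; group
        _ = (g⁻¹ * t * g) * (g⁻¹ * (z * g)) * (g⁻¹ * t * g)⁻¹ * (g⁻¹ * t * g)⁻¹ := by group
        _ = s⁻¹ * z * (s * s) := by rw [← hgz, htg]; group
    have hρ3 : ρ = s * z * s⁻¹ * s⁻¹ := by
      have huu : u⁻¹ = u := inv_eq_of_mul_eq_one_left hu2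
      have e3 : t * t * t = t⁻¹ * t⁻¹ := by
        rw [eq_inv_mul_iff_mul_eq, eq_inv_iff_mul_eq_one]
        calc t * (t * t * t) * t = t * t * t * t * t := by group
          _ = 1 := ht5
      have e4 : t * t * t * t = t⁻¹ := ht4.symm
      have e5 : ρ * (s * s * z * s⁻¹) = 1 := by
        calc ρ * (s * s * z * s⁻¹) = t * z * (t⁻¹ * t⁻¹) * (u * z)⁻¹ * (t * t * t * t) * (u * z) *
              z * (u * z)⁻¹ * (t⁻¹ * t⁻¹) * (u * z) := by
              rw [hρ, hs]; group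
          _ = t * z * (t * t * t) * (z⁻¹ * u⁻¹) * (t * t * t * t) * u * (z * z * z⁻¹) * u⁻¹ *
              (t * t * t) * u * z := by
              rw [← e3]; group
          _ = t * z * (t * t * t) * z * u * (t * t * t * t) * u * z * u * (t * t * t) * u * z := by
              rw [huu, hzz, hz2]; group
          _ = 1 := hA6
      calc ρ = ρ * (s * s * z * s⁻¹) * (s * z⁻¹ * s⁻¹ * s⁻¹) := by group
        _ = s * z * s⁻¹ * s⁻¹ := by rw [e5, hzz]; group
    have hs1 := sign_aux hz2 hs5 (hρ2.symm.trans hρ3)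
    apply ht1
    have e6 : t * t = 1 := by
      calc t * t = (u * z) * s * (u * z)⁻¹ := by rw [hs]; group
        _ = 1 := by rw [hs1]; group
    have e7 := ht5
    rw [e6, one_mul, e6, one_mul] at e7
    exact e7
  -- the exponent of `x`
  obtain ⟨k, hk, hxk⟩ := ht0k _ (hxE _ ht0E ht05) (by
    calc x⁻¹ * t0 * x * (x⁻¹ * t0 * x) * (x⁻¹ * t0 * x) * (x⁻¹ * t0 * x) * (x⁻¹ * t0 * x) =
        x⁻¹ * (t0 * t0 * t0 * t0 * t0) * x := by group
      _ = 1 := by rw [ht05]; group)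
  have ht05' : t0 ^ 5 = 1 := by
    rw [← ht05]
    simp only [pow_succ, pow_zero, one_mul]
  have hτt0 : τ * t0 * τ = t0⁻¹ := eq_inv_of_mul_eq_one_left ht0τ
  have hconj : ∀ (j : ℕ), x⁻¹ * t0 ^ j * x = (x⁻¹ * t0 * x) ^ j := by
    intro j
    have h5 := conj_pow (i := j) (a := x⁻¹) (b := t0)
    rw [inv_inv] at h5
    exact h5.symm
  have hkk : t0⁻¹ = t0 ^ (k * k) := by
    calc t0⁻¹ = τ * t0 * τ := hτt0.symm
      _ = τ⁻¹ * t0 * τ := by rw [hττ]
      _ = x⁻¹ * (x⁻¹ * t0 * x) * x := by rw [← hx2]; group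
      _ = x⁻¹ * t0 ^ k * x := by rw [hxk]
      _ = (t0 ^ k) ^ k := by rw [hconj, hxk]
      _ = t0 ^ (k * k) := by rw [pow_mul]
  have hpow : ∀ m : ℕ, t0 ^ m = t0⁻¹ → t0 ^ (m + 1) = 1 := by
    intro m hm
    rw [pow_succ, hm, inv_mul_cancel]
  have hk23 : k = 2 ∨ k = 3 := by
    have h1 := hpow _ hkk.symm
    interval_cases k
    · exfalso
      rw [show 0 * 0 + 1 = 1 from rfl, pow_one] at h1
      exact ht01 h1
    · exfalso
      have h2 : t0 ^ 2 = 1 := h1
      apply ht01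
      calc t0 = t0 ^ 5 * (t0 ^ 2)⁻¹ * (t0 ^ 2)⁻¹ := by group
        _ = 1 := by rw [ht05', h2]; group
    · exact Or.inl rfl
    · exact Or.inr rfl
    · exfalso
      have h2 : t0 ^ 17 = 1 := h1
      apply ht01
      have h3 : t0 ^ 2 = 1 := by
        calc t0 ^ 2 = t0 ^ 17 * (t0 ^ 5)⁻¹ * (t0 ^ 5)⁻¹ * (t0 ^ 5)⁻¹ := by group
          _ = 1 := by rw [ht05', h2]; group
      calc t0 = t0 ^ 5 * (t0 ^ 2)⁻¹ * (t0 ^ 2)⁻¹ := by group
        _ = 1 := by rw [ht05', h3]; group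
  -- choose the power with `(z t)³ = 1`
  have hfin : ∀ t ∈ E, t ≠ 1 → t * t * t * t * t = 1 → τ * t * τ * t = 1 →
      z * t * (z * t) * (z * t) = 1 → x⁻¹ * t * x = t ^ k → (∀ j : ℕ, ∃ i : ℕ, t0 ^ j = t ^ i) →
      ∃ t : G, t ≠ 1 ∧
      t * t * t * t * t = 1 ∧ t * y = y * t ∧ x⁻¹ * t * x * (t * t) = 1 ∧
      z * t * (z * t) * (z * t) = 1 ∧ τ * t * τ * t = 1 ∧ t ∈ D ∧ c * t * c⁻¹ ∈ D ∧
      ∀ s ∈ D, c * s * c⁻¹ ∈ D → s * s * s * s * s = 1 → ∃ k : ℕ, s = t ^ k := by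
    intro t ht ht1 ht5 htτ hzt hxt hgen
    refine ⟨t, ht1, ht5, (memE t ht y hyy).symm, ?_, hzt, htτ, ht.1, (memD' t).1 ht.2, ?_⟩
    swap
    · intro s hs hs' hs5
      obtain ⟨j, -, hj⟩ := ht0k s ⟨hs, (memD' s).2 hs'⟩ hs5
      obtain ⟨i, hi⟩ := hgen j
      exact ⟨i, hj.trans hi⟩
    rcases hk23 with rfl | rfl
    · exact (sign t ht ht1 ht5 htτ hzt (by rw [hxt, pow_two])).elim
    · rw [hxt, ← ht5]
      simp only [pow_succ, pow_zero, one_mul, mul_assoc]
  have hA5 := (rel_in_A5 hD hτD hzD ht0E.1 hτ2 hτ1 hz1 hzτ hτz ht0τ ht05 ht01).1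
  rcases hA5 with h1 | h1
  · exact hfin t0 ht0E ht01 ht05 ht0τ h1 hxk fun j => ⟨j, rfl⟩
  · refine hfin (t0 * t0) (E.mul_mem ht0E ht0E) ?_ ?_ ?_ h1 ?_ fun j => ⟨3 * j, ?_⟩
    · intro h2
      apply ht01
      have e7 := ht05
      rw [h2, one_mul, h2, one_mul] at e7
      exact e7
    · calc t0 * t0 * (t0 * t0) * (t0 * t0) * (t0 * t0) * (t0 * t0) =
          (t0 * t0 * t0 * t0 * t0) * (t0 * t0 * t0 * t0 * t0) := by group
        _ = 1 := by rw [ht05, one_mul]
    · calc τ * (t0 * t0) * τ * (t0 * t0) = (τ * t0 * τ) * (τ⁻¹ * t0 * τ) * (t0 * t0) := by group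
        _ = (τ * t0 * τ) * (τ * t0 * τ) * (t0 * t0) := by rw [hττ]
        _ = 1 := by rw [hτt0]; group
    · calc x⁻¹ * (t0 * t0) * x = (x⁻¹ * t0 * x) * (x⁻¹ * t0 * x) := by group
        _ = t0 ^ k * t0 ^ k := by rw [hxk]
        _ = (t0 * t0) ^ k := by rw [← pow_two t0, ← pow_add, ← pow_mul]; congr 1; ring
    · calc t0 ^ j = (t0 ^ 5) ^ j * t0 ^ j := by rw [ht05', one_pow, one_mul]
        _ = (t0 * t0) ^ (3 * j) := by rw [← pow_two t0, ← pow_mul, ← pow_mul, ← pow_add]; congr 1; ring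

end

end Cfsg.Agent.HN.StepDS
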