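import Cfsg.Agent.HN.StepDWords
import Cfsg.Agent.HN.StepDS

set_option autoImplicit false

/-!
Step (D) for three elements `X, Y, Z` satisfying the ten relations of `2.HS:2`, outer elements being allowed in the
centralisers.
-/

namespace Cfsg.Agent.HN.StepDSWords

open Equiv Cfsg.Agent.HN.WordEq Cfsg.Agent.HN.P1408 Cfsg.Agent.HN.Pres Cfsg.Agent.HN.StepDWords

section

variable {G : Type*} [Group G] {X Y Z : G} (hR : Rels X Y Z)

include hR

theorem exists_t [Finite G] (hX : X * X ≠ 1) {D K : Subgroup G}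
    (hDA : D ≤ Subgroup.centralizer (S7 X Y Z)) (hDK : D ≤ K)
    (hD'K' : ∀ d ∈ D, (ev X Y Z wc)⁻¹ * d * ev X Y Z wc ∈ K)
    (h5A : ∀ d ∈ Subgroup.centralizer (S7 X Y Z), d * d * d * d * d = 1 → d ∈ D)
    (hτD : X * X ∈ D) (hzD : Z ∈ D)
    (hD : Nonempty (D ≃* alternatingGroup (Fin 5)))
    (hK : Nonempty (K ≃* alternatingGroup (Fin 6)))
    (hr : ∃ r ∈ D, ev X Y Z wg * r = r * ev X Y Z wg ∧ r⁻¹ * (X * X) * r = Z) :
    ∃ t : G, t ≠ 1 ∧ t * t * t * t * t = 1 ∧ t * Y = Y * t ∧ X⁻¹ * t * X * (t * t) = 1 ∧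
      Z * t * (Z * t) * (Z * t) = 1 ∧ X * X * t * (X * X) * t = 1 ∧ t ∈ D ∧
      ev X Y Z wc * t * (ev X Y Z wc)⁻¹ ∈ D ∧
      ∀ s ∈ D, ev X Y Z wc * s * (ev X Y Z wc)⁻¹ ∈ D → s * s * s * s * s = 1 → ∃ k : ℕ, s = t ^ k := by
  have z2 := hR.r7
  have hu : ev X Y Z wu = (ev X Y Z wc)⁻¹ * Z * ev X Y Z wc := by
    rw [← ev_iw z2]
    have : wu = iw wc ++ [4] ++ wc := rfl
    rw [this, ev_append, ev_append, ev_cons, ev_nil, mul_one]
    rfl
  have hg : ev X Y Z wg = X⁻¹ * ev X Y Z wu * Z := by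
    have : wg = [1] ++ wu ++ [4] := rfl
    rw [this, ev_append, ev_append, ev_cons, ev_nil, ev_cons, ev_nil, mul_one, mul_one]
    rfl
  have e1 := ev_eq hR (a := wu ++ [4] ++ (wu ++ [4])) (b := [0, 0]) (by decide +kernel)
  have e2 := ev_eq hR (a := wc ++ wa1 ++ iw wc) (b := wa1 ++ iw wa3 ++ iw wa3 ++ wa1)
    (by decide +kernel)
  have e3 := ev_eq hR (a := wc ++ wa2 ++ iw wc) (b := wa2) (by decide +kernel)
  have e4 := ev_eq hR (a := [2]) (b := wa1 ++ (iw wc ++ wa1 ++ wc) ++ iw wa3 ++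
    iw (iw wc ++ wa3 ++ wc) ++ wa3 ++ (iw wc ++ wa1 ++ wc) ++ iw (iw wc ++ wa3 ++ wc))
    (by decide +kernel)
  have e5 := ev_eq hR (a := [1, 2, 0]) (b := iw wa1 ++ wa3 ++ iw wa1 ++
    iw (iw wc ++ wa3 ++ wc) ++ iw wa3 ++ iw (iw wc ++ wa3 ++ wc) ++ wa2 ++ wa3)
    (by decide +kernel)
  simp only [ev_append, ev_iw z2] at e2 e3 e4 e5
  simp only [ev_append] at e1
  have l4 : ev X Y Z [4] = Z := mul_one _
  have l2 : ev X Y Z [2] = Y := mul_one _
  have l00 : ev X Y Z [0, 0] = X * X := by simp only [ev, letG, mul_one]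
  have l120 : ev X Y Z [1, 2, 0] = X⁻¹ * Y * X := by simp only [ev, letG, mul_one, mul_assoc]
  rw [l4, l00] at e1
  rw [l2] at e4
  rw [l120] at e5
  refine StepDS.exists_t (x := X) (y := Y) (z := Z) (c := ev X Y Z wc) (u := ev X Y Z wu)
    (g := ev X Y Z wg) (a1 := ev X Y Z wa1) (a2 := ev X Y Z wa2) (a3 := ev X Y Z wa3) rfl ?_ hX
    (zz hR) (z_ne_one hR hX) (z_ne_τ hR hX) ?_ (τ_comm hR (by decide +kernel))
    (τ_comm hR (by decide +kernel)) (τ_comm hR (by decide +kernel)) (τ_comm hR (by decide +kernel))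
    (z_comm hR (by decide +kernel)) (z_comm hR (by decide +kernel)) (z_comm hR (by decide +kernel))
    hu e1 hg (z_comm hR (by decide +kernel)) ?_ ?_ ?_ ?_ (ev_mem_U hR (by decide +kernel))
    (ev_mem_U hR (by decide +kernel)) (ev_mem_U hR (by decide +kernel))
    (ev_mem_U hR (by decide +kernel)) ?_ hDA hDK hD'K' h5A hτD hzD hD hK hr
  · have h := ev_eq hR (a := [0, 0, 0, 0]) (b := []) (by decide +kernel)
    simp only [ev, letG, mul_one] at h
    rw [← h]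
    simp only [mul_assoc]
  · have h := τ_comm hR (w := [4]) (by decide +kernel)
    rw [l4] at h
    exact h
  · rw [e2]
    have h1 : ev X Y Z wa1 ∈ Subgroup.closure
        ({ev X Y Z wa1, ev X Y Z wa2, ev X Y Z wa3} : Set G) := Subgroup.subset_closure (by simp)
    have h3 : ev X Y Z wa3 ∈ Subgroup.closure
        ({ev X Y Z wa1, ev X Y Z wa2, ev X Y Z wa3} : Set G) := Subgroup.subset_closure (by simp)
    exact Subgroup.mul_mem _ (Subgroup.mul_mem _ (Subgroup.mul_mem _ h1 (Subgroup.inv_mem _ h3))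
      (Subgroup.inv_mem _ h3)) h1
  · rw [e3]
    exact Subgroup.subset_closure (by simp)
  · set S : Set G := {ev X Y Z wa1, ev X Y Z wa2, ev X Y Z wa3,
      (ev X Y Z wc)⁻¹ * ev X Y Z wa1 * ev X Y Z wc, (ev X Y Z wc)⁻¹ * ev X Y Z wa2 * ev X Y Z wc,
      (ev X Y Z wc)⁻¹ * ev X Y Z wa3 * ev X Y Z wc} with hS
    have h1 : ev X Y Z wa1 ∈ Subgroup.closure S := Subgroup.subset_closure (by simp [hS])
    have h3 : ev X Y Z wa3 ∈ Subgroup.closure S := Subgroup.subset_closure (by simp [hS])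
    have k1 : (ev X Y Z wc)⁻¹ * ev X Y Z wa1 * ev X Y Z wc ∈ Subgroup.closure S :=
      Subgroup.subset_closure (by simp [hS])
    have k3 : (ev X Y Z wc)⁻¹ * ev X Y Z wa3 * ev X Y Z wc ∈ Subgroup.closure S :=
      Subgroup.subset_closure (by simp [hS])
    rw [e4]
    exact Subgroup.mul_mem _ (Subgroup.mul_mem _ (Subgroup.mul_mem _ (Subgroup.mul_mem _
      (Subgroup.mul_mem _ (Subgroup.mul_mem _ h1 k1) (Subgroup.inv_mem _ h3))
      (Subgroup.inv_mem _ k3)) h3) k1) (Subgroup.inv_mem _ k3)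
  · set S : Set G := {ev X Y Z wa1, ev X Y Z wa2, ev X Y Z wa3,
      (ev X Y Z wc)⁻¹ * ev X Y Z wa1 * ev X Y Z wc, (ev X Y Z wc)⁻¹ * ev X Y Z wa2 * ev X Y Z wc,
      (ev X Y Z wc)⁻¹ * ev X Y Z wa3 * ev X Y Z wc} with hS
    have h1 : ev X Y Z wa1 ∈ Subgroup.closure S := Subgroup.subset_closure (by simp [hS])
    have h2 : ev X Y Z wa2 ∈ Subgroup.closure S := Subgroup.subset_closure (by simp [hS])
    have h3 : ev X Y Z wa3 ∈ Subgroup.closure S := Subgroup.subset_closure (by simp [hS])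
    have k3 : (ev X Y Z wc)⁻¹ * ev X Y Z wa3 * ev X Y Z wc ∈ Subgroup.closure S :=
      Subgroup.subset_closure (by simp [hS])
    rw [e5]
    exact Subgroup.mul_mem _ (Subgroup.mul_mem _ (Subgroup.mul_mem _ (Subgroup.mul_mem _
      (Subgroup.mul_mem _ (Subgroup.mul_mem _ (Subgroup.mul_mem _ (Subgroup.inv_mem _ h1) h3)
      (Subgroup.inv_mem _ h1)) (Subgroup.inv_mem _ k3)) (Subgroup.inv_mem _ h3))
      (Subgroup.inv_mem _ k3)) h2) h3
  · have h := τ_comm hR (w := [2]) (by decide +kernel)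
    rw [l2] at h
    exact h

end

end Cfsg.Agent.HN.StepDSWords
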