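import Cfsg.Agent.HN.Loc8Cent
import Cfsg.Agent.HN.StepDSWords
import Cfsg.Agent.HN.StepDFinal

set_option autoImplicit false

/-!
# The Harada–Norton group from the local structure, version for `V × S₈`

From `OutW` and `Twist` (the centraliser of `t` is `E ∪ r E`, `r² = t`) to an injective homomorphism from the
presented Harada–Norton group, whose range is normalised by `r`.
-/

namespace Cfsg.Agent.HN.Loc8Final

open Equiv Cfsg Cfsg.Spor Cfsg.Agent.HN.Pres Cfsg.Agent.HN.Local Cfsg.Agent.HN.Loc8Main Cfsg.Agent.HN.Loc8A12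
open Cfsg.Agent.HN.Loc8Cent Cfsg.Agent.Lib.AltCarmichael Cfsg.Agent.HN.StepDGlue Cfsg.Agent.HN.P1408
open Cfsg.Agent.HN.LocalCent (cen mem_cen)
open Cfsg.Agent.HN.LocalA12 (seq seq_zero seq_one seq_add)
open Cfsg.Agent.HN.WordEq Cfsg.Agent.HN.StepDWords

variable {G : Type*} [Group G] {ι : A8 →* G} {X Y Z : G}

theorem gen3_le_gen4 {t x y : G} : gen 3 (seq ι t x y [7]) ≤ gen 4 (seq ι t x y [6, 7]) := by
  rw [gen_def, Subgroup.closure_le]
  rintro _ ⟨i, hi, rfl⟩
  rcases i with _ | _ | i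
  · have := mem_gen (x := seq ι t x y [6, 7]) (show 0 < 4 by omega)
    rw [seq_zero] at this ⊢
    exact this
  · have := mem_gen (x := seq ι t x y [6, 7]) (show 1 < 4 by omega)
    rw [seq_one] at this ⊢
    exact this
  · have hi0 : i = 0 := by omega
    subst hi0
    have := mem_gen (x := seq ι t x y [6, 7]) (show 3 < 4 by omega)
    exact this

theorem mul_four_eq_pow {g : G} (h : g * g * g * g * g = 1) : g ^ 5 = 1 := by
  rw [← h]
  simp only [pow_succ, pow_zero, one_mul]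

theorem pow_eq_mul_four {g : G} (h : g ^ 5 = 1) : g * g * g * g * g = 1 := by
  rw [← h]
  simp only [pow_succ, pow_zero, one_mul]

/-- Step (D) in the situation of `Twist`. -/
theorem exists_t [Finite G] (hR : Rels X Y Z) (hX : X * X ≠ 1) {x y r : G} {E : Subgroup G}
    (O : OutW (X * X) Z ι x y) (Tw : Twist (X * X) Z ι r E)
    (e1 : ι p1 = ev X Y Z wa1) (e2 : ι p2 = ev X Y Z wa2) (e3 : ι p3 = ev X Y Z wa3)
    (e4 : ι p4 = ev X Y Z wg) :
    ∃ t : G, t ≠ 1 ∧ t * t * t * t * t = 1 ∧ t * Y = Y * t ∧ X⁻¹ * t * X * (t * t) = 1 ∧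
      Z * t * (Z * t) * (Z * t) = 1 ∧ X * X * t * (X * X) * t = 1 ∧
      t ∈ gen 3 (seq ι (X * X) x y [7]) ∧
      ev X Y Z wc * t * (ev X Y Z wc)⁻¹ ∈ gen 3 (seq ι (X * X) x y [7]) ∧
      ∀ s ∈ gen 3 (seq ι (X * X) x y [7]),
        ev X Y Z wc * s * (ev X Y Z wc)⁻¹ ∈ gen 3 (seq ι (X * X) x y [7]) →
        s * s * s * s * s = 1 → ∃ k : ℕ, s = t ^ k := by
  have hD7 : gen 3 (seq ι (X * X) x y [7]) ≤ cen ι LocalCent.S7 := gen_le_cen O [7] LocalCent.S7 (by
    intro s hs i hi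
    rw [List.mem_singleton] at hi
    rw [hi]; exact hs)
  have f2 := ev_eq hR (a := wc ++ wa1 ++ iw wc) (b := wa1 ++ iw wa3 ++ iw wa3 ++ wa1)
    (by decide +kernel)
  have f3 := ev_eq hR (a := wc ++ wa2 ++ iw wc) (b := wa2) (by decide +kernel)
  have z2 := hR.r7
  simp only [ev_append, ev_iw z2] at f2 f3
  have hA : ∀ s : A8, ι s * x⁻¹ = x⁻¹ * ι s := fun s => (O.cx s).inv_left.eq.symm
  refine StepDSWords.exists_t hR hX (D := gen 3 (seq ι (X * X) x y [7]))
    (K := gen 4 (seq ι (X * X) x y [6, 7])) ?_ gen3_le_gen4 ?_ ?_ (t_mem_gen O [7]) (z_mem_gen O [7])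
    (nonempty_gen_equiv (m := 3) (by norm_num) (rel_seq O [7] (by simp)) ⟨0, by norm_num, x_ne_one O⟩)
    (nonempty_gen_equiv (m := 4) (by norm_num) (rel_seq O [6, 7] (by decide)) ⟨0, by norm_num, x_ne_one O⟩)
    ⟨x⁻¹, Subgroup.inv_mem _ (x_mem_gen [7]), ?_, ?_⟩
  · rw [cen7 e1 e2 e3]
    exact hD7
  · -- conjugation by `c`
    have key : gen 3 (seq ι (X * X) x y [7]) ≤
        (gen 4 (seq ι (X * X) x y [6, 7])).comap (MulAut.conj (ev X Y Z wc)⁻¹).toMonoidHom := by
      refine gen_le_of_cube O [7] fun g hg h3 => ?_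
      rw [Subgroup.mem_comap]
      simp only [MulEquiv.coe_toMonoidHom, MulAut.conj_apply, inv_inv]
      have hg7 : g ∈ Subgroup.centralizer (StepDWords.S7 X Y Z) := by
        rw [cen7 e1 e2 e3]
        exact hD7 hg
      rw [Subgroup.mem_centralizer_iff] at hg7
      have c1 := hg7 (ev X Y Z wa1) (by simp [StepDWords.S7])
      have c2 := hg7 (ev X Y Z wa2) (by simp [StepDWords.S7])
      have c3 := hg7 (ev X Y Z wa3) (by simp [StepDWords.S7])
      refine cen6_odd O Tw (n := 3) ?_ (by decide) ?_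
      · rw [← cen6 e1 e2, Subgroup.mem_centralizer_iff]
        have conj : ∀ a : G, Commute (ev X Y Z wc * a * (ev X Y Z wc)⁻¹) g →
            a * ((ev X Y Z wc)⁻¹ * g * ev X Y Z wc) = (ev X Y Z wc)⁻¹ * g * ev X Y Z wc * a := by
          intro a ha
          calc a * ((ev X Y Z wc)⁻¹ * g * ev X Y Z wc) =
              (ev X Y Z wc)⁻¹ * ((ev X Y Z wc * a * (ev X Y Z wc)⁻¹) * g) * ev X Y Z wc := by group
            _ = (ev X Y Z wc)⁻¹ * (g * (ev X Y Z wc * a * (ev X Y Z wc)⁻¹)) * ev X Y Z wc := by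
                rw [ha.eq]
            _ = _ := by group
        intro h hh
        simp only [StepDWords.S6, Set.mem_insert_iff, Set.mem_singleton_iff] at hh
        rcases hh with rfl | rfl
        · apply conj
          rw [f2]
          have d1 : Commute (ev X Y Z wa1) g := c1
          have d3 : Commute (ev X Y Z wa3) g := c3
          exact ((d1.mul_left d3.inv_left).mul_left d3.inv_left).mul_left d1
        · apply conj
          rw [f3]
          exact c2
      · have : ((ev X Y Z wc)⁻¹ * g * ev X Y Z wc) ^ 3 = (ev X Y Z wc)⁻¹ * g ^ 3 * ev X Y Z wc := by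
          have h5 := conj_pow (i := 3) (a := (ev X Y Z wc)⁻¹) (b := g)
          rw [inv_inv] at h5
          exact h5
        rw [this, h3]
        group
    intro d hd
    have h1 := key hd
    rw [Subgroup.mem_comap] at h1
    simpa only [MulEquiv.coe_toMonoidHom, MulAut.conj_apply, inv_inv] using h1
  · intro d hd h5
    rw [cen7 e1 e2 e3] at hd
    exact cen7_odd O Tw hd (n := 5) (by decide) (mul_four_eq_pow h5)
  · rw [← e4]
    exact hA _
  · rw [inv_inv]
    exact O.xu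

/-- **The homomorphism from the Harada–Norton group.** -/
theorem exists_HN [Finite G] [IsSimpleGroup Spor.HN] (hR : Rels X Y Z) (hX : X * X ≠ 1) {x y r : G}
    {E : Subgroup G} (O : OutW (X * X) Z ι x y) (Tw : Twist (X * X) Z ι r E)
    (e1 : ι p1 = ev X Y Z wa1) (e2 : ι p2 = ev X Y Z wa2) (e3 : ι p3 = ev X Y Z wa3)
    (e4 : ι p4 = ev X Y Z wg) (hXE : X ∈ E) (hYE : Y ∈ E) (hZE : Z ∈ E) :
    ∃ θ : Spor.HN →* G, Function.Injective θ ∧ θ hx = X ∧ θ hy = Y ∧ θ hz = Z ∧
      ∀ g ∈ θ.range, r * g * r⁻¹ ∈ θ.range := by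
  obtain ⟨t, -, t5, ty, tx, tz, tτ, tD, tD', tk⟩ := exists_t hR hX O Tw e1 e2 e3 e4
  have a5 : t ^ 5 = 1 := mul_four_eq_pow t5
  have ax : (X⁻¹ * t * X) * (t ^ 2) = 1 := by
    rw [pow_two]
    exact tx
  have ay : t⁻¹ * Y⁻¹ * t * Y = 1 := by
    calc t⁻¹ * Y⁻¹ * t * Y = t⁻¹ * Y⁻¹ * (t * Y) := by group
      _ = t⁻¹ * Y⁻¹ * (Y * t) := by rw [ty]
      _ = 1 := by group
  have az : (Z * t) ^ 3 = 1 := by
    rw [← tz]
    simp only [pow_succ, pow_zero, one_mul]
  let θ := StepDFinal.liftHN hR a5 ax ay az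
  have θx : θ hx = X := PresentedGroup.toGroup.of _
  have θy : θ hy = Y := PresentedGroup.toGroup.of _
  have θz : θ hz = Z := PresentedGroup.toGroup.of _
  have θt : θ (PresentedGroup.of HN.Gen.t) = t := PresentedGroup.toGroup.of _
  refine ⟨θ, StepDFinal.injective_of_simple θ (g := hx * hx) (by rw [map_mul, θx]; exact hX), θx, θy, θz, ?_⟩
  have mX : X ∈ θ.range := ⟨_, θx⟩
  have mY : Y ∈ θ.range := ⟨_, θy⟩
  have mZ : Z ∈ θ.range := ⟨_, θz⟩
  have mt : t ∈ θ.range := ⟨_, θt⟩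
  have hE : ∀ a ∈ E, a ∈ θ.range → r * a * r⁻¹ ∈ θ.range := by
    intro a ha haθ
    rcases Tw.rE a ha with h | h
    · rw [h]; exact haθ
    · rw [h]; exact θ.range.mul_mem (θ.range.mul_mem mX mX) haθ
  -- the element of order five
  have hτr : Commute r (X * X) := Tw.rt
  have hD7 : gen 3 (seq ι (X * X) x y [7]) ≤ cen ι LocalCent.S7 := gen_le_cen O [7] LocalCent.S7 (by
    intro s hs i hi
    rw [List.mem_singleton] at hi
    rw [hi]; exact hs)
  have hrK : r ∈ cen ι LocalCent.S7 := by rw [mem_cen]; exact fun s _ => Tw.rι s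
  have hconj5 : ∀ a : G, ∀ b : G, a ^ 5 = 1 → (b * a * b⁻¹) ^ 5 = 1 := by
    intro a b h
    rw [conj_pow, h]
    group
  have hrD : ∀ s ∈ gen 3 (seq ι (X * X) x y [7]), s ^ 5 = 1 →
      r * s * r⁻¹ ∈ gen 3 (seq ι (X * X) x y [7]) := by
    intro s hs hs5
    exact cen7_odd O Tw ((cen ι LocalCent.S7).mul_mem ((cen ι LocalCent.S7).mul_mem hrK (hD7 hs))
      ((cen ι LocalCent.S7).inv_mem hrK)) (n := 5) (by decide) (hconj5 _ _ hs5)
  have hcE : ev X Y Z wc ∈ E := by
    have hl : ∀ w : List ℕ, ev X Y Z w ∈ E := by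
      intro w
      induction w with
      | nil => exact E.one_mem
      | cons a w ih =>
        rw [ev_cons]
        refine E.mul_mem ?_ ih
        unfold letG
        split <;>
          (first
            | exact hXE
            | exact E.inv_mem hXE
            | exact hYE
            | exact E.inv_mem hYE
            | exact hZE)
    exact hl _
  have hrt : r * t * r⁻¹ ∈ θ.range := by
    have h1 := hrD t tD a5
    have h2 : ev X Y Z wc * (r * t * r⁻¹) * (ev X Y Z wc)⁻¹ ∈ gen 3 (seq ι (X * X) x y [7]) := by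
      have hct5 : (ev X Y Z wc * t * (ev X Y Z wc)⁻¹) ^ 5 = 1 := hconj5 _ _ a5
      have h3 := hrD _ tD' hct5
      have h4 : r⁻¹ * ev X Y Z wc * r = ev X Y Z wc ∨ r⁻¹ * ev X Y Z wc * r = ev X Y Z wc * (X * X) := by
        rcases Tw.rE _ hcE with h | h
        · left
          calc r⁻¹ * ev X Y Z wc * r = r⁻¹ * (r * ev X Y Z wc * r⁻¹) * r := by rw [h]
            _ = _ := by group
        · right
          have hc : Commute (ev X Y Z wc) (X * X) := Tw.Et _ hcE
          calc r⁻¹ * ev X Y Z wc * r = r⁻¹ * ((X * X)⁻¹ * ((X * X) * ev X Y Z wc)) * r := by group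
            _ = r⁻¹ * ((X * X)⁻¹ * (r * ev X Y Z wc * r⁻¹)) * r := by rw [h]
            _ = r⁻¹ * ((r * (X * X)⁻¹) * ev X Y Z wc * r⁻¹) * r := by
                rw [hτr.inv_right.eq]; group
            _ = (X * X)⁻¹ * ev X Y Z wc := by group
            _ = ev X Y Z wc * (X * X)⁻¹ := by rw [hc.inv_right.eq]
            _ = ev X Y Z wc * (X * X) := by rw [inv_eq_of_mul_eq_one_left O.hu]
      rcases h4 with h4 | h4
      · have e : ev X Y Z wc * (r * t * r⁻¹) * (ev X Y Z wc)⁻¹ =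
            r * (ev X Y Z wc * t * (ev X Y Z wc)⁻¹) * r⁻¹ := by
          calc ev X Y Z wc * (r * t * r⁻¹) * (ev X Y Z wc)⁻¹ =
              r * ((r⁻¹ * ev X Y Z wc * r) * t * (r⁻¹ * ev X Y Z wc * r)⁻¹) * r⁻¹ := by group
            _ = _ := by rw [h4]
        rw [e]
        exact h3
      · have e : ev X Y Z wc * (r * t * r⁻¹) * (ev X Y Z wc)⁻¹ =
            (r * (ev X Y Z wc * t * (ev X Y Z wc)⁻¹) * r⁻¹)⁻¹ := by
          have et : X * X * t * (X * X)⁻¹ = t⁻¹ := by
            rw [inv_eq_of_mul_eq_one_left O.hu]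
            exact eq_inv_of_mul_eq_one_left tτ
          calc ev X Y Z wc * (r * t * r⁻¹) * (ev X Y Z wc)⁻¹ =
              r * ((r⁻¹ * ev X Y Z wc * r) * t * (r⁻¹ * ev X Y Z wc * r)⁻¹) * r⁻¹ := by group
            _ = r * (ev X Y Z wc * (X * X * t * (X * X)⁻¹) * (ev X Y Z wc)⁻¹) * r⁻¹ := by
                rw [h4]; group
            _ = _ := by rw [et]; group
        rw [e]
        exact Subgroup.inv_mem _ h3
    obtain ⟨k, hk⟩ := tk _ h1 h2 (pow_eq_mul_four (hconj5 _ _ a5))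
    rw [hk]
    exact θ.range.pow_mem mt k
  -- all the generators
  have hgen : (⊤ : Subgroup Spor.HN) ≤ (θ.range.comap (MulAut.conj r).toMonoidHom).comap θ := by
    have htop : Subgroup.closure (Set.range (PresentedGroup.of : HN.Gen → Spor.HN)) = ⊤ :=
      PresentedGroup.closure_range_of _
    rw [← htop, Subgroup.closure_le]
    rintro _ ⟨i, rfl⟩
    show r * θ (PresentedGroup.of i) * r⁻¹ ∈ θ.range
    cases i
    · have : θ (PresentedGroup.of HN.Gen.x) = X := θx
      rw [this]; exact hE _ hXE mX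
    · have : θ (PresentedGroup.of HN.Gen.y) = Y := θy
      rw [this]; exact hE _ hYE mY
    · have : θ (PresentedGroup.of HN.Gen.z) = Z := θz
      rw [this]; exact hE _ hZE mZ
    · rw [θt]; exact hrt
  rintro _ ⟨g, rfl⟩
  exact hgen (Subgroup.mem_top g)

end Cfsg.Agent.HN.Loc8Final
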