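import Cfsg.Agent.HN.FusionOut
import Cfsg.Agent.HN.Loc8Final

set_option autoImplicit false

/-!
# The local structure for `H0 ∘ ⟨r⟩`, `r² = τ`

`φ : H0 →* G` embeds `H0 = 2.HS.2`, the centraliser of `φ τ` is `φ(H0) ∪ φ(H0) r`, where `r² = φ τ` and `r` commutes
with the even part of `H0`.
-/

namespace Cfsg.Agent.HN.ExtR

open Cfsg Cfsg.Agent.HN.Pres Cfsg.Agent.HN.P1408 Cfsg.Agent.HN.HS100 Cfsg.Agent.HN.H0Basic Cfsg.Agent.HN.Local
open Cfsg.Agent.HN.Loc8 Cfsg.Agent.HN.Loc8Cent Cfsg.Agent.HN.Loc8Final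
open Cfsg.Agent.HN.LocFromFusion (gz_sq gz_conj isConj_τ_gz isConj_map)
open Cfsg.Agent.HN.Iota (iota iota_cyc top_of_gens gw iota_mem_K z_not_mem_K)
open Cfsg.Agent.HN.LocalCent (cen mem_cen)
open Cfsg.Agent.Lib.AltCarmichael (cyc cyc_mem)
open Cfsg.Agent.HN.FusionOut (isConj_inv_mul p_w4_ne)
open Equiv

/-! ### Conjugation by `gx` -/

/-- The transposition by which `gx` acts. -/
def p0 : Perm (Fin 8) := swap 1 2

/-- The induced permutation of the generators. -/
def pi12 (i : ℕ) : ℕ := if i = 1 then 2 else if i = 2 then 1 else i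

theorem pi12_lt : ∀ i < 6, pi12 i < 6 := by decide

theorem cj_cyc : ∀ i < 6, p0 * cyc 6 i * p0⁻¹ = cyc 6 (pi12 i) := by decide +kernel

theorem gx_gw : ∀ i < 6, eqw ([0] ++ gw i) (gw (pi12 i) ++ [0]) = true := by decide +kernel

/-- `gx` normalises `iota(A₈)`, acting as the transposition `(1 2)`. -/
theorem gx_iota (s : A8) : gx * iota s * gx⁻¹ = iota (cj p0 s) := by
  let T : Subgroup A8 := MonoidHom.eqLocus ((MulAut.conj gx).toMonoidHom.comp iota)
    (iota.comp (MulAut.conjNormal p0 : MulAut A8).toMonoidHom)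
  have hT : T = ⊤ := by
    apply top_of_gens
    intro i hi
    show gx * iota ⟨cyc 6 i, cyc_mem 6 i hi⟩ * gx⁻¹ = iota (cj p0 ⟨cyc 6 i, cyc_mem 6 i hi⟩)
    have e1 : cj p0 ⟨cyc 6 i, cyc_mem 6 i hi⟩ = ⟨cyc 6 (pi12 i), cyc_mem 6 (pi12 i) (pi12_lt i hi)⟩ := by
      apply Subtype.ext
      rw [coe_cj]
      exact cj_cyc i hi
    rw [e1, iota_cyc hi, iota_cyc (pi12_lt i hi), mul_inv_eq_iff_eq_mul]
    have h := hw_eq (gx_gw i hi)
    rw [hw_append, hw_append, hw_x] at h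
    exact h
  have hs : s ∈ T := by rw [hT]; exact Subgroup.mem_top _
  exact hs

theorem p0_ne (s : A8) : p0 ≠ (s : Perm (Fin 8)) := by
  intro h
  have h1 : Perm.sign p0 = -1 := by decide
  have h2 : Perm.sign (s : Perm (Fin 8)) = 1 := s.2
  rw [← h, h1] at h2
  exact absurd h2 (by decide)

theorem not_mem_K_iff {h : H0} (hh : h ∉ K) : h * gz ∈ K := by
  rw [mem_K_iff, map_mul, sgn_gz]
  rw [mem_K_iff] at hh
  rcases Int.units_eq_one_or (sgn h) with h1 | h1
  · exact absurd h1 hh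
  · rw [h1]; decide

variable {G : Type*} [Group G]

/-- The centraliser of `φ τ` is `φ(H0) ∪ φ(H0) r`. -/
structure Ext (φ : H0 →* G) (r : G) : Prop where
  inj : Function.Injective φ
  r2 : r * r = φ τ
  rK : ∀ k : H0, k ∈ K → Commute r (φ k)
  rz : r * φ gz * r⁻¹ = φ (τ * gz)
  cent : ∀ g : G, Commute g (φ τ) → ∃ h : H0, g = φ h ∨ g = φ h * r

namespace Ext

variable {φ : H0 →* G} {r : G} (E : Ext φ r)
include E

theorem r_conj (h : H0) : r * φ h * r⁻¹ = φ h ∨ r * φ h * r⁻¹ = φ (τ * h) := by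
  by_cases hh : h ∈ K
  · left
    rw [(E.rK h hh).eq, mul_inv_cancel_right]
  · right
    have h1 := (E.rK _ (not_mem_K_iff hh)).eq
    have e : h = (h * gz) * gz := by rw [mul_assoc, gz_sq, mul_one]
    have e' : τ * h = (h * gz) * (τ * gz) := by
      conv_lhs => rw [e]
      rw [← mul_assoc, ← τ_comm (h * gz), mul_assoc]
    rw [e', map_mul, ← E.rz]
    conv_lhs => rw [e, map_mul]
    calc r * (φ (h * gz) * φ gz) * r⁻¹ = (r * φ (h * gz)) * φ gz * r⁻¹ := by group
      _ = (φ (h * gz) * r) * φ gz * r⁻¹ := by rw [h1]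
      _ = _ := by group

theorem rι (s : A8) : Commute r (φ (iota s)) := E.rK _ (iota_mem_K s)

theorem ττ : φ τ * φ τ = 1 := by rw [← map_mul, τ_mul_τ, map_one]

theorem conj_iota {h : H0} {p : Perm (Fin 8)} (hp : ∀ s, h * iota s * h⁻¹ = iota (cj p s)) (s : A8) :
    φ h * φ (iota s) * (φ h)⁻¹ = φ (iota (cj p s)) := by
  rw [← map_inv, ← map_mul, ← map_mul, hp]

theorem four_iota {k : H0} (hk : k ∈ four τ gz) (s : A8) : k * iota s = iota s * k := by
  have h1 := (IotaCent.cent.cu s).eq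
  have h2 := (IotaCent.cent.cv s).eq
  rcases hk with rfl | rfl | rfl | rfl
  · rw [one_mul, mul_one]
  · exact h1
  · exact h2
  · rw [mul_assoc, h2, ← mul_assoc, h1, mul_assoc]

omit E in
theorem map_four {k : H0} (hk : k ∈ four τ gz) : φ k ∈ four (φ τ) (φ gz) := by
  rcases hk with rfl | rfl | rfl | rfl
  · left; exact map_one φ
  · right; left; rfl
  · right; right; left; rfl
  · right; right; right; exact map_mul φ τ gz

/-- the action of an element of the centraliser of `gz` in `H0` -/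
theorem cent_act {h : H0} (hh : Commute h gz) : ∃ s : A8, (∀ t, h * iota t * h⁻¹ = iota (cj (s : Perm (Fin 8)) t)) ∧
    ((s : Perm (Fin 8)) = 1 → h ∈ four τ gz) := by
  obtain ⟨k, hk, s, hs⟩ := IotaCent.cent.cent h (τ_comm h) hh
  refine ⟨s, fun t => ?_, fun h1 => ?_⟩
  · rw [cj_coe, map_mul, map_mul, map_inv, hs]
    have h2 := E.four_iota hk (s * t * s⁻¹)
    rw [map_mul, map_mul, map_inv] at h2
    calc k * iota s * iota t * (k * iota s)⁻¹ = (k * (iota s * iota t * (iota s)⁻¹)) * k⁻¹ := by group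
      _ = _ := by rw [h2]; group
  · have h3 : s = 1 := Subtype.ext h1
    rw [hs, h3, map_one, mul_one]
    exact hk

/-- **The centraliser of the four-group.** -/
theorem centW : CentW (φ τ) (φ gz) (φ.comp iota) where
  inj := E.inj.comp IotaCent.cent.inj
  hu := by rw [← map_mul, IotaCent.cent.hu, map_one]
  hv := by rw [← map_mul, IotaCent.cent.hv, map_one]
  comm := by rw [← map_mul, IotaCent.cent.comm, map_mul]
  u1 := fun h => IotaCent.cent.u1 (E.inj (by rw [h, map_one]))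
  v1 := fun h => IotaCent.cent.v1 (E.inj (by rw [h, map_one]))
  ne := fun h => IotaCent.cent.ne (E.inj h)
  cu := fun s => (IotaCent.cent.cu s).map φ
  cv := fun s => (IotaCent.cent.cv s).map φ
  act := by
    intro g h1 h2
    obtain ⟨h, rfl | rfl⟩ := E.cent g h1
    · have h3 : Commute h gz := E.inj (by rw [map_mul, map_mul]; exact h2.eq)
      obtain ⟨s, hs, hs1⟩ := E.cent_act h3
      exact ⟨s, fun t => E.conj_iota hs t, fun h4 => map_four (hs1 h4)⟩
    · -- `h` conjugates `gz` to `τ gz`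
      have h3 : Commute (gx⁻¹ * h) gz := by
        have h4 : φ h * r * φ gz * (φ h * r)⁻¹ = φ gz := by
          rw [h2.eq]; group
        have h5 : φ (h * (τ * gz) * h⁻¹) = φ gz := by
          calc φ (h * (τ * gz) * h⁻¹) = φ h * φ (τ * gz) * (φ h)⁻¹ := by rw [map_mul, map_mul, map_inv]
            _ = φ h * (r * φ gz * r⁻¹) * (φ h)⁻¹ := by rw [E.rz]
            _ = φ h * r * φ gz * (φ h * r)⁻¹ := by group
            _ = φ gz := h4
        have h6 := E.inj h5
        have h7 : h * gz * h⁻¹ = τ * gz := by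
          calc h * gz * h⁻¹ = τ⁻¹ * ((τ * h) * gz * h⁻¹) := by group
            _ = τ⁻¹ * (h * (τ * gz) * h⁻¹) := by rw [← τ_comm]; group
            _ = τ⁻¹ * gz := by rw [h6]
            _ = τ * gz := by rw [τ_inv]
        show (gx⁻¹ * h) * gz = gz * (gx⁻¹ * h)
        calc (gx⁻¹ * h) * gz = gx⁻¹ * (h * gz * h⁻¹) * h := by group
          _ = gx⁻¹ * (gx * gz * gx⁻¹) * h := by rw [h7, gz_conj]
          _ = _ := by group
      obtain ⟨s, hs, hs1⟩ := E.cent_act h3
      refine ⟨p0 * (s : Perm (Fin 8)), fun t => ?_, fun h4 => ?_⟩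
      · have e1 : ∀ t, h * iota t * h⁻¹ = iota (cj (p0 * (s : Perm (Fin 8))) t) := by
          intro t
          rw [← cj_cj, ← gx_iota, ← hs]
          group
        show φ h * r * φ (iota t) * (φ h * r)⁻¹ = φ (iota (cj (p0 * (s : Perm (Fin 8))) t))
        rw [← E.conj_iota e1]
        calc φ h * r * φ (iota t) * (φ h * r)⁻¹ = φ h * (r * φ (iota t)) * r⁻¹ * (φ h)⁻¹ := by group
          _ = φ h * (φ (iota t) * r) * r⁻¹ * (φ h)⁻¹ := by rw [(E.rι t).eq]
          _ = _ := by group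
      · exfalso
        apply p0_ne s⁻¹
        rw [Subgroup.coe_inv]
        exact eq_inv_of_mul_eq_one_left h4

end Ext

/-- **The local structure from fusion.** -/
theorem locW_of {φ : H0 →* G} (hφ : Function.Injective φ)
    (hrange : ∀ g : G, Commute g (φ τ) → IsConj g (φ τ) → g ∈ φ.range)
    (hB1 : IsConj (φ gz) (φ τ))
    (hB2 : ∀ h : H0, h * h = 1 → IsConj (φ h) (φ τ) → h = τ ∨ IsConj h gz ∨ IsConj h (gy ^ 3))
    (hB3 : ¬ IsConj (φ (τ * gy ^ 3)) (φ τ))
    {ι : A8 →* H0} (C : Cent τ gz ι) (C' : CentW (φ τ) (φ gz) (φ.comp ι)) (hf : IsConj (ι f1) (gy ^ 3))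
    {w : A8} (hw1 : w ≠ 1) (hw : IsConj (gz * ι w) gz) (hτw : IsConj (τ * ι w) (gy ^ 3)) :
    LocW (φ τ) (φ gz) (φ.comp ι) := by
  have htz : IsConj (φ (τ * gz)) (φ τ) := (isConj_map isConj_τ_gz).trans hB1
  have hfus : ∀ u v : G, u * u = 1 → v * v = 1 → u * v = v * u → u ≠ v → IsConj u (φ τ) → IsConj v (φ τ) →
      IsConj (u * v) (φ τ) → ∃ h : G, h * u * h⁻¹ = φ τ ∧ h * v * h⁻¹ = φ gz := by
    intro u v hu hv huv hne hut hvt huvt
    obtain ⟨h1, h1u⟩ := isConj_iff.mp hut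
    have hvc : Commute (h1 * v * h1⁻¹) (φ τ) := by
      rw [← h1u]
      show h1 * v * h1⁻¹ * (h1 * u * h1⁻¹) = h1 * u * h1⁻¹ * (h1 * v * h1⁻¹)
      calc h1 * v * h1⁻¹ * (h1 * u * h1⁻¹) = h1 * (v * u) * h1⁻¹ := by group
        _ = h1 * (u * v) * h1⁻¹ := by rw [huv]
        _ = _ := by group
    obtain ⟨c, hc⟩ := hrange _ hvc ((isConj_iff.mpr ⟨h1, rfl⟩ : IsConj v (h1 * v * h1⁻¹)).symm.trans hvt)
    have hcc : c * c = 1 := by
      apply hφ
      rw [map_mul, map_one, hc]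
      calc h1 * v * h1⁻¹ * (h1 * v * h1⁻¹) = h1 * (v * v) * h1⁻¹ := by group
        _ = 1 := by rw [hv]; group
    have hct : IsConj (φ c) (φ τ) := by
      rw [hc]
      exact (isConj_iff.mpr ⟨h1, rfl⟩ : IsConj v (h1 * v * h1⁻¹)).symm.trans hvt
    rcases hB2 c hcc hct with rfl | hcz | hca
    · exfalso
      apply hne
      have : h1 * v * h1⁻¹ = h1 * u * h1⁻¹ := by rw [← hc, h1u]
      have h2 := mul_right_cancel this
      exact (mul_left_cancel h2).symm
    · obtain ⟨k, hk⟩ := isConj_iff.mp hcz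
      refine ⟨φ k * h1, ?_, ?_⟩
      · calc φ k * h1 * u * (φ k * h1)⁻¹ = φ k * (h1 * u * h1⁻¹) * (φ k)⁻¹ := by group
          _ = φ (k * τ) * (φ k)⁻¹ := by rw [h1u, map_mul]
          _ = φ τ := by rw [τ_comm, map_mul]; group
      · calc φ k * h1 * v * (φ k * h1)⁻¹ = φ k * (h1 * v * h1⁻¹) * (φ k)⁻¹ := by group
          _ = φ (k * c * k⁻¹) := by rw [← hc, map_mul, map_mul, map_inv]
          _ = φ gz := by rw [hk]
    · exfalso
      apply hB3
      have e1 : IsConj (φ (τ * gy ^ 3)) (φ (τ * c)) := by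
        apply isConj_map
        obtain ⟨k, hk⟩ := isConj_iff.mp hca
        refine (isConj_iff.mpr ⟨k, ?_⟩ : IsConj (τ * c) (τ * gy ^ 3)).symm
        calc k * (τ * c) * k⁻¹ = (k * τ) * c * k⁻¹ := by group
          _ = τ * (k * c * k⁻¹) := by rw [τ_comm]; group
          _ = _ := by rw [hk]
      have e2 : IsConj (φ (τ * c)) (u * v) := by
        refine (isConj_iff.mpr ⟨h1, ?_⟩ : IsConj (u * v) (φ (τ * c))).symm
        rw [map_mul, hc, ← h1u]; group
      exact (e1.trans e2).trans huvt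
  refine { toCentW := C', zt := hB1, tzt := by rw [← map_mul]; exact htz, fus := hfus, four := ?_ }
  -- the last field
  refine (isConj_map hf).trans ?_
  obtain ⟨h, hz, ht⟩ := hfus (φ gz) (φ τ) C'.hv C'.hu C'.comm.symm (fun e => C'.ne e.symm) hB1 (IsConj.refl _)
    (by rw [← C'.comm, ← map_mul]; exact htz)
  set g := h * φ (gz * ι w) * h⁻¹ with hg
  set m := h * φ (ι w) * h⁻¹ with hm
  have hgm : g = φ τ * m := by
    rw [hg, hm, map_mul, ← hz]; group
  have hgt : IsConj g (φ τ) :=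
    ((isConj_iff.mpr ⟨h, rfl⟩ : IsConj (φ (gz * ι w)) g).symm.trans (isConj_map hw)).trans hB1
  have hcw : Commute (φ (gz * ι w)) (φ gz) := by
    have : Commute (gz * ι w) gz := (Commute.refl gz).mul_left (C.cv w).symm
    exact this.map φ
  have hgc : Commute g (φ τ) := by
    rw [← hz, hg]
    show h * φ (gz * ι w) * h⁻¹ * (h * φ gz * h⁻¹) = h * φ gz * h⁻¹ * (h * φ (gz * ι w) * h⁻¹)
    calc h * φ (gz * ι w) * h⁻¹ * (h * φ gz * h⁻¹) = h * (φ (gz * ι w) * φ gz) * h⁻¹ := by group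
      _ = h * (φ gz * φ (gz * ι w)) * h⁻¹ := by rw [hcw.eq]
      _ = _ := by group
  obtain ⟨c, hc⟩ := hrange g hgc hgt
  have hcc : c * c = 1 := by
    apply hφ
    obtain ⟨q, hq⟩ := isConj_iff.mp hgt
    rw [map_mul, map_one, hc]
    have : g = q⁻¹ * φ τ * q := by rw [← hq]; group
    calc g * g = q⁻¹ * (φ τ * φ τ) * q := by rw [this]; group
      _ = 1 := by rw [← map_mul, τ_mul_τ, map_one]; group
  have hmw : IsConj m (φ (ι w)) := (isConj_iff.mpr ⟨h, rfl⟩ : IsConj (φ (ι w)) m).symm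
  have hττ : φ τ * φ τ = 1 := by rw [← map_mul, τ_mul_τ, map_one]
  have hmc : m = φ (τ * c) := by
    rw [map_mul, hc, hgm, ← mul_assoc, hττ, one_mul]
  rcases hB2 c hcc (by rw [hc]; exact hgt) with hc1 | hcz | hca
  · exfalso
    rw [hc1, τ_mul_τ, map_one] at hmc
    rw [hmc] at hmw
    have h2 : φ (ι w) = 1 := isConj_one_left.mp hmw.symm
    apply hw1
    apply C'.inj
    rw [map_one]
    exact h2
  · exfalso
    apply hB3
    -- `τ * gy ^ 3` is conjugate to `ι w`
    have e1 : IsConj (τ * gy ^ 3) (ι w) := by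
      obtain ⟨k, hk⟩ := isConj_iff.mp hτw
      refine (isConj_iff.mpr ⟨k, ?_⟩ : IsConj (ι w) (τ * gy ^ 3)).symm
      rw [← hk]
      calc k * ι w * k⁻¹ = (k * (τ * τ) * ι w * k⁻¹) := by rw [τ_mul_τ, mul_one]
        _ = (k * τ) * (τ * ι w) * k⁻¹ := by group
        _ = _ := by rw [τ_comm]; group
    have e2 : IsConj (τ * c) (τ * gz) := by
      obtain ⟨k, hk⟩ := isConj_iff.mp hcz
      refine isConj_iff.mpr ⟨k, ?_⟩
      calc k * (τ * c) * k⁻¹ = (k * τ) * c * k⁻¹ := by group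
        _ = τ * (k * c * k⁻¹) := by rw [τ_comm]; group
        _ = _ := by rw [hk]
    have e3 : IsConj (φ (ι w)) (φ (τ * c)) := by rw [← hmc]; exact hmw.symm
    exact (((isConj_map e1).trans e3).trans (isConj_map e2)).trans htz
  · exact ((isConj_map hca).symm.trans (by rw [hc])).trans hgt


/-! ### The labels -/

/-- The conjugates of `φ τ` in its centraliser. -/
structure Labels (φ : H0 →* G) : Prop where
  hz : IsConj (φ gz) (φ τ)
  hb : ¬ IsConj (φ (τ * gy ^ 3)) (φ τ)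
  hL : ∀ g : G, g * g = 1 → Commute g (φ τ) → IsConj g (φ τ) →
    g = φ τ ∨ ∃ h : H0, g = φ h ∧ (IsConj h gz ∨ IsConj h (gy ^ 3))

section

variable {φ : H0 →* G} {r : G}

theorem sq_of_isConj {g : G} (h : IsConj g (φ τ)) : g * g = 1 := by
  obtain ⟨q, hq⟩ := isConj_iff.mp h
  have : g = q⁻¹ * φ τ * q := by rw [← hq]; group
  calc g * g = q⁻¹ * (φ τ * φ τ) * q := by rw [this]; group
    _ = 1 := by rw [← map_mul, τ_mul_τ, map_one]; group

theorem Labels.range (L : Labels φ) {g : G} (h1 : Commute g (φ τ)) (h2 : IsConj g (φ τ)) : g ∈ φ.range := by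
  rcases L.hL g (sq_of_isConj h2) h1 h2 with h | ⟨h, h3, -⟩
  · exact ⟨τ, h.symm⟩
  · exact ⟨h, h3.symm⟩

/-- **The local structure.** -/
theorem locW (E : Ext φ r) (L : Labels φ) : LocW (φ τ) (φ gz) (φ.comp iota) := by
  refine locW_of E.inj (fun g => L.range) L.hz ?_ L.hb IotaCent.cent E.centW ?_ p_w4_ne ?_ ?_
  · intro h hh hconj
    rcases L.hL (φ h) (by rw [← map_mul, hh, map_one]) (by
      show φ h * φ τ = φ τ * φ h
      rw [← map_mul, τ_comm, map_mul]) hconj with h1 | ⟨k, hk, hk'⟩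
    · exact Or.inl (E.inj h1)
    · rw [E.inj hk]
      exact Or.inr hk'
  · rw [Iota.f1_conj]
    exact isConj_inv_mul _ _
  · rw [Iota.z_w4]
    exact isConj_inv_mul _ _
  · rw [Iota.τ_w4]
    exact isConj_inv_mul _ _

theorem comm_of_mem_cen (E : Ext φ r) {S : Set A8} {h : H0} (hh : φ h ∈ cen (φ.comp iota) S) {s : A8}
    (hs : s ∈ S) : h * iota s = iota s * h := by
  apply E.inj
  rw [map_mul, map_mul]
  exact (mem_cen.1 hh s hs).eq

/-- **The twisted centraliser.** -/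
theorem twist [Finite G] (E : Ext φ r) (L : Labels φ) : Twist (φ τ) (φ gz) (φ.comp iota) r φ.range where
  r2 := E.r2
  rι := E.rι
  rz := by rw [E.rz, map_mul]
  Et := by
    rintro _ ⟨h, rfl⟩
    show φ h * φ τ = φ τ * φ h
    rw [← map_mul, τ_comm, map_mul]
  cov := by
    intro g hg
    obtain ⟨h, rfl | rfl⟩ := E.cent g hg
    · exact Or.inl ⟨h, rfl⟩
    · right
      have hr : Commute r (φ τ) := by
        rw [← E.r2]
        exact (Commute.refl r).mul_right (Commute.refl r)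
      rcases E.r_conj h with h1 | h1
      · refine ⟨h, ?_⟩
        calc φ h = r⁻¹ * (r * φ h * r⁻¹) * r := by group
          _ = r⁻¹ * (φ h * r) := by rw [h1]; group
      · refine ⟨τ * h, ?_⟩
        have h2 : r * φ (τ * h) * r⁻¹ = φ h := by
          calc r * φ (τ * h) * r⁻¹ = (r * φ τ) * φ h * r⁻¹ := by rw [map_mul]; group
            _ = φ τ * (r * φ h * r⁻¹) := by rw [hr.eq]; group
            _ = φ (τ * τ * h) := by rw [h1, ← map_mul, mul_assoc]
            _ = φ h := by rw [τ_mul_τ, one_mul]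
        calc φ (τ * h) = r⁻¹ * (r * φ (τ * h) * r⁻¹) * r := by group
          _ = r⁻¹ * (φ h * r) := by rw [h2]; group
  rE := by
    rintro _ ⟨h, rfl⟩
    rcases E.r_conj h with h1 | h1
    · exact Or.inl h1
    · right
      rw [h1, map_mul]
  fus := fun g => L.range
  h7 := by
    rintro _ ⟨h, rfl⟩ hc
    have h1 := comm_of_mem_cen E hc (s := Iota.p_a1) (show (Iota.p_a1 : Perm (Fin 8)) 7 = 7 by decide)
    have h2 := comm_of_mem_cen E hc (s := Iota.p_a2) (show (Iota.p_a2 : Perm (Fin 8)) 7 = 7 by decide)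
    have h3 := comm_of_mem_cen E hc (s := Iota.p_a3) (show (Iota.p_a3 : Perm (Fin 8)) 7 = 7 by decide)
    rw [Iota.iota_a1] at h1
    rw [Iota.iota_a2] at h2
    rw [Iota.iota_a3] at h3
    rcases CentUp2.centralizer_A7 h1 h2 h3 with rfl | rfl | rfl | rfl
    · exact Or.inl (map_one φ)
    · exact Or.inr (Or.inl rfl)
    · exact Or.inr (Or.inr (Or.inl rfl))
    · exact Or.inr (Or.inr (Or.inr (map_mul φ τ gz)))
  h6 := by
    have hle : (φ.range ⊓ cen (φ.comp iota) LocalCent.S6 : Subgroup G) ≤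
        (Subgroup.centralizer ({CentUp2.a1, CentUp2.a2} : Set H0)).map φ := by
      rintro _ ⟨⟨h, rfl⟩, hc⟩
      refine ⟨h, ?_, rfl⟩
      have h1 := comm_of_mem_cen E hc (s := Iota.p_a1)
        ⟨show (Iota.p_a1 : Perm (Fin 8)) 7 = 7 by decide, show (Iota.p_a1 : Perm (Fin 8)) 6 = 6 by decide⟩
      have h2 := comm_of_mem_cen E hc (s := Iota.p_a2)
        ⟨show (Iota.p_a2 : Perm (Fin 8)) 7 = 7 by decide, show (Iota.p_a2 : Perm (Fin 8)) 6 = 6 by decide⟩
      rw [Iota.iota_a1] at h1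
      rw [Iota.iota_a2] at h2
      rw [SetLike.mem_coe, Subgroup.mem_centralizer_iff]
      rintro x (rfl | rfl)
      · exact h1.symm
      · exact h2.symm
    have : Finite H0 := finite_H0
    calc Nat.card (φ.range ⊓ cen (φ.comp iota) LocalCent.S6 : Subgroup G)
        ≤ Nat.card ((Subgroup.centralizer ({CentUp2.a1, CentUp2.a2} : Set H0)).map φ) :=
          Nat.card_le_card_of_injective (Subgroup.inclusion hle) (Subgroup.inclusion_injective hle)
      _ = Nat.card (Subgroup.centralizer ({CentUp2.a1, CentUp2.a2} : Set H0)) :=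
          (Nat.card_congr (Subgroup.equivMapOfInjective _ φ E.inj).toEquiv).symm
      _ ≤ 8 := CentUp2.card_centralizer_A6_le

/-- **The Harada–Norton group in `G`, normalised by `r`.** -/
theorem exists_theta [Finite G] [IsSimpleGroup Spor.HN] (E : Ext φ r) (L : Labels φ) :
    ∃ θ : Spor.HN →* G, Function.Injective θ ∧ θ hx = φ gx ∧ θ hy = φ gy ∧ θ Pres.hz = φ gz ∧
      ∀ g ∈ θ.range, r * g * r⁻¹ ∈ θ.range := by
  obtain ⟨x, y, O⟩ := Loc8Main.exists_outW (locW E L)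
  have Tw := twist E L
  have hτ : φ τ = φ gx * φ gx := by rw [τ, map_pow, pow_two]
  have hne : φ τ ≠ 1 := E.centW.u1
  rw [hτ] at O Tw hne
  refine Loc8Final.exists_HN (FusionOut.map_rels φ rels_H0) hne O Tw ?_ ?_ ?_ ?_ ⟨gx, rfl⟩ ⟨gy, rfl⟩ ⟨gz, rfl⟩
  · rw [FusionOut.p1_eq, MonoidHom.comp_apply, Iota.iota_a1, map_hw]; rfl
  · rw [FusionOut.p2_eq, MonoidHom.comp_apply, Iota.iota_a2, map_hw]; rfl
  · rw [FusionOut.p3_eq, MonoidHom.comp_apply, Iota.iota_a3, map_hw]; rfl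
  · rw [FusionOut.p4_eq, MonoidHom.comp_apply, Iota.iota_g, map_hw]; rfl

end

end Cfsg.Agent.HN.ExtR
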