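import Cfsg.Agent.HN.ExtR

set_option autoImplicit false

/-!
# The twist of an embedding `φ : H0 →* G` by `r`

`φ' = φ` on the even part, `φ' h = φ h * r` on the odd part.
-/

namespace Cfsg.Agent.HN.ExtTwist

open Cfsg.Agent.HN.Pres Cfsg.Agent.HN.HS100 Cfsg.Agent.HN.H0Basic Cfsg.Agent.HN.ExtR
open Cfsg.Agent.HN.LocFromFusion (gz_sq)

variable {G : Type*} [Group G] {φ : H0 →* G} {r : G}

theorem r_odd (E : Ext φ r) {h : H0} (hh : h ∉ K) : r * φ h = φ (τ * h) * r := by
  have h1 := (E.rK _ (not_mem_K_iff hh)).eq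
  have e : h = (h * gz) * gz := by rw [mul_assoc, gz_sq, mul_one]
  have e' : τ * h = (h * gz) * (τ * gz) := by
    conv_lhs => rw [e]
    rw [← mul_assoc, ← τ_comm (h * gz), mul_assoc]
  rw [e', map_mul, ← E.rz]
  conv_lhs => rw [e, map_mul]
  calc r * (φ (h * gz) * φ gz) = (r * φ (h * gz)) * φ gz := by group
    _ = (φ (h * gz) * r) * φ gz := by rw [h1]
    _ = _ := by group

theorem mul_mem_of_not {h k : H0} (hh : h ∉ K) (hk : k ∉ K) : h * k ∈ K := by
  rw [mem_K_iff] at *
  rw [map_mul]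
  rcases Int.units_eq_one_or (sgn h) with h1 | h1
  · exact absurd h1 hh
  · rcases Int.units_eq_one_or (sgn k) with h2 | h2
    · exact absurd h2 hk
    · rw [h1, h2]; decide

open Classical in
/-- The twist. -/
noncomputable def tw (E : Ext φ r) : H0 →* G :=
  MonoidHom.mk' (fun h => if h ∈ K then φ h else φ h * r) (by
    intro h k
    by_cases hh : h ∈ K <;> by_cases hk : k ∈ K
    · rw [if_pos hh, if_pos hk, if_pos (K.mul_mem hh hk), map_mul]
    · have h1 : h * k ∉ K := fun h1 => hk ((Subgroup.mul_mem_cancel_left K hh).1 h1)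
      rw [if_pos hh, if_neg hk, if_neg h1, map_mul, mul_assoc]
    · have h1 : h * k ∉ K := fun h1 => hh ((Subgroup.mul_mem_cancel_right K hk).1 h1)
      rw [if_neg hh, if_pos hk, if_neg h1, map_mul, mul_assoc, mul_assoc, (E.rK k hk).eq]
    · rw [if_neg hh, if_neg hk, if_pos (mul_mem_of_not hh hk)]
      calc φ (h * k) = φ (h * (τ * τ) * k) := by rw [τ_mul_τ, mul_one]
        _ = φ (h * (τ * k) * τ) := by
          congr 1
          rw [mul_assoc h τ τ |>.symm, mul_assoc (h * τ) τ k, mul_assoc h τ (τ * k), mul_assoc h (τ * k) τ,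
            τ_comm (τ * k)]
        _ = φ h * φ (τ * k) * (r * r) := by rw [map_mul, map_mul, E.r2]
        _ = φ h * (φ (τ * k) * r) * r := by group
        _ = φ h * (r * φ k) * r := by rw [r_odd E hk]
        _ = φ h * r * (φ k * r) := by group)

theorem tw_of_mem (E : Ext φ r) {h : H0} (hh : h ∈ K) : tw E h = φ h := if_pos hh

theorem tw_of_not (E : Ext φ r) {h : H0} (hh : h ∉ K) : tw E h = φ h * r := if_neg hh

theorem gz_not : gz ∉ K := Iota.z_not_mem_K

theorem tw_gz (E : Ext φ r) : tw E gz = φ gz * r := tw_of_not E gz_not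

theorem tw_τ (E : Ext φ r) : tw E τ = φ τ := tw_of_mem E τ_mem_K

theorem tw_gx (E : Ext φ r) : tw E gx = φ gx := tw_of_mem E (P1408.hw_x ▸ mem_K_of_par rfl rfl)

theorem tw_gy (E : Ext φ r) : tw E gy = φ gy := tw_of_mem E (P1408.hw_y ▸ mem_K_of_par rfl rfl)

/-- **The twist is again an embedding of the same kind.** -/
theorem tw_ext (E : Ext φ r) : Ext (tw E) r where
  inj := by
    rw [injective_iff_map_eq_one]
    intro h h1
    by_cases hh : h ∈ K
    · rw [tw_of_mem E hh] at h1
      exact (map_eq_one_iff φ E.inj).1 h1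
    · exfalso
      rw [tw_of_not E hh] at h1
      -- `r = φ h⁻¹` is odd and commutes with itself
      have h2 : r = φ h⁻¹ := by rw [map_inv]; exact (inv_eq_of_mul_eq_one_right h1).symm
      have h3 : h⁻¹ ∉ K := fun h3 => hh (by simpa using K.inv_mem h3)
      have h4 := r_odd E h3
      rw [← h2, map_mul, ← h2] at h4
      have h5 : φ τ = 1 := by
        have h6 : φ τ * r * r = 1 * r * r := by rw [one_mul]; exact h4.symm
        exact mul_right_cancel (mul_right_cancel h6)
      exact τ_ne_one ((map_eq_one_iff φ E.inj).1 h5)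
  r2 := by rw [tw_τ, E.r2]
  rK := fun k hk => by rw [tw_of_mem E hk]; exact E.rK k hk
  rz := by
    have h1 : τ * gz ∉ K := fun h1 => gz_not ((Subgroup.mul_mem_cancel_left K τ_mem_K).1 h1)
    rw [tw_gz, tw_of_not E h1, ← E.rz]
    group
  cent := by
    intro g hg
    rw [tw_τ] at hg
    obtain ⟨h, hh⟩ := E.cent g hg
    by_cases hK : h ∈ K
    · exact ⟨h, by rw [tw_of_mem E hK]; exact hh⟩
    · -- `φ h = φ' h * r⁻¹`
      rcases hh with rfl | rfl
      · refine ⟨τ * h, Or.inr ?_⟩
        have h1 : τ * h ∉ K := fun h1 => hK ((Subgroup.mul_mem_cancel_left K τ_mem_K).1 h1)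
        rw [tw_of_not E h1, mul_assoc, E.r2, ← map_mul, τ_comm (τ * h), ← mul_assoc, τ_mul_τ, one_mul]
      · exact ⟨h, Or.inl (by rw [tw_of_not E hK])⟩

end Cfsg.Agent.HN.ExtTwist
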