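import Cfsg.Agent.HN.FactF4

set_option autoImplicit false

/-!
`H0 = 2.HS.2`: a Sylow 3-subgroup, each element of order 3 moves exactly `90` of the 100 points; no element of order 3
commutes with an element `v` with `v ^ 4 = τ`, `v ∉ K` (for S1752).
-/

namespace Cfsg.Agent.HN.FactB

open Cfsg.Agent.HN.Pres Cfsg.Agent.HN.HS100 Cfsg.Agent.HN.P1408 Cfsg.Agent.HN.H0Basic Cfsg.Agent.HN.PC
open Cfsg.Agent.HN.Syl Cfsg.Agent.HN.Classes Cfsg.Agent.HN.CentUp Cfsg.Agent.HN.ForallS Cfsg.Agent.HN.FactF1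
open Cfsg.Agent.HN.FactFA Cfsg.Agent.HN.FactF4
open Cfsg.Agent.SporadicA.PermTab
open Equiv

/-! ### Sylow 3-subgroup -/

/-- generator words of a Sylow 3-subgroup -/
def wp : List ℕ := [3, 0, 2, 1]
/-- generator words of a Sylow 3-subgroup -/
def wq : List ℕ := [3, 3, 0, 2, 2, 1, 3]

/-- generator of a Sylow 3-subgroup -/
def p3 : H0 := hw wp
/-- generator of a Sylow 3-subgroup -/
def q3 : H0 := hw wq

/-- words `p^i q^j` -/
def wij (e : ℕ) : List ℕ := (List.replicate (e / 3) wp).flatten ++ (List.replicate (e % 3) wq).flatten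

theorem hw_rep (w : List ℕ) (n : ℕ) : hw (List.replicate n w).flatten = hw w ^ n := by
  induction n with
  | zero => rw [List.replicate_zero, List.flatten_nil, hw_nil, pow_zero]
  | succ n ih => rw [List.replicate_succ, List.flatten_cons, hw_append, ih, pow_succ']

theorem hw_wij (e : ℕ) : hw (wij e) = p3 ^ (e / 3) * q3 ^ (e % 3) := by
  rw [wij, hw_append, hw_rep, hw_rep]; rfl

theorem p3_cube : p3 ^ 3 = 1 := by
  rw [p3, ← hw_rep, ← hw_nil]
  exact hw_eq (by decide +kernel)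

theorem q3_cube : q3 ^ 3 = 1 := by
  rw [q3, ← hw_rep, ← hw_nil]
  exact hw_eq (by decide +kernel)

theorem pq_comm : q3 * p3 = p3 * q3 := by
  rw [p3, q3, ← hw_append, ← hw_append]
  exact hw_eq (by decide +kernel)

theorem supp_wij : ∀ e < 9, e ≠ 0 → (φ (hw (wij e))).support.card = 90 := by
  intro e he h0
  have : e = 1 ∨ e = 2 ∨ e = 3 ∨ e = 4 ∨ e = 5 ∨ e = 6 ∨ e = 7 ∨ e = 8 := by omega
  rcases this with rfl | rfl | rfl | rfl | rfl | rfl | rfl | rfl <;> exact card_support (by decide +kernel)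

/-- the Sylow 3-subgroup -/
def S3 : Subgroup H0 where
  carrier := {g | ∃ i j : ℕ, g = p3 ^ i * q3 ^ j}
  mul_mem' := by
    rintro _ _ ⟨i, j, rfl⟩ ⟨k, l, rfl⟩
    refine ⟨i + k, j + l, ?_⟩
    have h : q3 ^ j * p3 ^ k = p3 ^ k * q3 ^ j := (Commute.pow_pow (show Commute q3 p3 from pq_comm) j k).eq
    rw [pow_add, pow_add]
    calc p3 ^ i * q3 ^ j * (p3 ^ k * q3 ^ l) = p3 ^ i * (q3 ^ j * p3 ^ k) * q3 ^ l := by group
      _ = p3 ^ i * (p3 ^ k * q3 ^ j) * q3 ^ l := by rw [h]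
      _ = p3 ^ i * p3 ^ k * (q3 ^ j * q3 ^ l) := by group
  one_mem' := ⟨0, 0, by rw [pow_zero, pow_zero, mul_one]⟩
  inv_mem' := by
    rintro _ ⟨i, j, rfl⟩
    refine ⟨2 * i, 2 * j, ?_⟩
    have h : q3 ^ j * p3 ^ i = p3 ^ i * q3 ^ j := (Commute.pow_pow (show Commute q3 p3 from pq_comm) j i).eq
    rw [inv_eq_iff_mul_eq_one]
    have h2 : q3 ^ j * p3 ^ (2 * i) = p3 ^ (2 * i) * q3 ^ j :=
      (Commute.pow_pow (show Commute q3 p3 from pq_comm) j (2 * i)).eq
    calc p3 ^ i * q3 ^ j * (p3 ^ (2 * i) * q3 ^ (2 * j)) = p3 ^ i * (q3 ^ j * p3 ^ (2 * i)) * q3 ^ (2 * j) := by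
          group
      _ = p3 ^ i * (p3 ^ (2 * i) * q3 ^ j) * q3 ^ (2 * j) := by rw [h2]
      _ = p3 ^ (i + 2 * i) * q3 ^ (j + 2 * j) := by rw [pow_add, pow_add]; group
      _ = 1 := by
        rw [show i + 2 * i = 3 * i by ring, show j + 2 * j = 3 * j by ring, pow_mul, pow_mul, p3_cube, q3_cube,
          one_pow, one_pow, mul_one]

theorem pow_mod_three {g : H0} (hg : g ^ 3 = 1) (n : ℕ) : g ^ n = g ^ (n % 3) := by
  conv_lhs => rw [← Nat.div_add_mod n 3]
  rw [pow_add, pow_mul, hg, one_pow, one_mul]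

theorem mem_S3 {g : H0} (hg : g ∈ S3) : ∃ e < 9, g = hw (wij e) := by
  obtain ⟨i, j, rfl⟩ := hg
  refine ⟨3 * (i % 3) + j % 3, by omega, ?_⟩
  rw [hw_wij, show (3 * (i % 3) + j % 3) / 3 = i % 3 by omega, show (3 * (i % 3) + j % 3) % 3 = j % 3 by omega,
    ← pow_mod_three p3_cube, ← pow_mod_three q3_cube]

theorem wij_mem (e : ℕ) : hw (wij e) ∈ S3 := ⟨e / 3, e % 3, hw_wij e⟩

theorem wij_nodup : ((List.range 9).map (fun e => hw (wij e))).Nodup := by
  have h := CentUp2.nodup_hw (ws := (List.range 9).map wij) (by decide +kernel) (p := 8) (by norm_num)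
    (by decide +kernel)
  rwa [List.map_map] at h

theorem card_S3 : Nat.card S3 = 9 := by
  classical
  have h1 : (S3 : Set H0) = ((((List.range 9).map (fun e => hw (wij e))).toFinset : Finset H0) : Set H0) := by
    ext g
    rw [Finset.mem_coe, List.mem_toFinset, List.mem_map]
    constructor
    · intro hg
      obtain ⟨e, he, rfl⟩ := mem_S3 hg
      exact ⟨e, List.mem_range.2 he, rfl⟩
    · rintro ⟨e, _, rfl⟩
      exact wij_mem e
  have h2 : Nat.card S3 = (S3 : Set H0).ncard := rfl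
  rw [h2, h1, Set.ncard_coe_finset, List.toFinset_card_of_nodup wij_nodup]
  simp

theorem factorization_three : (Nat.card H0).factorization 3 = 2 := by
  rw [H0Basic.card_H0, show (177408000 : ℕ) = 3 ^ 2 * 19712000 by norm_num]
  have h2 : (19712000 : ℕ).factorization 3 = 0 := Nat.factorization_eq_zero_of_not_dvd (by norm_num)
  rw [Nat.factorization_mul (by norm_num) (by norm_num), Nat.Prime.factorization_pow Nat.prime_three,
    Finsupp.add_apply, h2, Finsupp.single_eq_same]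

/-- **Each element of order 3 moves exactly 90 of the 100 points.** -/
theorem supp_of_cube {g : H0} (hg : g ^ 3 = 1) (h1 : g ≠ 1) : (φ g).support.card = 90 := by
  have : Fact (Nat.Prime 3) := ⟨Nat.prime_three⟩
  let Q : Sylow 3 H0 := Sylow.ofCard S3 (by rw [card_S3, factorization_three]; norm_num)
  have h2 : IsPGroup 3 (Subgroup.zpowers g) := by
    apply IsPGroup.of_card (n := 1)
    rw [Nat.card_zpowers, pow_one]
    exact orderOf_eq_prime hg h1
  obtain ⟨R, hR⟩ := h2.exists_le_sylow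
  obtain ⟨c, hc⟩ := MulAction.exists_smul_eq H0 Q R
  have h3 : g ∈ ((c • Q : Sylow 3 H0) : Subgroup H0) := by
    rw [hc]
    exact hR (Subgroup.mem_zpowers g)
  have h4 : c⁻¹ * g * c ∈ S3 := by
    rw [Sylow.coe_subgroup_smul, Subgroup.mem_pointwise_smul_iff_inv_smul_mem] at h3
    have h5 : (MulAut.conj c)⁻¹ • g = c⁻¹ * g * c := by
      rw [MulAut.smul_def, MulAut.conj_inv_apply]
    rw [h5] at h3
    exact h3
  obtain ⟨e, he, h5⟩ := mem_S3 h4
  have h6 : IsConj g (c⁻¹ * g * c) := isConj_iff.2 ⟨c⁻¹, by group⟩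
  rw [card_support_of_isConj h6, h5]
  apply supp_wij e he
  rintro rfl
  rw [hw_wij, show 0 / 3 = 0 from rfl, show 0 % 3 = 0 from rfl, pow_zero, pow_zero, mul_one] at h5
  rw [h5] at h6
  exact h1 (isConj_one_left.1 h6)

/-! ### (B1) -/

/-- A permutation `σ` with `σ ^ 4 = 1` whose square has no fixed point; the number of fixed points of each
permutation commuting with `σ` is divisible by 4. -/
theorem four_dvd_card {n : ℕ} {σ γ : Perm (Fin n)} (h4 : σ ^ 4 = 1) (h2 : ∀ i, (σ ^ 2) i ≠ i) (hn : 0 < n)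
    (hc : ∀ i, γ (σ i) = σ (γ i)) : 4 ∣ Nat.card {i : Fin n // γ i = i} := by
  have hpow : ∀ k : ℕ, ∀ i, γ ((σ ^ k) i) = (σ ^ k) (γ i) := by
    intro k
    induction k with
    | zero => intro i; rfl
    | succ k ih => intro i; rw [pow_succ', Perm.mul_apply, hc, ih]; rfl
  have hpow' : ∀ a ∈ Subgroup.zpowers σ, ∃ k : ℕ, σ ^ k = a := by
    intro a ha
    obtain ⟨k, hk⟩ := (mem_powers_iff_mem_zpowers.2 ha)
    exact ⟨k, hk⟩
  let F : SubMulAction (Subgroup.zpowers σ) (Fin n) :=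
    { carrier := {i | γ i = i}
      smul_mem' := by
        rintro ⟨a, ha⟩ i hi
        obtain ⟨k, rfl⟩ := hpow' a ha
        change γ ((σ ^ k) i) = (σ ^ k) i
        have hi' : γ i = i := hi
        rw [hpow, hi'] }
  have hord : orderOf σ = 4 := by
    have : Fact (Nat.Prime 2) := ⟨Nat.prime_two⟩
    have h1 : orderOf σ = 2 ^ (1 + 1) := by
      apply orderOf_eq_prime_pow
      · intro h
        exact h2 ⟨0, hn⟩ (by rw [show (2 : ℕ) = 2 ^ 1 from rfl, h]; rfl)
      · exact h4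
    rw [h1]; norm_num
  have hfree : ∀ i : F, MulAction.stabilizer (Subgroup.zpowers σ) i = ⊥ := by
    rintro ⟨i, hi⟩
    rw [eq_bot_iff]
    rintro ⟨a, ha⟩ hs
    obtain ⟨k, rfl⟩ := hpow' a ha
    rw [MulAction.mem_stabilizer_iff] at hs
    have h3 : (σ ^ k) i = i := congrArg Subtype.val hs
    have h5 : ∀ m : ℕ, ((σ ^ k) ^ m) i = i := by
      intro m
      induction m with
      | zero => rfl
      | succ m ih => rw [pow_succ, Perm.mul_apply, h3, ih]
    have h6 : σ ^ k = 1 := by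
      have h7 : σ ^ k = σ ^ (k % 4) := by
        conv_lhs => rw [← Nat.div_add_mod k 4]
        rw [pow_add, pow_mul, h4, one_pow, one_mul]
      have h8 : k % 4 = 0 ∨ k % 4 = 1 ∨ k % 4 = 2 ∨ k % 4 = 3 := by omega
      rcases h8 with h8 | h8 | h8 | h8
      · rw [h7, h8, pow_zero]
      · exfalso
        apply h2 i
        have h9 := h5 2
        rw [h7, h8, pow_one] at h9
        exact h9
      · exfalso
        apply h2 i
        have h9 := h3
        rw [h7, h8] at h9
        exact h9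
      · exfalso
        apply h2 i
        have h9 := h5 2
        rw [h7, h8, ← pow_mul, show 3 * 2 = 4 + 2 by norm_num, pow_add, h4, one_mul] at h9
        exact h9
    rw [Subgroup.mem_bot]
    exact Subtype.ext h6
  have e := MulAction.selfEquivOrbitsQuotientProd hfree
  have h10 : Nat.card F = Nat.card (Quotient (MulAction.orbitRel (Subgroup.zpowers σ) F)) * 4 := by
    rw [Nat.card_congr e, Nat.card_prod, Nat.card_zpowers, hord]
  have h11 : Nat.card {i : Fin n // γ i = i} = Nat.card F := rfl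
  rw [h11, h10]
  exact Dvd.intro_left _ rfl

/-- **(B1)** no element of order 3 commutes with `v`, where `v ^ 4 = τ`. -/
theorem B1 {v g : H0} (hv : v ^ 4 = τ) (hg : g ^ 3 = 1) (hgv : g * v = v * g) : g = 1 := by
  by_contra h1
  have h2 := supp_of_cube hg h1
  have h3 : (v ^ 2) ^ 2 = τ := by rw [← pow_mul]; exact hv
  have h4 := isConj_of_sq_eq_τ h3
  have h5 : (φ (v ^ 2)).support.card = 100 := by rw [← card_support_of_isConj h4]; exact supp_x
  have h6 : (φ (v ^ 2)).support = Finset.univ := by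
    rw [← Finset.card_eq_iff_eq_univ, h5, Fintype.card_fin]
  have h7 : 4 ∣ Nat.card {i : Fin 100 // φ g i = i} := by
    apply four_dvd_card (σ := φ v)
    · rw [← map_pow, hv, φ_τ]
    · intro i hi
      rw [← map_pow] at hi
      have : i ∈ (φ (v ^ 2)).support := by rw [h6]; exact Finset.mem_univ i
      exact Perm.mem_support.1 this hi
    · norm_num
    · intro i
      rw [← Perm.mul_apply, ← Perm.mul_apply, ← map_mul, ← map_mul, hgv]
  have h8 : Nat.card {i : Fin 100 // φ g i = i} = 10 := by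
    rw [Nat.card_eq_fintype_card, Fintype.card_subtype]
    have h9 : (Finset.univ.filter (fun i => φ g i = i)) = (φ g).supportᶜ := by
      ext i
      simp
    rw [h9, Finset.card_compl, h2, Fintype.card_fin]
  rw [h8] at h7
  exact absurd h7 (by norm_num)

/-! ### (B2) -/

/-- word of the first element of (B2) -/
def wb1 : List ℕ := [3, 0, 2, 1, 3, 3, 0, 2, 1, 3]
/-- word of the second element of (B2) -/
def wb2 : List ℕ := [3, 4, 3, 0, 2, 2, 4, 3, 3, 4, 2, 2, 1, 3, 4, 3, 3, 4, 3, 0, 2, 2, 4, 3, 3, 4, 2, 2, 1, 3, 4, 3]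

/-- **(B2)** two elements of order 3 of `K` commuting with `x`, the product is an involution different from `τ`. -/
theorem B2 : ∃ p₁ ∈ K, ∃ p₂ ∈ K, p₁ * gx = gx * p₁ ∧ p₂ * gx = gx * p₂ ∧ p₁ ^ 3 = 1 ∧ p₂ ^ 3 = 1 ∧
    (p₁ * p₂) ^ 2 = 1 ∧ p₁ * p₂ ≠ 1 ∧ p₁ * p₂ ≠ τ := by
  refine ⟨hw wb1, mem_K_of_par rfl rfl, hw wb2, mem_K_of_par rfl rfl, ?_, ?_, ?_, ?_, ?_, ?_, ?_⟩
  · rw [← hw_x, ← hw_append, ← hw_append]; exact hw_eq (by decide +kernel)
  · rw [← hw_x, ← hw_append, ← hw_append]; exact hw_eq (by decide +kernel)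
  · rw [← hw_rep, ← hw_nil]; exact hw_eq (by decide +kernel)
  · rw [← hw_rep, ← hw_nil]; exact hw_eq (by decide +kernel)
  · rw [← hw_append, ← hw_rep, ← hw_nil]; exact hw_eq (by decide +kernel)
  · rw [← hw_append, ← hw_nil]
    intro h
    exact absurd (eqw_of_hw_eq rfl rfl h) (by decide +kernel)
  · rw [← hw_append, ← hw_τ]
    intro h
    exact absurd (eqw_of_hw_eq rfl rfl h) (by decide +kernel)

end Cfsg.Agent.HN.FactB
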