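import Cfsg.Agent.HN.FactF4

set_option autoImplicit false

/-!
`H0 = 2.HS.2`: the order of `C(d)` is `3840`; no element of order 7 commutes with `d` modulo `τ` (for S1752).
-/

namespace Cfsg.Agent.HN.FactF3

open Cfsg.Agent.HN.Pres Cfsg.Agent.HN.HS100 Cfsg.Agent.HN.P1408 Cfsg.Agent.HN.H0Basic Cfsg.Agent.HN.PC
open Cfsg.Agent.HN.Syl Cfsg.Agent.HN.Classes Cfsg.Agent.HN.CentUp Cfsg.Agent.HN.ForallS Cfsg.Agent.HN.FactF1
open Cfsg.Agent.HN.FactFA Cfsg.Agent.HN.FactF4
open Cfsg.Agent.SporadicA.PermTab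
open Equiv

/-- leading element: `L` are indices below `k` -/
theorem lead_mem {L : List ℕ} {k : ℕ} (hk : k < 11) (hL : ∀ i ∈ L, i < k) :
    hw (cat (L ++ [k])) ∈ P (k + 1) ∧ hw (cat (L ++ [k])) ∉ P k := by
  have hL' : hw (cat L) ∈ P k := hw_cat_mem (fun i hi => mem_Pc (hL i hi))
  have h1 : hw (cat (L ++ [k])) = hw (cat L) * s k := by
    rw [cat, List.flatMap_append, hw_append]
    congr 1
    simp only [List.flatMap_cons, List.flatMap_nil, List.append_nil]
    rfl
  rw [h1]
  refine ⟨(P (k + 1)).mul_mem (Pc_mono (by omega) hL') (mem_Pc (by omega)), fun h => ?_⟩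
  exact s_notMem hk ((Subgroup.mul_mem_cancel_left _ hL').1 h)

/-- Leading elements give a lower bound for the 2-part of the order. -/
theorem two_pow_le {C : Subgroup H0} {ks : List ℕ} (hks : ks.Nodup) (m : ℕ) (hm : m ≤ 11) (hlt : ∀ k ∈ ks, k < m)
    (h : ∀ k ∈ ks, ∃ g ∈ C, g ∈ P (k + 1) ∧ g ∉ P k) : 2 ^ ks.length ≤ Nat.card (C ⊓ P m : Subgroup H0) := by
  induction m generalizing ks with
  | zero =>
    have : ks = [] := by
      rw [List.eq_nil_iff_forall_not_mem]
      intro k hk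
      exact absurd (hlt k hk) (by omega)
    rw [this, List.length_nil, pow_zero]
    exact Nat.card_pos
  | succ m ih =>
    have hle : C ⊓ P m ≤ C ⊓ P (m + 1) := inf_le_inf_left C (Pc_mono (by omega))
    by_cases hm' : m ∈ ks
    · have h1 := ih (ks := ks.erase m) (hks.erase m) (by omega) (by
        intro k hk
        have h2 := List.mem_of_mem_erase hk
        have h3 := hlt k h2
        have h4 : k ≠ m := by
          rintro rfl
          exact absurd hk hks.not_mem_erase
        omega) (fun k hk => h k (List.mem_of_mem_erase hk))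
      rw [List.length_erase_of_mem hm'] at h1
      have hpos : 0 < ks.length := List.length_pos_of_mem hm'
      obtain ⟨g, hgC, hg1, hg2⟩ := h m hm'
      have hlt' : C ⊓ P m < C ⊓ P (m + 1) := lt_of_le_of_ne hle (fun he => hg2 (by
        have : g ∈ C ⊓ P (m + 1) := ⟨hgC, hg1⟩
        rw [← he] at this
        exact this.2))
      obtain ⟨k, hk⟩ := Subgroup.card_dvd_of_le hle
      have hk2 : 2 ≤ k := by
        by_contra hk'
        have hpos' : 0 < Nat.card (C ⊓ P (m + 1) : Subgroup H0) := Nat.card_pos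
        have : k = 1 := by
          rcases Nat.eq_zero_or_pos k with h0 | h0
          · rw [h0, mul_zero] at hk; omega
          · omega
        rw [this, mul_one] at hk
        exact absurd (Subgroup.eq_of_le_of_card_ge hle hk.le) hlt'.ne
      calc 2 ^ ks.length = 2 ^ (ks.length - 1) * 2 := by
            rw [← pow_succ]; congr 1; omega
        _ ≤ Nat.card (C ⊓ P m : Subgroup H0) * k := Nat.mul_le_mul h1 hk2
        _ = Nat.card (C ⊓ P (m + 1) : Subgroup H0) := hk.symm
    · have h1 := ih hks (by omega) (by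
        intro k hk
        have h3 := hlt k hk
        have h4 : k ≠ m := by rintro rfl; exact hm' hk
        omega) h
      exact h1.trans (Nat.card_le_card_of_injective _ (Subgroup.inclusion_injective hle))

theorem two_pow_dvd {C : Subgroup H0} {ks : List ℕ} (hks : ks.Nodup) (hlt : ∀ k ∈ ks, k < 11)
    (h : ∀ k ∈ ks, ∃ g ∈ C, g ∈ P (k + 1) ∧ g ∉ P k) : 2 ^ ks.length ∣ Nat.card C := by
  have h1 := two_pow_le hks 11 le_rfl hlt h
  have h2 : Nat.card (C ⊓ P 11 : Subgroup H0) ∣ 2 ^ 11 := by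
    rw [← card_S]
    exact Subgroup.card_dvd_of_le inf_le_right
  obtain ⟨j, _, hj⟩ := (Nat.dvd_prime_pow Nat.prime_two).1 h2
  rw [hj] at h1
  have h3 : ks.length ≤ j := (Nat.pow_le_pow_iff_right (by norm_num)).1 h1
  calc 2 ^ ks.length ∣ 2 ^ j := pow_dvd_pow 2 h3
    _ = Nat.card (C ⊓ P 11 : Subgroup H0) := hj.symm
    _ ∣ Nat.card C := Subgroup.card_dvd_of_le inf_le_left

theorem card_centralizer_of_isConj {v w : H0} (h : IsConj v w) :
    Nat.card (Subgroup.centralizer {w} : Subgroup H0) = Nat.card (Subgroup.centralizer {v} : Subgroup H0) := by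
  obtain ⟨c, rfl⟩ := isConj_iff.1 h
  have e : (Subgroup.centralizer {c * v * c⁻¹} : Subgroup H0) =
      (Subgroup.centralizer {v}).map (MulAut.conj c).toMonoidHom := by
    ext g
    rw [centralizer_singleton_mem]
    constructor
    · intro hg
      refine ⟨c⁻¹ * g * c, ?_, ?_⟩
      · rw [SetLike.mem_coe, centralizer_singleton_mem]
        calc c⁻¹ * g * c * v = c⁻¹ * (g * (c * v * c⁻¹)) * c := by group
          _ = c⁻¹ * (c * v * c⁻¹ * g) * c := by rw [hg]
          _ = v * (c⁻¹ * g * c) := by group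
      · change c * (c⁻¹ * g * c) * c⁻¹ = g
        group
    · rintro ⟨k, hk, rfl⟩
      rw [SetLike.mem_coe, centralizer_singleton_mem] at hk
      change c * k * c⁻¹ * (c * v * c⁻¹) = c * v * c⁻¹ * (c * k * c⁻¹)
      calc c * k * c⁻¹ * (c * v * c⁻¹) = c * (k * v) * c⁻¹ := by group
        _ = c * (v * k) * c⁻¹ := by rw [hk]
        _ = c * v * c⁻¹ * (c * k * c⁻¹) := by group
  rw [e]
  exact (Nat.card_congr ((Subgroup.centralizer {v}).equivMapOfInjective _
    (MulAut.conj c).injective).toEquiv).symm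

/-- a conjugate of `d` in `S` -/
def dS : List ℕ := cat [1, 2, 3, 4, 5, 7, 8]

/-- conjugating word -/
def cd : List ℕ := [2, 4, 2, 0, 3, 3, 0, 3, 1, 2, 2, 1, 2, 1]

/-- leading elements of `C_S(dS)` -/
def LD : List (List ℕ × ℕ) := [([], 0), ([], 1), ([], 2), ([], 3), ([], 4), ([], 7), ([5], 8), ([5, 6], 9)]

theorem LD_ok : ∀ e ∈ LD, e.2 < 11 ∧ (∀ i ∈ e.1, i < e.2) ∧
    eqw (cat (e.1 ++ [e.2]) ++ dS) (dS ++ cat (e.1 ++ [e.2])) = true := by decide +kernel

theorem isConj_d_dS : IsConj d (hw dS) := by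
  rw [isConj_iff]
  refine ⟨hw (iw cd), ?_⟩
  have h : eqw (iw cd ++ ([1, 3, 1, 2, 1, 4, 3, 4, 2, 4] ++ cd)) dS = true := by decide +kernel
  have h1 := hw_eq h
  rw [hw_append, hw_append] at h1
  rw [← h1, d, hw_iw, inv_inv, mul_assoc]

theorem two_pow_dvd_d : 2 ^ 8 ∣ Nat.card (Subgroup.centralizer {d} : Subgroup H0) := by
  rw [← card_centralizer_of_isConj isConj_d_dS]
  refine two_pow_dvd (ks := LD.map Prod.snd) (by decide) ?_ ?_
  · intro k hk
    obtain ⟨e, he, rfl⟩ := List.mem_map.1 hk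
    exact (LD_ok e he).1
  · intro k hk
    obtain ⟨e, he, rfl⟩ := List.mem_map.1 hk
    obtain ⟨h1, h2, h3⟩ := LD_ok e he
    refine ⟨hw (cat (e.1 ++ [e.2])), ?_, lead_mem h1 h2⟩
    rw [centralizer_singleton_mem, ← hw_append, ← hw_append]
    exact hw_eq h3

theorem prime_dvd_d {w : List ℕ} {p : ℕ} (hp : p.Prime)
    (h1 : eqw (w ++ [1, 3, 1, 2, 1, 4, 3, 4, 2, 4]) ([1, 3, 1, 2, 1, 4, 3, 4, 2, 4] ++ w) = true)
    (h2 : hw w ^ p = 1) (h3 : hw w ≠ 1) : p ∣ Nat.card (Subgroup.centralizer {d} : Subgroup H0) := by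
  refine prime_dvd_card (g := hw w) ?_ hp h2 h3
  rw [centralizer_singleton_mem, d, ← hw_append, ← hw_append]
  exact hw_eq h1

/-- **The order of `C(d)`.** -/
theorem card_centralizer_d : Nat.card (Subgroup.centralizer {d} : Subgroup H0) = 3840 := by
  apply le_antisymm CentUp.card_centralizer_d_le
  have h3 : 3 ∣ Nat.card (Subgroup.centralizer {d} : Subgroup H0) := by
    refine prime_dvd_d (w := [3, 0, 2, 1]) Nat.prime_three (by decide +kernel) ?_ ?_
    · simp only [pow_succ, pow_zero, one_mul]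
      rw [← hw_append, ← hw_append, ← hw_nil]
      exact hw_eq (by decide +kernel)
    · rw [← hw_nil]
      intro h
      exact absurd (eqw_of_hw_eq rfl rfl h) (by decide +kernel)
  have h5 : 5 ∣ Nat.card (Subgroup.centralizer {d} : Subgroup H0) := by
    refine prime_dvd_d (w := [3, 3, 0, 2, 2, 4, 2, 2, 2, 4, 2, 2, 1, 3]) Nat.prime_five (by decide +kernel) ?_ ?_
    · simp only [pow_succ, pow_zero, one_mul]
      rw [← hw_append, ← hw_append, ← hw_append, ← hw_append, ← hw_nil]
      exact hw_eq (by decide +kernel)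
    · rw [← hw_nil]
      intro h
      exact absurd (eqw_of_hw_eq rfl rfl h) (by decide +kernel)
  have h15 : 2 ^ 8 * (3 * 5) ∣ Nat.card (Subgroup.centralizer {d} : Subgroup H0) :=
    Nat.Coprime.mul_dvd_of_dvd_of_dvd (by norm_num) two_pow_dvd_d
      (Nat.Coprime.mul_dvd_of_dvd_of_dvd (by norm_num) h3 h5)
  exact Nat.le_of_dvd Nat.card_pos h15

/-- An element of odd order which commutes with `v` modulo `τ` commutes with `v`. -/
theorem comm_of_odd {g v : H0} {n : ℕ} (hn : Odd n) (hg : g ^ n = 1) (h : g * v = v * g ∨ g * v = v * g * τ) :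
    g * v = v * g := by
  rcases h with h | h
  · exact h
  have h2 : Commute (g ^ 2) v := by
    change g ^ 2 * v = v * g ^ 2
    rw [pow_two, mul_assoc, h, ← mul_assoc, ← mul_assoc, h, mul_assoc (v * g) τ g, ← τ_comm g, ← mul_assoc,
      mul_assoc _ τ τ, τ_mul_τ, mul_one, mul_assoc]
  obtain ⟨k, hk⟩ := hn
  have h3 : g = (g ^ 2) ^ (k + 1) := by
    rw [← pow_mul, show 2 * (k + 1) = 2 * k + 1 + 1 by ring, pow_succ, ← hk, hg, one_mul]
  rw [h3]
  exact (h2.pow_left (k + 1)).eq

/-- **(F3)** -/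
theorem F3 {g : H0} (hg : g ^ 7 = 1) (h : g * d = d * g ∨ g * d = d * g * τ) : g = 1 := by
  by_contra h1
  have h2 := comm_of_odd (by decide : Odd 7) hg h
  have h3 : 7 ∣ Nat.card (Subgroup.centralizer {d} : Subgroup H0) :=
    prime_dvd_card (centralizer_singleton_mem.2 h2) (by norm_num) hg h1
  rw [card_centralizer_d] at h3
  exact absurd h3 (by norm_num)

end Cfsg.Agent.HN.FactF3
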