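import Cfsg.Agent.HN.ForallS

set_option autoImplicit false

/-!
`H0 = 2.HS.2`: the cyclic normal subgroup `⟨u0⟩` of order 4 of `C(a)`, and a characterisation of its generators
among the square roots of `a` and `a τ` (for S1752).
-/

namespace Cfsg.Agent.HN.FactFA

open Cfsg.Agent.HN.Pres Cfsg.Agent.HN.HS100 Cfsg.Agent.HN.P1408 Cfsg.Agent.HN.H0Basic Cfsg.Agent.HN.PC
open Cfsg.Agent.HN.Syl Cfsg.Agent.HN.Classes Cfsg.Agent.HN.CentUp Cfsg.Agent.HN.ForallS
open Cfsg.Agent.SporadicA.PermTab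
open Equiv
open scoped commutatorElement

/-! ### `C(a)` -/

/-- A 2-element of a subgroup containing `S` is conjugate into `S` in this subgroup. -/
theorem exists_conj_in {C : Subgroup H0} (hS : S ≤ C) {g : H0} (hgC : g ∈ C) {n : ℕ} (hg : g ^ 2 ^ n = 1) :
    ∃ c ∈ C, c⁻¹ * g * c ∈ S := by
  have : Fact (Nat.Prime 2) := ⟨Nat.prime_two⟩
  have h1 : IsPGroup 2 (Subgroup.zpowers (⟨g, hgC⟩ : C)) := by
    apply IsPGroup.of_card (n := (Nat.log 2 (orderOf (⟨g, hgC⟩ : C))))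
    rw [Nat.card_zpowers]
    have hg' : (⟨g, hgC⟩ : C) ^ 2 ^ n = 1 := Subtype.ext hg
    obtain ⟨k, hk, hk'⟩ := (Nat.dvd_prime_pow Nat.prime_two).1 (orderOf_dvd_of_pow_eq_one hg')
    rw [hk', Nat.log_pow (by norm_num)]
  obtain ⟨Q, hQ⟩ := h1.exists_le_sylow
  obtain ⟨c, hc⟩ := MulAction.exists_smul_eq C (syl.subtype hS) Q
  refine ⟨c, c.2, ?_⟩
  have h2 : (⟨g, hgC⟩ : C) ∈ ((c • (syl.subtype hS) : Sylow 2 C) : Subgroup C) := by
    rw [hc]
    exact hQ (Subgroup.mem_zpowers _)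
  have h3 := mem_conj_syl h2
  have h4 : c⁻¹ * (⟨g, hgC⟩ : C) * c ∈ S.subgroupOf C := h3
  rw [Subgroup.mem_subgroupOf] at h4
  exact h4

theorem eq_centralizer_a {N : Subgroup H0} (hN : N ≤ Subgroup.centralizer {a}) (hS : S ≤ N) (hy : gy ^ 2 ∈ N)
    (h5 : f5 ∈ N) : N = Subgroup.centralizer {a} := by
  apply Subgroup.eq_of_le_of_card_ge hN
  rw [card_centralizer_a]
  have h11 : 2 ^ 11 ∣ Nat.card N := by
    rw [← card_S]
    exact Subgroup.card_dvd_of_le hS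
  have h3 : 3 ∣ Nat.card N := by
    refine prime_dvd_card hy Nat.prime_three ?_ ?_
    · rw [← pow_mul]
      exact rels_H0.r1
    · rw [pow_two, ← hw_y, ← hw_append, ← hw_nil]
      exact hw_ne rfl rfl (p := 3) (by norm_num) (by decide +kernel)
  have h5' : 5 ∣ Nat.card N := by
    refine prime_dvd_card h5 Nat.prime_five ?_ ?_
    · simp only [pow_succ, pow_zero, one_mul]
      rw [f5, ← hw_append, ← hw_append, ← hw_append, ← hw_append, ← hw_nil]
      exact hw_eq (by decide +kernel)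
    · rw [f5, ← hw_nil]
      exact hw_ne rfl rfl (p := 0) (by norm_num) (by decide +kernel)
  have h15 : 2 ^ 11 * (3 * 5) ∣ Nat.card N :=
    Nat.Coprime.mul_dvd_of_dvd_of_dvd (by norm_num) h11 (Nat.Coprime.mul_dvd_of_dvd_of_dvd (by norm_num) h3 h5')
  exact Nat.le_of_dvd Nat.card_pos h15

/-! ### `u0` -/

/-- the word of `u0` -/
def wu0 : List ℕ := sw 2 ++ (sw 3 ++ sw 5)

/-- square root of `a τ`; `⟨u0⟩` is normal in `C(a)` modulo `τ`. -/
def u0 : H0 := hw wu0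

theorem u0_eq : u0 = s 2 * (s 3 * s 5) := by rw [u0, wu0, hw_append, hw_append]; rfl

theorem u0_mem : u0 ∈ S := by
  rw [u0_eq]
  exact S.mul_mem (s_mem_S (by norm_num)) (S.mul_mem (s_mem_S (by norm_num)) (s_mem_S (by norm_num)))

theorem u0_mem_K : u0 ∈ K := mem_K_of_par rfl rfl

theorem u0_sq : u0 ^ 2 = a * τ := by
  rw [pow_two, u0, ← hw_append, ← hw_a, ← hw_τ, ← hw_append]
  exact hw_eq (by decide +kernel)

theorem u0_comm_a : u0 * a = a * u0 := a_comm u0_mem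

/-- the set `{u0, u0⁻¹, u0 τ, u0⁻¹ τ}` -/
def XU (v : H0) : Prop := v = u0 ∨ v = u0⁻¹ ∨ v = u0 * τ ∨ v = u0⁻¹ * τ

theorem XU.inv {v : H0} (h : XU v) : XU v⁻¹ := by
  rcases h with rfl | rfl | rfl | rfl
  · exact Or.inr (Or.inl rfl)
  · exact Or.inl (inv_inv _)
  · right; right; right
    rw [mul_inv_rev, τ_inv, τ_comm]
  · right; right; left
    rw [mul_inv_rev, τ_inv, inv_inv, τ_comm]

theorem XU.mul_τ {v : H0} (h : XU v) : XU (v * τ) := by
  rcases h with rfl | rfl | rfl | rfl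
  · exact Or.inr (Or.inr (Or.inl rfl))
  · exact Or.inr (Or.inr (Or.inr rfl))
  · left; rw [mul_assoc, τ_mul_τ, mul_one]
  · right; left; rw [mul_assoc, τ_mul_τ, mul_one]

theorem XU.conj {g v : H0} (hg : XU (g * u0 * g⁻¹)) (h : XU v) : XU (g * v * g⁻¹) := by
  rcases h with rfl | rfl | rfl | rfl
  · exact hg
  · have : g * u0⁻¹ * g⁻¹ = (g * u0 * g⁻¹)⁻¹ := by group
    rw [this]; exact hg.inv
  · have : g * (u0 * τ) * g⁻¹ = g * u0 * g⁻¹ * τ := by
      rw [← mul_assoc, mul_assoc (g * u0) τ, ← τ_comm g⁻¹, ← mul_assoc]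
    rw [this]; exact hg.mul_τ
  · have : g * (u0⁻¹ * τ) * g⁻¹ = (g * u0 * g⁻¹)⁻¹ * τ := by
      rw [← mul_assoc, mul_assoc (g * u0⁻¹) τ, ← τ_comm g⁻¹]; group
    rw [this]; exact hg.inv.mul_τ

/-- the elements of `C(a)` which normalise `XU` -/
def NU : Subgroup H0 where
  carrier := {g | g ∈ Subgroup.centralizer {a} ∧ XU (g * u0 * g⁻¹) ∧ XU (g⁻¹ * u0 * g)}
  mul_mem' := by
    rintro g h ⟨g1, g2, g3⟩ ⟨h1, h2, h3⟩
    refine ⟨Subgroup.mul_mem _ g1 h1, ?_, ?_⟩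
    · have : g * h * u0 * (g * h)⁻¹ = g * (h * u0 * h⁻¹) * g⁻¹ := by group
      rw [this]; exact g2.conj h2
    · have : (g * h)⁻¹ * u0 * (g * h) = h⁻¹ * (g⁻¹ * u0 * g) * h⁻¹⁻¹ := by group
      rw [this]
      exact XU.conj (by rwa [inv_inv]) g3
  one_mem' := ⟨Subgroup.one_mem _, Or.inl (by group), Or.inl (by group)⟩
  inv_mem' := by
    rintro g ⟨g1, g2, g3⟩
    exact ⟨Subgroup.inv_mem _ g1, by rwa [inv_inv], by rwa [inv_inv]⟩

/-- word test for `XU` -/
def xuB (w : List ℕ) : Bool :=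
  eqw w wu0 || eqw w (iw wu0) || eqw w (wu0 ++ [0, 0]) || eqw w (iw wu0 ++ [0, 0])

theorem xu_of_xuB {w : List ℕ} (h : xuB w = true) : XU (hw w) := by
  unfold xuB at h
  rw [Bool.or_eq_true, Bool.or_eq_true, Bool.or_eq_true] at h
  rcases h with ((h | h) | h) | h
  · exact Or.inl (hw_eq h)
  · right; left; rw [hw_eq h, hw_iw]; rfl
  · right; right; left; rw [hw_eq h, hw_append, hw_τ]; rfl
  · right; right; right; rw [hw_eq h, hw_append, hw_τ, hw_iw]; rfl

theorem mem_NU {w : List ℕ} (h1 : eqw (w ++ [2, 2, 2]) ([2, 2, 2] ++ w) = true)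
    (h2 : xuB (w ++ (wu0 ++ iw w)) = true) (h3 : xuB (iw w ++ (wu0 ++ w)) = true) : hw w ∈ NU := by
  refine ⟨centralizer_singleton_mem.2 ?_, ?_, ?_⟩
  · have h := hw_eq h1
    rw [hw_append, hw_append] at h
    exact h
  · have h := xu_of_xuB h2
    rw [hw_append, hw_append, hw_iw, ← mul_assoc] at h
    exact h
  · have h := xu_of_xuB h3
    rw [hw_append, hw_append, hw_iw, ← mul_assoc] at h
    exact h

theorem NU_eq : NU = Subgroup.centralizer {a} := by
  apply eq_centralizer_a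
  · intro g hg; exact hg.1
  · have key : ∀ i < 11, eqw (sw i ++ [2, 2, 2]) ([2, 2, 2] ++ sw i) = true ∧ xuB (sw i ++ (wu0 ++ iw (sw i))) = true ∧
        xuB (iw (sw i) ++ (wu0 ++ sw i)) = true := by decide +kernel
    change Pc s 11 ≤ NU
    rw [Pc, Subgroup.closure_le]
    rintro _ ⟨i, hi, rfl⟩
    obtain ⟨h1, h2, h3⟩ := key i hi
    exact mem_NU h1 h2 h3
  · have : gy ^ 2 = hw [2, 2] := by rw [pow_two, ← hw_y, ← hw_append]; rfl
    rw [this]
    exact mem_NU (by decide +kernel) (by decide +kernel) (by decide +kernel)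
  · exact mem_NU (by decide +kernel) (by decide +kernel) (by decide +kernel)

/-- **`{u0^±, u0^± τ}` is normalised by `C(a)`.** -/
theorem XU_conj {g : H0} (hg : g * a = a * g) {v : H0} (hv : XU v) : XU (g * v * g⁻¹) := by
  have h1 : g ∈ NU := by rw [NU_eq]; exact centralizer_singleton_mem.2 hg
  exact XU.conj h1.2.1 hv

/-! ### (FA) -/

/-- test elements of `C_K(a)` -/
def CL : List (List ℕ) := [[0, 4, 2, 2, 2, 4, 3, 3, 0, 2, 2, 2, 1, 2, 2, 1], [0, 4, 2, 2, 2, 4, 1],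
  [4, 2, 4, 2, 2, 0, 2, 0, 2, 2, 4, 3, 1, 3, 3, 4], [3, 0, 4, 2, 4, 2, 4, 3, 4]]

/-- word of the commutator -/
def comw (v c : List ℕ) : List ℕ := v ++ (c ++ (iw v ++ iw c))

theorem hw_comw (v c : List ℕ) : hw (comw v c) = ⁅hw v, hw c⁆ := by
  rw [comw, hw_append, hw_append, hw_append, hw_iw, hw_iw, commutatorElement_def, mul_assoc, mul_assoc]

/-- word in `⟨τ⟩` -/
def inT (w : List ℕ) : Bool := eqw w [] || eqw w [0, 0]

/-- word not in `⟨τ, a⟩` -/
def notV (w : List ℕ) : Bool :=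
  !(eqw w [] || eqw w [0, 0] || eqw w [2, 2, 2] || eqw w [2, 2, 2, 0, 0])

/-- predicate for (FA) -/
def qA (w : List ℕ) : Bool :=
  band (okw w) (!(eqw (w ++ w) [2, 2, 2] || eqw (w ++ w) [2, 2, 2, 0, 0]) || (xuB w ||
    CL.any (fun c => band (inT (comw w c ++ comw w c)) (notV (comw w c)))))

theorem allS_qA : allS qA 10 [] = true := by decide +kernel

theorem CL_ok : ∀ c ∈ CL, okw c = true ∧ par c = false ∧ eqw (c ++ [2, 2, 2]) ([2, 2, 2] ++ c) = true := by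
  decide +kernel

/-- the hypothesis of (FA) -/
def HA (v : H0) : Prop := ∀ c ∈ K, c * a = a * c → (⁅v, c⁆ ^ 2 = 1 ∨ ⁅v, c⁆ ^ 2 = τ) →
  (⁅v, c⁆ = 1 ∨ ⁅v, c⁆ = τ ∨ ⁅v, c⁆ = a ∨ ⁅v, c⁆ = a * τ)

theorem FA_S {v : H0} (hv : v ∈ S) (hv2 : v ^ 2 = a ∨ v ^ 2 = a * τ) (H : HA v) : XU v := by
  obtain ⟨w, hQ, hw'⟩ := forall_S allS_qA hv
  have hQ' : band (okw w) (!(eqw (w ++ w) [2, 2, 2] || eqw (w ++ w) [2, 2, 2, 0, 0]) || (xuB w ||
    CL.any (fun c => band (inT (comw w c ++ comw w c)) (notV (comw w c))))) = true := hQ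
  rw [band_eq_true] at hQ'
  obtain ⟨hok, hQ'⟩ := hQ'
  have hsq : v ^ 2 = hw w ^ 2 := by
    rcases hw' with h | h
    · rw [h]
    · rw [h]; exact mul_τ_pow_even (hw w) 1
  have hcomm : ∀ c : H0, ⁅v, c⁆ = ⁅hw w, c⁆ := by
    intro c
    rcases hw' with h | h
    · rw [h]
    · rw [h, commutatorElement_def, commutatorElement_def, mul_inv_rev, τ_inv]
      have : τ * hw w * c * ((hw w)⁻¹ * τ) * c⁻¹ = τ * (hw w * c * (hw w)⁻¹) * (τ * c⁻¹) := by group
      rw [this, ← τ_comm c⁻¹, ← τ_comm (hw w * c * (hw w)⁻¹), mul_assoc _ τ, ← mul_assoc τ c⁻¹ τ, ← τ_comm c⁻¹,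
        mul_assoc c⁻¹, τ_mul_τ, mul_one]
  rcases Bool.or_eq_true_iff.1 hQ' with h | h
  · exfalso
    rw [Bool.not_eq_true', Bool.or_eq_false_iff] at h
    have h2 : okw (w ++ w) = true := okw_append hok hok
    rcases hv2 with h1 | h1
    · rw [hsq, pow_two, ← hw_append, ← hw_a] at h1
      rw [eqw_of_hw_eq h2 rfl h1] at h
      exact absurd h.1 (by decide)
    · rw [hsq, pow_two, ← hw_append, ← hw_a, ← hw_τ, ← hw_append] at h1
      rw [show ([2, 2, 2, 0, 0] : List ℕ) = [2, 2, 2] ++ [0, 0] from rfl, eqw_of_hw_eq h2 rfl h1] at h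
      exact absurd h.2 (by decide)
  rcases Bool.or_eq_true_iff.1 h with h | h
  · have h1 := xu_of_xuB h
    rcases hw' with h2 | h2
    · rwa [h2]
    · rw [h2, ← τ_comm]; exact h1.mul_τ
  · exfalso
    rw [List.any_eq_true] at h
    obtain ⟨c, hc, h1⟩ := h
    rw [band_eq_true] at h1
    obtain ⟨h1, h2⟩ := h1
    obtain ⟨c1, c2, c3⟩ := CL_ok c hc
    have hca := hw_eq c3
    rw [hw_append, hw_append, hw_a] at hca
    have h3 := H (hw c) (mem_K_of_par c1 c2) hca (by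
      rw [hcomm, pow_two, ← hw_comw, ← hw_append]
      unfold inT at h1
      rcases Bool.or_eq_true_iff.1 h1 with h4 | h4
      · left; rw [hw_eq h4, hw_nil]
      · right; rw [hw_eq h4, hw_τ])
    rw [hcomm, ← hw_comw] at h3
    unfold notV at h2
    rw [Bool.not_eq_true', Bool.or_eq_false_iff, Bool.or_eq_false_iff, Bool.or_eq_false_iff] at h2
    have hok' : okw (comw w c) = true := okw_append hok (okw_append c1 (okw_append (okw_iw hok) (okw_iw c1)))
    obtain ⟨⟨⟨e1, e2⟩, e3⟩, e4⟩ := h2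
    rcases h3 with h4 | h4 | h4 | h4
    · rw [← hw_nil] at h4
      rw [eqw_of_hw_eq hok' rfl h4] at e1; exact absurd e1 (by decide)
    · rw [← hw_τ] at h4
      rw [eqw_of_hw_eq hok' rfl h4] at e2; exact absurd e2 (by decide)
    · rw [← hw_a] at h4
      rw [eqw_of_hw_eq hok' rfl h4] at e3; exact absurd e3 (by decide)
    · rw [← hw_a, ← hw_τ, ← hw_append] at h4
      rw [show ([2, 2, 2, 0, 0] : List ℕ) = [2, 2, 2] ++ [0, 0] from rfl, eqw_of_hw_eq hok' rfl h4] at e4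
      exact absurd e4 (by decide)

theorem conj_comm (g v c : H0) : g⁻¹ * ⁅v, g * c * g⁻¹⁆ * g = ⁅g⁻¹ * v * g, c⁆ := by
  rw [commutatorElement_def, commutatorElement_def]; group

/-- **(FA)** -/
theorem FA {v : H0} (hv2 : v ^ 2 = a ∨ v ^ 2 = a * τ) (H : HA v) :
    v = u0 ∨ v = u0⁻¹ ∨ v = u0 * τ ∨ v = u0⁻¹ * τ := by
  have hva : v * a = a * v := by
    rcases hv2 with h | h
    · rw [← h]; rw [← pow_succ, ← pow_succ']
    · have h1 : v * (a * τ) = a * τ * v := by rw [← h, ← pow_succ, ← pow_succ']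
      rw [mul_assoc a τ v, ← τ_comm v, ← mul_assoc, ← mul_assoc] at h1
      exact mul_right_cancel h1
  have h8 : v ^ 2 ^ 2 = 1 := by
    have : v ^ 2 ^ 2 = (v ^ 2) ^ 2 := by rw [← pow_mul]; norm_num
    rw [this]
    rcases hv2 with h | h
    · rw [h, a_sq']
    · rw [h, aτ_sq]
  obtain ⟨g, hg, hgS⟩ := exists_conj_in S_le_centralizer_a (centralizer_singleton_mem.2 hva) h8
  have hga : g * a = a * g := centralizer_singleton_mem.1 hg
  have hga' : g⁻¹ * a * g = a := by rw [mul_assoc, ← hga, inv_mul_cancel_left]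
  have h1 : XU (g⁻¹ * v * g) := by
    apply FA_S hgS
    · have h2 : (g⁻¹ * v * g) ^ 2 = g⁻¹ * v ^ 2 * g := by rw [pow_two, pow_two]; group
      rw [h2]
      rcases hv2 with h | h
      · left; rw [h, hga']
      · right
        rw [h, ← mul_assoc, mul_assoc, ← τ_comm g, ← mul_assoc, hga']
    · intro c hc hca h2
      have hcK : g * c * g⁻¹ ∈ K := (inferInstance : (K : Subgroup H0).Normal).conj_mem c hc g
      have hca' : g * c * g⁻¹ * a = a * (g * c * g⁻¹) := by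
        have h3 : g⁻¹ * a = a * g⁻¹ := by
          rw [eq_mul_inv_iff_mul_eq, hga']
        calc g * c * g⁻¹ * a = g * c * (g⁻¹ * a) := by group
          _ = g * (c * a) * g⁻¹ := by rw [h3]; group
          _ = (g * a) * c * g⁻¹ := by rw [hca]; group
          _ = a * (g * c * g⁻¹) := by rw [hga]; group
      rw [← conj_comm] at h2 ⊢
      have h4 : ∀ e : H0, (g⁻¹ * e * g) ^ 2 = g⁻¹ * e ^ 2 * g := by
        intro e; rw [pow_two, pow_two]; group
      have h5 : ∀ e f : H0, g⁻¹ * e * g = f ↔ e = g * f * g⁻¹ := by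
        intro e f
        constructor
        · rintro rfl; group
        · rintro rfl; group
      have hτg : g * τ * g⁻¹ = τ := by rw [τ_comm, mul_assoc, mul_inv_cancel, mul_one]
      have hag : g * a * g⁻¹ = a := by rw [hga, mul_assoc, mul_inv_cancel, mul_one]
      have h1g : g * 1 * g⁻¹ = 1 := by group
      have haτg : g * (a * τ) * g⁻¹ = a * τ := by
        have : g * (a * τ) * g⁻¹ = (g * a * g⁻¹) * (g * τ * g⁻¹) := by group
        rw [this, hτg, hag]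
      rw [h4, h5, h5, hτg, h1g] at h2
      rw [h5, h5, h5, h5, hτg, h1g, hag, haτg]
      exact H _ hcK hca' h2
  have h2 := XU_conj hga h1
  have h3 : g * (g⁻¹ * v * g) * g⁻¹ = v := by group
  rwa [h3] at h2

end Cfsg.Agent.HN.FactFA
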