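import Cfsg.Agent.HN.FactF1
import Cfsg.Agent.HN.FactFA

set_option autoImplicit false

/-!
`H0 = 2.HS.2`: elements centralised modulo `τ` by `S ∩ K`; parity of indices; the order of `C(d)` (for S1752).
-/

namespace Cfsg.Agent.HN.FactF4

open Cfsg.Agent.HN.Pres Cfsg.Agent.HN.HS100 Cfsg.Agent.HN.P1408 Cfsg.Agent.HN.H0Basic Cfsg.Agent.HN.PC
open Cfsg.Agent.HN.Syl Cfsg.Agent.HN.Classes Cfsg.Agent.HN.CentUp Cfsg.Agent.HN.ForallS Cfsg.Agent.HN.FactF1
open Cfsg.Agent.HN.FactFA
open Cfsg.Agent.SporadicA.PermTab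
open Equiv

/-- tables for `fs` -/
def fsV : List ℕ := [0x981883082206215c2e8180780d02c8350bc00c2a83906403c0002909e084240630921282584d03c1180d01f0860201581b03a0981185b0760dc2a0170740502c05a06614c2f80605e0700882c0820482800a0400f81280c07a1802702708811c1f82e0801140c85c070058028360260a8168010a402c0682401c0a00204200e0c00a8090ac00808051, 0x4a18830827052134258310b8014250420900e81784106a0fc0e05f09e0a02b8130761642305e0040042280600e0e02a01b0a40901e8500200981580a02a0501003e0661800c01201a168200490720c01e02204200023803034020190170120580e83702208c2a85b0a61302880b03c0101685d01e0d80c82e01c1602204e08607c0602a06818c16056, 0x2601c2183c04217831860070068178310ae010198390360c80a0220aa0a4208250040640b02b076124288560c20fc240270140481204e09608c2a05008a0e82d83d01a0440b8260940181004c09a00c2c02d0a407c0800e00017c0c01d038118298090100302c8350b811c220340020b82105d0500dc278360b41000280f0c40541503e0600781600b]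
/-- chain for `fs` -/
def fsBS : List (ℕ × ℕ × ℕ × ℕ) := [
  (32, 2, 0x40000000b1fa8000b1fa80004cc4000040000000d800000046308000400000004000000090b40000463080004cc40000d80000004cc4000046308000400000007d00000040000000400000004000000062ee8000400000007d000000400000004000000046308000400000007d00000040000000463080005b20000040000000869c80004cc400007d0000004000000040000000400000005b200000400000004630800090b40000400000004cc40000400000007d000000400000004000000062ee80004cc400004000000040000000463080004cc400007d000000463080007d00000040000000400000007d0000004cc400004cc4000046308000400000007d000000400000004cc400007d0000004000000040000000a6600000400000007d0000007d00000046308000400000004000000046308000400000004000000046308000400000004000000040000000a6600000400000004630800090b400007d0000004cc40000400000007d000000869c8000400000004cc400004000000040000000463080004000000090b40, 0x78f9e00007d000000a6600000400000004cc40)]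
/-- last table for `fs` -/
def fsT : ℕ := 0x29315c2d2939cce6010dedd309824cb805fbc4341a26bef8272d71bf1a664c07117f21c3025c9d22272d71bf1000dde933a8010f1000dde9272d71bf2ef2fc5904f1509202c53bbe37b3d32537b3d3251f3554b22ef2fc592c7d19ac05fbc4341a664c07272d71bf29315c2d2eda89fe02c53bbe06acbdbd013fbdf51a664c072834c81b1000dde932d42561117f21c31a664c0702c53bbe1d54819437b3d325272d71bf025c9d2205fbc4340214a07d05fbc43432d4256137b3d3251a664c070639ef6e1000dde92ef2fc591a664c07272d71bf1000dde92eda89fe1ce5538e04f1509202c53bbe37b3d32532d425611a3116ce377b83ee06acbdbd02c53bbe04f15092304e78942dae1e32182af82429315c2d37b3d3253140fa8637b3d3253843d36a2d070ba806acbdbd29315c2d18dc7e9b1ae7351837b3d32502c53bbe1ae7351802c53bbe1a664c0702c53bbe17f873392ef2fc591ce5538e0a44ba8e2c7d19ac377b83ee117f21c332d425613548d7f32ef2fc59377b83ee02c53bbe02c53bbe1ce5538e02c53bbe0a44ba8e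
/-- ranks for `fs` -/
def fsR : ℕ := 0x2a0c82f00602c0a8278240660a42885009a09c0d03d0300e42b0210a80a00e00c0b004c180050800040005a00e0883080f0620d01a8230ba0800f01d0280282406309616c2904e09202c1f8090a6188128430560981685501a1302205f0240402c8190940080d8080c00ec0880e07c1702383a02e00c0205707007c1604208a0f01b82f05c1041b046
/-- order for `fs` -/
def fsO : ℕ := 0x680a8208170401841d8120641100e84b0181441204f0560c42c8580ba0c02b82206606c17835022000038210500200104705a04c2a00602c0402900b00a0041e83e0b61881f84900800c1280904e1782d04e0ac0981485c0781082803a0140e41c04d0321540e05301e17c3183709407c0a81e0800501184c05c0d8160180861802400d01c06823045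

theorem fs_le : Nat.card (cenA [[2, 4, 3, 3, 3, 4, 2, 2, 2, 0, 2, 0, 4, 3, 3, 1, 4], [0, 4, 3, 0, 4, 3, 1, 4, 3, 3, 0, 2, 2, 2, 4, 2, 2, 2, 1], [0, 4, 3, 0, 4, 3, 1, 4, 3, 0, 2, 2, 0, 2, 2, 2, 0, 3, 4, 3, 1]]) ≤ 2 :=
  card_cenA_le (VS := fsV) (bs := fsBS) (T := fsT) (R := fsR) (O := fsO) (by decide +kernel) (by decide +kernel)

/-- A group of order at most 2. -/
theorem eq_of_card_le_two {G : Type*} [Group G] [Finite G] {C : Subgroup G} (h : Nat.card C ≤ 2) {x y : G}
    (hx : x ∈ C) (hy : y ∈ C) (hx1 : x ≠ 1) : y = 1 ∨ y = x := by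
  classical
  by_contra hne
  push Not at hne
  have hn : ([1, x, y] : List G).Nodup := by
    simp only [List.nodup_cons, List.mem_cons, List.not_mem_nil, or_false, not_or, List.nodup_nil, and_true,
      not_false_eq_true]
    exact ⟨⟨hx1.symm, hne.1.symm⟩, hne.2.symm⟩
  have h1 : ((([1, x, y] : List G).toFinset : Finset G) : Set G) ⊆ (C : Set G) := by
    intro z hz
    rw [Finset.mem_coe, List.mem_toFinset] at hz
    rcases List.mem_cons.1 hz with rfl | hz
    · exact C.one_mem
    rcases List.mem_cons.1 hz with rfl | hz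
    · exact hx
    rw [List.mem_singleton] at hz
    exact hz ▸ hy
  have h2 := Set.ncard_le_ncard h1 (Set.toFinite _)
  rw [Set.ncard_coe_finset, List.toFinset_card_of_nodup hn] at h2
  have h3 : (C : Set G).ncard = Nat.card C := rfl
  rw [h3] at h2
  have h4 : ([1, x, y] : List G).length = 3 := rfl
  omega

theorem hw_mem_S_of {w : List ℕ} (L : List ℕ) (hL : ∀ i ∈ L, i < 11) (h : w = cat L) : hw w ∈ S := by
  rw [h]
  exact hw_cat_mem (fun i hi => s_mem_S (hL i hi))

/-- the words of the three elements of `S ∩ K` -/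
def WS : List (List ℕ) := [cat [2], cat [8, 9], cat [8, 10]]

theorem WS_mem {w : List ℕ} (h : w ∈ WS) : hw w ∈ S ∧ hw w ∈ K := by
  have key : ∀ w ∈ WS, okw w = true ∧ par w = false := by decide +kernel
  refine ⟨?_, mem_K_of_par (key w h).1 (key w h).2⟩
  rcases List.mem_cons.1 h with h | h
  · exact hw_mem_S_of [2] (by decide) h
  rcases List.mem_cons.1 h with h | h
  · exact hw_mem_S_of [8, 9] (by decide) h
  rw [List.mem_singleton] at h
  exact hw_mem_S_of [8, 10] (by decide) h

theorem fs_le' : Nat.card (cenA WS) ≤ 2 := fs_le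

/-- **(F4)** the elements centralised modulo `τ` by `S ∩ K`. -/
theorem F4 {h : H0} (hS : ∀ k ∈ S, k ∈ K → k * h * k⁻¹ = h ∨ k * h * k⁻¹ = h * τ) :
    h = 1 ∨ h = τ ∨ h = a ∨ h = a * τ := by
  have key : ∀ g : H0, (∀ k ∈ S, k ∈ K → k * g * k⁻¹ = g ∨ k * g * k⁻¹ = g * τ) → φ g ∈ cenA WS := by
    intro g hg
    refine ⟨range_le ⟨g, rfl⟩, ?_⟩
    change φ g ∈ Subgroup.centralizer (φ '' wset WS)
    rw [Subgroup.mem_centralizer_iff]
    rintro _ ⟨_, ⟨w, hw', rfl⟩, rfl⟩
    obtain ⟨h1, h2⟩ := WS_mem hw'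
    have h3 : φ (hw w * g * (hw w)⁻¹) = φ g := by
      rcases hg _ h1 h2 with h | h
      · rw [h]
      · rw [h, map_mul, φ_τ, mul_one]
    rw [map_mul, map_mul, map_inv, mul_inv_eq_iff_eq_mul] at h3
    exact h3
  have ha : φ a ∈ cenA WS := key a (fun k hk _ => Or.inl (by rw [a_comm hk, mul_assoc, mul_inv_cancel, mul_one]))
  have ha1 : φ a ≠ 1 := by
    rw [Ne, φ_eq_one_iff, not_or]
    exact ⟨a_ne_one, a_ne_τ⟩
  rcases eq_of_card_le_two fs_le' ha (key h hS) ha1 with h1 | h1
  · rcases φ_eq_one_iff.1 h1 with h2 | h2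
    · exact Or.inl h2
    · exact Or.inr (Or.inl h2)
  · rcases φ_eq_iff.1 h1 with h2 | h2
    · exact Or.inr (Or.inr (Or.inl h2))
    · exact Or.inr (Or.inr (Or.inr h2))

/-! ### parity of indices -/

/-- A `p`-subgroup is conjugate into each subgroup of index prime to `p`. -/
theorem exists_conj_le {G : Type*} [Group G] [Finite G] {P N : Subgroup G} (hP : IsPGroup 2 P)
    (hN : ¬ 2 ∣ N.index) : ∃ c : G, ∀ k ∈ P, c⁻¹ * k * c ∈ N := by
  have : Fact (Nat.Prime 2) := ⟨Nat.prime_two⟩
  have h1 : ¬ 2 ∣ Nat.card (G ⧸ N) := hN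
  obtain ⟨x, hx⟩ := hP.nonempty_fixed_point_of_prime_not_dvd_card (G ⧸ N) h1
  obtain ⟨c, rfl⟩ := QuotientGroup.mk_surjective x
  refine ⟨c, fun k hk => ?_⟩
  have h2 : ((k * c : G) : G ⧸ N) = (c : G ⧸ N) := hx ⟨k, hk⟩
  have h3 := QuotientGroup.eq.1 h2.symm
  rw [← mul_assoc] at h3
  exact h3

/-- the elements commuting with `h` modulo `τ` -/
def Cm (h : H0) : Subgroup H0 where
  carrier := {g | g * h * g⁻¹ = h ∨ g * h * g⁻¹ = h * τ}
  mul_mem' := by
    rintro g k hg hk
    have e : g * k * h * (g * k)⁻¹ = g * (k * h * k⁻¹) * g⁻¹ := by group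
    change g * k * h * (g * k)⁻¹ = h ∨ g * k * h * (g * k)⁻¹ = h * τ
    rw [e]
    rcases hk with hk | hk
    · rw [hk]; exact hg
    · rw [hk]
      have e2 : g * (h * τ) * g⁻¹ = g * h * g⁻¹ * τ := by
        rw [← mul_assoc, mul_assoc (g * h) τ, ← τ_comm g⁻¹, ← mul_assoc]
      rw [e2]
      rcases hg with hg | hg
      · right; rw [hg]
      · left; rw [hg, mul_assoc, τ_mul_τ, mul_one]
  one_mem' := Or.inl (by group)
  inv_mem' := by
    intro g hg
    change g⁻¹ * h * g⁻¹⁻¹ = h ∨ g⁻¹ * h * g⁻¹⁻¹ = h * τ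
    rw [inv_inv]
    rcases hg with hg | hg
    · left
      have : h = g⁻¹ * (g * h * g⁻¹) * g := by group
      rw [hg] at this
      exact this.symm
    · right
      have : h = g⁻¹ * (g * h * g⁻¹) * g := by group
      rw [hg, ← mul_assoc, mul_assoc _ τ, ← τ_comm g, ← mul_assoc] at this
      calc g⁻¹ * h * g = g⁻¹ * h * g * τ * τ := by rw [mul_assoc _ τ, τ_mul_τ, mul_one]
        _ = h * τ := by rw [← this]

theorem mem_Cm {h g : H0} : g ∈ Cm h ↔ g * h * g⁻¹ = h ∨ g * h * g⁻¹ = h * τ := Iff.rfl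

theorem isPGroup_S : IsPGroup 2 S := IsPGroup.of_card card_S

theorem conj_of_odd_relIndex {h : H0} (hodd : ¬ 2 ∣ (Cm h).relIndex K) :
    h = 1 ∨ h = τ ∨ IsConj a h ∨ IsConj (a * τ) h := by
  have hP : IsPGroup 2 (S.subgroupOf K) := isPGroup_S.comap_subtype
  obtain ⟨c, hc⟩ := exists_conj_le (G := K) hP (N := (Cm h).subgroupOf K) hodd
  have h1 : (c : H0) * h * (c : H0)⁻¹ = 1 ∨ (c : H0) * h * (c : H0)⁻¹ = τ ∨ (c : H0) * h * (c : H0)⁻¹ = a ∨
      (c : H0) * h * (c : H0)⁻¹ = a * τ := by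
    apply F4
    intro k hkS hkK
    have h2 : (c : H0)⁻¹ * k * c ∈ Cm h := by
      have h3 := hc ⟨k, hkK⟩ (Subgroup.mem_subgroupOf.2 hkS)
      exact Subgroup.mem_subgroupOf.1 h3
    have e : k * ((c : H0) * h * (c : H0)⁻¹) * k⁻¹ = c * (((c : H0)⁻¹ * k * c) * h * ((c : H0)⁻¹ * k * c)⁻¹) * (c : H0)⁻¹ := by
      group
    rw [e]
    rcases h2 with h2 | h2
    · left; rw [h2]
    · right
      rw [h2, ← mul_assoc, mul_assoc ((c : H0) * h) τ, ← τ_comm (c : H0)⁻¹, ← mul_assoc]
  have h4 : ∀ k : H0, (c : H0) * h * (c : H0)⁻¹ = k → IsConj k h := by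
    rintro k rfl
    exact (isConj_iff.2 ⟨c, rfl⟩ : IsConj h _).symm
  rcases h1 with h1 | h1 | h1 | h1
  · left
    exact isConj_one_right.1 (h4 _ h1)
  · right; left
    exact isConj_τ_iff.1 (h4 _ h1)
  · exact Or.inr (Or.inr (Or.inl (h4 _ h1)))
  · exact Or.inr (Or.inr (Or.inr (h4 _ h1)))

theorem centralizer_le_Cm (h : H0) : Subgroup.centralizer {h} ≤ Cm h := by
  intro g hg
  left
  rw [centralizer_singleton_mem.1 hg, mul_assoc, mul_inv_cancel, mul_one]

/-- even index in `K`, for each subgroup of `Cm h`. -/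
theorem two_dvd_relIndex_of {h : H0} (h1 : h ≠ 1) (hτ : h ≠ τ) (ha : ¬ IsConj a h) (hb : ¬ IsConj (a * τ) h)
    {N : Subgroup H0} (hN : N ≤ Cm h) : 2 ∣ N.relIndex K := by
  have h2 : 2 ∣ (Cm h).relIndex K := by
    by_contra hodd
    rcases conj_of_odd_relIndex hodd with h3 | h3 | h3 | h3
    · exact h1 h3
    · exact hτ h3
    · exact ha h3
    · exact hb h3
  exact h2.trans (Subgroup.relIndex_dvd_of_le_left K hN)

theorem two_dvd_relIndex_z {N : Subgroup H0} (hN : N ≤ Cm gz) : 2 ∣ N.relIndex K :=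
  two_dvd_relIndex_of z_ne_one z_ne_τ not_isConj_a_z not_isConj_aτ_z hN

theorem two_dvd_relIndex_d {N : Subgroup H0} (hN : N ≤ Cm d) : 2 ∣ N.relIndex K :=
  two_dvd_relIndex_of d_ne_one d_ne_τ not_isConj_a_d not_isConj_aτ_d hN

theorem x_ne_one : gx ≠ 1 := fun h => τ_ne_one (by rw [τ, h, one_pow])

theorem x_ne_τ : gx ≠ τ := fun h => τ_ne_one (by
  have : τ = gx ^ 2 := rfl
  rw [this, h, τ_sq])

theorem not_isConj_x {v : H0} (hv : v ^ 2 = 1) : ¬ IsConj v gx := fun h => by
  have h1 := sq_of_isConj h (Or.inl hv)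
  exact τ_ne_one (by rw [τ, h1, hv])

theorem two_dvd_relIndex_x {N : Subgroup H0} (hN : N ≤ Cm gx) : 2 ∣ N.relIndex K :=
  two_dvd_relIndex_of x_ne_one x_ne_τ (not_isConj_x a_sq') (not_isConj_x aτ_sq) hN

theorem index_centralizer_a : (Subgroup.centralizer {a} : Subgroup H0).index = 5775 := by
  have h := (Subgroup.centralizer {a} : Subgroup H0).card_mul_index
  rw [card_centralizer_a, H0Basic.card_H0] at h
  omega

theorem relIndex_mul_card' {G : Type*} [Group G] (H K : Subgroup G) :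
    H.relIndex K * Nat.card (H ⊓ K : Subgroup G) = Nat.card K := by
  have h1 := (H.subgroupOf K).card_mul_index
  have h2 : Nat.card (H.subgroupOf K) = Nat.card (H ⊓ K : Subgroup G) := by
    rw [← Subgroup.inf_subgroupOf_right]
    exact Nat.card_congr (Subgroup.subgroupOfEquivOfLe inf_le_right).toEquiv
  rw [h2, mul_comm] at h1
  exact h1

theorem card_K : Nat.card K = 88704000 := by
  have h := K.card_mul_index
  rw [K_index, H0Basic.card_H0] at h
  omega

theorem card_inf_K {C : Subgroup H0} (h : ∃ g ∈ C, g ∉ K) : 2 * Nat.card (C ⊓ K : Subgroup H0) = Nat.card C := by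
  obtain ⟨g, hg, hgK⟩ := h
  have h1 : K.relIndex C = 2 := by
    have h2 : K.relIndex C ∣ 2 := by
      rw [← K_index]; exact Subgroup.relIndex_dvd_index_of_normal _ _
    rcases (Nat.dvd_prime Nat.prime_two).1 h2 with h3 | h3
    · exact absurd (Subgroup.relIndex_eq_one.1 h3 hg) hgK
    · exact h3
  have h4 := relIndex_mul_card' K C
  rw [h1, inf_comm] at h4
  exact h4

theorem card_centralizer_a_inf : Nat.card (Subgroup.centralizer {a} ⊓ K : Subgroup H0) = 15360 := by
  have h := card_inf_K (C := Subgroup.centralizer {a}) ⟨s 10, S_le_centralizer_a (s_mem_S (by norm_num)),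
    not_mem_K_of_par rfl rfl⟩
  rw [card_centralizer_a] at h
  omega

theorem relIndex_centralizer_a : (Subgroup.centralizer {a} : Subgroup H0).relIndex K = 5775 := by
  have h := relIndex_mul_card' (Subgroup.centralizer {a} : Subgroup H0) K
  rw [card_K, card_centralizer_a_inf] at h
  have h2 : (5775 : ℕ) * 15360 = 88704000 := by norm_num
  exact Nat.eq_of_mul_eq_mul_right (by norm_num : 0 < 15360) (h.trans h2.symm)

end Cfsg.Agent.HN.FactF4
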