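import Cfsg.Agent.HN.Classes

set_option autoImplicit false

/-!
Fact F5 on `H0 = 2.HS.2` (for S1752): for `h = z` and `h = d` there are elements `p₁, p₂` of order 3 of `C_K(h)` whose
commutator `w` is an involution different from `τ`, such that `h` and `h w` are conjugate in `K`.
-/

namespace Cfsg.Agent.HN.FactF5

open Cfsg.Agent.HN.Pres Cfsg.Agent.HN.HS100 Cfsg.Agent.HN.P1408 Cfsg.Agent.HN.H0Basic
open Cfsg.Agent.HN.Syl Cfsg.Agent.HN.Classes
open Cfsg.Agent.SporadicA.PermTab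

/-- The statement for an element `h`. -/
def F5 (h : H0) : Prop :=
  ∃ p₁ ∈ K, ∃ p₂ ∈ K, ∃ k ∈ K, p₁ ^ 3 = 1 ∧ p₂ ^ 3 = 1 ∧ p₁ * h = h * p₁ ∧ p₂ * h = h * p₂ ∧
    ∃ w : H0, w = p₁ * p₂ * p₁⁻¹ * p₂⁻¹ ∧ w ∈ K ∧ w * w = 1 ∧ w ≠ 1 ∧ w ≠ τ ∧ k * h * k⁻¹ = h * w

/-- Boolean test for words of `K` -/
def inK (w : List ℕ) : Bool := band (okw w) (Nat.beq (cond (par w) 1 0) 0)

theorem mem_K_of_inK {w : List ℕ} (h : inK w = true) : hw w ∈ K := by
  unfold inK at h
  rw [band_eq_true] at h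
  refine mem_K_of_par h.1 ?_
  cases hp : par w with
  | false => rfl
  | true => rw [hp] at h; exact absurd h.2 (by decide)

/-- the test -/
def chk (v p q k : List ℕ) (e : ℕ) : Bool :=
  band (inK p) (band (inK q) (band (inK k) (band (eqw (p ++ (p ++ p)) []) (band (eqw (q ++ (q ++ q)) [])
    (band (eqw (p ++ v) (v ++ p)) (band (eqw (q ++ v) (v ++ q))
    (band (eqw ((p ++ (q ++ (iw p ++ iw q))) ++ (p ++ (q ++ (iw p ++ iw q)))) [])
    (band (inK (p ++ (q ++ (iw p ++ iw q))))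
    (band (Nat.blt e 1408) (band (neB (tr (p ++ (q ++ (iw p ++ iw q))) e) e)
    (band (neB (tr (p ++ (q ++ (iw p ++ iw q))) e) (tr [0, 0] e))
    (eqw (k ++ (v ++ iw k)) (v ++ (p ++ (q ++ (iw p ++ iw q))))))))))))))))

theorem F5_of_chk {v p q k : List ℕ} {e : ℕ} (h : chk v p q k e = true) : F5 (hw v) := by
  unfold chk at h
  simp only [band_eq_true, neB_iff] at h
  obtain ⟨h1, h2, h3, h4, h5, h6, h7, h8, h9, h10, h11, h12, h13⟩ := h
  have he : e < 1408 := Nat.blt_eq ▸ h10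
  have hw' : hw (p ++ (q ++ (iw p ++ iw q))) = hw p * hw q * (hw p)⁻¹ * (hw q)⁻¹ := by
    rw [hw_append, hw_append, hw_append, hw_iw, hw_iw]; group
  have hok : okw (p ++ (q ++ (iw p ++ iw q))) = true := by
    unfold inK at h9
    rw [band_eq_true] at h9
    exact h9.1
  refine ⟨hw p, mem_K_of_inK h1, hw q, mem_K_of_inK h2, hw k, mem_K_of_inK h3, ?_, ?_, ?_, ?_,
    hw (p ++ (q ++ (iw p ++ iw q))), hw', mem_K_of_inK h9, ?_, ?_, ?_, ?_⟩
  · have := hw_eq h4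
    rw [hw_append, hw_append, hw_nil] at this
    rw [pow_succ, pow_two, mul_assoc]
    exact this
  · have := hw_eq h5
    rw [hw_append, hw_append, hw_nil] at this
    rw [pow_succ, pow_two, mul_assoc]
    exact this
  · have := hw_eq h6
    rwa [hw_append, hw_append] at this
  · have := hw_eq h7
    rwa [hw_append, hw_append] at this
  · have := hw_eq h8
    rwa [hw_append, hw_nil] at this
  · rw [← hw_nil]
    exact hw_ne hok rfl he h11
  · rw [← hw_τ]
    exact hw_ne hok rfl he h12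
  · have := hw_eq h13
    rw [hw_append k, hw_append v, hw_iw, hw_append v] at this
    rw [mul_assoc]
    exact this

theorem chk_z : chk [4] [4, 2, 0, 2, 1, 3, 3, 3, 4, 1, 2, 1, 2, 1]
    [1, 3, 1, 3, 4, 3, 3, 3, 4, 1, 3, 1, 3] [2, 2, 4, 3, 1, 3, 4, 3] 0 = true := by decide +kernel

theorem chk_d : chk [1, 3, 1, 2, 1, 4, 3, 4, 2, 4] [4, 3, 4, 3, 4, 2, 4, 1, 3, 1, 2, 2]
    [0, 3, 4, 2, 4, 1] [3, 1] 0 = true := by decide +kernel

theorem z : F5 gz := by
  have h := F5_of_chk chk_z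
  rwa [hw_z] at h

theorem d : F5 Syl.d := F5_of_chk chk_d

end Cfsg.Agent.HN.FactF5
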