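import Cfsg.Agent.HN.FactF5

set_option autoImplicit false

/-!
Fact F5a on `H0 = 2.HS.2` (for S1752): for `h = z` and `h = d` there are elements `p₁, p₂` of order 3 of `C_K(h)` whose
commutator `w` is an involution of type `a`.
-/

namespace Cfsg.Agent.HN.FactF5a

open Cfsg.Agent.HN.Pres Cfsg.Agent.HN.HS100 Cfsg.Agent.HN.P1408 Cfsg.Agent.HN.H0Basic
open Cfsg.Agent.HN.Syl Cfsg.Agent.HN.Classes Cfsg.Agent.HN.FactF5
open Cfsg.Agent.SporadicA.PermTab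

/-- The statement for an element `h`. -/
def F5a (h : H0) : Prop :=
  ∃ p₁ ∈ K, ∃ p₂ ∈ K, p₁ ^ 3 = 1 ∧ p₂ ^ 3 = 1 ∧ p₁ * h = h * p₁ ∧ p₂ * h = h * p₂ ∧
    ∃ w : H0, w = p₁ * p₂ * p₁⁻¹ * p₂⁻¹ ∧ w ∈ K ∧ w * w = 1 ∧ w ≠ 1 ∧ w ≠ τ ∧ IsConj a w

/-- the test -/
def chk (v p q k : List ℕ) : Bool :=
  band (inK p) (band (inK q) (band (eqw (p ++ (p ++ p)) []) (band (eqw (q ++ (q ++ q)) [])
    (band (eqw (p ++ v) (v ++ p)) (band (eqw (q ++ v) (v ++ q))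
    (band (inK (p ++ (q ++ (iw p ++ iw q))))
    (eqw (k ++ ([2, 2, 2] ++ iw k)) (p ++ (q ++ (iw p ++ iw q))))))))))

theorem F5a_of_chk {v p q k : List ℕ} (h : chk v p q k = true) : F5a (hw v) := by
  unfold chk at h
  simp only [band_eq_true] at h
  obtain ⟨h1, h2, h4, h5, h6, h7, h9, h13⟩ := h
  have hw' : hw (p ++ (q ++ (iw p ++ iw q))) = hw p * hw q * (hw p)⁻¹ * (hw q)⁻¹ := by
    rw [hw_append, hw_append, hw_append, hw_iw, hw_iw]; group
  have hc : hw k * a * (hw k)⁻¹ = hw (p ++ (q ++ (iw p ++ iw q))) := by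
    have := hw_eq h13
    rw [hw_append k, hw_append [2, 2, 2], hw_iw, hw_a] at this
    rw [mul_assoc]
    exact this
  have haa : a * a = 1 := by
    rw [← hw_a, ← hw_append, ← hw_nil]
    exact hw_eq (by decide +kernel)
  refine ⟨hw p, mem_K_of_inK h1, hw q, mem_K_of_inK h2, ?_, ?_, ?_, ?_,
    hw (p ++ (q ++ (iw p ++ iw q))), hw', mem_K_of_inK h9, ?_, ?_, ?_, isConj_iff.2 ⟨hw k, hc⟩⟩
  · have := hw_eq h4
    rw [hw_append, hw_append, hw_nil] at this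
    rw [pow_succ, pow_two, mul_assoc]
    exact this
  · have := hw_eq h5
    rw [hw_append, hw_append, hw_nil] at this
    rw [pow_succ, pow_two, mul_assoc]
    exact this
  · have := hw_eq h6
    rwa [hw_append, hw_append] at this
  · have := hw_eq h7
    rwa [hw_append, hw_append] at this
  · rw [← hc]
    calc hw k * a * (hw k)⁻¹ * (hw k * a * (hw k)⁻¹) = hw k * (a * a) * (hw k)⁻¹ := by group
      _ = 1 := by rw [haa]; group
  · rw [← hc]
    intro h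
    apply a_ne_one
    calc a = (hw k)⁻¹ * (hw k * a * (hw k)⁻¹) * hw k := by group
      _ = 1 := by rw [h]; group
  · rw [← hc]
    intro h
    apply a_ne_τ
    calc a = (hw k)⁻¹ * (hw k * a * (hw k)⁻¹) * hw k := by group
      _ = (hw k)⁻¹ * (τ * hw k) := by rw [h]; group
      _ = (hw k)⁻¹ * (hw k * τ) := by rw [τ_comm]
      _ = τ := by group

theorem chk_z : chk [4] [3, 0, 3, 1, 2, 2, 1, 3, 3, 1, 3, 1, 3, 1, 3]
    [4, 3, 3, 4, 3, 3, 4, 3, 3, 4, 3, 3] [3, 0, 3, 0, 3, 0, 2, 2, 0] = true := by decide +kernel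

theorem chk_d : chk [1, 3, 1, 2, 1, 4, 3, 4, 2, 4] [3, 0, 2, 1]
    [4, 3, 4, 2] [3, 3, 3, 0, 2, 2, 2, 4, 3, 3, 0, 3, 4, 3, 4, 3, 3, 4] = true := by decide +kernel

theorem z : F5a gz := by
  have h := F5a_of_chk chk_z
  rwa [hw_z] at h

theorem d : F5a Syl.d := F5a_of_chk chk_d

end Cfsg.Agent.HN.FactF5a
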