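import Cfsg.Agent.HN.CentUp

set_option autoImplicit false

/-!
The element `u0` of order 4 with `u0² = a τ` (it generates, modulo `τ`, the centre of `O₂(C(a))`) and its conjugates
`u0⁻¹`, `u0 τ`, `u0⁻¹ τ` have no square root in `H0`.
-/

namespace Cfsg.Agent.HN.FactFA8

open Cfsg.Agent.HN.Pres Cfsg.Agent.HN.HS100 Cfsg.Agent.HN.P1408 Cfsg.Agent.HN.H0Basic
open Cfsg.Agent.HN.Syl Cfsg.Agent.HN.Classes Cfsg.Agent.HN.CentUp Cfsg.Agent.HN.PC
open Cfsg.Agent.SporadicA.PermTab
open Equiv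

/-- word of `u0` -/
def wu0 : List ℕ := [2, 1, 3, 3, 3, 1, 2, 0, 3, 4, 3, 3, 4, 3, 3, 4, 3, 3, 0, 4, 2, 1]

/-- The element `u0`. -/
def u0 : H0 := hw wu0

theorem u0_sq : u0 * u0 = a * τ := by
  rw [← s_one, s, u0, ← hw_append]
  exact hw_eq (by decide +kernel)

/-- `u0` has no fixed points on the 100 points. -/
theorem u0_fix (i : Fin 100) : φ u0 i ≠ i := by
  have key : allB (fun i => neB (t1 wu0 i) i) 100 = true := by decide +kernel
  intro h
  have h1 := (allB_iff _ _).1 key i i.2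
  rw [neB_iff, ← φ_hw_apply] at h1
  exact h1 (congrArg Fin.val h)

/-- a 2-element commuting with `a` is conjugate in `C(a)` to an element of `S`. -/
theorem exists_conj_mem_S {v : H0} {n : ℕ} (ha : v * a = a * v) (hv : v ^ 2 ^ n = 1) :
    ∃ c : H0, c * a = a * c ∧ c⁻¹ * v * c ∈ S := by
  have : Fact (Nat.Prime 2) := ⟨Nat.prime_two⟩
  set C := Subgroup.centralizer ({a} : Set H0) with hC
  have hf : (Nat.card C).factorization 2 = 11 := by
    rw [card_centralizer_a, show (30720 : ℕ) = 2 ^ 11 * 15 by norm_num]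
    have h2 : (15 : ℕ).factorization 2 = 0 := Nat.factorization_eq_zero_of_not_dvd (by norm_num)
    rw [Nat.factorization_mul (by norm_num) (by norm_num), Nat.Prime.factorization_pow Nat.prime_two,
      Finsupp.add_apply, h2, Finsupp.single_eq_same]
  have hS : Nat.card (S.subgroupOf C) = 2 ^ (Nat.card C).factorization 2 := by
    rw [hf, ← card_S]
    exact Nat.card_congr (Subgroup.subgroupOfEquivOfLe S_le_centralizer_a).toEquiv
  let v' : C := ⟨v, centralizer_singleton_mem.2 ha⟩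
  have h1 : IsPGroup 2 (Subgroup.zpowers v') := by
    apply IsPGroup.of_card (n := (Nat.log 2 (orderOf v')))
    have hv' : v' ^ 2 ^ n = 1 := Subtype.ext hv
    rw [Nat.card_zpowers]
    obtain ⟨k, hk, hk'⟩ := (Nat.dvd_prime_pow Nat.prime_two).1 (orderOf_dvd_of_pow_eq_one hv')
    rw [hk', Nat.log_pow (by norm_num)]
  obtain ⟨Q, hQ⟩ := h1.exists_le_sylow
  obtain ⟨c, hc⟩ := MulAction.exists_smul_eq C (Sylow.ofCard _ hS) Q
  have h2 : v' ∈ ((c • (Sylow.ofCard _ hS : Sylow 2 C) : Sylow 2 C) : Subgroup C) := by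
    rw [hc]
    exact hQ (Subgroup.mem_zpowers v')
  have h3 : c⁻¹ * v' * c ∈ S.subgroupOf C := mem_conj_syl h2
  exact ⟨c, centralizer_singleton_mem.1 c.2, Subgroup.mem_subgroupOf.1 h3⟩

/-- all words of the Sylow group -/
noncomputable def allS (f : List ℕ → Bool) (k : ℕ) : List ℕ → Bool :=
  Nat.rec (motive := fun _ => List ℕ → Bool) f (fun k ih w => band (ih w) (ih (sw (Nat.succ k) ++ w))) k

theorem allS_spec {f : List ℕ → Bool} {Q : H0 → Prop} (hf : ∀ w, f w = true → Q (hw w))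
    (hτ : ∀ g, Q g → Q (τ * g)) : ∀ (k : ℕ) (w : List ℕ), k ≤ 10 → allS f k w = true →
    ∀ g ∈ P (k + 1), Q (g * hw w) := by
  intro k
  induction k with
  | zero =>
    intro w _ h g hg
    rcases mem_P1 hg with rfl | rfl
    · rw [one_mul]; exact hf w h
    · exact hτ _ (hf w h)
  | succ k ih =>
    intro w hk h g hg
    have h' : band (allS f k w) (allS f k (sw (Nat.succ k) ++ w)) = true := h
    rw [band_eq_true] at h'
    rcases (step (k := k + 1) (by omega)).mem hg with h1 | h1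
    · exact ih w (by omega) h'.1 g h1
    · have h2 := ih (sw (k + 1) ++ w) (by omega) h'.2 _ h1
      rw [hw_append, show hw (sw (k + 1)) = s (k + 1) from rfl, ← mul_assoc, inv_mul_cancel_right] at h2
      exact h2

/-- the test: the fourth power is not `a τ`, or the square has a fixed point -/
def ftest (w : List ℕ) : Bool :=
  cond (neB (tr w (tr w (tr w (tr w 3)))) (tr (sw 1) 3)) (okw w)
    (cond (Nat.beq (t1 (w ++ w) 97) 97) true (Nat.beq (t1 (w ++ w) 65) 65))

theorem chkAll : allS ftest 10 [] = true := by decide +kernel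

/-- the property -/
def Q (g : H0) : Prop := g * g * (g * g) = a * τ → ∃ i : Fin 100, φ (g * g) i = i

theorem Q_τ (g : H0) (h : Q g) : Q (τ * g) := by
  have h1 : τ * g * (τ * g) = g * g := by
    rw [mul_assoc, ← mul_assoc g τ g, τ_comm g, mul_assoc τ g g, ← mul_assoc τ τ, τ_mul_τ, one_mul]
  unfold Q
  rw [h1]
  exact h

theorem Q_of_ftest (w : List ℕ) (h : ftest w = true) : Q (hw w) := by
  intro h4
  unfold ftest at h
  cases hb : neB (tr w (tr w (tr w (tr w 3)))) (tr (sw 1) 3) with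
  | true =>
    rw [hb, cond_true] at h
    rw [neB_iff] at hb
    exfalso
    rw [← s_one, s, ← hw_append, ← hw_append] at h4
    have h1 : okw (w ++ w) = true := okw_append h h
    refine hw_ne (okw_append h1 h1) (by decide +kernel) (p := 3) (by norm_num) ?_ h4
    rw [tr_append, tr_append, tr_append]
    exact hb
  | false =>
    rw [hb, cond_false] at h
    rw [← hw_append]
    cases hc : Nat.beq (t1 (w ++ w) 97) 97 with
    | true =>
      refine ⟨⟨97, by norm_num⟩, Fin.ext ?_⟩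
      rw [φ_hw_apply]
      exact Nat.eq_of_beq_eq_true hc
    | false =>
      rw [hc, cond_false] at h
      refine ⟨⟨65, by norm_num⟩, Fin.ext ?_⟩
      rw [φ_hw_apply]
      exact Nat.eq_of_beq_eq_true h

theorem Q_S {g : H0} (hg : g ∈ S) : Q g := by
  have := allS_spec Q_of_ftest Q_τ 10 [] (by norm_num) chkAll g hg
  rwa [hw_nil, mul_one] at this

/-- If `v⁴ = a τ` then `v²` has a fixed point on the 100 points. -/
theorem exists_fix {v : H0} (h : v * v * (v * v) = a * τ) : ∃ i : Fin 100, φ (v * v) i = i := by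
  have h1 : v * (a * τ) = a * τ * v := by rw [← h]; group
  have ha : v * a = a * v := by
    have h2 : v * a * τ = a * v * τ := by
      rw [mul_assoc, h1, mul_assoc, mul_assoc, ← τ_comm]
    exact mul_right_cancel h2
  have hab : (a * τ) * (a * τ) = 1 := by
    have : (a * τ) * (a * τ) = a * (τ * a) * τ := by group
    rw [this, ← τ_comm, ← mul_assoc, a_sq, one_mul, τ_mul_τ]
  have hv : v ^ 2 ^ 3 = 1 := by
    have : v ^ 2 ^ 3 = v * v * (v * v) * (v * v * (v * v)) := by
      change v ^ 8 = _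
      simp only [pow_succ, pow_zero, one_mul, mul_assoc]
    rw [this, h, hab]
  obtain ⟨c, hc, hS⟩ := exists_conj_mem_S ha hv
  have e1 : c⁻¹ * v * c * (c⁻¹ * v * c) = c⁻¹ * (v * v) * c := by group
  have hq : Q (c⁻¹ * v * c) := Q_S hS
  unfold Q at hq
  rw [e1] at hq
  obtain ⟨i, hi⟩ := hq (by
    have e2 : c⁻¹ * (v * v) * c * (c⁻¹ * (v * v) * c) = c⁻¹ * (v * v * (v * v)) * c := by group
    rw [e2, h]
    have e3 : c * (a * τ) = a * τ * c := by rw [← mul_assoc, hc, mul_assoc, mul_assoc, ← τ_comm]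
    rw [mul_assoc, ← e3]
    group)
  refine ⟨φ c i, ?_⟩
  rw [map_mul φ (c⁻¹ * (v * v)), map_mul φ c⁻¹, map_inv, Perm.mul_apply, Perm.mul_apply] at hi
  rw [Perm.inv_eq_iff_eq] at hi
  exact hi

/-- **Fact FA8.** -/
theorem no_sqrt (v : H0) : v * v ≠ u0 ∧ v * v ≠ u0⁻¹ ∧ v * v ≠ u0 * τ ∧ v * v ≠ u0⁻¹ * τ := by
  have hu : ∀ v : H0, φ (v * v) = φ u0 → v * v * (v * v) = a * τ → False := by
    intro v h1 h2
    obtain ⟨i, hi⟩ := exists_fix h2
    rw [h1] at hi
    exact u0_fix i hi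
  have key : ∀ v : H0, v * v ≠ u0 ∧ v * v ≠ u0 * τ := by
    intro v
    constructor
    · intro h
      exact hu v (by rw [h]) (by rw [h, u0_sq])
    · intro h
      refine hu v (by rw [h, φ_mul_τ]) ?_
      rw [h, mul_assoc, ← mul_assoc τ u0 τ, ← τ_comm u0, mul_assoc u0 τ τ, τ_mul_τ, mul_one, u0_sq]
  refine ⟨(key v).1, fun h => ?_, (key v).2, fun h => ?_⟩
  · apply (key v⁻¹).1
    rw [← mul_inv_rev, h, inv_inv]
  · apply (key v⁻¹).2
    rw [← mul_inv_rev, h, mul_inv_rev, inv_inv, τ_inv, τ_comm]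

end Cfsg.Agent.HN.FactFA8
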