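import Cfsg.Agent.HN.FactFA

set_option autoImplicit false
set_option Elab.async false

/-!
More facts on `C(a)` in `H0 = 2.HS.2` (for S1752): a commutator `⁅u0, c⁆ = a`; products of two elements of order 3
(of order 5) of `C_K(a)` which are involutions or square to `τ` or ... outside `⟨a, τ⟩`.
-/

namespace Cfsg.Agent.HN.FactPair

open Cfsg.Agent.HN.Pres Cfsg.Agent.HN.HS100 Cfsg.Agent.HN.P1408 Cfsg.Agent.HN.H0Basic
open Cfsg.Agent.HN.Syl Cfsg.Agent.HN.Classes Cfsg.Agent.HN.FactFA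
open scoped commutatorElement

/-- the word `c` with `⁅u0, c⁆ = a` -/
def wc : List ℕ := [2, 4, 0, 2, 2, 0, 4, 3, 4, 2, 2, 2, 4, 2, 2, 2, 1]

/-- **(FAb0)** -/
theorem FAb0 : ∃ c ∈ K, c * a = a * c ∧ ⁅u0, c⁆ = a := by
  refine ⟨hw wc, mem_K_of_par rfl rfl, ?_, ?_⟩
  · rw [← hw_a, ← hw_append, ← hw_append]
    exact hw_eq (by decide +kernel)
  · have h : u0 * hw wc = a * (hw wc * u0) := by
      rw [u0, ← hw_a, ← hw_append, ← hw_append, ← hw_append]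
      exact hw_eq (by decide +kernel)
    rw [commutatorElement_def, h]
    group

theorem aτ_ne_a : a * τ ≠ a := fun h => τ_ne_one (mul_eq_left.1 h)

/-- **(FAb)** there is no `v` with `v² ∈ {a, a τ}` and this commutator condition. -/
theorem FAb {v : H0} (hv2 : v ^ 2 = a ∨ v ^ 2 = a * τ)
    (H : ∀ c ∈ K, c * a = a * c → (⁅v, c⁆ ^ 2 = 1 ∨ ⁅v, c⁆ ^ 2 = τ) → (⁅v, c⁆ = 1 ∨ ⁅v, c⁆ = a * τ)) : False := by
  have h1 := FA hv2 (fun c hc hca h2 => by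
    rcases H c hc hca h2 with h | h
    · exact Or.inl h
    · exact Or.inr (Or.inr (Or.inr h)))
  obtain ⟨c, hc, hca, hu⟩ := FAb0
  have hu' : c * u0 * c⁻¹ = u0 * a := by
    rw [commutatorElement_def] at hu
    have h4 : c * u0⁻¹ * c⁻¹ = u0⁻¹ * a := by
      rw [← hu]; group
    have h5 : (c * u0⁻¹ * c⁻¹)⁻¹ = (u0⁻¹ * a)⁻¹ := by rw [h4]
    have h6 : a⁻¹ = a := inv_eq_of_mul_eq_one_left (by rw [← pow_two]; exact a_sq')
    calc c * u0 * c⁻¹ = (c * u0⁻¹ * c⁻¹)⁻¹ := by group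
      _ = (u0⁻¹ * a)⁻¹ := h5
      _ = a⁻¹ * u0 := by group
      _ = u0 * a := by rw [h6, u0_comm_a]
  have hu0a : u0⁻¹ * a = a * u0⁻¹ := by
    have := u0_comm_a
    calc u0⁻¹ * a = u0⁻¹ * (a * u0) * u0⁻¹ := by group
      _ = u0⁻¹ * (u0 * a) * u0⁻¹ := by rw [this]
      _ = a * u0⁻¹ := by group
  have hinv : ⁅u0⁻¹, c⁆ = a := by
    rw [commutatorElement_def]
    calc u0⁻¹ * c * u0⁻¹⁻¹ * c⁻¹ = u0⁻¹ * (c * u0 * c⁻¹) := by group
      _ = a := by rw [hu']; group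
  have hmulτ : ∀ w : H0, ⁅w * τ, c⁆ = ⁅w, c⁆ := by
    intro w
    rw [commutatorElement_def, commutatorElement_def, mul_inv_rev, τ_inv]
    calc w * τ * c * (τ * w⁻¹) * c⁻¹ = w * (τ * c) * τ * w⁻¹ * c⁻¹ := by group
      _ = w * (c * τ) * τ * w⁻¹ * c⁻¹ := by rw [← τ_comm c]
      _ = w * c * (τ * τ) * w⁻¹ * c⁻¹ := by group
      _ = w * c * w⁻¹ * c⁻¹ := by rw [τ_mul_τ]; group
  have key : ⁅v, c⁆ = a := by
    rcases h1 with rfl | rfl | rfl | rfl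
    · exact hu
    · exact hinv
    · rw [hmulτ]; exact hu
    · rw [hmulτ]; exact hinv
  rcases H c hc hca (Or.inl (by rw [key, a_sq'])) with h | h
  · exact a_ne_one (key.symm.trans h)
  · exact aτ_ne_a (key.symm.trans h).symm

/-- first element of order 3 -/
def wp3 : List ℕ := [2, 2]
/-- second element of order 3 -/
def wq3 : List ℕ := [2, 2, 0, 4, 2, 2, 2, 0, 4, 3]
/-- first element of order 5 -/
def wp5 : List ℕ := [1, 3, 3, 0, 3, 3, 0, 3, 3, 0, 4, 2, 4, 3, 3, 1]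
/-- second element of order 5 -/
def wq5 : List ℕ := [4, 2, 2, 2, 0, 3, 0, 3, 0, 2, 0, 2, 0, 2, 2, 2, 4, 2]

theorem hw_pow_three {w : List ℕ} (h : eqw (w ++ (w ++ w)) [] = true) : hw w ^ 3 = 1 := by
  have h1 := hw_eq h
  rw [hw_append, hw_append, hw_nil] at h1
  rw [← h1, pow_succ, pow_two, mul_assoc]

theorem hw_pow_five {w : List ℕ} (h : eqw (w ++ (w ++ (w ++ (w ++ w)))) [] = true) : hw w ^ 5 = 1 := by
  have h1 := hw_eq h
  rw [hw_append, hw_append, hw_append, hw_append, hw_nil] at h1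
  rw [← h1]
  simp only [pow_succ, pow_zero, one_mul, mul_assoc]

theorem hw_comm_a {w : List ℕ} (h : eqw (w ++ [2, 2, 2]) ([2, 2, 2] ++ w) = true) : hw w * a = a * hw w := by
  rw [← hw_a, ← hw_append, ← hw_append]
  exact hw_eq h

theorem hw_sq {w v : List ℕ} (h : eqw ((w ++ v) ++ (w ++ v)) [] = true) : (hw w * hw v) ^ 2 = 1 := by
  rw [← hw_append, pow_two, ← hw_append, hw_eq h, hw_nil]

/-- **(FO3)** -/
theorem FO3 : ∃ p1 ∈ K, ∃ p2 ∈ K, p1 * a = a * p1 ∧ p2 * a = a * p2 ∧ p1 ^ 3 = 1 ∧ p2 ^ 3 = 1 ∧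
    (p1 * p2) ^ 2 = 1 ∧ p1 * p2 ≠ 1 ∧ p1 * p2 ≠ τ ∧ p1 * p2 ≠ a ∧ p1 * p2 ≠ a * τ := by
  refine ⟨hw wp3, mem_K_of_par rfl rfl, hw wq3, mem_K_of_par rfl rfl, hw_comm_a (by decide +kernel),
    hw_comm_a (by decide +kernel), hw_pow_three (by decide +kernel), hw_pow_three (by decide +kernel),
    hw_sq (by decide +kernel), ?_, ?_, ?_, ?_⟩ <;> rw [← hw_append] <;> intro h
  · rw [← hw_nil] at h
    exact absurd (eqw_of_hw_eq rfl rfl h) (by decide +kernel)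
  · rw [← hw_τ] at h
    exact absurd (eqw_of_hw_eq rfl rfl h) (by decide +kernel)
  · rw [← hw_a] at h
    exact absurd (eqw_of_hw_eq rfl rfl h) (by decide +kernel)
  · rw [← hw_a, ← hw_τ, ← hw_append] at h
    exact absurd (eqw_of_hw_eq rfl rfl h) (by decide +kernel)

/-- **(FO5)** -/
theorem FO5 : ∃ p1 ∈ K, ∃ p2 ∈ K, p1 * a = a * p1 ∧ p2 * a = a * p2 ∧ p1 ^ 5 = 1 ∧ p2 ^ 5 = 1 ∧
    (p1 * p2) ^ 2 = 1 ∧ p1 * p2 ≠ 1 ∧ p1 * p2 ≠ τ ∧ p1 * p2 ≠ a ∧ p1 * p2 ≠ a * τ := by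
  refine ⟨hw wp5, mem_K_of_par rfl rfl, hw wq5, mem_K_of_par rfl rfl, hw_comm_a (by decide +kernel),
    hw_comm_a (by decide +kernel), hw_pow_five (by decide +kernel), hw_pow_five (by decide +kernel),
    hw_sq (by decide +kernel), ?_, ?_, ?_, ?_⟩ <;> rw [← hw_append] <;> intro h
  · rw [← hw_nil] at h
    exact absurd (eqw_of_hw_eq rfl rfl h) (by decide +kernel)
  · rw [← hw_τ] at h
    exact absurd (eqw_of_hw_eq rfl rfl h) (by decide +kernel)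
  · rw [← hw_a] at h
    exact absurd (eqw_of_hw_eq rfl rfl h) (by decide +kernel)
  · rw [← hw_a, ← hw_τ, ← hw_append] at h
    exact absurd (eqw_of_hw_eq rfl rfl h) (by decide +kernel)

end Cfsg.Agent.HN.FactPair
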