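import Cfsg.Agent.SporadicA.PermTab

set_option autoImplicit false

/-!
Finite checks in `A₅` and `A₆` for step (D) of the Harada–Norton recognition.
-/

namespace Cfsg.Agent.HN.FinA56

open Equiv Cfsg.Agent.SporadicA.PermTab

noncomputable section

theorem cycleType_two_two {n : ℕ} (hn : n ≤ 7) {σ : Perm (Fin n)} (h2 : σ * σ = 1) (h1 : σ ≠ 1)
    (hs : Perm.sign σ = 1) : σ.cycleType = {2, 2} := by
  have ho : orderOf σ = 2 := orderOf_eq_prime (by rw [pow_two, h2]) h1
  obtain ⟨k, hk⟩ := Perm.cycleType_prime_order (σ := σ) (by rw [ho]; exact Nat.prime_two)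
  rw [ho] at hk
  have hle : σ.support.card ≤ n := by
    simpa using Finset.card_le_univ σ.support
  rw [← Perm.sum_cycleType, hk, Multiset.sum_replicate, smul_eq_mul] at hle
  rw [Perm.sign_of_cycleType, hk, Multiset.sum_replicate, Multiset.card_replicate,
    smul_eq_mul] at hs
  have hk3 : k < 3 := by omega
  have hk1 : k = 1 := by
    interval_cases k
    · exact absurd hs (by decide)
    · rfl
    · exact absurd hs (by decide)
  rw [hk, hk1]
  rfl

theorem exists_conj {n : ℕ} (hn : n ≤ 7) {σ ρ : Perm (Fin n)} (h2 : σ * σ = 1) (h1 : σ ≠ 1)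
    (hs : Perm.sign σ = 1) (h2' : ρ * ρ = 1) (h1' : ρ ≠ 1) (hs' : Perm.sign ρ = 1) :
    ∃ g : Perm (Fin n), g * σ * g⁻¹ = ρ := by
  have h : IsConj σ ρ := by
    rw [Perm.isConj_iff_cycleType_eq, cycleType_two_two hn h2 h1 hs, cycleType_two_two hn h2' h1' hs']
  exact isConj_iff.1 h

/-! ### `A₅` -/

/-- `(1 4)(2 3)` -/
def τ5 : Perm (Fin 5) := swap 1 4 * swap 2 3
/-- `(1 2)(3 4)` -/
def p5 : Perm (Fin 5) := swap 1 2 * swap 3 4

set_option maxRecDepth 10000 in
theorem cent5 : ∀ h : Perm (Fin 5), h * τ5 = τ5 * h → Perm.sign h = 1 →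
    h = 1 ∨ h = τ5 ∨ h = p5 ∨ h = p5 * τ5 := by decide +kernel

set_option maxRecDepth 10000 in
theorem chk5 : ∀ t : Perm (Fin 5), τ5 * t * τ5 * t = 1 → t * t * t * t * t = 1 → t ≠ 1 →
    ((p5 * t * (p5 * t) * (p5 * t) = 1 ∨ p5 * (t * t) * (p5 * (t * t)) * (p5 * (t * t)) = 1) ∧
      (p5 * t * (p5 * t) * (p5 * t) = 1 → t * t * p5 * t⁻¹ * τ5 * t * p5 * t⁻¹ * t⁻¹ = p5)) ∧
    ((p5 * τ5 * t * (p5 * τ5 * t) * (p5 * τ5 * t) = 1 ∨
      p5 * τ5 * (t * t) * (p5 * τ5 * (t * t)) * (p5 * τ5 * (t * t)) = 1) ∧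
      (p5 * τ5 * t * (p5 * τ5 * t) * (p5 * τ5 * t) = 1 →
        t * t * (p5 * τ5) * t⁻¹ * τ5 * t * (p5 * τ5) * t⁻¹ * t⁻¹ = p5 * τ5)) := by decide +kernel

/-- conjugation invariance made easy -/
theorem cj {G : Type*} [Group G] (g a b : G) : g * (a * b) * g⁻¹ = (g * a * g⁻¹) * (g * b * g⁻¹) := by
  group

section

variable {τ z : Perm (Fin 5)} (hτ : τ * τ = 1) (hτ1 : τ ≠ 1) (hτs : Perm.sign τ = 1)
  (hz1 : z ≠ 1) (hzτ : z ≠ τ) (hzc : z * τ = τ * z) (hzs : Perm.sign z = 1)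

include hτ hτ1 hτs hz1 hzτ hzc hzs

theorem conj5 : ∃ g : Perm (Fin 5), g * τ * g⁻¹ = τ5 ∧
    (g * z * g⁻¹ = p5 ∨ g * z * g⁻¹ = p5 * τ5) := by
  obtain ⟨g, hg⟩ := exists_conj (by norm_num) hτ hτ1 hτs (ρ := τ5) (by decide) (by decide) (by decide)
  refine ⟨g, hg, ?_⟩
  have h1 : (g * z * g⁻¹) * τ5 = τ5 * (g * z * g⁻¹) := by
    rw [← hg, ← cj, ← cj, hzc]
  have h2 : Perm.sign (g * z * g⁻¹) = 1 := by
    rw [map_mul, map_mul, hzs, mul_one, ← map_mul, mul_inv_cancel, map_one]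
  rcases cent5 _ h1 h2 with h | h | h | h
  · exfalso
    apply hz1
    rw [mul_inv_eq_one] at h
    exact mul_left_cancel (h.trans (mul_one g).symm)
  · exfalso
    apply hzτ
    rw [← hg] at h
    exact mul_left_cancel (mul_right_cancel h)
  · exact Or.inl h
  · exact Or.inr h

theorem a5_cent {h : Perm (Fin 5)} (hh : h * τ = τ * h) (hs : Perm.sign h = 1) :
    h = 1 ∨ h = τ ∨ h = z ∨ h = z * τ := by
  obtain ⟨g, hg, hz⟩ := conj5 hτ hτ1 hτs hz1 hzτ hzc hzs
  have h1 : (g * h * g⁻¹) * τ5 = τ5 * (g * h * g⁻¹) := by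
    rw [← hg, ← cj, ← cj, hh]
  have h2 : Perm.sign (g * h * g⁻¹) = 1 := by
    rw [map_mul, map_mul, hs, mul_one, ← map_mul, mul_inv_cancel, map_one]
  have hττ : τ5 * τ5 = 1 := by decide
  have key : ∀ a b : Perm (Fin 5), g * a * g⁻¹ = g * b * g⁻¹ → a = b := fun a b hab =>
    mul_left_cancel (mul_right_cancel hab)
  rcases cent5 _ h1 h2 with h | h | h | h
  · left
    exact key _ _ (by rw [h, mul_one, mul_inv_cancel])
  · right; left
    exact key _ _ (by rw [h, hg])
  · right; right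
    rcases hz with hz | hz
    · left
      exact key _ _ (by rw [h, hz])
    · right
      exact key _ _ (by rw [h, cj, hz, hg, mul_assoc, hττ, mul_one])
  · right; right
    rcases hz with hz | hz
    · right
      exact key _ _ (by rw [h, cj, hz, hg])
    · left
      exact key _ _ (by rw [h, hz])

theorem a5_main {t : Perm (Fin 5)} (ht : τ * t * τ * t = 1) (ht5 : t * t * t * t * t = 1)
    (ht1 : t ≠ 1) :
    (z * t * (z * t) * (z * t) = 1 ∨ z * (t * t) * (z * (t * t)) * (z * (t * t)) = 1) ∧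
      (z * t * (z * t) * (z * t) = 1 → t * t * z * t⁻¹ * τ * t * z * t⁻¹ * t⁻¹ = z) := by
  obtain ⟨g, hg, hz⟩ := conj5 hτ hτ1 hτs hz1 hzτ hzc hzs
  have key : ∀ a b : Perm (Fin 5), g * a * g⁻¹ = g * b * g⁻¹ → a = b := fun a b hab =>
    mul_left_cancel (mul_right_cancel hab)
  have ci : ∀ a : Perm (Fin 5), g * a⁻¹ * g⁻¹ = (g * a * g⁻¹)⁻¹ := by
    intro a
    group
  have c1 : g * 1 * g⁻¹ = 1 := by group
  have h := chk5 (g * t * g⁻¹) (by rw [← hg, ← cj, ← cj, ← cj, ht, c1])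
    (by rw [← cj, ← cj, ← cj, ← cj, ht5, c1]) (fun h => ht1 (key _ _ (by rw [h, c1])))
  rcases hz with hz | hz
  · have h' := h.1
    rw [← hz, ← hg] at h'
    refine ⟨?_, fun h3 => ?_⟩
    · rcases h'.1 with h4 | h4
      · left
        rw [← cj, ← cj, ← cj] at h4
        exact key _ _ (h4.trans c1.symm)
      · right
        rw [← cj, ← cj, ← cj, ← cj] at h4
        exact key _ _ (h4.trans c1.symm)
    · have h4 := h'.2 (by rw [← cj, ← cj, ← cj, h3, c1])
      rw [← ci, ← cj, ← cj, ← cj, ← cj, ← cj, ← cj, ← cj, ← cj] at h4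
      exact key _ _ h4
  · have h' := h.2
    rw [← hz, ← hg] at h'
    refine ⟨?_, fun h3 => ?_⟩
    · rcases h'.1 with h4 | h4
      · left
        rw [← cj, ← cj, ← cj] at h4
        exact key _ _ (h4.trans c1.symm)
      · right
        rw [← cj, ← cj, ← cj, ← cj] at h4
        exact key _ _ (h4.trans c1.symm)
    · have h4 := h'.2 (by rw [← cj, ← cj, ← cj, h3, c1])
      rw [← ci, ← cj, ← cj, ← cj, ← cj, ← cj, ← cj, ← cj, ← cj] at h4
      exact key _ _ h4

end

/-! ### Tables -/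

/-- `P` is the table of `σ`. -/
def Tab {n : ℕ} (σ : Perm (Fin n)) (P : ℕ) : Prop := ∀ i : Fin n, (σ i : ℕ) = lk P i

/-- the product of the tables (last one applied first) -/
def evr (L : List ℕ) (i : ℕ) : ℕ := List.rec i (fun P _ ih => lk P ih) L

/-- the product of the tables is the identity -/
def isId (n : ℕ) (L : List ℕ) : Bool := allB (fun i => Nat.beq (evr L i) i) n

theorem evr_eq {n : ℕ} (L : List (Perm (Fin n) × ℕ)) (h : ∀ q ∈ L, Tab q.1 q.2) (i : Fin n) :
    (((L.map Prod.fst).prod i : Fin n) : ℕ) = evr (L.map Prod.snd) i := by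
  induction L with
  | nil => rfl
  | cons q L ih =>
    rw [List.map_cons, List.prod_cons, Perm.mul_apply, h q List.mem_cons_self,
      ih (fun r hr => h r (List.mem_cons_of_mem _ hr))]
    rfl

theorem isId_iff {n : ℕ} (L : List (Perm (Fin n) × ℕ)) (h : ∀ q ∈ L, Tab q.1 q.2) :
    isId n (L.map Prod.snd) = true ↔ (L.map Prod.fst).prod = 1 := by
  unfold isId
  rw [allB_iff]
  constructor
  · intro h1
    ext i
    rw [evr_eq L h, Nat.eq_of_beq_eq_true (h1 i i.2)]
    rfl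
  · intro h1 i hi
    have h2 := evr_eq L h ⟨i, hi⟩
    rw [h1] at h2
    change Nat.beq (evr (L.map Prod.snd) i) i = true
    rw [← h2]
    exact Nat.beq_refl i

/-- implication -/
def impB (a b : Bool) : Bool := Bool.rec true b a

theorem impB_iff (a b : Bool) : impB a b = true ↔ (a = true → b = true) := by
  cases a <;> cases b <;> simp [impB]

/-- all tables of permutations of six points -/
def enum6 (f : ℕ → Bool) : Bool :=
  allB (fun a => allB (fun b => impB (nbeq a b) (allB (fun c => impB (nbeq a c) (impB (nbeq b c)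
    (allB (fun d => impB (nbeq a d) (impB (nbeq b d) (impB (nbeq c d)
    (allB (fun e => impB (nbeq a e) (impB (nbeq b e) (impB (nbeq c e) (impB (nbeq d e)
    (allB (fun g => impB (nbeq a g) (impB (nbeq b g) (impB (nbeq c g) (impB (nbeq d g) (impB (nbeq e g)
      (f (Nat.add a (Nat.shiftLeft (Nat.add b (Nat.shiftLeft (Nat.add c (Nat.shiftLeft (Nat.add d
        (Nat.shiftLeft (Nat.add e (Nat.shiftLeft g 11)) 11)) 11)) 11)) 11)))))))) 6)
    )))) 6)))) 6))) 6)) 6) 6

/-- the table of a permutation -/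
def tb (t : Perm (Fin 6)) : ℕ := Nat.add (t 0) (Nat.shiftLeft (Nat.add (t 1) (Nat.shiftLeft
  (Nat.add (t 2) (Nat.shiftLeft (Nat.add (t 3) (Nat.shiftLeft (Nat.add (t 4)
    (Nat.shiftLeft (t 5 : Fin 6) 11)) 11)) 11)) 11)) 11)

theorem tb_lk {a b c d e g : ℕ} (ha : a < 6) (hb : b < 6) (hc : c < 6) (hd : d < 6) (he : e < 6)
    (hg : g < 6) : ∀ i < 6, lk (Nat.add a (Nat.shiftLeft (Nat.add b (Nat.shiftLeft (Nat.add c
      (Nat.shiftLeft (Nat.add d (Nat.shiftLeft (Nat.add e (Nat.shiftLeft g 11)) 11)) 11)) 11)) 11)) i =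
      [a, b, c, d, e, g].getD i 0 := by
  intro i hi
  have key : lk (Nat.add a (Nat.shiftLeft (Nat.add b (Nat.shiftLeft (Nat.add c
      (Nat.shiftLeft (Nat.add d (Nat.shiftLeft (Nat.add e (Nat.shiftLeft g 11)) 11)) 11)) 11)) 11)) i =
      ((a + (b + (c + (d + (e + g * 2 ^ 11) * 2 ^ 11) * 2 ^ 11) * 2 ^ 11) * 2 ^ 11) / 2 ^ (11 * i)) %
        2 ^ 11 := by
    unfold lk
    change (_ >>> _) &&& (2 ^ 11 - 1) = _
    rw [Nat.and_two_pow_sub_one_eq_mod, Nat.shiftRight_eq_div_pow]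
    change ((a + ((b + ((c + ((d + ((e + (g <<< 11)) <<< 11)) <<< 11)) <<< 11)) <<< 11)) / _) % _ = _
    simp only [Nat.shiftLeft_eq]
    rfl
  rw [key]
  interval_cases i
  · change _ = a
    omega
  · change _ = b
    omega
  · change _ = c
    omega
  · change _ = d
    omega
  · change _ = e
    omega
  · change _ = g
    omega

theorem tab_tb (t : Perm (Fin 6)) : Tab t (tb t) := by
  intro i
  have h := tb_lk (t 0).2 (t 1).2 (t 2).2 (t 3).2 (t 4).2 (t 5).2 i i.2
  rw [show lk (tb t) i = _ from h]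
  fin_cases i <;> rfl

theorem enum6_spec {f : ℕ → Bool} (h : enum6 f = true) (t : Perm (Fin 6)) : f (tb t) = true := by
  have hne : ∀ i j : Fin 6, i ≠ j → nbeq (t i) (t j) = true := by
    intro i j hij
    rw [nbeq_iff]
    intro he
    exact hij (t.injective (Fin.ext he))
  unfold enum6 at h
  rw [allB_iff] at h
  have h1 := h _ (t 0).2
  rw [allB_iff] at h1
  have h2 := h1 _ (t 1).2
  rw [impB_iff] at h2
  have h3 := h2 (hne _ _ (by decide))
  rw [allB_iff] at h3
  have h4 := h3 _ (t 2).2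
  rw [impB_iff, impB_iff] at h4
  have h5 := h4 (hne _ _ (by decide)) (hne _ _ (by decide))
  rw [allB_iff] at h5
  have h6 := h5 _ (t 3).2
  rw [impB_iff, impB_iff, impB_iff] at h6
  have h7 := h6 (hne _ _ (by decide)) (hne _ _ (by decide)) (hne _ _ (by decide))
  rw [allB_iff] at h7
  have h8 := h7 _ (t 4).2
  rw [impB_iff, impB_iff, impB_iff, impB_iff] at h8
  have h9 := h8 (hne _ _ (by decide)) (hne _ _ (by decide)) (hne _ _ (by decide))
    (hne _ _ (by decide))
  rw [allB_iff] at h9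
  have h10 := h9 _ (t 5).2
  rw [impB_iff, impB_iff, impB_iff, impB_iff, impB_iff] at h10
  exact h10 (hne _ _ (by decide)) (hne _ _ (by decide)) (hne _ _ (by decide))
    (hne _ _ (by decide)) (hne _ _ (by decide))

/-! ### `A₆` -/

/-- `(1 4)(2 3)` -/
def τ6 : Perm (Fin 6) := mkPerm 0x280100400c02000 0x280100400c02000 (by decide +kernel)
/-- `(1 2)(3 4)` -/
def p6 : Perm (Fin 6) := mkPerm 0x280300800401000 0x280300800401000 (by decide +kernel)
/-- `(1 4)(0 5)` -/
def q6 : Perm (Fin 6) := mkPerm 0x100600802005 0x100600802005 (by decide +kernel)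

/-- the centraliser of `τ6` in `A₆` -/
def L8 : List (Perm (Fin 6)) := [1, τ6, p6, p6 * τ6, q6, q6 * τ6, p6 * q6, q6 * p6]

set_option maxRecDepth 10000 in
theorem cent6 : ∀ h : Perm (Fin 6), h * τ6 = τ6 * h → Perm.sign h = 1 → h ∈ L8 := by decide +kernel

/-- the relevant pairs -/
def LP : List (Perm (Fin 6) × Perm (Fin 6)) :=
  [(p6, q6), (p6, q6 * τ6), (p6 * τ6, q6), (p6 * τ6, q6 * τ6),
    (q6, p6), (q6, p6 * τ6), (q6 * τ6, p6), (q6 * τ6, p6 * τ6)]

set_option maxRecDepth 10000 in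
theorem pairs6 : ∀ z ∈ L8, ∀ u ∈ L8, (u * z) * (u * z) = τ6 → z * z = 1 → u * u = 1 →
    (z, u) ∈ LP := by decide +kernel

/-- table of `τ6` -/
def tT : ℕ := 0x280100400c02000
/-- table of `p6` -/
def tP : ℕ := 0x280300800401000
/-- table of `q6` -/
def tQ : ℕ := 0x100600802005
/-- table of `p6 * τ6` -/
def tPT : ℕ := 0x280200201001800
/-- table of `q6 * τ6` -/
def tQT : ℕ := 0x400400c00805

theorem tab_T : Tab τ6 tT := fun _ => rfl
theorem tab_P : Tab p6 tP := fun _ => rfl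
theorem tab_Q : Tab q6 tQ := fun _ => rfl
theorem tab_PT : Tab (p6 * τ6) tPT := by unfold Tab; decide +kernel
theorem tab_QT : Tab (q6 * τ6) tQT := by unfold Tab; decide +kernel

/-- the check for one pair -/
def one (z u t : ℕ) : Bool :=
  impB (isId 6 [z, t, z, t, z, t]) (impB (isId 6 [u, t, u, t, u, t])
    (isId 6 [t, z, t, t, t, z, u, t, t, t, t, u, z, u, t, t, t, u, z]))

/-- the check for a table -/
def leaf (t : ℕ) : Bool :=
  impB (isId 6 [tT, t, tT, t]) (impB (isId 6 [t, t, t, t, t]) (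
    band (one tP tQ t) (band (one tP tQT t) (band (one tPT tQ t) (band (one tPT tQT t)
      (band (one tQ tP t) (band (one tQ tPT t) (band (one tQT tP t) (one tQT tPT t)))))))))

set_option maxRecDepth 10000 in
theorem chk6 : enum6 leaf = true := by decide +kernel

theorem one_spec {z u t : Perm (Fin 6)} {Z U T : ℕ} (hz : Tab z Z) (hu : Tab u U) (ht : Tab t T)
    (h : one Z U T = true) (h1 : z * t * (z * t) * (z * t) = 1)
    (h2 : u * t * (u * t) * (u * t) = 1) :
    t * z * (t * t * t) * z * u * (t * t * t * t) * u * z * u * (t * t * t) * u * z = 1 := by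
  unfold one at h
  rw [impB_iff, impB_iff] at h
  have e1 := isId_iff [(z, Z), (t, T), (z, Z), (t, T), (z, Z), (t, T)] (by
    intro q hq
    simp only [List.mem_cons, List.not_mem_nil, or_false] at hq
    rcases hq with rfl | rfl | rfl | rfl | rfl | rfl <;> assumption)
  have e2 := isId_iff [(u, U), (t, T), (u, U), (t, T), (u, U), (t, T)] (by
    intro q hq
    simp only [List.mem_cons, List.not_mem_nil, or_false] at hq
    rcases hq with rfl | rfl | rfl | rfl | rfl | rfl <;> assumption)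
  have e3 := isId_iff [(t, T), (z, Z), (t, T), (t, T), (t, T), (z, Z), (u, U), (t, T), (t, T),
    (t, T), (t, T), (u, U), (z, Z), (u, U), (t, T), (t, T), (t, T), (u, U), (z, Z)] (by
    intro q hq
    simp only [List.mem_cons, List.not_mem_nil, or_false] at hq
    rcases hq with rfl | rfl | rfl | rfl | rfl | rfl | rfl | rfl | rfl | rfl | rfl | rfl | rfl |
      rfl | rfl | rfl | rfl | rfl | rfl <;> assumption)
  simp only [List.map_cons, List.map_nil, List.prod_cons, List.prod_nil, mul_one] at e1 e2 e3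
  have h3 := e3.1 (h (e1.2 (by simpa only [mul_assoc] using h1))
    (e2.2 (by simpa only [mul_assoc] using h2)))
  simpa only [mul_assoc] using h3

theorem leaf_spec {z u t : Perm (Fin 6)} (hP : (z, u) ∈ LP) (h3 : τ6 * t * τ6 * t = 1)
    (h4 : t * t * t * t * t = 1) (h1 : z * t * (z * t) * (z * t) = 1)
    (h2 : u * t * (u * t) * (u * t) = 1) :
    t * z * (t * t * t) * z * u * (t * t * t * t) * u * z * u * (t * t * t) * u * z = 1 := by
  obtain ⟨T, ht, h⟩ : ∃ T, Tab t T ∧ leaf T = true := ⟨tb t, tab_tb t, enum6_spec chk6 t⟩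
  unfold leaf at h
  rw [impB_iff, impB_iff] at h
  have e1 := isId_iff [(τ6, tT), (t, T), (τ6, tT), (t, T)] (by
    intro q hq
    simp only [List.mem_cons, List.not_mem_nil, or_false] at hq
    rcases hq with rfl | rfl | rfl | rfl
    · exact tab_T
    · exact ht
    · exact tab_T
    · exact ht)
  have e2 := isId_iff [(t, T), (t, T), (t, T), (t, T), (t, T)] (by
    intro q hq
    simp only [List.mem_cons, List.not_mem_nil, or_false] at hq
    rcases hq with rfl | rfl | rfl | rfl | rfl <;> exact ht)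
  simp only [List.map_cons, List.map_nil, List.prod_cons, List.prod_nil, mul_one] at e1 e2
  have h5 := h (e1.2 (by simpa only [mul_assoc] using h3)) (e2.2 (by simpa only [mul_assoc] using h4))
  simp only [band_eq_true] at h5
  obtain ⟨g1, g2, g3, g4, g5, g6, g7, g8⟩ := h5
  simp only [LP, List.mem_cons, Prod.mk.injEq, List.not_mem_nil, or_false] at hP
  rcases hP with ⟨rfl, rfl⟩ | ⟨rfl, rfl⟩ | ⟨rfl, rfl⟩ | ⟨rfl, rfl⟩ | ⟨rfl, rfl⟩ | ⟨rfl, rfl⟩ |
    ⟨rfl, rfl⟩ | ⟨rfl, rfl⟩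
  · exact one_spec tab_P tab_Q ht g1 h1 h2
  · exact one_spec tab_P tab_QT ht g2 h1 h2
  · exact one_spec tab_PT tab_Q ht g3 h1 h2
  · exact one_spec tab_PT tab_QT ht g4 h1 h2
  · exact one_spec tab_Q tab_P ht g5 h1 h2
  · exact one_spec tab_Q tab_PT ht g6 h1 h2
  · exact one_spec tab_QT tab_P ht g7 h1 h2
  · exact one_spec tab_QT tab_PT ht g8 h1 h2

theorem a6_main {τ z u t : Perm (Fin 6)} (hτ : τ * τ = 1) (hτ1 : τ ≠ 1) (hτs : Perm.sign τ = 1)
    (hz2 : z * z = 1) (hu2 : u * u = 1) (hzs : Perm.sign z = 1) (hus : Perm.sign u = 1)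
    (hzc : z * τ = τ * z) (huc : u * τ = τ * u) (huz : (u * z) * (u * z) = τ)
    (ht : τ * t * τ * t = 1) (ht5 : t * t * t * t * t = 1)
    (hzt : z * t * (z * t) * (z * t) = 1) (hut : u * t * (u * t) * (u * t) = 1) :
    t * z * (t * t * t) * z * u * (t * t * t * t) * u * z * u * (t * t * t) * u * z = 1 := by
  obtain ⟨g, hg⟩ := exists_conj (by norm_num) hτ hτ1 hτs (ρ := τ6) (by decide +kernel)
    (by decide +kernel) (by decide +kernel)
  have key : ∀ a b : Perm (Fin 6), g * a * g⁻¹ = g * b * g⁻¹ → a = b := fun a b hab =>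
    mul_left_cancel (mul_right_cancel hab)
  have c1 : g * 1 * g⁻¹ = 1 := by group
  have mem : ∀ h : Perm (Fin 6), h * τ = τ * h → Perm.sign h = 1 → g * h * g⁻¹ ∈ L8 := by
    intro h hh hs
    refine cent6 _ ?_ ?_
    · rw [← hg, ← cj, ← cj, hh]
    · rw [map_mul, map_mul, hs, mul_one, ← map_mul, mul_inv_cancel, map_one]
  have hP := pairs6 _ (mem z hzc hzs) _ (mem u huc hus) (by rw [← hg, ← cj, ← cj, huz])
    (by rw [← cj, hz2, c1]) (by rw [← cj, hu2, c1])
  have h := leaf_spec hP (t := g * t * g⁻¹) (by rw [← hg, ← cj, ← cj, ← cj, ht, c1])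
    (by rw [← cj, ← cj, ← cj, ← cj, ht5, c1]) (by rw [← cj, ← cj, ← cj, hzt, c1])
    (by rw [← cj, ← cj, ← cj, hut, c1])
  simp only [← cj] at h
  exact key _ _ (h.trans c1.symm)

end

end Cfsg.Agent.HN.FinA56
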