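import Cfsg.Agent.HN.CentUp2

set_option autoImplicit false

/-!
Checks over all elements of the Sylow 2-subgroup `S` of `H0 = 2.HS.2`: a Boolean predicate on the `1024` words
(representatives of the cosets of `⟨τ⟩`).
-/

namespace Cfsg.Agent.HN.ForallS

open Cfsg.Agent.HN.Pres Cfsg.Agent.HN.HS100 Cfsg.Agent.HN.P1408 Cfsg.Agent.HN.H0Basic Cfsg.Agent.HN.PC
open Cfsg.Agent.HN.Syl Cfsg.Agent.HN.Classes
open Cfsg.Agent.SporadicA.PermTab
open Equiv

/-- all words `s i₁ * ⋯ * s iₘ * w` with `0 < i₁ < ⋯ < iₘ ≤ j` satisfy `Q`. -/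
noncomputable def allS (Q : List ℕ → Bool) (j : ℕ) : List ℕ → Bool :=
  Nat.rec (motive := fun _ => List ℕ → Bool) (fun w => Q w)
    (fun j ih w => band (ih w) (ih (sw (Nat.succ j) ++ w))) j

theorem allS_succ (Q : List ℕ → Bool) (j : ℕ) (w : List ℕ) :
    allS Q (j + 1) w = band (allS Q j w) (allS Q j (sw (j + 1) ++ w)) := rfl

theorem allS_spec {Q : List ℕ → Bool} (j : ℕ) (hj : j ≤ 10) (w : List ℕ) (h : allS Q j w = true) {g : H0}
    (hg : g ∈ P (j + 1)) : ∃ w', Q w' = true ∧ (g * hw w = hw w' ∨ g * hw w = τ * hw w') := by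
  induction j generalizing w g with
  | zero =>
    refine ⟨w, h, ?_⟩
    rcases mem_P1 hg with rfl | rfl
    · left; rw [one_mul]
    · right; rfl
  | succ j ih =>
    rw [allS_succ, band_eq_true] at h
    rcases (step (show j + 1 < 11 by omega)).mem hg with h3 | h3
    · exact ih (by omega) w h.1 h3
    · obtain ⟨w', h4, h5⟩ := ih (by omega) (sw (j + 1) ++ w) h.2 h3
      refine ⟨w', h4, ?_⟩
      have h6 : g * (s (j + 1))⁻¹ * hw (sw (j + 1) ++ w) = g * hw w := by
        rw [hw_append]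
        change g * (s (j + 1))⁻¹ * (s (j + 1) * hw w) = g * hw w
        group
      rwa [h6] at h5

/-- **Checks over `S`.** -/
theorem forall_S {Q : List ℕ → Bool} (h : allS Q 10 [] = true) {g : H0} (hg : g ∈ S) :
    ∃ w, Q w = true ∧ (g = hw w ∨ g = τ * hw w) := by
  obtain ⟨w, h1, h2⟩ := allS_spec 10 le_rfl [] h hg
  rw [hw_nil, mul_one] at h2
  exact ⟨w, h1, h2⟩

/-! ### (F2) no element of `K` has `v ^ 4 = τ` -/

/-- predicate for (F2) -/
def q2 (w : List ℕ) : Bool :=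
  band (okw w) (cond (par w) true (neB (tr (w ++ (w ++ (w ++ w))) 3) (tr [0, 0] 3)))

theorem allS_q2 : allS q2 10 [] = true := by decide +kernel

theorem pow_four_hw (w : List ℕ) : hw (w ++ (w ++ (w ++ w))) = hw w ^ 4 := by
  rw [hw_append, hw_append, hw_append]
  simp only [pow_succ, pow_zero, one_mul, mul_assoc]

theorem mul_τ_pow_even (g : H0) (n : ℕ) : (τ * g) ^ (2 * n) = g ^ (2 * n) := by
  have h : Commute τ g := (τ_comm g).symm
  rw [h.mul_pow, pow_mul, τ_sq, one_pow, one_mul]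

/-- **(F2)** -/
theorem pow_four_ne {v : H0} (hv : v ∈ K) : v ^ 4 ≠ τ := by
  intro h
  have h8 : v ^ 2 ^ 3 = 1 := by
    have : v ^ 2 ^ 3 = (v ^ 4) ^ 2 := by rw [← pow_mul]; norm_num
    rw [this, h, τ_sq]
  obtain ⟨c, hc⟩ := exists_conj_mem_S h8
  have hcK : c⁻¹ * v * c ∈ K := by
    have := (inferInstance : (K : Subgroup H0).Normal).conj_mem v hv c⁻¹
    rwa [inv_inv] at this
  have h4 : (c⁻¹ * v * c) ^ 4 = τ := by
    have h5 : (c⁻¹ * v * c) ^ 4 = c⁻¹ * v ^ 4 * c := by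
      simp only [pow_succ, pow_zero, one_mul]; group
    rw [h5, h, τ_comm, mul_assoc, inv_mul_cancel, mul_one]
  obtain ⟨w, hQ, hw'⟩ := forall_S allS_q2 hc
  have hQ' : band (okw w) (cond (par w) true (neB (tr (w ++ (w ++ (w ++ w))) 3) (tr [0, 0] 3))) = true := hQ
  rw [band_eq_true] at hQ'
  have hpar : par w = false := by
    cases hp : par w with
    | false => rfl
    | true =>
      exfalso
      have hnot := not_mem_K_of_par hQ'.1 hp
      rcases hw' with h6 | h6
      · exact hnot (h6 ▸ hcK)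
      · apply hnot
        have : hw w = τ * (c⁻¹ * v * c) := by rw [h6, ← mul_assoc, τ_mul_τ, one_mul]
        rw [this]
        exact K.mul_mem τ_mem_K hcK
  have h7 := hQ'.2
  rw [hpar] at h7
  have h7' : neB (tr (w ++ (w ++ (w ++ w))) 3) (tr [0, 0] 3) = true := h7
  rw [neB_iff] at h7'
  have h9 : okw (w ++ (w ++ (w ++ w))) = true :=
    okw_append hQ'.1 (okw_append hQ'.1 (okw_append hQ'.1 hQ'.1))
  have h8' := hw_ne h9 (b := [0, 0]) rfl (p := 3) (by norm_num) h7'
  apply h8'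
  rw [pow_four_hw, hw_τ, ← h4]
  rcases hw' with h6 | h6
  · rw [h6]
  · rw [h6]
    exact (mul_τ_pow_even (hw w) 2).symm

/-- **(F2)** the square of an element of `K` is not conjugate to `x`. -/
theorem not_isConj_sq {v : H0} (hv : v ∈ K) : ¬ IsConj gx (v ^ 2) := by
  intro h
  have h1 := sq_of_isConj h (Or.inr rfl)
  apply pow_four_ne hv
  rw [← pow_mul] at h1
  exact h1

end Cfsg.Agent.HN.ForallS
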