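import Cfsg.Agent.HN.HypKill

set_option autoImplicit false

/-!
The quotient of `C(c, z)` by `⟨c, z⟩` satisfies the hypotheses of `HypQuot`; contradiction.
-/

namespace Cfsg.Agent.HN.HypKill2

open Cfsg.Agent.HN.Inv4 Cfsg.Agent.HN.HypLoc Cfsg.Agent.HN.HypKill Cfsg.Agent.HN

variable {G : Type*} [Group G] {τ z c e1 e2 t y s t1 : G}

theorem d1 : ∀ (a b β : Bool), lab (false, β, a, b) = true → lab (false, !β, a, b) = false → False := by
  decide

theorem d3 : ∀ v : V, comb (true, false, false, false) (false, true, false, false)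
    (true, false, true, false) (false, true, false, true) v =
    add v (v.2.2.1, v.2.2.2, false, false) := by decide

theorem d4 : ∀ v : V, (∀ w : V, lab (add v w) = lab w) → add v v = v := by decide

theorem d5 : ∀ (v : V) (β : Bool), lab v = true →
    add (add v (false, β, false, false)) (add v (false, β, false, false)) =
      add v (false, β, false, false) → False := by decide

theorem d2 : ∀ (v : V), lab v = true → v ≠ (false, false, false, false) := by decide

section

variable (h : Data τ z c e1 e2 t y s) (k : T1D τ z c e1 e2 t1)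
include h

theorem zF (β : Bool) (v : V) : F τ z e1 e2 v * bp β z = F τ z e1 e2 (add v (false, β, false, false)) := by
  rw [← F_mul h.I]
  congr 1
  simp [F]

include k

theorem X_form (v : V) (β : Bool) : F e1 e2 t1 (cj y t1) v * bp β z =
    F τ z e1 e2 (false, β, v.1, v.2.1) * (bp v.2.2.1 t1 * bp v.2.2.2 (cj y t1)) := by
  have c1 : ∀ b, Commute (bp b z) t1 := fun b => by
    cases b
    · exact Commute.one_left _
    · exact (show Commute t1 z from k.tz).symm
  have c2 : ∀ b, Commute (bp b z) (cj y t1) := fun b => by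
    cases b
    · exact Commute.one_left _
    · have := cj_comm (g := y) k.tz
      rw [cj_of_comm h.yz] at this
      exact (show Commute (cj y t1) z from this).symm
  have c3 : Commute (bp β z) (bp v.2.2.1 t1 * bp v.2.2.2 (cj y t1)) := by
    apply Commute.mul_right
    · cases v.2.2.1
      · exact Commute.one_right _
      · exact c1 β
    · cases v.2.2.2
      · exact Commute.one_right _
      · exact c2 β
  have c4 : Commute (bp β z) (bp v.1 e1 * bp v.2.1 e2) :=
    (bp_comm h.I.qr _ _).mul_right (bp_comm h.I.qs _ _)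
  unfold F
  rw [mul_assoc, ← c3.eq, ← mul_assoc, ← c4.eq]
  simp only [bp_false, one_mul]

/-- squares of the elements `X v z^β` are in `E`. -/
theorem X_sq (v : V) (β : Bool) : ∃ w, (F e1 e2 t1 (cj y t1) v * bp β z) *
    (F e1 e2 t1 (cj y t1) v * bp β z) = F τ z e1 e2 w := by
  rw [X_form h k]
  set u : V := (false, β, v.1, v.2.1)
  have t2t2' := t2t2 h k
  cases v.2.2.1 <;> cases v.2.2.2
  · exact ⟨_, by simp only [bp_false, mul_one]; rw [F_mul h.I]⟩
  · refine ⟨add u (v2 u), ?_⟩
    simp only [bp_false, bp_true, one_mul]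
    rw [← F_mul h.I, ← t2_F h k]
    simp only [mul_assoc]
  · refine ⟨add u (v1 u), ?_⟩
    simp only [bp_false, bp_true, mul_one]
    rw [← F_mul h.I, ← t1_F h k]
    simp only [mul_assoc]
  · obtain ⟨b, hb⟩ := t1t2 h k
    refine ⟨add (add u (v3 u)) (false, b, false, false), ?_⟩
    simp only [bp_true]
    have e1' : ∀ w, t1 * F τ z e1 e2 w = F τ z e1 e2 (v1 w) * t1 := by
      intro w
      rw [← t1_F h k, mul_assoc _ t1 t1, k.tt, mul_one]
    have e2' : ∀ w, cj y t1 * F τ z e1 e2 w = F τ z e1 e2 (v2 w) * cj y t1 := by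
      intro w
      rw [← t2_F h k, mul_assoc _ (cj y t1) (cj y t1), t2t2', mul_one]
    rw [← zF h, ← F_mul h.I, ← hb]
    calc F τ z e1 e2 u * (t1 * cj y t1) * (F τ z e1 e2 u * (t1 * cj y t1))
        = F τ z e1 e2 u * (t1 * (cj y t1 * F τ z e1 e2 u)) * (t1 * cj y t1) := by
          simp only [mul_assoc]
      _ = F τ z e1 e2 u * ((t1 * F τ z e1 e2 (v2 u)) * cj y t1) * (t1 * cj y t1) := by
          rw [e2']; simp only [mul_assoc]
      _ = F τ z e1 e2 u * F τ z e1 e2 (v3 u) * (t1 * cj y t1 * (t1 * cj y t1)) := by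
          rw [e1', v1_v2]; simp only [mul_assoc]

theorem X_c (v : V) (β : Bool) : Commute (F e1 e2 t1 (cj y t1) v * bp β z) c := by
  have c1 : Commute t1 c := k.tc
  have c2 : Commute (cj y t1) c := t2c h k
  have hb : ∀ (b : Bool) (x : G), Commute x c → Commute (bp b x) c := by
    intro b x hx
    cases b
    · exact Commute.one_left _
    · exact hx
  exact (((hb _ _ h.ce.symm).mul_left (hb _ _ h.cf.symm)).mul_left
    ((hb _ _ c1).mul_left (hb _ _ c2))).mul_left (hb _ _ h.cz.symm)

/-- conjugates of `τ` of the form `X v c^i z^β` have `c^i = 1`. -/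
theorem X_conj {v : V} {β : Bool} {i : ℕ}
    (hK : IsConj τ (F e1 e2 t1 (cj y t1) v * (c ^ i * bp β z))) :
    IsConj τ (F e1 e2 t1 (cj y t1) v * bp β z) ∧ c ^ i = 1 := by
  set X := F e1 e2 t1 (cj y t1) v with hX
  have cz : Commute (c ^ i) (bp β z) := by
    cases β
    · exact Commute.one_right _
    · exact (show Commute c z from h.cz).pow_left i
  have hXc : Commute (X * bp β z) (c ^ i) := (X_c h k v β).pow_right i
  have e1' : X * (c ^ i * bp β z) = (X * bp β z) * c ^ i := by
    rw [cz.eq, mul_assoc]
  rw [e1'] at hK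
  have h1 : (X * bp β z * c ^ i) * (X * bp β z * c ^ i) = 1 := by
    obtain ⟨g, hg⟩ := isConj_iff.1 hK
    rw [← hg]
    calc g * τ * g⁻¹ * (g * τ * g⁻¹) = g * (τ * τ) * g⁻¹ := by group
      _ = 1 := by rw [h.I.pp, mul_one, mul_inv_cancel]
  rw [hXc.symm.mul_mul_mul_comm] at h1
  obtain ⟨w, hw⟩ := X_sq h k v β
  rw [← hX] at hw
  rw [hw] at h1
  have h2 : c ^ i * c ^ i = F τ z e1 e2 w := by
    have := eq_inv_of_mul_eq_one_right h1
    rwa [F_inv h.I] at this
  have h3 := c_pow_of_mem h h2
  rw [h3, mul_one] at hK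
  exact ⟨hK, h3⟩

/-- no conjugates of `τ` outside `E`. -/
theorem X_not {v : V} (hv : (v.2.2.1 || v.2.2.2) = true) {β : Bool} {i : ℕ} :
    ¬ IsConj τ (F e1 e2 t1 (cj y t1) v * (c ^ i * bp β z)) := by
  intro hK
  have h1 := (X_conj h k hK).1
  rw [X_form h k] at h1
  rcases v with ⟨a, b, c', d⟩
  cases c' <;> cases d
  · exact absurd hv (by simp)
  · simp only [bp_false, bp_true, one_mul] at h1
    exact N2 h k _ h1
  · simp only [bp_false, bp_true, mul_one] at h1
    exact k.N _ h1
  · simp only [bp_true] at h1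
    exact N12 h k _ h1

end

/-- **The contradiction.** -/
theorem false_of_quot (h : Data τ z c e1 e2 t y s) (k : T1D τ z c e1 e2 t1) {W : Subgroup G}
    (hW : ∀ g, g ∈ W ↔ g * c = c * g ∧ g * z = z * g) {Q : Type*} [Group Q] [Finite Q] (π : W →* Q)
    (hs : Function.Surjective π)
    (hk : ∀ w : W, π w = 1 ↔ ∃ (i : ℕ) (β : Bool), (w : G) = c ^ i * bp β z) : False := by
  -- elements
  have yt : cj y t1 * z = z * cj y t1 := by
    have := cj_comm (g := y) k.tz
    rwa [cj_of_comm h.yz] at this
  let τW : W := ⟨τ, (hW τ).2 ⟨h.cτ.symm, h.I.pq⟩⟩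
  let zW : W := ⟨z, (hW z).2 ⟨h.cz.symm, rfl⟩⟩
  let eW : W := ⟨e1, (hW e1).2 ⟨h.ce.symm, h.I.qr.symm⟩⟩
  let fW : W := ⟨e2, (hW e2).2 ⟨h.cf.symm, h.I.qs.symm⟩⟩
  let pW : W := ⟨t1, (hW t1).2 ⟨k.tc, k.tz⟩⟩
  let qW : W := ⟨cj y t1, (hW _).2 ⟨t2c h k, yt⟩⟩
  let yW : W := ⟨y, (hW y).2 ⟨h.cy.symm, h.yz⟩⟩
  let sW : W := ⟨s, (hW s).2 ⟨h.sc, h.sz⟩⟩
  -- equality in `Q`
  have πeq : ∀ a b : W, π a = π b ↔ ∃ (i : ℕ) (β : Bool), (a : G) = b * (c ^ i * bp β z) := by
    intro a b
    have e0 : π a = π b ↔ π (b⁻¹ * a) = 1 := by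
      rw [map_mul, map_inv, inv_mul_eq_one]
      exact eq_comm
    rw [e0, hk]
    constructor
    · rintro ⟨i, β, hi⟩
      refine ⟨i, β, ?_⟩
      rw [← hi]
      change (a : G) = b * ((b : G)⁻¹ * a)
      rw [mul_inv_cancel_left]
    · rintro ⟨i, β, hi⟩
      refine ⟨i, β, ?_⟩
      change (b : G)⁻¹ * a = _
      rw [hi, inv_mul_cancel_left]
  have πeq0 : ∀ a b : W, (a : G) = b → π a = π b := fun a b hab => by rw [Subtype.ext hab]
  have πeqz : ∀ a b : W, (a : G) = b * z → π a = π b := by
    intro a b hab
    rw [πeq]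
    exact ⟨0, true, by rw [pow_zero, one_mul]; exact hab⟩
  set τ' := π τW with hτ'
  set e' := π eW with he'
  set f' := π fW with hf'
  set p := π pW with hp'
  set q := π qW with hq'
  set y' := π yW with hy'
  have πz : π zW = 1 := (hk _).2 ⟨0, true, by simp [zW]⟩
  -- basic relations
  have ττ : τ' * τ' = 1 := by
    rw [hτ', ← map_mul, ← map_one π]; exact πeq0 _ _ h.I.pp
  have ee : e' * e' = 1 := by
    rw [he', ← map_mul, ← map_one π]; exact πeq0 _ _ h.I.rr
  have ff : f' * f' = 1 := by
    rw [hf', ← map_mul, ← map_one π]; exact πeq0 _ _ h.I.ss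
  have pp : p * p = 1 := by
    rw [hp', ← map_mul, ← map_one π]; exact πeq0 _ _ k.tt
  have qq : q * q = 1 := by
    rw [hq', ← map_mul, ← map_one π]; exact πeq0 _ _ (t2t2 h k)
  have ef : e' * f' = f' * e' := by
    rw [he', hf', ← map_mul, ← map_mul]; exact πeq0 _ _ h.I.rs
  have ep : e' * p = p * e' := by
    rw [he', hp', ← map_mul, ← map_mul]; exact πeq0 _ _ k.te.symm
  have fp : f' * p = p * f' := by
    rw [hf', hp', ← map_mul, ← map_mul]
    refine (πeqz _ _ ?_).symm
    -- `t1 e2 = e2 z t1 = e2 t1 z`
    change t1 * e2 = e2 * t1 * z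
    calc t1 * e2 = (t1 * e2 * t1) * t1 := by rw [mul_assoc _ t1 t1, k.tt, mul_one]
      _ = e2 * (z * t1) := by rw [k.tf, mul_assoc]
      _ = e2 * t1 * z := by rw [← k.tz, mul_assoc]
  have eq' : e' * q = q * e' := by
    rw [he', hq', ← map_mul, ← map_mul]
    refine (πeqz _ _ ?_).symm
    change cj y t1 * e1 = e1 * cj y t1 * z
    have e0 : cj y t1 * e1 * cj y t1 = e1 * z := by
      have := t2_F h k (false, false, true, false)
      rw [F_0010] at this
      rw [this]
      simp [v2, F, h.I.qr]
    calc cj y t1 * e1 = (cj y t1 * e1 * cj y t1) * cj y t1 := by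
          rw [mul_assoc _ (cj y t1) (cj y t1), t2t2 h k, mul_one]
      _ = e1 * (z * cj y t1) := by rw [e0, mul_assoc]
      _ = e1 * cj y t1 * z := by rw [← yt, mul_assoc]
  have fq : f' * q = q * f' := by
    rw [hf', hq', ← map_mul, ← map_mul]
    refine πeq0 _ _ ?_
    change e2 * cj y t1 = cj y t1 * e2
    have := cj_comm (g := y) k.te
    rw [cj_apply y e1, h.ye] at this
    exact this.symm
  have pq : p * q = q * p := by
    obtain ⟨b, hb⟩ := t1t2 h k
    have e0 : p * q * (p * q) = 1 := by
      have e1' : π (pW * qW * (pW * qW)) = π (bif b then zW else 1) := by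
        apply πeq0
        change t1 * cj y t1 * (t1 * cj y t1) = _
        rw [hb]
        cases b <;> rfl
      simp only [map_mul] at e1'
      rw [e1']
      cases b
      · exact map_one π
      · exact πz
    have i1 : p⁻¹ = p := inv_eq_of_mul_eq_one_left pp
    have i2 : q⁻¹ = q := inv_eq_of_mul_eq_one_left qq
    have i3 : (p * q)⁻¹ = p * q := inv_eq_of_mul_eq_one_left e0
    rw [mul_inv_rev, i1, i2] at i3
    exact i3.symm
  have hI : I4 e' f' p q := ⟨ee, ff, pp, qq, ef, ep, eq', fp, fq, pq⟩
  have hIB : I4 e' f' (1 : Q) 1 := ⟨ee, ff, one_mul 1, one_mul 1, ef, by simp, by simp, by simp,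
    by simp, by simp⟩
  -- action of `τ'`
  have hτi : τ'⁻¹ = τ' := inv_eq_of_mul_eq_one_left ττ
  have τe : τ' * e' = e' * τ' := by
    rw [he', hτ', ← map_mul, ← map_mul]; exact πeq0 _ _ h.I.pr
  have τf : τ' * f' = f' * τ' := by
    rw [hf', hτ', ← map_mul, ← map_mul]; exact πeq0 _ _ h.I.ps
  have τp : τ' * p * τ' = e' * p := by
    have e0 : p * τ' = τ' * e' * p := by
      rw [hp', hτ', he', ← map_mul, ← map_mul, ← map_mul]
      apply πeqz
      change t1 * τ = τ * e1 * t1 * z
      calc t1 * τ = (t1 * τ * t1) * t1 := by rw [mul_assoc _ t1 t1, k.tt, mul_one]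
        _ = τ * (z * e1) * t1 := by rw [k.tτ]; simp only [mul_assoc]
        _ = τ * (e1 * z) * t1 := by rw [h.I.qr]
        _ = τ * e1 * (z * t1) := by simp only [mul_assoc]
        _ = τ * e1 * t1 * z := by rw [← k.tz]; simp only [mul_assoc]
    calc τ' * p * τ' = τ' * (p * τ') := by rw [mul_assoc]
      _ = (τ' * τ') * e' * p := by rw [e0]; simp only [mul_assoc]
      _ = e' * p := by rw [ττ, one_mul]
  have τq : τ' * q * τ' = f' * q := by
    have e00 : cj y t1 * τ * cj y t1 = τ * z * e2 := by
      have := congrArg (cj y) k.tτ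
      simp only [map_mul] at this
      rw [cj_of_comm h.yτ, cj_of_comm h.yz, cj_apply y e1, h.ye] at this
      exact this
    have e0 : q * τ' = τ' * f' * q := by
      rw [hq', hτ', hf', ← map_mul, ← map_mul, ← map_mul]
      apply πeqz
      change cj y t1 * τ = τ * e2 * cj y t1 * z
      calc cj y t1 * τ = (cj y t1 * τ * cj y t1) * cj y t1 := by
            rw [mul_assoc _ (cj y t1) (cj y t1), t2t2 h k, mul_one]
        _ = τ * (z * e2) * cj y t1 := by rw [e00]; simp only [mul_assoc]
        _ = τ * (e2 * z) * cj y t1 := by rw [h.I.qs]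
        _ = τ * e2 * (z * cj y t1) := by simp only [mul_assoc]
        _ = τ * e2 * cj y t1 * z := by rw [← yt]; simp only [mul_assoc]
    calc τ' * q * τ' = τ' * (q * τ') := by rw [mul_assoc]
      _ = (τ' * τ') * f' * q := by rw [e0]; simp only [mul_assoc]
      _ = f' * q := by rw [ττ, one_mul]
  have τF : ∀ v : V, τ' * F e' f' p q v * τ' =
      F e' f' p q (add v (v.2.2.1, v.2.2.2, false, false)) := by
    intro v
    have e0 : τ' * F e' f' p q v * τ' = cj τ' (F e' f' p q v) := by rw [cj_apply, hτi]
    rw [e0, map_comb hI (cj τ') (w0 := (true, false, false, false))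
      (w1 := (false, true, false, false)) (w2 := (true, false, true, false))
      (w3 := (false, true, false, true))]
    · rw [d3]
    · rw [cj_of_comm τe, F_1000]
    · rw [cj_of_comm τf, F_0100]
    · rw [cj_apply, hτi, τp]; simp [F]
    · rw [cj_apply, hτi, τq]; simp [F]
  -- the elements `F e' f' 1 1 v` are nontrivial
  have coeF : ∀ v : V, ((F τW zW eW fW v : W) : G) = F τ z e1 e2 v := by
    intro v
    exact map_F W.subtype v
  have πF : ∀ v : V, π (F τW zW eW fW v) = F τ' 1 e' f' v := by
    intro v
    rw [map_F, πz]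
  have coeX : ∀ v : V, ((F eW fW pW qW v : W) : G) = F e1 e2 t1 (cj y t1) v := by
    intro v
    exact map_F W.subtype v
  have πX : ∀ v : V, π (F eW fW pW qW v) = F e' f' p q v := fun v => map_F π v
  have πF_ne : ∀ v : V, lab v = true → F τ' 1 e' f' v ≠ 1 := by
    intro v hv h1
    rw [← πF, hk] at h1
    obtain ⟨i, β, h2⟩ := h1
    rw [coeF] at h2
    -- `c^i = 1`
    have h3 : c ^ i = F τ z e1 e2 (add v (false, β, false, false)) := by
      rw [← zF h, h2, mul_assoc]
      cases β <;> simp [h.I.qq]
    have h4 : c ^ i * c ^ i = F τ z e1 e2 (false, false, false, false) := by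
      rw [h3, F_sq h.I, F_zero]
    have h5 := c_pow_of_mem h h4
    rw [h5] at h3
    refine d5 v β hv (d4 _ fun w => ?_)
    rw [Bool.eq_iff_iff, ← hK h, ← hK h, ← F_mul h.I, ← h3, one_mul]
  have e'1 : e' ≠ 1 := by
    have := πF_ne (false, false, true, false) rfl
    rwa [F_0010] at this
  have f'1 : f' ≠ 1 := by
    have := πF_ne (false, false, false, true) rfl
    rwa [F_0001] at this
  have ef1 : e' * f' ≠ 1 := by
    have := πF_ne (false, false, true, true) rfl
    simpa [F] using this
  -- elements of `A` commuting with `τ'`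
  have Fτ : ∀ v : V, F e' f' p q v * τ' = τ' * F e' f' p q v → v.2.2.1 = false ∧ v.2.2.2 = false := by
    intro v hv
    have h1 : τ' * F e' f' p q v * τ' = F e' f' p q v := by
      rw [← hv, mul_assoc, ττ, mul_one]
    rw [τF] at h1
    have h2 : F e' f' p q (v.2.2.1, v.2.2.2, false, false) = 1 := by
      have h3 : F e' f' p q v * F e' f' p q (v.2.2.1, v.2.2.2, false, false) = F e' f' p q v * 1 := by
        rw [F_mul hI, mul_one]; exact h1
      exact mul_left_cancel h3
    rcases v with ⟨a, b, _ | _, _ | _⟩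
    · exact ⟨rfl, rfl⟩
    · exfalso; apply f'1; simpa [F] using h2
    · exfalso; apply e'1; simpa [F] using h2
    · exfalso; apply ef1; simpa [F] using h2
  let A : Subgroup Q := S hI
  let B : Subgroup Q := S hIB
  have mA : ∀ v, F e' f' p q v ∈ A := fun v => ⟨v, rfl⟩
  have hBF : ∀ v : V, F e' f' (1 : Q) 1 v = F e' f' p q (v.1, v.2.1, false, false) := by
    rintro ⟨a, b, _ | _, _ | _⟩ <;> simp [F]
  have mB : ∀ a b : Bool, F e' f' p q (a, b, false, false) ∈ B := fun a b =>
    ⟨(a, b, false, false), hBF _⟩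
  have eB : e' ∈ B := ⟨(true, false, false, false), F_1000⟩
  have fB : f' ∈ B := ⟨(false, true, false, false), F_0100⟩
  -- action of `y'`
  have yyy : y' * y' * y' = 1 := by
    rw [hy', ← map_mul, ← map_mul, ← map_one π]; exact πeq0 _ _ h.yyy
  have ye : y'⁻¹ * e' * y' = f' := by
    rw [hy', he', hf', ← map_inv, ← map_mul, ← map_mul]; exact πeq0 _ _ h.ye
  have yf : y'⁻¹ * f' * y' = e' * f' := by
    rw [hy', he', hf', ← map_inv, ← map_mul, ← map_mul, ← map_mul]; exact πeq0 _ _ h.yf
  have yp : y'⁻¹ * p * y' = q := by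
    rw [hy', hp', hq', ← map_inv, ← map_mul, ← map_mul]; exact πeq0 _ _ rfl
  have yq : ∃ w : V, y'⁻¹ * q * y' = F e' f' p q w := by
    obtain ⟨v, hv1, hv⟩ := exists_t3 h k
    refine ⟨(v.2.2.1, v.2.2.2, true, true), ?_⟩
    rw [hy', hq', ← map_inv, ← map_mul, ← map_mul]
    have e0 : π (yW⁻¹ * qW * yW) = π (F τW zW eW fW v * (pW * qW)) := by
      apply πeq0
      change cj y (cj y t1) = ((F τW zW eW fW v : W) : G) * (t1 * cj y t1)
      rw [coeF]
      exact hv
    rw [e0, map_mul, πF, map_mul]
    rcases v with ⟨a, b, c', d⟩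
    simp only at hv1
    subst hv1
    cases b <;> simp [F, ← hp']
  have yτ : y' * τ' = τ' * y' := by
    rw [hy', hτ', ← map_mul, ← map_mul]; exact πeq0 _ _ h.yτ
  have yA : ∀ a ∈ A, cj y' a ∈ A := by
    rintro _ ⟨v, rfl⟩
    obtain ⟨w, hw⟩ := yq
    rw [map_comb hI (cj y') (w0 := (false, true, false, false)) (w1 := (true, true, false, false))
      (w2 := (false, false, false, true)) (w3 := w)]
    · exact mA _
    · rw [cj_apply, ye, F_0100]
    · rw [cj_apply, yf]; simp [F]
    · rw [cj_apply, yp, F_0001]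
    · rw [cj_apply, hw]
  have hyi : y' * y' = y'⁻¹ := eq_inv_of_mul_eq_one_left yyy
  have yA' : ∀ a ∈ A, cj y'⁻¹ a ∈ A := by
    intro a ha
    have h1 := yA _ (yA a ha)
    rw [cj_cj, hyi] at h1
    exact h1
  -- the centraliser of `e'`
  have hcent0 : ∀ g, g * e' = e' * g → g ∈ A ∨ g * τ' ∈ A := by
    intro g hg
    obtain ⟨w, rfl⟩ := hs g
    have h1 : π (w * eW) = π (eW * w) := by rw [map_mul, map_mul]; exact hg
    rw [πeq] at h1
    obtain ⟨i, β, h2⟩ := h1
    have h2' : (w : G) * e1 = e1 * w * (c ^ i * bp β z) := h2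
    have wc : (w : G) * c = c * w := ((hW w).1 w.2).1
    have wz : (w : G) * z = z * w := ((hW w).1 w.2).2
    -- `c^i z^β` is central, so `c^i = 1`
    have cw : Commute (w : G) (c ^ i) := (show Commute (w : G) c from wc).pow_right i
    have zw : Commute (w : G) (bp β z) := by
      cases β
      · exact Commute.one_right _
      · exact wz
    have ce' : Commute e1 (c ^ i) := (show Commute e1 c from h.ce.symm).pow_right i
    have ze' : Commute e1 (bp β z) := by
      cases β
      · exact Commute.one_right _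
      · exact h.I.qr.symm
    have cz' : Commute (c ^ i) (bp β z) := by
      cases β
      · exact Commute.one_right _
      · exact (show Commute c z from h.cz).pow_left i
    have hbb : bp β z * bp β z = 1 := by
      cases β
      · exact one_mul 1
      · exact h.I.qq
    have h3 : (w : G) = w * (c ^ i * c ^ i) := by
      have ce2 : Commute (c ^ i * bp β z) e1 := (ce'.symm.mul_left ze'.symm)
      have e3 : (w : G) * (e1 * e1) = w * ((c ^ i * bp β z) * (c ^ i * bp β z)) := by
        calc (w : G) * (e1 * e1) = (w * e1) * e1 := by rw [mul_assoc]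
          _ = e1 * w * ((c ^ i * bp β z) * e1) := by rw [h2']; simp only [mul_assoc]
          _ = e1 * (w * e1) * (c ^ i * bp β z) := by rw [ce2.eq]; simp only [mul_assoc]
          _ = (e1 * e1) * (w * ((c ^ i * bp β z) * (c ^ i * bp β z))) := by
            rw [h2']; simp only [mul_assoc]
          _ = _ := by rw [h.I.rr, one_mul]
      rw [h.I.rr, mul_one, cz'.symm.mul_mul_mul_comm, hbb, mul_one] at e3
      exact e3
    have h4 : c ^ i * c ^ i = 1 := by
      have : (w : G) * 1 = w * (c ^ i * c ^ i) := by rw [mul_one]; exact h3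
      exact (mul_left_cancel this).symm
    have h5 := c_pow_eq_one h h4
    rw [h5, one_mul] at h2'
    -- image of an element of `C1`
    have hC1 : ∀ w' : W, (w' : G) * e1 = e1 * w' → π w' ∈ A ∨ π w' * τ' ∈ A := by
      intro w' hw'
      obtain ⟨j, v, h6⟩ := k.C1 w' ((hW w').1 w'.2).1 ((hW w').1 w'.2).2 hw'
      -- `F τ' 1 e' f' v = τ'^a e'^c f'^d`
      have hF : ∃ u : V, (F τ' 1 e' f' v = F e' f' p q u) ∨ (F τ' 1 e' f' v = F e' f' p q u * τ') := by
        rcases v with ⟨a, b, c', d⟩
        cases a
        · exact ⟨(c', d, false, false), Or.inl (by simp [F, bp])⟩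
        · refine ⟨(c', d, false, false), Or.inr ?_⟩
          have c7 : Commute τ' (bp c' e' * bp d f') := by
            apply Commute.mul_right
            · cases c'
              · exact Commute.one_right _
              · exact τe
            · cases d
              · exact Commute.one_right _
              · exact τf
          have e7 : F τ' 1 e' f' (true, b, c', d) = τ' * (bp c' e' * bp d f') := by
            cases b <;> simp [F]
          rw [e7, c7.eq]
          simp [F]
      obtain ⟨u, hu⟩ := hF
      have hcw : ∀ x : W, π (⟨c, (hW c).2 ⟨rfl, h.cz⟩⟩ ^ j * x) = π x := by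
        intro x
        rw [map_mul, map_pow]
        have : π (⟨c, (hW c).2 ⟨rfl, h.cz⟩⟩ : W) = 1 := (hk _).2 ⟨1, false, by simp⟩
        rw [this, one_pow, one_mul]
      rcases h6 with h6 | h6
      · have e8 : π w' = F τ' 1 e' f' v := by
          rw [← πF, ← hcw (F τW zW eW fW v)]
          apply πeq0
          change (w' : G) = c ^ j * ((F τW zW eW fW v : W) : G)
          rw [coeF]; exact h6
        rw [e8]
        rcases hu with hu | hu
        · left; rw [hu]; exact mA _
        · right; rw [hu, mul_assoc, ττ, mul_one]; exact mA _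
      · have e8 : π w' = F τ' 1 e' f' v * p := by
          rw [← πF, hp', ← map_mul, ← hcw (F τW zW eW fW v * pW)]
          apply πeq0
          change (w' : G) = c ^ j * (((F τW zW eW fW v : W) : G) * t1)
          rw [coeF, ← mul_assoc]; exact h6
        rw [e8]
        have hpF : p = F e' f' p q (false, false, true, false) := F_0010.symm
        rcases hu with hu | hu
        · left; rw [hu]; exact A.mul_mem (mA _) ⟨_, hpF.symm⟩
        · right
          rw [hu]
          have e9 : F e' f' p q u * τ' * p * τ' = F e' f' p q u * (τ' * p * τ') := by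
            simp only [mul_assoc]
          rw [e9, τp]
          exact A.mul_mem (mA _) (A.mul_mem ⟨_, F_1000⟩ ⟨_, hpF.symm⟩)
    cases β
    · rw [bp_false, mul_one] at h2'
      exact hC1 w h2'
    · rw [bp_true] at h2'
      -- `w t₂` centralises `e1`
      have h6 : ((w * qW : W) : G) * e1 = e1 * ((w * qW : W) : G) := by
        change (w : G) * cj y t1 * e1 = e1 * (w * cj y t1)
        have e0 : cj y t1 * e1 = e1 * z * cj y t1 := by
          have e00 : cj y t1 * e1 * cj y t1 = e1 * z := by
            have := t2_F h k (false, false, true, false)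
            rw [F_0010] at this
            rw [this]
            simp [v2, F, h.I.qr]
          rw [← e00, mul_assoc _ (cj y t1) (cj y t1), t2t2 h k, mul_one]
        calc (w : G) * cj y t1 * e1 = w * (cj y t1 * e1) := by rw [mul_assoc]
          _ = (w * e1) * z * cj y t1 := by rw [e0]; simp only [mul_assoc]
          _ = e1 * w * (z * z) * cj y t1 := by rw [h2']; simp only [mul_assoc]
          _ = e1 * (w * cj y t1) := by rw [h.I.qq, mul_one, mul_assoc]
      have h7 := hC1 (w * qW) h6
      rw [map_mul] at h7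
      have hqF : q ∈ A := ⟨_, F_0001⟩
      have hqF' : τ' * q * τ' ∈ A := by
        rw [τq]
        exact A.mul_mem ⟨_, F_0100⟩ hqF
      rcases h7 with h7 | h7
      · left
        have : π w = (π w * π qW) * q := by rw [mul_assoc, ← hq', qq, mul_one]
        rw [this]
        exact A.mul_mem h7 hqF
      · right
        have : π w * τ' = (π w * π qW * τ') * (τ' * q * τ') := by
          calc π w * τ' = π w * (q * q) * τ' := by rw [qq, mul_one]
            _ = π w * q * 1 * q * τ' := by rw [mul_one]; simp only [mul_assoc]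
            _ = π w * q * (τ' * τ') * q * τ' := by rw [ττ]
            _ = _ := by rw [← hq']; simp only [mul_assoc]
        rw [this]
        exact A.mul_mem h7 hqF'
  -- assemble
  have hB4 : ∀ b ∈ B, b = 1 ∨ b = e' ∨ b = y'⁻¹ * e' * y' ∨ b = y' * e' * y'⁻¹ := by
    rintro _ ⟨v, rfl⟩
    rw [hBF, ye]
    have e0 : y' * e' * y'⁻¹ = e' * f' := by
      have e1' : y'⁻¹ * (e' * f') * y' = e' := by
        calc y'⁻¹ * (e' * f') * y' = (y'⁻¹ * e' * y') * (y'⁻¹ * f' * y') := by group
          _ = f' * (e' * f') := by rw [ye, yf]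
          _ = e' := by rw [← mul_assoc, ← ef, mul_assoc, ff, mul_one]
      calc y' * e' * y'⁻¹ = y' * (y'⁻¹ * (e' * f') * y') * y'⁻¹ := by rw [e1']
        _ = e' * f' := by group
    rw [e0]
    rcases v with ⟨_ | _, _ | _, _, _⟩ <;> simp [F]
  have hye3 : e' * (y'⁻¹ * e' * y') = y' * e' * y'⁻¹ := by
    have e1' : y'⁻¹ * (e' * f') * y' = e' := by
      calc y'⁻¹ * (e' * f') * y' = (y'⁻¹ * e' * y') * (y'⁻¹ * f' * y') := by group
        _ = f' * (e' * f') := by rw [ye, yf]
        _ = e' := by rw [← mul_assoc, ← ef, mul_assoc, ff, mul_one]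
    rw [ye]
    calc e' * f' = y' * (y'⁻¹ * (e' * f') * y') * y'⁻¹ := by group
      _ = y' * e' * y'⁻¹ := by rw [e1']
  have hcent : ∀ b ∈ B, b ≠ 1 → ∀ g, g * b = b * g → g ∈ A ∨ g * τ' ∈ A := by
    intro b hb hb1 g hg
    have yτ' : cj y' τ' = τ' := cj_of_comm yτ
    have yτ'' : cj y'⁻¹ τ' = τ' := by
      rw [← yτ', cj_inv_cj, yτ']
    rcases hB4 b hb with h1 | h1 | h1 | h1
    · exact absurd h1 hb1
    · rw [h1] at hg; exact hcent0 g hg
    · -- `b = cj y' e'`
      have h2 : cj y'⁻¹ g * e' = e' * cj y'⁻¹ g := by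
        have h3 : e' = cj y'⁻¹ b := by rw [h1]; exact (cj_inv_cj y' e').symm
        rw [h3]
        exact cj_comm hg
      rcases hcent0 _ h2 with h3 | h3
      · left
        have := yA _ h3
        rwa [cj_cj_inv] at this
      · right
        have := yA _ h3
        rwa [map_mul, cj_cj_inv, yτ'] at this
    · have h2 : cj y' g * e' = e' * cj y' g := by
        have h3 : e' = cj y' b := by
          rw [h1]
          simp only [cj_apply]; group
        rw [h3]
        exact cj_comm hg
      rcases hcent0 _ h2 with h3 | h3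
      · left
        have := yA' _ h3
        rwa [cj_inv_cj] at this
      · right
        have := yA' _ h3
        rwa [map_mul, cj_inv_cj, yτ''] at this
  have hyp : HypQuot.Hyp A B τ' y' e' := by
    constructor
    · rintro _ ⟨v, rfl⟩; exact F_sq hI v
    · exact ττ
    · rintro ⟨v, hv⟩
      -- `τ'` would commute with `p`
      have h1 : τ' * p = p * τ' := by
        have h2 := F_comm hI v (false, false, true, false)
        rw [hv, F_0010] at h2
        exact h2
      have h2 := Fτ (false, false, true, false) (by rw [F_0010]; exact h1.symm)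
      exact absurd h2.1 (by decide)
    · rintro _ ⟨v, rfl⟩
      rw [τF]
      exact mA _
    · rintro _ ⟨v, rfl⟩
      rw [hBF]
      exact mA _
    · rintro _ ⟨v, rfl⟩
      constructor
      · intro hv
        obtain ⟨h1, h2⟩ := Fτ v hv
        rcases v with ⟨a, b, c', d⟩
        simp only at h1 h2
        subst h1 h2
        exact mB a b
      · rintro ⟨w, hw⟩
        rw [← hw, hBF]
        have c7 : Commute τ' (F e' f' p q (w.1, w.2.1, false, false)) := by
          have e7 : F e' f' p q (w.1, w.2.1, false, false) = bp w.1 e' * bp w.2.1 f' := by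
            simp [F]
          rw [e7]
          apply Commute.mul_right
          · cases w.1
            · exact Commute.one_right _
            · exact τe
          · cases w.2.1
            · exact Commute.one_right _
            · exact τf
        exact c7.symm.eq
    · exact hcent
    · exact yyy
    · exact yτ
    · exact eB
    · exact e'1
    · rw [ye]; exact fB
    · exact hye3
    · exact hB4
    · -- conjugates of `e'` in `A`
      rintro _ ⟨v, rfl⟩ hconj
      by_cases hv : (v.2.2.1 || v.2.2.2) = true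
      · exfalso
        obtain ⟨g, hg⟩ := isConj_iff.1 hconj
        obtain ⟨w, rfl⟩ := hs g
        rw [← πX, he', ← map_inv, ← map_mul, ← map_mul, πeq] at hg
        obtain ⟨i, β, h2⟩ := hg
        rw [coeX] at h2
        apply X_not h k hv (i := i) (β := β)
        rw [← h2]
        have h3 : IsConj e1 ((w * eW * w⁻¹ : W) : G) := isConj_iff.2 ⟨w, rfl⟩
        exact h.K1.trans h3
      · rcases v with ⟨a, b, _ | _, _ | _⟩
        · exact mB a b
        · exact absurd rfl hv
        · exact absurd rfl hv
        · exact absurd rfl hv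
    · -- conjugates of `τ'`
      rintro _ ⟨v, rfl⟩ hconj
      obtain ⟨g, hg⟩ := isConj_iff.1 hconj
      obtain ⟨w, rfl⟩ := hs g
      rw [← πX, hτ', ← map_inv, ← map_mul, ← map_mul, πeq] at hg
      obtain ⟨i, β, h2⟩ := hg
      rw [coeX] at h2
      have h2' : (w : G) * τ * (w : G)⁻¹ = F e1 e2 t1 (cj y t1) v * (c ^ i * bp β z) := h2
      have hK1 : IsConj τ (F e1 e2 t1 (cj y t1) v * (c ^ i * bp β z)) :=
        isConj_iff.2 ⟨w, h2'⟩
      by_cases hv : (v.2.2.1 || v.2.2.2) = true
      · exact X_not h k hv hK1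
      · obtain ⟨hK2, hci⟩ := X_conj h k hK1
        rcases v with ⟨a, b, _ | _, _ | _⟩
        · have e7 : ∀ β, F e1 e2 t1 (cj y t1) (a, b, false, false) * bp β z =
              F τ z e1 e2 (false, β, a, b) := by
            intro β
            rw [X_form h k]
            simp
          have l1 : lab (false, β, a, b) = true := by
            rw [← hK h, ← e7]
            exact hK2
          have l2 : lab (false, !β, a, b) = false := by
            rw [← Bool.not_eq_true, ← hK h, ← e7]
            intro hK3
            apply h.N2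
            -- `τ z` is conjugate to `x z`
            have e8 : (w : G) * (τ * z) * (w : G)⁻¹ =
                F e1 e2 t1 (cj y t1) (a, b, false, false) * bp (!β) z := by
              have wz : (w : G) * z = z * w := ((hW w).1 w.2).2
              have zw' : z * (w : G)⁻¹ = (w : G)⁻¹ * z :=
                (show Commute z (w : G)⁻¹ from (show Commute z (w : G) from wz.symm).inv_right).eq
              calc (w : G) * (τ * z) * (w : G)⁻¹ = w * τ * (z * (w : G)⁻¹) := by
                    simp only [mul_assoc]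
                _ = (w * τ * (w : G)⁻¹) * z := by rw [zw']; simp only [mul_assoc]
                _ = F e1 e2 t1 (cj y t1) (a, b, false, false) * (bp β z * z) := by
                    rw [h2', hci, one_mul, mul_assoc]
                _ = _ := by cases β <;> simp [h.I.qq]
            exact hK3.trans (isConj_iff.2 ⟨w, e8⟩ : IsConj (τ * z) _).symm
          exact d1 a b β l1 l2
        · exact absurd rfl hv
        · exact absurd rfl hv
        · exact absurd rfl hv
    · -- the conjugate outside `A`
      refine ⟨π (sW⁻¹ * eW * sW), isConj_iff.2 ⟨π sW⁻¹, ?_⟩, ?_⟩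
      · rw [he', ← map_inv, ← map_mul, ← map_mul, inv_inv]
      · rintro ⟨v, hv⟩
        -- it would commute with `e'`
        have h1 : π (sW⁻¹ * eW * sW) * e' = e' * π (sW⁻¹ * eW * sW) := by
          have h2 := F_comm hI v (true, false, false, false)
          rw [hv, F_1000] at h2
          exact h2
        have h2 : π ((sW⁻¹ * eW * sW * eW) * (sW⁻¹ * eW * sW * eW)) = 1 := by
          have h3 : π (sW⁻¹ * eW * sW) * π (sW⁻¹ * eW * sW) = 1 := by rw [← hv, F_sq hI]
          have h4 : π (sW⁻¹ * eW * sW * eW) = π (sW⁻¹ * eW * sW) * e' := by rw [map_mul]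
          rw [map_mul, h4]
          calc π (sW⁻¹ * eW * sW) * e' * (π (sW⁻¹ * eW * sW) * e')
              = π (sW⁻¹ * eW * sW) * (e' * π (sW⁻¹ * eW * sW)) * e' := by simp only [mul_assoc]
            _ = (π (sW⁻¹ * eW * sW) * π (sW⁻¹ * eW * sW)) * (e' * e') := by
              rw [← h1]; simp only [mul_assoc]
            _ = 1 := by rw [h3, ee, mul_one]
        rw [hk] at h2
        obtain ⟨i, β, h3⟩ := h2
        set r : G := s⁻¹ * e1 * s * e1 with hr
        have h4 : r * r = c ^ i * bp β z := h3
        have h5 : r ^ 5 = 1 := h.s5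
        have cz' : Commute (c ^ i) (bp β z) := by
          cases β
          · exact Commute.one_right _
          · exact (show Commute c z from h.cz).pow_left i
        have h6 : (r * r) ^ 6 = 1 := by
          rw [h4, cz'.mul_pow]
          have e8 : (c ^ i) ^ 6 = 1 := by
            rw [← pow_mul, mul_comm, pow_mul, show 6 = 3 * 2 from rfl, pow_mul c, c3 h, one_pow,
              one_pow]
          have e9 : (bp β z) ^ 6 = 1 := by
            rw [show 6 = 2 * 3 from rfl, pow_mul, pow_two]
            cases β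
            · simp
            · rw [bp_true, h.I.qq, one_pow]
          rw [e8, e9, one_mul]
        have h7 : r ^ 12 = 1 := by
          rw [← pow_two, ← pow_mul] at h6
          exact h6
        have h8 : r ^ 2 = 1 := by
          have : r ^ 12 = (r ^ 5) ^ 2 * r ^ 2 := by rw [← pow_mul, ← pow_add]
          rw [this, h5, one_pow, one_mul] at h7
          exact h7
        have h9 : r = 1 := by
          have : r ^ 5 = (r ^ 2) ^ 2 * r := by rw [← pow_mul, ← pow_succ]
          rw [h5, h8, one_pow, one_mul] at this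
          exact this.symm
        exact h.s1 h9
    · refine ⟨p, ⟨_, F_0010⟩, ?_⟩
      rintro ⟨w, hw⟩
      rw [hBF] at hw
      have c7 : Commute τ' (F e' f' p q (w.1, w.2.1, false, false)) := by
        have e7 : F e' f' p q (w.1, w.2.1, false, false) = bp w.1 e' * bp w.2.1 f' := by
          simp [F]
        rw [e7]
        apply Commute.mul_right
        · cases w.1
          · exact Commute.one_right _
          · exact τe
        · cases w.2.1
          · exact Commute.one_right _
          · exact τf
      rw [hw] at c7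
      have h2 := Fτ (false, false, true, false) (by rw [F_0010]; exact c7.symm.eq)
      exact absurd h2.1 (by decide)
  exact HypQuot2.false_of_hyp hyp

/-- **The case `d ∼ τ` does not occur.** -/
theorem false_of_data [Finite G] (h : Data τ z c e1 e2 t y s) : False := by
  obtain ⟨t1, k1, k2, k3, k4, k5, k6, k7, k8⟩ := exists_t1 h
  have k : T1D τ z c e1 e2 t1 := ⟨k1, k2, k3, k4, k5, k6, k7, k8⟩
  let W : Subgroup G := Subgroup.centralizer ({c, z} : Set G)
  have hW : ∀ g, g ∈ W ↔ g * c = c * g ∧ g * z = z * g := by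
    intro g
    rw [Subgroup.mem_centralizer_iff]
    constructor
    · intro h1
      exact ⟨(h1 c (Or.inl rfl)).symm, (h1 z (Or.inr rfl)).symm⟩
    · rintro ⟨h1, h2⟩ x (rfl | rfl)
      · exact h1.symm
      · exact h2.symm
  let cW : W := ⟨c, (hW c).2 ⟨rfl, h.cz⟩⟩
  let zW : W := ⟨z, (hW z).2 ⟨h.cz.symm, rfl⟩⟩
  let N : Subgroup W :=
    { carrier := {w | ∃ (i : ℕ) (β : Bool), w = cW ^ i * bp β zW}
      mul_mem' := by
        rintro _ _ ⟨i, β, rfl⟩ ⟨j, γ, rfl⟩
        refine ⟨i + j, xor β γ, ?_⟩
        have hzz : zW * zW = 1 := Subtype.ext h.I.qq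
        have hcz : ∀ (m : ℕ) (b : Bool), Commute (bp b zW) (cW ^ m) := by
          intro m b
          cases b
          · exact Commute.one_left _
          · exact (show Commute zW cW from Subtype.ext h.cz.symm).pow_right m
        rw [(hcz j β).mul_mul_mul_comm, bp_mul hzz, pow_add]
      one_mem' := ⟨0, false, by simp⟩
      inv_mem' := by
        rintro _ ⟨i, β, rfl⟩
        refine ⟨2 * i, β, ?_⟩
        have hzz : bp β zW * bp β zW = 1 := by
          cases β
          · exact one_mul 1
          · exact Subtype.ext h.I.qq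
        have hcz : ∀ (m : ℕ) (b : Bool), Commute (bp b zW) (cW ^ m) := by
          intro m b
          cases b
          · exact Commute.one_left _
          · exact (show Commute zW cW from Subtype.ext h.cz.symm).pow_right m
        symm
        apply eq_inv_of_mul_eq_one_left
        rw [(hcz i β).mul_mul_mul_comm, hzz, mul_one, ← pow_add,
          show 2 * i + i = 3 * i by ring, pow_mul,
          show cW ^ 3 = 1 from Subtype.ext (c3 h), one_pow] }
  have hNmem : ∀ w : W, w ∈ N ↔ ∃ (i : ℕ) (β : Bool), w = cW ^ i * bp β zW := fun _ => Iff.rfl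
  have hNc : ∀ w ∈ N, ∀ g : W, g * w = w * g := by
    rintro _ ⟨i, β, rfl⟩ g
    have h1 : Commute g cW := Subtype.ext ((hW g).1 g.2).1
    have h2 : Commute g zW := Subtype.ext ((hW g).1 g.2).2
    have h3 : Commute g (bp β zW) := by
      cases β
      · exact Commute.one_right _
      · exact h2
    exact ((h1.pow_right i).mul_right h3).eq
  have hN : N.Normal := by
    constructor
    intro n hn g
    rw [hNc n hn g, mul_inv_cancel_right]
    exact hn
  refine false_of_quot h k hW (QuotientGroup.mk' N) (QuotientGroup.mk'_surjective N) ?_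
  intro w
  rw [← MonoidHom.mem_ker, QuotientGroup.ker_mk', hNmem]
  have hcoe : ∀ (i : ℕ) (β : Bool), ((cW ^ i * bp β zW : W) : G) = c ^ i * bp β z := by
    intro i β
    cases β <;> simp [cW, zW]
  constructor
  · rintro ⟨i, β, h1⟩
    exact ⟨i, β, by rw [h1, hcoe]⟩
  · rintro ⟨i, β, h1⟩
    exact ⟨i, β, Subtype.ext (by rw [h1, hcoe])⟩

end Cfsg.Agent.HN.HypKill2
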