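import Cfsg.Agent.HN.CentCards

set_option autoImplicit false

/-!
Finite sets of elements of `H0` given by lists of words: distinctness by codes, orders of centralisers from
lists of conjugates, subgroups given by lists of words.
-/

namespace Cfsg.Agent.HN.WordSets

open Cfsg.Agent.HN.Pres Cfsg.Agent.HN.P1408 Cfsg.Agent.HN.H0Basic
open Cfsg.Agent.SporadicA.PermTab (band band_eq_true)

/-- The list is strictly increasing. -/
def incB (L : List ℕ) : Bool :=
  List.rec true (fun a L ih => List.rec true (fun b _ _ => band (Nat.blt a b) ih) L) L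

theorem incB_cons_cons (a b : ℕ) (L : List ℕ) :
    incB (a :: b :: L) = band (Nat.blt a b) (incB (b :: L)) := rfl

theorem incB_spec {L : List ℕ} (h : incB L = true) : L.Pairwise (· < ·) := by
  rw [← List.isChain_iff_pairwise]
  induction L with
  | nil => exact List.isChain_nil
  | cons a L ih =>
    cases L with
    | nil => exact List.isChain_singleton _
    | cons b L =>
      rw [incB_cons_cons, band_eq_true] at h
      exact List.isChain_cons_cons.2 ⟨Nat.blt_eq ▸ h.1, ih h.2⟩

theorem nodup_of_incB {L : List ℕ} (h : incB L = true) : L.Nodup :=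
  (incB_spec h).imp (fun h => Nat.ne_of_lt h)

/-- The code of a word: the images of the points in `ps`. -/
def cod (ps : List ℕ) (a : List ℕ) : ℕ := List.rec 0 (fun p _ ih => Nat.add (Nat.mul 2048 ih) (tr a p)) ps

/-- all points are less than 1408 -/
def okp (ps : List ℕ) : Bool := List.rec true (fun p _ ih => band (Nat.blt p 1408) ih) ps

theorem cod_eq_of_hw_eq {ps a b : List ℕ} (hp : okp ps = true) (ha : okw a = true) (hb : okw b = true)
    (h : hw a = hw b) : cod ps a = cod ps b := by
  induction ps with
  | nil => rfl
  | cons p ps ih =>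
    have hp' : band (Nat.blt p 1408) (okp ps) = true := hp
    rw [band_eq_true] at hp'
    have hlt : p < 1408 := Nat.blt_eq ▸ hp'.1
    have h1 : tr a p = tr b p := by
      by_contra hne
      exact hw_ne ha hb hlt hne h
    have h2 := ih hp'.2
    change Nat.add (Nat.mul 2048 (cod ps a)) (tr a p) = Nat.add (Nat.mul 2048 (cod ps b)) (tr b p)
    rw [h1, h2]

/-- every word of the list satisfies `f` -/
def allL (f : List ℕ → Bool) (L : List (List ℕ)) : Bool := List.rec true (fun w _ ih => band (f w) ih) L

theorem allL_iff {f : List ℕ → Bool} {L : List (List ℕ)} : allL f L = true ↔ ∀ w ∈ L, f w = true := by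
  induction L with
  | nil => simp [allL]
  | cons w L ih =>
    have : allL f (w :: L) = band (f w) (allL f L) := rfl
    rw [this, band_eq_true, ih]
    simp

/-- The word `w` commutes with the word `e`. -/
def comw (e w : List ℕ) : Bool := eqw (w ++ e) (e ++ w)

theorem okw_of_append {a b : List ℕ} (h : okw (a ++ b) = true) : okw a = true ∧ okw b = true := by
  induction a with
  | nil => exact ⟨rfl, h⟩
  | cons l a ih =>
    have h1 : band (Nat.blt l 5) (okw (a ++ b)) = true := h
    rw [band_eq_true] at h1
    obtain ⟨h2, h3⟩ := ih h1.2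
    refine ⟨?_, h3⟩
    change band (Nat.blt l 5) (okw a) = true
    rw [band_eq_true]
    exact ⟨h1.1, h2⟩

theorem okw_of_eqw {a b : List ℕ} (h : eqw a b = true) : okw a = true ∧ okw b = true := by
  unfold eqw at h
  rw [band_eq_true, band_eq_true] at h
  exact ⟨h.1, h.2.1⟩

theorem comw_spec {e w : List ℕ} (h : comw e w = true) : hw w * hw e = hw e * hw w := by
  rw [← hw_append, ← hw_append]
  exact hw_eq h

theorem okw_of_comw {e w : List ℕ} (h : comw e w = true) : okw w = true :=
  (okw_of_append (okw_of_eqw h).1).1

theorem mem_centralizer_of_comw {e w : List ℕ} (h : comw e w = true) :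
    hw w ∈ (Subgroup.centralizer {hw e} : Subgroup H0) := by
  rw [Subgroup.mem_centralizer_iff]
  rintro _ rfl
  exact (comw_spec h).symm

/-- **Centraliser bound from a list of conjugates**: for words `w ∈ L` in `B` the conjugates of `c` by `w` have
increasing codes. -/
theorem length_mul_card_le (B : Subgroup H0) {c : List ℕ} {L : List (List ℕ)} {ps : List ℕ}
    (hp : okp ps = true) (hc : okw c = true) (hok : allL okw L = true) (hL : ∀ w ∈ L, hw w ∈ B)
    (hD : incB (L.map (fun w => cod ps (w ++ c ++ iw w))) = true) :
    L.length * Nat.card (B ⊓ Subgroup.centralizer {hw c} : Subgroup H0) ≤ Nat.card B := by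
  have hok' := allL_iff.1 hok
  have h6 : Nat.card (Fin L.length × (B ⊓ Subgroup.centralizer {hw c} : Subgroup H0)) ≤
      Nat.card B := by
    refine Nat.card_le_card_of_injective
      (fun z : Fin L.length × (B ⊓ Subgroup.centralizer {hw c} : Subgroup H0) =>
        (⟨hw (L.get z.1) * z.2.1, B.mul_mem (hL _ (List.get_mem L z.1)) z.2.2.1⟩ : B)) ?_
    rintro ⟨j, u⟩ ⟨j', u'⟩ hij
    have e6 : hw (L.get j) * (u : H0) = hw (L.get j') * (u' : H0) := congrArg Subtype.val hij
    have e7 : ∀ (j : Fin L.length) (u : (B ⊓ Subgroup.centralizer {hw c} : Subgroup H0)),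
        (hw (L.get j) * (u : H0)) * hw c * (hw (L.get j) * (u : H0))⁻¹ =
          hw (L.get j ++ c ++ iw (L.get j)) := by
      intro j u
      have hu : hw c * (u : H0) = u * hw c := Subgroup.mem_centralizer_iff.1 u.2.2 _ rfl
      rw [hw_append, hw_append, hw_iw, mul_inv_rev]
      calc hw (L.get j) * (u : H0) * hw c * ((u : H0)⁻¹ * (hw (L.get j))⁻¹)
          = hw (L.get j) * ((u : H0) * hw c) * (u : H0)⁻¹ * (hw (L.get j))⁻¹ := by group
        _ = hw (L.get j) * hw c * (hw (L.get j))⁻¹ := by rw [← hu]; group
    have e8 : hw (L.get j ++ c ++ iw (L.get j)) = hw (L.get j' ++ c ++ iw (L.get j')) := by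
      rw [← e7 j u, ← e7 j' u', e6]
    have hokc : ∀ j : Fin L.length, okw (L.get j ++ c ++ iw (L.get j)) = true := fun j =>
      okw_append (okw_append (hok' _ (List.get_mem L j)) hc) (okw_iw (hok' _ (List.get_mem L j)))
    have e9 := cod_eq_of_hw_eq hp (hokc j) (hokc j') e8
    have e10 : j = j' := by
      have hinj := List.nodup_iff_injective_get.1 (nodup_of_incB hD)
      have hlen : (L.map (fun w => cod ps (w ++ c ++ iw w))).length = L.length := List.length_map _
      have h11 : (Fin.cast hlen.symm j) = (Fin.cast hlen.symm j') := by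
        apply hinj
        simpa using e9
      simpa [Fin.ext_iff] using h11
    subst e10
    rw [Subtype.ext (mul_left_cancel e6)]
  rw [Nat.card_prod, Nat.card_eq_fintype_card, Fintype.card_fin] at h6
  exact h6

/-- a subgroup containing sufficiently many distinct words consists of them. -/
theorem exists_mem_of_card_le (B : Subgroup H0) {L : List (List ℕ)} {ps : List ℕ}
    (hp : okp ps = true) (hok : allL okw L = true) (hL : ∀ w ∈ L, hw w ∈ B)
    (hD : incB (L.map (cod ps)) = true) (hB : Nat.card B ≤ L.length) :
    ∀ g ∈ B, ∃ w ∈ L, hw w = g := by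
  classical
  have hok' := allL_iff.1 hok
  let f : Fin L.length → B := fun j => ⟨hw (L.get j), hL _ (List.get_mem L j)⟩
  have hf : Function.Injective f := by
    intro j j' hj
    have e8 : hw (L.get j) = hw (L.get j') := congrArg Subtype.val hj
    have e9 := cod_eq_of_hw_eq hp (hok' _ (List.get_mem L j)) (hok' _ (List.get_mem L j')) e8
    have hinj := List.nodup_iff_injective_get.1 (nodup_of_incB hD)
    have hlen : (L.map (cod ps)).length = L.length := List.length_map _
    have h11 : (Fin.cast hlen.symm j) = (Fin.cast hlen.symm j') := by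
      apply hinj
      simpa using e9
    simpa [Fin.ext_iff] using h11
  have hbij : Function.Bijective f := by
    haveI := Fintype.ofFinite B
    rw [Fintype.bijective_iff_injective_and_card]
    refine ⟨hf, ?_⟩
    have h1 := Fintype.card_le_of_injective f hf
    rw [Nat.card_eq_fintype_card] at hB
    rw [Fintype.card_fin] at h1 ⊢
    omega
  intro g hg
  obtain ⟨j, hj⟩ := hbij.2 ⟨g, hg⟩
  exact ⟨L.get j, List.get_mem L j, congrArg Subtype.val hj⟩

theorem length_le_card (B : Subgroup H0) {L : List (List ℕ)} {ps : List ℕ}
    (hp : okp ps = true) (hok : allL okw L = true) (hL : ∀ w ∈ L, hw w ∈ B)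
    (hD : incB (L.map (cod ps)) = true) : L.length ≤ Nat.card B := by
  have hok' := allL_iff.1 hok
  let f : Fin L.length → B := fun j => ⟨hw (L.get j), hL _ (List.get_mem L j)⟩
  have hf : Function.Injective f := by
    intro j j' hj
    have e8 : hw (L.get j) = hw (L.get j') := congrArg Subtype.val hj
    have e9 := cod_eq_of_hw_eq hp (hok' _ (List.get_mem L j)) (hok' _ (List.get_mem L j')) e8
    have hinj := List.nodup_iff_injective_get.1 (nodup_of_incB hD)
    have hlen : (L.map (cod ps)).length = L.length := List.length_map _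
    have h11 : (Fin.cast hlen.symm j) = (Fin.cast hlen.symm j') := by
      apply hinj
      simpa using e9
    simpa [Fin.ext_iff] using h11
  have := Nat.card_le_card_of_injective f hf
  rwa [Nat.card_eq_fintype_card, Fintype.card_fin] at this

/-- Conjugacy by an explicit word. -/
theorem isConj_of_eqw {a b c : List ℕ} (h : eqw (c ++ a) (b ++ c) = true) : IsConj (hw a) (hw b) := by
  rw [isConj_iff]
  refine ⟨hw c, ?_⟩
  have h1 := hw_eq h
  rw [hw_append, hw_append] at h1
  rw [h1, mul_inv_cancel_right]

end Cfsg.Agent.HN.WordSets
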