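import Cfsg.Agent.HN.FusOne
import Cfsg.Agent.HN.HypFacts

set_option autoImplicit false

/-!
Fusion in a finite group with an involution centraliser `2.HS.2 = H0`.
-/

namespace Cfsg.Agent.HN.Fus

open Cfsg.Agent.HN.Pres Cfsg.Agent.HN.H0Basic Cfsg.Agent.HN.Syl Cfsg.Agent.HN.FusGen

/-- **Fusion**: `z` is fused to `τ`, `a τ` and `d` are not. -/
theorem main' {G : Type*} [Group G] [Finite G] {φ : H0 →* G} (E : Emb φ τ)
    (hex : ∃ h, InK φ τ h ∧ h ≠ τ) : InK φ τ gz ∧ ¬ InK φ τ (a * τ) ∧ ¬ InK φ τ d := by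
  have hb := FusOne.not_inK_aτ E
  by_cases hz : InK φ τ gz
  · exact ⟨hz, hb, FusOne.not_inK_d E hz⟩
  · exfalso
    have hd : InK φ τ d := (FusOne.z_or_d' E hex).resolve_left hz
    exact HypFacts.hyp_false E (FusOne.inK_a E hz hd) hd hz hb

/-- **Fusion**, simple groups. -/
theorem main {G : Type*} [Group G] [Finite G] [IsSimpleGroup G] {φ : H0 →* G} (E : Emb φ τ) :
    InK φ τ gz ∧ ¬ InK φ τ (a * τ) ∧ ¬ InK φ τ d :=
  main' E (E.exists_inK FusOne.noncomm)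

end Cfsg.Agent.HN.Fus
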