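import Mathlib

set_option autoImplicit false

/-!
The group `2 ≀ V₄` in coordinates, for the fusion analysis of groups of Harada–Norton type.
-/

namespace Cfsg.Agent.HN.FusXW

/-! ### The group `2 ≀ V₄` in coordinates -/

/-- coordinates: four sign changes and two permutations -/
abbrev W := Bool × Bool × Bool × Bool × Bool × Bool

/-- product -/
def mulW : W → W → W
  | (a, b, c, d, e, g), (a', b', c', d', e', g') =>
    let a₁ := cond g c' a'
    let b₁ := cond g d' b'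
    let c₁ := cond g a' c'
    let d₁ := cond g b' d'
    (xor a (cond e b₁ a₁), xor b (cond e a₁ b₁), xor c (cond e d₁ c₁), xor d (cond e c₁ d₁),
      xor e e', xor g g')

/-- the neutral element -/
def oneW : W := (false, false, false, false, false, false)
/-- the element `f₄ = f₀ f₁ f₂ f₃` -/
def zW : W := (true, true, true, true, false, false)

/-- inverse -/
def invW : W → W
  | (a, b, c, d, e, g) =>
    let a₁ := cond g c a
    let b₁ := cond g d b
    let c₁ := cond g a c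
    let d₁ := cond g b d
    (cond e b₁ a₁, cond e a₁ b₁, cond e d₁ c₁, cond e c₁ d₁, e, g)

/-- conjugation by `α` -/
def aW : W → W
  | (a, b, c, d, e, g) => (c, a, b, d, xor e g, e)

/-- even number of sign changes -/
def even : W → Bool
  | (a, b, c, d, _, _) => xor (xor a b) (xor c d) == false

/-- even number of sign changes, no permutation -/
def inP : W → Bool
  | (a, b, c, d, e, g) => (xor (xor a b) (xor c d) == false) && (e == false) && (g == false)

theorem mulW_inv : ∀ x : W, mulW x (invW x) = oneW := by decide +kernel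
theorem inv_mulW : ∀ x : W, mulW (invW x) x = oneW := by decide +kernel
theorem mulW_one : ∀ x : W, mulW x oneW = x := by decide +kernel

variable {H : Type*} [Group H]

/-- The relations of `2 ≀ A₄`. -/
structure Rel (f₀ f₁ f₂ f₃ v₁ v₂ α : H) : Prop where
  s0 : f₀ * f₀ = 1
  s1 : f₁ * f₁ = 1
  s2 : f₂ * f₂ = 1
  s3 : f₃ * f₃ = 1
  c01 : f₀ * f₁ = f₁ * f₀
  c02 : f₀ * f₂ = f₂ * f₀
  c03 : f₀ * f₃ = f₃ * f₀
  c12 : f₁ * f₂ = f₂ * f₁
  c13 : f₁ * f₃ = f₃ * f₁
  c23 : f₂ * f₃ = f₃ * f₂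
  w1 : v₁ * v₁ = 1
  w2 : v₂ * v₂ = 1
  w12 : v₁ * v₂ = v₂ * v₁
  v1f0 : v₁ * f₀ = f₁ * v₁
  v1f2 : v₁ * f₂ = f₃ * v₁
  v2f0 : v₂ * f₀ = f₂ * v₂
  v2f1 : v₂ * f₁ = f₃ * v₂
  αf0 : α * f₀ = f₁ * α
  αf1 : α * f₁ = f₂ * α
  αf2 : α * f₂ = f₀ * α
  αf3 : α * f₃ = f₃ * α
  αv1 : α * v₁ = v₁ * v₂ * α
  αv2 : α * v₂ = v₁ * α

section elements

variable {f₀ f₁ f₂ f₃ v₁ v₂ α : H}

/-- the sign change part -/
def fe (f₀ f₁ f₂ f₃ : H) (a b c d : Bool) : H :=
  cond a f₀ 1 * cond b f₁ 1 * cond c f₂ 1 * cond d f₃ 1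

/-- the permutation part -/
def ve (v₁ v₂ : H) (e g : Bool) : H := cond e v₁ 1 * cond g v₂ 1

theorem cond_mul (x : H) (hx : x * x = 1) (a b : Bool) : cond a x 1 * cond b x 1 = cond (xor a b) x 1 := by
  cases a <;> cases b <;> simp [hx]

theorem cond_comm {x y : H} (h : x * y = y * x) (a b : Bool) : cond a x 1 * cond b y 1 = cond b y 1 * cond a x 1 := by
  cases a <;> cases b <;> simp [h]

theorem swap_mul {x y x' y' : H} (h : y * x' = x' * y) : (x * y) * (x' * y') = (x * x') * (y * y') := by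
  rw [mul_assoc, ← mul_assoc y, h, mul_assoc, mul_assoc]

theorem fe_mul (R : Rel f₀ f₁ f₂ f₃ v₁ v₂ α) (a b c d a' b' c' d' : Bool) :
    fe f₀ f₁ f₂ f₃ a b c d * fe f₀ f₁ f₂ f₃ a' b' c' d' =
      fe f₀ f₁ f₂ f₃ (xor a a') (xor b b') (xor c c') (xor d d') := by
  unfold fe
  have h3 : cond d f₃ 1 * (cond a' f₀ 1 * cond b' f₁ 1 * cond c' f₂ 1) =
      (cond a' f₀ 1 * cond b' f₁ 1 * cond c' f₂ 1) * cond d f₃ 1 := by
    rw [← mul_assoc, ← mul_assoc, cond_comm R.c03.symm, mul_assoc (cond a' f₀ 1), cond_comm R.c13.symm,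
      mul_assoc (cond a' f₀ 1), mul_assoc (cond b' f₁ 1), cond_comm R.c23.symm]
    simp only [mul_assoc]
  have h2 : cond c f₂ 1 * (cond a' f₀ 1 * cond b' f₁ 1) = (cond a' f₀ 1 * cond b' f₁ 1) * cond c f₂ 1 := by
    rw [← mul_assoc, cond_comm R.c02.symm, mul_assoc (cond a' f₀ 1), cond_comm R.c12.symm]
    simp only [mul_assoc]
  rw [swap_mul h3, swap_mul h2, swap_mul (cond_comm R.c01.symm b a'), cond_mul _ R.s0, cond_mul _ R.s1,
    cond_mul _ R.s2, cond_mul _ R.s3]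

theorem ve_mul (R : Rel f₀ f₁ f₂ f₃ v₁ v₂ α) (e g e' g' : Bool) :
    ve v₁ v₂ e g * ve v₁ v₂ e' g' = ve v₁ v₂ (xor e e') (xor g g') := by
  unfold ve
  rw [swap_mul (cond_comm R.w12.symm g e'), cond_mul _ R.w1, cond_mul _ R.w2]

theorem v1_fe (R : Rel f₀ f₁ f₂ f₃ v₁ v₂ α) (a b c d : Bool) :
    v₁ * fe f₀ f₁ f₂ f₃ a b c d = fe f₀ f₁ f₂ f₃ b a d c * v₁ := by
  have h1 : v₁ * f₁ = f₀ * v₁ := by
    have := R.v1f0
    calc v₁ * f₁ = v₁ * (f₁ * v₁) * v₁⁻¹ := by group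
      _ = v₁ * (v₁ * f₀) * v₁⁻¹ := by rw [this]
      _ = (v₁ * v₁) * f₀ * v₁⁻¹ := by group
      _ = f₀ * v₁ := by rw [R.w1, one_mul, inv_eq_of_mul_eq_one_left R.w1]
  have h3 : v₁ * f₃ = f₂ * v₁ := by
    have := R.v1f2
    calc v₁ * f₃ = v₁ * (f₃ * v₁) * v₁⁻¹ := by group
      _ = v₁ * (v₁ * f₂) * v₁⁻¹ := by rw [this]
      _ = (v₁ * v₁) * f₂ * v₁⁻¹ := by group
      _ = f₂ * v₁ := by rw [R.w1, one_mul, inv_eq_of_mul_eq_one_left R.w1]
  have hc : ∀ x y : H, v₁ * x = y * v₁ → ∀ a : Bool, v₁ * cond a x 1 = cond a y 1 * v₁ := by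
    intro x y h a
    cases a
    · simp
    · exact h
  unfold fe
  calc v₁ * (cond a f₀ 1 * cond b f₁ 1 * cond c f₂ 1 * cond d f₃ 1)
      = (v₁ * cond a f₀ 1) * cond b f₁ 1 * cond c f₂ 1 * cond d f₃ 1 := by group
    _ = cond a f₁ 1 * (v₁ * cond b f₁ 1) * cond c f₂ 1 * cond d f₃ 1 := by
        rw [hc _ _ R.v1f0]; group
    _ = cond a f₁ 1 * cond b f₀ 1 * (v₁ * cond c f₂ 1) * cond d f₃ 1 := by
        rw [hc _ _ h1]; group
    _ = cond a f₁ 1 * cond b f₀ 1 * cond c f₃ 1 * (v₁ * cond d f₃ 1) := by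
        rw [hc _ _ R.v1f2]; group
    _ = (cond a f₁ 1 * cond b f₀ 1) * (cond c f₃ 1 * cond d f₂ 1) * v₁ := by
        rw [hc _ _ h3]; group
    _ = _ := by
        rw [cond_comm R.c01.symm, cond_comm R.c23.symm]; group

theorem v2_fe (R : Rel f₀ f₁ f₂ f₃ v₁ v₂ α) (a b c d : Bool) :
    v₂ * fe f₀ f₁ f₂ f₃ a b c d = fe f₀ f₁ f₂ f₃ c d a b * v₂ := by
  have h2 : v₂ * f₂ = f₀ * v₂ := by
    have := R.v2f0
    calc v₂ * f₂ = v₂ * (f₂ * v₂) * v₂⁻¹ := by group
      _ = v₂ * (v₂ * f₀) * v₂⁻¹ := by rw [this]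
      _ = (v₂ * v₂) * f₀ * v₂⁻¹ := by group
      _ = f₀ * v₂ := by rw [R.w2, one_mul, inv_eq_of_mul_eq_one_left R.w2]
  have h3 : v₂ * f₃ = f₁ * v₂ := by
    have := R.v2f1
    calc v₂ * f₃ = v₂ * (f₃ * v₂) * v₂⁻¹ := by group
      _ = v₂ * (v₂ * f₁) * v₂⁻¹ := by rw [this]
      _ = (v₂ * v₂) * f₁ * v₂⁻¹ := by group
      _ = f₁ * v₂ := by rw [R.w2, one_mul, inv_eq_of_mul_eq_one_left R.w2]
  have hc : ∀ x y : H, v₂ * x = y * v₂ → ∀ a : Bool, v₂ * cond a x 1 = cond a y 1 * v₂ := by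
    intro x y h a
    cases a
    · simp
    · exact h
  unfold fe
  calc v₂ * (cond a f₀ 1 * cond b f₁ 1 * cond c f₂ 1 * cond d f₃ 1)
      = (v₂ * cond a f₀ 1) * cond b f₁ 1 * cond c f₂ 1 * cond d f₃ 1 := by group
    _ = cond a f₂ 1 * (v₂ * cond b f₁ 1) * cond c f₂ 1 * cond d f₃ 1 := by
        rw [hc _ _ R.v2f0]; group
    _ = cond a f₂ 1 * cond b f₃ 1 * (v₂ * cond c f₂ 1) * cond d f₃ 1 := by
        rw [hc _ _ R.v2f1]; group
    _ = cond a f₂ 1 * cond b f₃ 1 * cond c f₀ 1 * (v₂ * cond d f₃ 1) := by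
        rw [hc _ _ h2]; group
    _ = (cond a f₂ 1 * cond b f₃ 1) * (cond c f₀ 1 * cond d f₁ 1) * v₂ := by
        rw [hc _ _ h3]; group
    _ = (cond c f₀ 1 * cond d f₁ 1) * (cond a f₂ 1 * cond b f₃ 1) * v₂ := by
        have hx : (cond a f₂ 1 * cond b f₃ 1) * (cond c f₀ 1 * cond d f₁ 1) =
            (cond c f₀ 1 * cond d f₁ 1) * (cond a f₂ 1 * cond b f₃ 1) := by
          calc (cond a f₂ 1 * cond b f₃ 1) * (cond c f₀ 1 * cond d f₁ 1)
              = cond a f₂ 1 * (cond b f₃ 1 * cond c f₀ 1) * cond d f₁ 1 := by group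
            _ = (cond a f₂ 1 * cond c f₀ 1) * (cond b f₃ 1 * cond d f₁ 1) := by
                rw [cond_comm R.c03.symm]; group
            _ = cond c f₀ 1 * (cond a f₂ 1 * cond d f₁ 1) * cond b f₃ 1 := by
                rw [cond_comm R.c02.symm, cond_comm R.c13.symm]; group
            _ = _ := by rw [cond_comm R.c12.symm]; group
        rw [hx]
    _ = _ := by group

theorem α_fe (R : Rel f₀ f₁ f₂ f₃ v₁ v₂ α) (a b c d : Bool) :
    α * fe f₀ f₁ f₂ f₃ a b c d = fe f₀ f₁ f₂ f₃ c a b d * α := by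
  have hc : ∀ x y : H, α * x = y * α → ∀ a : Bool, α * cond a x 1 = cond a y 1 * α := by
    intro x y h a
    cases a
    · simp
    · exact h
  unfold fe
  calc α * (cond a f₀ 1 * cond b f₁ 1 * cond c f₂ 1 * cond d f₃ 1)
      = (α * cond a f₀ 1) * cond b f₁ 1 * cond c f₂ 1 * cond d f₃ 1 := by group
    _ = cond a f₁ 1 * (α * cond b f₁ 1) * cond c f₂ 1 * cond d f₃ 1 := by
        rw [hc _ _ R.αf0]; group
    _ = cond a f₁ 1 * cond b f₂ 1 * (α * cond c f₂ 1) * cond d f₃ 1 := by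
        rw [hc _ _ R.αf1]; group
    _ = cond a f₁ 1 * cond b f₂ 1 * cond c f₀ 1 * (α * cond d f₃ 1) := by
        rw [hc _ _ R.αf2]; group
    _ = cond a f₁ 1 * (cond b f₂ 1 * cond c f₀ 1) * cond d f₃ 1 * α := by
        rw [hc _ _ R.αf3]; group
    _ = (cond a f₁ 1 * cond c f₀ 1) * cond b f₂ 1 * cond d f₃ 1 * α := by
        rw [cond_comm R.c02.symm]; group
    _ = _ := by rw [cond_comm R.c01.symm]

theorem α_ve (R : Rel f₀ f₁ f₂ f₃ v₁ v₂ α) (e g : Bool) :
    α * ve v₁ v₂ e g = ve v₁ v₂ (xor e g) e * α := by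
  unfold ve
  cases e <;> cases g
  · simp
  · simp [R.αv2]
  · simp [R.αv1]
  · simp only [cond_true, Bool.xor_self, cond_false, one_mul]
    rw [← mul_assoc, R.αv1, mul_assoc, R.αv2, ← mul_assoc, R.w12, mul_assoc v₂, R.w1, mul_one]

/-- the elements -/
def el (f₀ f₁ f₂ f₃ v₁ v₂ : H) : W → H
  | (a, b, c, d, e, g) => fe f₀ f₁ f₂ f₃ a b c d * ve v₁ v₂ e g

theorem el_mul (R : Rel f₀ f₁ f₂ f₃ v₁ v₂ α) (x y : W) :
    el f₀ f₁ f₂ f₃ v₁ v₂ x * el f₀ f₁ f₂ f₃ v₁ v₂ y = el f₀ f₁ f₂ f₃ v₁ v₂ (mulW x y) := by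
  obtain ⟨a, b, c, d, e, g⟩ := x
  obtain ⟨a', b', c', d', e', g'⟩ := y
  unfold el mulW
  have h : ve v₁ v₂ e g * fe f₀ f₁ f₂ f₃ a' b' c' d' =
      fe f₀ f₁ f₂ f₃ (cond e (cond g d' b') (cond g c' a')) (cond e (cond g c' a') (cond g d' b'))
        (cond e (cond g b' d') (cond g a' c')) (cond e (cond g a' c') (cond g b' d')) * ve v₁ v₂ e g := by
    unfold ve
    cases e <;> cases g
    · simp
    · simp only [cond_false, cond_true, one_mul]
      exact v2_fe R _ _ _ _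
    · simp only [cond_false, cond_true, mul_one]
      exact v1_fe R _ _ _ _
    · simp only [cond_true]
      rw [mul_assoc, v2_fe R, ← mul_assoc, v1_fe R, mul_assoc]
  rw [mul_assoc, ← mul_assoc (ve v₁ v₂ e g), h, mul_assoc, ve_mul R, ← mul_assoc, fe_mul R]

theorem α_el (R : Rel f₀ f₁ f₂ f₃ v₁ v₂ α) (x : W) :
    α * el f₀ f₁ f₂ f₃ v₁ v₂ x = el f₀ f₁ f₂ f₃ v₁ v₂ (aW x) * α := by
  obtain ⟨a, b, c, d, e, g⟩ := x
  unfold el aW
  rw [← mul_assoc, α_fe R, mul_assoc, α_ve R, mul_assoc]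

theorem el_one : el f₀ f₁ f₂ f₃ v₁ v₂ oneW = 1 := by
  simp [el, oneW, fe, ve]

theorem el_z : el f₀ f₁ f₂ f₃ v₁ v₂ zW = f₀ * f₁ * f₂ * f₃ := by
  simp [el, zW, fe, ve]

end elements

/-! ### Kernel computations in `W` -/

set_option synthInstance.maxHeartbeats 400000
set_option synthInstance.maxSize 20000

/-- commutator -/
def cmW (x y : W) : W := mulW (mulW (mulW x y) (invW x)) (invW y)

/-- `f₀`, `f₀f₁`, `f₀f₂`, `f₁f₂`, `v₁`, `v₂` -/
def w0 : W := (true, false, false, false, false, false)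
def q1 : W := (true, true, false, false, false, false)
def q2 : W := (true, false, true, false, false, false)
def q3 : W := (false, true, true, false, false, false)
def wv1 : W := (false, false, false, false, true, false)
def wv2 : W := (false, false, false, false, false, true)

theorem comm_z : ∀ x : W, mulW x zW = mulW zW x := by decide +kernel
theorem aW_z : aW zW = zW := by decide +kernel
theorem pow4 : ∀ x : W, mulW (mulW x x) (mulW x x) = oneW := by decide +kernel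
theorem eq_of_mul_inv : ∀ x y : W, mulW x (invW y) = oneW → x = y := by decide +kernel
theorem eq_of_inv_mul : ∀ x y : W, mulW (invW x) y = oneW → y = x := by decide +kernel
theorem eq_of_inv_mul_z : ∀ x y : W, mulW (invW x) y = zW → y = mulW x zW := by decide +kernel
theorem mul_z_z : ∀ x : W, mulW (mulW x zW) zW = x := by decide +kernel

theorem exists_comm : ∀ x : W, x ≠ oneW → x = zW ∨ (∃ y, cmW x y = zW) ∨
    (∃ y ∈ [w0, q1, wv1, wv2], ∃ t ∈ [wv1, wv2], cmW (cmW x y) t = zW) := by decide +kernel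

theorem classify : ∀ x : W, (inP x = true ∧ x ≠ oneW ∧ x ≠ zW) ∨ mulW x x ≠ oneW ∨ x = oneW ∨ x = zW ∨
    (∃ y, x = mulW (mulW y w0) (invW y)) ∨ (∃ y, mulW x zW = mulW (mulW y w0) (invW y)) ∨
    (∃ y, x = mulW (mulW y wv1) (invW y)) ∨ (∃ y, x = aW (mulW (mulW y wv1) (invW y))) ∨
    (∃ y, x = aW (aW (mulW (mulW y wv1) (invW y)))) := by decide +kernel

theorem pairs : ∀ x : W, inP x = true → x ≠ oneW → x ≠ zW →
    (∃ y, x = mulW (mulW y q1) (invW y)) ∨ (∃ y, x = aW (mulW (mulW y q1) (invW y))) ∨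
    (∃ y, x = aW (aW (mulW (mulW y q1) (invW y)))) := by decide +kernel

theorem pairs_z : ∀ x : W, inP x = true → x ≠ oneW → x ≠ zW →
    inP (mulW x zW) = true ∧ mulW x zW ≠ oneW ∧ mulW x zW ≠ zW := by decide +kernel

theorem inP_list : ∀ x : W, inP x = true → (x = oneW ∨ x = mulW oneW zW) ∨ (x = q1 ∨ x = mulW q1 zW) ∨
    (x = q2 ∨ x = mulW q2 zW) ∨ (x = mulW q1 q2 ∨ x = mulW (mulW q1 q2) zW) := by decide +kernel

theorem comm_P : ∀ x y : W, inP y = true → (mulW x y = mulW y x ∨ mulW x y = mulW (mulW y x) zW) := by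
  decide +kernel

theorem comm_even : ∀ x y : W, even x = true → even y = true →
    (mulW x y = mulW y x ∨ mulW x y = mulW (mulW y x) zW) := by decide +kernel

theorem sq_even : ∀ x : W, even x = true → (mulW x x = oneW ∨ mulW x x = mulW oneW zW) := by decide +kernel

theorem even_of_comm : ∀ x y : W, even y = true → inP y = false →
    (mulW y x = mulW x y ∨ mulW y x = mulW (mulW x y) zW) → even x = true := by decide +kernel

theorem comm_in_P : ∀ c x : W, even c = true → inP (mulW (mulW (mulW x c) (invW x)) (invW c)) = true := by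
  decide +kernel

theorem even_aW : ∀ x : W, even x = true → even (aW x) = true := by decide +kernel

theorem aW_P : ∀ x : W, inP x = true → (x = aW x ∨ x = mulW (aW x) zW) → x = oneW ∨ x = zW := by
  decide +kernel

theorem aW_even : ∀ x : W, even x = true → inP (mulW (aW x) (invW x)) = true → inP x = true := by
  decide +kernel

theorem even_of_inP : ∀ x : W, inP x = true → even x = true := by decide +kernel
theorem inP_z : ∀ x : W, inP (mulW x zW) = true → inP x = true := by decide +kernel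
theorem even_mul : ∀ x y : W, even x = true → even y = true → even (mulW x y) = true := by decide +kernel
theorem even_inv : ∀ x : W, even x = true → even (invW x) = true := by decide +kernel
theorem inP_mul : ∀ x y : W, inP x = true → inP y = true → inP (mulW x y) = true := by decide +kernel
theorem inP_inv : ∀ x : W, inP x = true → inP (invW x) = true := by decide +kernel
theorem aW_inj : ∀ x y : W, aW x = aW y → x = y := by decide +kernel
theorem aW_mul : ∀ x y : W, aW (mulW x y) = mulW (aW x) (aW y) := by decide +kernel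
theorem aW_surj : ∀ x : W, ∃ y, aW y = x := by decide +kernel

end Cfsg.Agent.HN.FusXW
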