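import Cfsg.Agent.HN.LemmaX
import Cfsg.Agent.HN.FusGen
import Cfsg.Agent.HN.FusXW

set_option autoImplicit false

/-!
Fusion in groups of Harada–Norton type: end of the case `d ∈ K` (steps 6 and 7).
-/

namespace Cfsg.Agent.HN.FusX

open Subgroup Cfsg.Agent.HN.FusGen Cfsg.Agent.HN.LemmaX Cfsg.Agent.HN.FusXW

variable {G H : Type*} [Group G] [Group H] {φ : H →* G} {τ : H}

/-- The situation of steps 6 and 7. -/
structure Hyp (φ : H →* G) (τ f₀ f₁ f₂ f₃ v₁ v₂ α : H) (ρ : G) : Prop where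
  E : Emb φ τ
  R : Rel f₀ f₁ f₂ f₃ v₁ v₂ α
  ρ3 : ρ ^ 3 = 1
  ρ1 : ρ ≠ 1
  ρf0 : ρ * φ f₀ = φ f₀ * ρ
  ρf1 : ρ * φ f₁ = φ f₁ * ρ
  ρf2 : ρ * φ f₂ = φ f₂ * ρ
  ρf3 : ρ * φ f₃ = φ f₃ * ρ
  ρv1 : ρ * φ v₁ = φ v₁ * ρ
  ρv2 : ρ * φ v₂ = φ v₂ * ρ
  ρα : ρ * φ α = φ α * ρ
  n0 : ¬ InK φ τ f₀
  n4 : ¬ InK φ τ (f₀ * f₁ * f₂ * f₃)
  nv : ¬ InK φ τ v₁
  k01 : InK φ τ (f₀ * f₁)
  z1 : f₀ * f₁ * f₂ * f₃ ≠ 1

namespace Hyp

variable {f₀ f₁ f₂ f₃ v₁ v₂ α : H} {ρ : G} (h : Hyp φ τ f₀ f₁ f₂ f₃ v₁ v₂ α ρ)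

local notation "ee" => el f₀ f₁ f₂ f₃ v₁ v₂

include h

theorem el_inv (x : W) : ee (invW x) = (ee x)⁻¹ := by
  rw [eq_inv_iff_mul_eq_one, el_mul h.R, inv_mulW, el_one]

theorem conj_el (x y : W) : ee x * ee y * (ee x)⁻¹ = ee (mulW (mulW x y) (invW x)) := by
  rw [← h.el_inv, el_mul h.R, el_mul h.R]

theorem conj_α (x : W) : α * ee x * α⁻¹ = ee (aW x) := by
  rw [α_el h.R, mul_inv_cancel_right]

theorem inK_conj {x : W} (y : W) (hx : InK φ τ (ee x)) : InK φ τ (ee (mulW (mulW y x) (invW y))) :=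
  hx.conj (isConj_iff.2 ⟨ee y, h.conj_el y x⟩)

theorem inK_α {x : W} (hx : InK φ τ (ee x)) : InK φ τ (ee (aW x)) :=
  hx.conj (isConj_iff.2 ⟨α, h.conj_α x⟩)

theorem of_inK_conj {x : W} (y : W) (hx : InK φ τ (ee (mulW (mulW y x) (invW y)))) : InK φ τ (ee x) :=
  hx.conj (isConj_iff.2 ⟨ee y, h.conj_el y x⟩ : IsConj _ _).symm

theorem of_inK_α {x : W} (hx : InK φ τ (ee (aW x))) : InK φ τ (ee x) :=
  hx.conj (isConj_iff.2 ⟨α, h.conj_α x⟩ : IsConj _ _).symm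

theorem not_inK_w0 : ¬ InK φ τ (ee w0) := by
  have : ee w0 = f₀ := by simp [el, w0, fe, ve]
  rw [this]
  exact h.n0

theorem not_inK_v : ¬ InK φ τ (ee wv1) := by
  have : ee wv1 = v₁ := by simp [el, wv1, fe, ve]
  rw [this]
  exact h.nv

theorem inK_q1 : InK φ τ (ee q1) := by
  have : ee q1 = f₀ * f₁ := by simp [el, q1, fe, ve]
  rw [this]
  exact h.k01

theorem not_inK_z : ¬ InK φ τ (ee zW) := by
  rw [el_z]
  exact h.n4

/-- `el` is injective. -/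
theorem eq_one_of_el {x : W} (hx : ee x = 1) : x = oneW := by
  by_contra hne
  have hcm : ∀ u t : W, ee u = 1 → ee (cmW u t) = 1 := by
    intro u t hu
    have h1 : ee (cmW u t) = ee u * ee t * (ee u)⁻¹ * (ee t)⁻¹ := by
      rw [cmW, ← el_mul h.R, ← el_mul h.R, ← el_mul h.R, h.el_inv, h.el_inv]
    rw [h1, hu]
    group
  have hz : ee zW = 1 := by
    rcases exists_comm x hne with h1 | ⟨y, h1⟩ | ⟨y, -, t, -, h1⟩
    · rw [← h1, hx]
    · rw [← h1]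
      exact hcm _ _ hx
    · rw [← h1]
      exact hcm _ _ (hcm _ _ hx)
  rw [el_z] at hz
  exact h.z1 hz

theorem el_inj {x y : W} (hxy : ee x = ee y) : x = y := by
  apply eq_of_mul_inv
  apply h.eq_one_of_el
  rw [← el_mul h.R, h.el_inv, hxy, mul_inv_cancel]

theorem inP_of_inK {x : W} (h1 : InK φ τ (ee x)) (h2 : InK φ τ (ee (mulW x zW))) :
    inP x = true ∧ x ≠ oneW ∧ x ≠ zW := by
  rcases classify x with hx | hx | hx | hx | ⟨y, hx⟩ | ⟨y, hx⟩ | ⟨y, hx⟩ | ⟨y, hx⟩ | ⟨y, hx⟩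
  · exact hx
  · exfalso
    apply hx
    apply h.eq_one_of_el
    rw [← el_mul h.R]
    exact h.E.sq_of_inK h1
  · exfalso
    rw [hx, el_one] at h1
    exact h.E.ne_one_of_inK h1 rfl
  · exact absurd (hx ▸ h1) h.not_inK_z
  · exact absurd (h.of_inK_conj y (hx ▸ h1)) h.not_inK_w0
  · exact absurd (h.of_inK_conj y (hx ▸ h2)) h.not_inK_w0
  · exact absurd (h.of_inK_conj y (hx ▸ h1)) h.not_inK_v
  · exact absurd (h.of_inK_conj y (h.of_inK_α (hx ▸ h1))) h.not_inK_v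
  · exact absurd (h.of_inK_conj y (h.of_inK_α (h.of_inK_α (hx ▸ h1)))) h.not_inK_v

theorem inK_of_inP {x : W} (h1 : inP x = true) (h2 : x ≠ oneW) (h3 : x ≠ zW) : InK φ τ (ee x) := by
  rcases pairs x h1 h2 h3 with ⟨y, rfl⟩ | ⟨y, rfl⟩ | ⟨y, rfl⟩
  · exact h.inK_conj y h.inK_q1
  · exact h.inK_α (h.inK_conj y h.inK_q1)
  · exact h.inK_α (h.inK_α (h.inK_conj y h.inK_q1))

theorem inK_of_inP_z {x : W} (h1 : inP x = true) (h2 : x ≠ oneW) (h3 : x ≠ zW) :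
    InK φ τ (ee (mulW x zW)) := by
  obtain ⟨h4, h5, h6⟩ := pairs_z x h1 h2 h3
  exact h.inK_of_inP h4 h5 h6

/-! ### the elements in `G` -/

theorem ρ_el (x : W) : ρ * φ (ee x) = φ (ee x) * ρ := by
  obtain ⟨a, b, c, d, e, g⟩ := x
  have hc : ∀ (x : H), ρ * φ x = φ x * ρ → ∀ a : Bool, Commute ρ (φ (cond a x 1)) := by
    intro x hx a
    cases a
    · simp
    · exact hx
  have h1 : Commute ρ (φ (ee (a, b, c, d, e, g))) := by
    simp only [el, fe, ve, map_mul]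
    exact ((((hc _ h.ρf0 a).mul_right (hc _ h.ρf1 b)).mul_right (hc _ h.ρf2 c)).mul_right
      (hc _ h.ρf3 d)).mul_right ((hc _ h.ρv1 e).mul_right (hc _ h.ρv2 g))
  exact h1

theorem z_el (x : W) : φ (ee zW) * φ (ee x) = φ (ee x) * φ (ee zW) := by
  rw [← map_mul, ← map_mul, el_mul h.R, el_mul h.R, comm_z]

theorem z_α : φ (ee zW) * φ α = φ α * φ (ee zW) := by
  rw [← map_mul, ← map_mul, α_el h.R, aW_z]

theorem z_ρ : φ (ee zW) * ρ = ρ * φ (ee zW) := (h.ρ_el zW).symm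

theorem z_sq : φ (ee zW) * φ (ee zW) = 1 := by
  rw [← map_mul, el_mul h.R]
  have : mulW zW zW = oneW := by decide +kernel
  rw [this, el_one, map_one]

theorem z_ne : φ (ee zW) ≠ 1 := by
  intro h1
  rw [el_z] at h1
  exact h.z1 (h.E.inj (h1.trans (map_one φ).symm))

end Hyp

/-- the centraliser of `z₁ = φ f₄` and `ρ` -/
def CC (φ : H →* G) (f₀ f₁ f₂ f₃ : H) (ρ : G) : Subgroup G :=
  centralizer {φ (f₀ * f₁ * f₂ * f₃), ρ}

theorem mem_CC {f₀ f₁ f₂ f₃ : H} {ρ g : G} : g ∈ CC φ f₀ f₁ f₂ f₃ ρ ↔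
    g * φ (f₀ * f₁ * f₂ * f₃) = φ (f₀ * f₁ * f₂ * f₃) * g ∧ g * ρ = ρ * g := by
  rw [CC, mem_centralizer_iff]
  constructor
  · intro h
    exact ⟨(h _ (by simp)).symm, (h _ (by simp)).symm⟩
  · rintro ⟨h1, h2⟩ x hx
    rcases hx with rfl | rfl
    · exact h1.symm
    · exact h2.symm

namespace Hyp

variable {f₀ f₁ f₂ f₃ v₁ v₂ α : H} {ρ : G} (h : Hyp φ τ f₀ f₁ f₂ f₃ v₁ v₂ α ρ)

local notation "ee" => el f₀ f₁ f₂ f₃ v₁ v₂
local notation "zz" => φ (f₀ * f₁ * f₂ * f₃)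

include h

omit h in
theorem zz_eq (_ : Hyp φ τ f₀ f₁ f₂ f₃ v₁ v₂ α ρ) : zz = φ (ee zW) := by rw [el_z]

theorem el_mem (x : W) : φ (ee x) ∈ CC φ f₀ f₁ f₂ f₃ ρ := by
  rw [mem_CC, h.zz_eq]
  exact ⟨(h.z_el x).symm, (h.ρ_el x).symm⟩

theorem α_mem : φ α ∈ CC φ f₀ f₁ f₂ f₃ ρ := by
  rw [mem_CC, h.zz_eq]
  exact ⟨h.z_α.symm, h.ρα.symm⟩

theorem ρ_mem : ρ ∈ CC φ f₀ f₁ f₂ f₃ ρ := by
  rw [mem_CC, h.zz_eq]
  exact ⟨h.z_ρ.symm, rfl⟩

theorem zρ_zpow (i j k l : ℤ) : zz ^ i * ρ ^ j * (zz ^ k * ρ ^ l) = zz ^ (i + k) * ρ ^ (j + l) := by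
  have hc : Commute ρ zz := by
    rw [h.zz_eq]
    exact h.z_ρ.symm
  rw [mul_assoc, ← mul_assoc (ρ ^ j), (hc.zpow_zpow j k).eq, mul_assoc (zz ^ k), ← zpow_add, ← mul_assoc,
    ← zpow_add]

/-- the central subgroup `⟨z₁, ρ⟩` -/
def N : Subgroup (CC φ f₀ f₁ f₂ f₃ ρ) where
  carrier := {c | ∃ i j : ℤ, (c : G) = zz ^ i * ρ ^ j}
  mul_mem' := by
    rintro a b ⟨i, j, ha⟩ ⟨k, l, hb⟩
    exact ⟨i + k, j + l, by rw [coe_mul, ha, hb, h.zρ_zpow]⟩
  one_mem' := ⟨0, 0, by simp⟩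
  inv_mem' := by
    rintro a ⟨i, j, ha⟩
    refine ⟨-i, -j, ?_⟩
    rw [coe_inv, ha, inv_eq_iff_mul_eq_one, h.zρ_zpow, add_neg_cancel, add_neg_cancel, zpow_zero,
      zpow_zero, one_mul]

theorem mem_N {c : CC φ f₀ f₁ f₂ f₃ ρ} : c ∈ h.N ↔ ∃ i j : ℤ, (c : G) = zz ^ i * ρ ^ j := Iff.rfl

theorem N_comm {n : CC φ f₀ f₁ f₂ f₃ ρ} (hn : n ∈ h.N) (c : CC φ f₀ f₁ f₂ f₃ ρ) : c * n = n * c := by
  obtain ⟨i, j, hn⟩ := hn
  apply Subtype.ext
  rw [coe_mul, coe_mul, hn]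
  have hc := mem_CC.1 c.2
  have h1 : Commute (c : G) zz := hc.1
  have h2 : Commute (c : G) ρ := hc.2
  exact ((h1.zpow_right i).mul_right (h2.zpow_right j)).eq

theorem N_normal : h.N.Normal := by
  constructor
  intro n hn g
  rw [h.N_comm hn, mul_inv_cancel_right]
  exact hn

/-- elements of `N` whose fourth power is trivial -/
theorem N_four {n : CC φ f₀ f₁ f₂ f₃ ρ} (hn : n ∈ h.N) (h4 : n ^ 4 = 1) : (n : G) = 1 ∨ (n : G) = zz := by
  obtain ⟨i, j, hn⟩ := hn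
  have hc : Commute zz ρ := by
    rw [h.zz_eq]
    exact h.z_ρ
  have hz2 : zz ^ 2 = 1 := by
    rw [h.zz_eq, pow_two]
    exact h.z_sq
  have h5 : (n : G) ^ 4 = 1 := by
    rw [← coe_pow, h4, coe_one]
  have h6 : (zz ^ i) ^ 4 = 1 := by
    rw [← zpow_natCast, ← zpow_mul, mul_comm, zpow_mul]
    have : zz ^ ((4 : ℕ) : ℤ) = 1 := by
      rw [zpow_natCast, show 4 = 2 * 2 from rfl, pow_mul, hz2, one_pow]
    rw [this, one_zpow]
  rw [hn, (hc.zpow_zpow i j).mul_pow, h6, one_mul] at h5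
  have h7 : (ρ ^ j) ^ 3 = 1 := by
    rw [← zpow_natCast, ← zpow_mul, mul_comm, zpow_mul]
    have : ρ ^ ((3 : ℕ) : ℤ) = 1 := by
      rw [zpow_natCast, h.ρ3]
    rw [this, one_zpow]
  have h8 : ρ ^ j = 1 := by
    have : (ρ ^ j) ^ 4 = (ρ ^ j) ^ 3 * ρ ^ j := pow_succ _ _
    rw [h5, h7, one_mul] at this
    exact this.symm
  rw [h8, mul_one] at hn
  have hz2' : zz ^ (2 : ℤ) = 1 := by
    rw [show (2 : ℤ) = ((2 : ℕ) : ℤ) from rfl, zpow_natCast, hz2]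
  rcases Int.even_or_odd i with ⟨k, hk⟩ | ⟨k, hk⟩
  · left
    rw [hn, hk, ← two_mul, zpow_mul, hz2', one_zpow]
  · right
    rw [hn, hk, zpow_add, zpow_mul, zpow_one, hz2', one_zpow, one_mul]

theorem zz_mem_N : (⟨zz, h.zz_eq ▸ h.el_mem zW⟩ : CC φ f₀ f₁ f₂ f₃ ρ) ∈ h.N :=
  ⟨1, 0, by simp⟩

theorem ρ_mem_N : (⟨ρ, h.ρ_mem⟩ : CC φ f₀ f₁ f₂ f₃ ρ) ∈ h.N :=
  ⟨0, 1, by simp⟩

/-- the elements in the centraliser -/
def uu (x : W) : CC φ f₀ f₁ f₂ f₃ ρ := ⟨φ (ee x), h.el_mem x⟩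

theorem uu_mul (x y : W) : h.uu x * h.uu y = h.uu (mulW x y) := by
  apply Subtype.ext
  change φ (ee x) * φ (ee y) = φ (ee (mulW x y))
  rw [← map_mul, el_mul h.R]

theorem uu_one : h.uu oneW = 1 := by
  apply Subtype.ext
  change φ (ee oneW) = 1
  rw [el_one, map_one]

theorem uu_inv (x : W) : h.uu (invW x) = (h.uu x)⁻¹ := by
  rw [eq_inv_iff_mul_eq_one, h.uu_mul, inv_mulW, h.uu_one]

theorem uu_inj {x y : W} (hxy : h.uu x = h.uu y) : x = y :=
  h.el_inj (h.E.inj (congrArg Subtype.val hxy))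

theorem uu_four (x : W) : h.uu x ^ 4 = 1 := by
  rw [show 4 = 2 + 2 from rfl, pow_add, pow_two, h.uu_mul, h.uu_mul, pow4, h.uu_one]

theorem uu_z : (h.uu zW : G) = zz := h.zz_eq.symm

theorem uu_z_mem : h.uu zW ∈ h.N := ⟨1, 0, by rw [h.uu_z]; simp⟩

/-- a product `u x * n` whose fourth power is trivial -/
theorem uu_of_mul {x : W} {n c : CC φ f₀ f₁ f₂ f₃ ρ} (hn : n ∈ h.N) (hc : c = h.uu x * n) (hc4 : c ^ 4 = 1) :
    c = h.uu x ∨ c = h.uu (mulW x zW) := by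
  have h1 : n ^ 4 = 1 := by
    have h2 : Commute (h.uu x) n := h.N_comm hn (h.uu x)
    have h3 := h2.mul_pow 4
    rw [← hc, hc4, h.uu_four, one_mul] at h3
    exact h3.symm
  rcases h.N_four hn h1 with h2 | h2
  · left
    have h3 : n = 1 := Subtype.ext h2
    rw [hc, h3, mul_one]
  · right
    have h3 : n = h.uu zW := Subtype.ext (h2.trans h.uu_z.symm)
    rw [hc, h3, h.uu_mul]

/-- the bound for the centraliser of `f₀f₁`, `f₄` and `ρ` -/
theorem cent_q1 [Finite G] (hcard : Nat.card (centralizer {φ (f₀ * f₁), zz, ρ} : Subgroup G) ≤ 96)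
    (c : CC φ f₀ f₁ f₂ f₃ ρ) (hc : c * h.uu q1 = h.uu q1 * c) : ∃ x : W, ∃ n ∈ h.N, c = h.uu x * n := by
  -- the 96 elements
  let Z : Subgroup G := centralizer {φ (f₀ * f₁), zz, ρ}
  have hq1 : (h.uu q1 : G) = φ (f₀ * f₁) := by
    change φ (ee q1) = _
    congr 1
    simp [el, q1, fe, ve]
  have memZ : ∀ g : G, g ∈ Z ↔ g * φ (f₀ * f₁) = φ (f₀ * f₁) * g ∧ g * zz = zz * g ∧ g * ρ = ρ * g := by
    intro g
    change g ∈ centralizer _ ↔ _
    rw [mem_centralizer_iff]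
    constructor
    · intro h
      exact ⟨(h _ (by simp)).symm, (h _ (by simp)).symm, (h _ (by simp)).symm⟩
    · rintro ⟨h1, h2, h3⟩ x hx
      rcases hx with rfl | rfl | rfl
      · exact h1.symm
      · exact h2.symm
      · exact h3.symm
  have hcq : ∀ x : Bool × Bool × Bool × Bool × Bool, mulW (x.1, x.2.1, x.2.2.1, x.2.2.2.1, x.2.2.2.2, false) q1 =
      mulW q1 (x.1, x.2.1, x.2.2.1, x.2.2.2.1, x.2.2.2.2, false) := by decide +kernel
  let f : (Bool × Bool × Bool × Bool × Bool) × Fin 3 → Z := fun p =>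
    ⟨φ (ee (p.1.1, p.1.2.1, p.1.2.2.1, p.1.2.2.2.1, p.1.2.2.2.2, false)) * ρ ^ (p.2 : ℕ), by
      refine Z.mul_mem ?_ (Z.pow_mem ?_ _)
      · rw [memZ]
        refine ⟨?_, (mem_CC.1 (h.el_mem _)).1, (mem_CC.1 (h.el_mem _)).2⟩
        rw [← hq1]
        change φ (ee _) * φ (ee q1) = φ (ee q1) * φ (ee _)
        rw [← map_mul, ← map_mul, el_mul h.R, el_mul h.R, hcq]
      · rw [memZ]
        refine ⟨?_, (mem_CC.1 h.ρ_mem).1, rfl⟩
        rw [← hq1]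
        exact h.ρ_el q1⟩
  have hinj : Function.Injective f := by
    rintro ⟨x, i⟩ ⟨y, j⟩ hxy
    have h1 : φ (ee (x.1, x.2.1, x.2.2.1, x.2.2.2.1, x.2.2.2.2, false)) * ρ ^ (i : ℕ) =
        φ (ee (y.1, y.2.1, y.2.2.1, y.2.2.2.1, y.2.2.2.2, false)) * ρ ^ (j : ℕ) := congrArg Subtype.val hxy
    set wx : W := (x.1, x.2.1, x.2.2.1, x.2.2.2.1, x.2.2.2.2, false) with hwx
    set wy : W := (y.1, y.2.1, y.2.2.1, y.2.2.2.1, y.2.2.2.2, false) with hwy
    -- fourth powers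
    have h4 : ∀ (w : W) (k : ℕ), (φ (ee w) * ρ ^ k) ^ 4 = ρ ^ k := by
      intro w k
      have hcm : Commute (φ (ee w)) (ρ ^ k) := Commute.pow_right (h.ρ_el w).symm k
      have h5 : φ (ee w) ^ 4 = 1 := by
        have := congrArg (Subtype.val) (h.uu_four w)
        exact this
      rw [hcm.mul_pow, h5, one_mul, ← pow_mul, mul_comm, pow_mul]
      have : ρ ^ 4 = ρ := by rw [pow_succ, h.ρ3, one_mul]
      rw [this]
    have h2 : ρ ^ (i : ℕ) = ρ ^ (j : ℕ) := by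
      rw [← h4 wx i, ← h4 wy j, h1]
    have h3 : wx = wy := by
      rw [h2] at h1
      exact h.el_inj (h.E.inj (mul_right_cancel h1))
    have hρ : orderOf ρ = 3 := orderOf_eq_prime h.ρ3 h.ρ1
    have h6 : i = j := by
      apply Fin.ext
      exact pow_injOn_Iio_orderOf (by rw [hρ]; exact i.2) (by rw [hρ]; exact j.2) h2
    rw [hwx, hwy] at h3
    have h7 : x = y := by
      obtain ⟨a, b, c, d, e⟩ := x
      obtain ⟨a', b', c', d', e'⟩ := y
      simp only [Prod.mk.injEq] at h3 ⊢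
      exact ⟨h3.1, h3.2.1, h3.2.2.1, h3.2.2.2.1, h3.2.2.2.2.1⟩
    rw [h6, h7]
  have hbij : Function.Bijective f := by
    apply hinj.bijective_of_nat_card_le
    refine hcard.trans (le_of_eq ?_)
    rw [Nat.card_eq_fintype_card]
    rfl
  have hcZ : (c : G) ∈ Z := by
    rw [memZ]
    refine ⟨?_, (mem_CC.1 c.2).1, (mem_CC.1 c.2).2⟩
    rw [← hq1]
    exact congrArg Subtype.val hc
  obtain ⟨⟨x, i⟩, hx⟩ := hbij.2 ⟨c, hcZ⟩
  refine ⟨(x.1, x.2.1, x.2.2.1, x.2.2.2.1, x.2.2.2.2, false), ⟨ρ ^ (i : ℕ), pow_mem h.ρ_mem _⟩, ?_, ?_⟩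
  · exact h.N.pow_mem h.ρ_mem_N _
  · apply Subtype.ext
    exact (congrArg Subtype.val hx).symm

end Hyp

section quotient

variable {f₀ f₁ f₂ f₃ v₁ v₂ α : H} {ρ : G}

local notation "ee" => el f₀ f₁ f₂ f₃ v₁ v₂
local notation "zz" => φ (f₀ * f₁ * f₂ * f₃)

/-- **Steps 6 and 7: the case `d ∈ K` is impossible.** -/
theorem Hyp.false_of [Finite G] (h : Hyp φ τ f₀ f₁ f₂ f₃ v₁ v₂ α ρ)
    (hcard : Nat.card (centralizer {φ (f₀ * f₁), zz, ρ} : Subgroup G) ≤ 96)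
    {q : G} (hqρ : q * ρ = ρ * q) (hqz : q * zz = zz * q) (hq : IsConj (φ τ) q) (hq' : IsConj (φ τ) (q * zz))
    (hne : ∀ x : W, inP x = true → q ≠ φ (ee x)) : False := by
  classical
  have hNn : h.N.Normal := h.N_normal
  let X := CC φ f₀ f₁ f₂ f₃ ρ ⧸ h.N
  let mk : CC φ f₀ f₁ f₂ f₃ ρ →* X := QuotientGroup.mk' h.N
  have mk_surj : Function.Surjective mk := QuotientGroup.mk'_surjective _
  have mk_eq : ∀ a b, mk a = mk b → ∃ n ∈ h.N, b = a * n := by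
    intro a b hab
    refine ⟨a⁻¹ * b, QuotientGroup.eq.1 hab, by group⟩
  have mk_mul_N : ∀ a, ∀ n ∈ h.N, mk (a * n) = mk a := by
    intro a n hn
    rw [map_mul]
    have : mk n = 1 := (QuotientGroup.eq_one_iff n).2 hn
    rw [this, mul_one]
  let m : W → X := fun x => mk (h.uu x)
  have m_mul : ∀ x y, m x * m y = m (mulW x y) := by
    intro x y
    change mk (h.uu x) * mk (h.uu y) = mk (h.uu (mulW x y))
    rw [← map_mul, h.uu_mul]
  have m_one : m oneW = 1 := by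
    change mk (h.uu oneW) = 1
    rw [h.uu_one, map_one]
  have m_inv : ∀ x, m (invW x) = (m x)⁻¹ := by
    intro x
    rw [eq_inv_iff_mul_eq_one, m_mul, inv_mulW, m_one]
  have m_z : ∀ x, m (mulW x zW) = m x := by
    intro x
    change mk (h.uu (mulW x zW)) = mk (h.uu x)
    rw [← h.uu_mul]
    exact mk_mul_N _ _ h.uu_z_mem
  have m_of : ∀ x y, (x = y ∨ x = mulW y zW) → m x = m y := by
    rintro x y (rfl | rfl)
    · rfl
    · exact m_z y
  have m_eq : ∀ x y, m x = m y → (x = y ∨ x = mulW y zW) := by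
    intro x y hxy
    obtain ⟨n, hn, hn2⟩ := mk_eq _ _ hxy.symm
    rcases h.uu_of_mul hn hn2 (h.uu_four x) with h1 | h1
    · exact Or.inl (h.uu_inj h1)
    · exact Or.inr (h.uu_inj h1)
  -- subgroups of `X`
  let sub : (p : W → Bool) → p oneW = true → (∀ x y, p x = true → p y = true → p (mulW x y) = true) →
      (∀ x, p x = true → p (invW x) = true) → Subgroup X := fun p h1 h2 h3 =>
    { carrier := {y | ∃ x, p x = true ∧ m x = y}
      mul_mem' := by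
        rintro _ _ ⟨x, hx, rfl⟩ ⟨y, hy, rfl⟩
        exact ⟨_, h2 x y hx hy, (m_mul x y).symm⟩
      one_mem' := ⟨oneW, h1, m_one⟩
      inv_mem' := by
        rintro _ ⟨x, hx, rfl⟩
        exact ⟨_, h3 x hx, m_inv x⟩ }
  let P : Subgroup X := sub inP (by decide +kernel) inP_mul inP_inv
  let R₀ : Subgroup X := sub even (by decide +kernel) even_mul even_inv
  let R : Subgroup X := sub (fun _ => true) rfl (fun _ _ _ _ => rfl) (fun _ _ => rfl)
  have memP : ∀ x, m x ∈ P ↔ inP x = true := by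
    intro x
    constructor
    · rintro ⟨y, hy, hyx⟩
      rcases m_eq _ _ hyx with h1 | h1
      · rw [← h1]; exact hy
      · apply inP_z
        rw [← h1]
        exact hy
    · intro hx
      exact ⟨x, hx, rfl⟩
  -- the class `Q`
  let Q : Set X := {y | ∃ c : CC φ f₀ f₁ f₂ f₃ ρ, mk c = y ∧ IsConj (φ τ) (c : G) ∧ IsConj (φ τ) ((c : G) * zz)}
  have conj_sq : ∀ g : G, IsConj (φ τ) g → g * g = 1 := by
    intro g hg
    obtain ⟨c, rfl⟩ := isConj_iff.1 hg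
    calc c * φ τ * c⁻¹ * (c * φ τ * c⁻¹) = c * (φ τ * φ τ) * c⁻¹ := by group
      _ = 1 := by rw [h.E.t_sq]; group
  have conj_ne : ∀ g : G, IsConj (φ τ) g → g ≠ 1 := by
    intro g hg h1
    obtain ⟨c, hc⟩ := isConj_iff.1 hg
    rw [h1, mul_inv_eq_one, mul_eq_left] at hc
    exact h.E.t_ne hc
  have zz_sq : zz * zz = 1 := by
    rw [h.zz_eq]
    exact h.z_sq
  have sq4 : ∀ c : CC φ f₀ f₁ f₂ f₃ ρ, IsConj (φ τ) (c : G) → c ^ 4 = 1 := by
    intro c hc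
    have h1 : c * c = 1 := Subtype.ext (conj_sq _ hc)
    rw [show 4 = 2 + 2 from rfl, pow_add, pow_two, h1, one_mul]
  have hRQ : ∀ y ∈ Q, y ∈ R → ∃ x, (inP x = true ∧ x ≠ oneW ∧ x ≠ zW) ∧ m x = y := by
    rintro y ⟨c, hc, hc1, hc2⟩ ⟨x, -, hx⟩
    obtain ⟨n, hn, hn2⟩ := mk_eq _ _ (hx.trans hc.symm)
    rcases h.uu_of_mul hn hn2 (sq4 c hc1) with h1 | h1
    · refine ⟨x, h.inP_of_inK ?_ ?_, hx⟩
      · rw [h1] at hc1
        exact hc1
      · rw [h1, ← h.uu_z] at hc2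
        have h2 : (h.uu x : G) * h.uu zW = φ (ee (mulW x zW)) := by
          rw [← coe_mul, h.uu_mul]
          rfl
        rw [h2] at hc2
        exact hc2
    · refine ⟨mulW x zW, h.inP_of_inK ?_ ?_, (m_z x).trans hx⟩
      · rw [h1] at hc1
        exact hc1
      · rw [h1, ← h.uu_z] at hc2
        have h2 : (h.uu (mulW x zW) : G) * h.uu zW = φ (ee (mulW (mulW x zW) zW)) := by
          rw [← coe_mul, h.uu_mul]
          rfl
        rw [h2] at hc2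
        exact hc2
  -- the bound
  have hα : ∀ x, mk ⟨φ α, h.α_mem⟩ * m x * (mk ⟨φ α, h.α_mem⟩)⁻¹ = m (aW x) := by
    intro x
    change mk _ * mk (h.uu x) * (mk _)⁻¹ = mk (h.uu (aW x))
    rw [← map_inv, ← map_mul, ← map_mul]
    congr 1
    apply Subtype.ext
    change φ α * φ (ee x) * (φ α)⁻¹ = φ (ee (aW x))
    rw [← map_inv, ← map_mul, ← map_mul, h.conj_α]
  set A : X := mk ⟨φ α, h.α_mem⟩ with hA
  have hAR : ∀ y, A * y * A⁻¹ ∈ R → y ∈ R := by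
    rintro y ⟨x, -, hx⟩
    obtain ⟨x', rfl⟩ := aW_surj x
    refine ⟨x', rfl, ?_⟩
    rw [← hα] at hx
    exact mul_left_cancel (mul_right_cancel hx)
  have hcent1 : ∀ y : X, y * m q1 = m q1 * y → y ∈ R := by
    intro y hy
    obtain ⟨c, rfl⟩ := mk_surj y
    have h1 : mk (c * h.uu q1 * c⁻¹) = mk (h.uu q1) := by
      rw [map_mul, map_mul, map_inv]
      exact mul_inv_eq_iff_eq_mul.2 hy
    obtain ⟨n, hn, hn2⟩ := mk_eq _ _ h1.symm
    have h4 : (c * h.uu q1 * c⁻¹) ^ 4 = 1 := by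
      rw [conj_pow, h.uu_four, mul_one, mul_inv_cancel]
    rcases h.uu_of_mul hn hn2 h4 with h2 | h2
    · obtain ⟨x, n', hn', hx⟩ := h.cent_q1 hcard c (mul_inv_eq_iff_eq_mul.1 h2)
      exact ⟨x, rfl, by rw [hx]; exact (mk_mul_N _ _ hn').symm⟩
    · have h3 : (h.uu wv2 * c) * h.uu q1 = h.uu q1 * (h.uu wv2 * c) := by
        have h5 := mul_inv_eq_iff_eq_mul.1 h2
        rw [mul_assoc, h5, ← mul_assoc, ← mul_assoc, h.uu_mul, h.uu_mul]
        have h6 : mulW wv2 (mulW q1 zW) = mulW q1 wv2 := by decide +kernel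
        rw [h6]
      obtain ⟨x, n', hn', hx⟩ := h.cent_q1 hcard _ h3
      refine ⟨mulW wv2 x, rfl, ?_⟩
      rw [← m_mul]
      have h7 : c = h.uu wv2 * (h.uu x * n') := by
        rw [← hx, ← mul_assoc, h.uu_mul]
        have : mulW wv2 wv2 = oneW := by decide +kernel
        rw [this, h.uu_one, one_mul]
      have h8 : mk c = mk (h.uu wv2) * mk (h.uu x) := by
        rw [h7, ← mul_assoc, mk_mul_N _ _ hn', map_mul]
      exact h8.symm
  have hcent : ∀ p ∈ P, p ≠ 1 → ∀ y : X, y * p = p * y → y ∈ R := by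
    have hback : ∀ x, (∀ y : X, y * m x = m x * y → y ∈ R) → ∀ x', aW x' = x →
        ∀ y : X, y * m x' = m x' * y → y ∈ R := by
      intro x hx x' hx' y hy
      apply hAR
      apply hx
      rw [← hx', ← hα]
      calc A * y * A⁻¹ * (A * m x' * A⁻¹) = A * (y * m x') * A⁻¹ := by group
        _ = A * (m x' * y) * A⁻¹ := by rw [hy]
        _ = A * m x' * A⁻¹ * (A * y * A⁻¹) := by group
    have h2 : ∀ y : X, y * m q2 = m q2 * y → y ∈ R := hback q1 hcent1 q2 (by decide +kernel)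
    have h3 : ∀ y : X, y * m q3 = m q3 * y → y ∈ R := hback q2 h2 q3 (by decide +kernel)
    rintro p ⟨x, hx, rfl⟩ hp1 y hy
    rcases inP_list x hx with h1 | h1 | h1 | h1
    · exact absurd ((m_of _ _ h1).trans m_one) hp1
    · rw [m_of _ _ h1] at hy
      exact hcent1 y hy
    · rw [m_of _ _ h1] at hy
      exact h2 y hy
    · rw [m_of _ _ h1] at hy
      have h4 : mulW q1 q2 = q3 := by decide +kernel
      rw [h4] at hy
      exact h3 y hy
  have key := lemmaX Q (by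
      -- elements of `Q` are involutions
      rintro y ⟨c, rfl, hc1, hc2⟩
      refine orderOf_eq_prime ?_ ?_
      · rw [← map_pow, pow_two]
        have h1 : c * c = 1 := Subtype.ext (conj_sq _ hc1)
        rw [h1, map_one]
      · intro h1
        have h2 : c ∈ h.N := (QuotientGroup.eq_one_iff c).1 h1
        rcases h.N_four h2 (sq4 c hc1) with h3 | h3
        · exact conj_ne _ hc1 h3
        · apply conj_ne _ hc2
          rw [h3, zz_sq])
    (by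
      rintro y ⟨c, rfl, hc1, hc2⟩ x
      obtain ⟨c', rfl⟩ := mk_surj x
      refine ⟨c' * c * c'⁻¹, by rw [map_mul, map_mul, map_inv], ?_, ?_⟩
      · exact hc1.trans (isConj_iff.2 ⟨c', rfl⟩)
      · refine hc2.trans (isConj_iff.2 ⟨c', ?_⟩)
        have h1 := (mem_CC.1 (inv_mem c'.2)).1
        push_cast
        calc (c' : G) * (c * zz) * (c' : G)⁻¹ = c' * c * (zz * (c' : G)⁻¹) := by group
          _ = c' * c * ((c' : G)⁻¹ * zz) := by rw [h1]
          _ = c' * c * (c' : G)⁻¹ * zz := by group)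
    P R₀ R (m q1) (m q2) ⟨q1, by decide +kernel, rfl⟩ ⟨q2, by decide +kernel, rfl⟩
    (fun h1 => by
      have h2 := m_eq q1 oneW (h1.trans m_one.symm)
      revert h2
      decide +kernel)
    (fun h1 => by
      have h2 := m_eq q2 oneW (h1.trans m_one.symm)
      revert h2
      decide +kernel)
    (fun h1 => by
      have h2 := m_eq q1 q2 h1
      revert h2
      decide +kernel)
    (by
      rintro p ⟨x, hx, rfl⟩
      rcases inP_list x hx with h1 | h1 | h1 | h1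
      · exact Or.inl ((m_of _ _ h1).trans m_one)
      · exact Or.inr (Or.inl (m_of _ _ h1))
      · exact Or.inr (Or.inr (Or.inl (m_of _ _ h1)))
      · exact Or.inr (Or.inr (Or.inr ((m_of _ _ h1).trans (m_mul q1 q2).symm))))
    (by
      rintro p ⟨x, hx, rfl⟩ hp1
      have h1 : x ≠ oneW := by
        rintro rfl
        exact hp1 m_one
      have h2 : x ≠ zW := by
        rintro rfl
        exact hp1 ((m_of zW oneW (by decide +kernel)).trans m_one)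
      refine ⟨h.uu x, rfl, h.inK_of_inP hx h1 h2, ?_⟩
      have h3 : (h.uu x : G) * zz = φ (ee (mulW x zW)) := by
        rw [← h.uu_z, ← coe_mul, h.uu_mul]
        rfl
      rw [h3]
      exact h.inK_of_inP_z hx h1 h2)
    (by
      rintro p hp hp1 y
      constructor
      · rintro ⟨x, -, rfl⟩
        obtain ⟨x', hx', rfl⟩ := hp
        rw [m_mul, m_mul]
        exact m_of _ _ (comm_P x x' hx')
      · exact hcent p hp hp1 y)
    (by
      intro y hy hyR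
      obtain ⟨x, hx, rfl⟩ := hRQ y hy hyR
      exact (memP x).2 hx.1)
    (by
      rintro _ ⟨x, -, rfl⟩
      refine ⟨2, ?_⟩
      change mk (h.uu x) ^ 4 = 1
      rw [← map_pow, h.uu_four, map_one])
    (by
      rintro _ ⟨x, hx, rfl⟩
      exact ⟨x, even_of_inP x hx, rfl⟩)
    (by
      rintro _ ⟨x, -, rfl⟩
      exact ⟨x, rfl, rfl⟩)
    (by
      rintro _ ⟨x, hx, rfl⟩ _ ⟨y, hy, rfl⟩
      rw [m_mul, m_mul]
      exact m_of _ _ (comm_even x y hx hy))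
    (by
      rintro _ ⟨x, hx, rfl⟩
      rw [m_mul]
      exact (m_of _ _ (sq_even x hx)).trans m_one)
    (by
      rintro _ ⟨y, hy, rfl⟩ hyP _ ⟨x, -, rfl⟩ hxy
      rw [m_mul, m_mul] at hxy
      refine ⟨x, even_of_comm x y hy ?_ (m_eq _ _ hxy.symm), rfl⟩
      rw [memP] at hyP
      exact Bool.eq_false_iff.2 hyP)
    (by
      rintro _ ⟨c, hc, rfl⟩ _ ⟨x, -, rfl⟩
      rw [← m_inv, ← m_inv, m_mul, m_mul, m_mul, memP]
      exact comm_in_P c x hc)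
    A
    (by
      rintro _ ⟨x, hx, rfl⟩
      rw [hα]
      exact ⟨_, even_aW x hx, rfl⟩)
    (by
      rintro _ ⟨x, hx, rfl⟩ h1
      rw [hα] at h1
      rcases aW_P x hx (m_eq _ _ h1.symm) with rfl | rfl
      · exact m_one
      · exact (m_of zW oneW (by decide +kernel)).trans m_one)
    (by
      rintro _ ⟨x, hx, rfl⟩ h1
      rw [hα, ← m_inv, m_mul, memP] at h1
      rw [memP]
      exact aW_even x hx h1)
    (m wv1) ⟨wv1, by decide +kernel, rfl⟩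
    (fun h1 => by
      rw [memP] at h1
      revert h1
      decide +kernel)
  -- the element `q`
  have hqC : q ∈ CC φ f₀ f₁ f₂ f₃ ρ := mem_CC.2 ⟨hqz, hqρ⟩
  obtain ⟨x, hx, hx2⟩ := key (mk ⟨q, hqC⟩) ⟨⟨q, hqC⟩, rfl, hq, hq'⟩
  obtain ⟨n, hn, hn2⟩ := mk_eq _ _ hx2
  rcases h.uu_of_mul hn hn2 (sq4 ⟨q, hqC⟩ hq) with h1 | h1
  · exact hne x hx (congrArg Subtype.val h1)
  · exact hne _ (inP_mul x zW hx (by decide +kernel)) (congrArg Subtype.val h1)

set_option synthInstance.maxHeartbeats 400000 in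
set_option synthInstance.maxSize 20000 in
theorem inP_eight : ∀ x : W, inP x = true → x = oneW ∨ x = zW ∨
    x = (true, true, false, false, false, false) ∨ x = (true, false, true, false, false, false) ∨
    x = (true, false, false, true, false, false) ∨ x = (false, true, true, false, false, false) ∨
    x = (false, true, false, true, false, false) ∨ x = (false, false, true, true, false, false) := by
  decide +kernel

/-- the same with the pairs written out. -/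
theorem Hyp.false_of' [Finite G] (h : Hyp φ τ f₀ f₁ f₂ f₃ v₁ v₂ α ρ)
    (hcard : Nat.card (centralizer {φ (f₀ * f₁), zz, ρ} : Subgroup G) ≤ 96)
    {q : G} (hqρ : q * ρ = ρ * q) (hqz : q * zz = zz * q) (hq : IsConj (φ τ) q) (hq' : IsConj (φ τ) (q * zz))
    (h01 : q ≠ φ (f₀ * f₁)) (h02 : q ≠ φ (f₀ * f₂)) (h03 : q ≠ φ (f₀ * f₃)) (h12 : q ≠ φ (f₁ * f₂))
    (h13 : q ≠ φ (f₁ * f₃)) (h23 : q ≠ φ (f₂ * f₃)) : False := by
  have conj_ne : ∀ g : G, IsConj (φ τ) g → g ≠ 1 := by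
    intro g hg h1
    obtain ⟨c, hc⟩ := isConj_iff.1 hg
    rw [h1, mul_inv_eq_one, mul_eq_left] at hc
    exact h.E.t_ne hc
  refine h.false_of hcard hqρ hqz hq hq' fun x hx hqx => ?_
  rcases inP_eight x hx with rfl | rfl | rfl | rfl | rfl | rfl | rfl | rfl
  · rw [el_one, map_one] at hqx
    exact conj_ne _ hq hqx
  · rw [← h.zz_eq] at hqx
    apply conj_ne _ hq'
    rw [hqx, h.zz_eq]
    exact h.z_sq
  · exact h01 (by simpa [el, fe, ve] using hqx)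
  · exact h02 (by simpa [el, fe, ve] using hqx)
  · exact h03 (by simpa [el, fe, ve] using hqx)
  · exact h12 (by simpa [el, fe, ve] using hqx)
  · exact h13 (by simpa [el, fe, ve] using hqx)
  · exact h23 (by simpa [el, fe, ve] using hqx)

end quotient

end Cfsg.Agent.HN.FusX
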