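import Cfsg.Agent.HN.Iota
import Cfsg.Agent.HN.CentCards

/-!
# The centraliser of `gz` in `H0` is `{1, τ, gz, τ gz} × iota(A₈)`
-/

set_option autoImplicit false

namespace Cfsg.Agent.HN.IotaCent

open Cfsg.Agent.HN.Pres Cfsg.Agent.HN.H0Basic Cfsg.Agent.HN.Local Cfsg.Agent.HN.Iota

/-- The centraliser of `gz` in `H0`. -/
theorem cent : Cent τ gz iota := Iota.cent CentCards.card_centralizer_z

end Cfsg.Agent.HN.IotaCent
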