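import Cfsg.Agent.HN.Local
import Cfsg.Agent.HN.H0Basic

/-!
# The local hypotheses `Local.Loc` from the fusion of involutions

`φ : H0 →* G` is an embedding onto the centraliser of `t = φ τ`.  From the description of the conjugates of `t` in
`H0` we obtain the structure `Local.Loc (φ τ) (φ gz) (φ ∘ ι)`.
-/

set_option autoImplicit false

namespace Cfsg.Agent.HN.LocFromFusion

open Cfsg.Agent.HN.Pres Cfsg.Agent.HN.H0Basic Cfsg.Agent.HN.Local

theorem gz_sq : gz * gz = 1 := by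
  have := rels_H0.r7
  rwa [pow_two] at this

theorem gz_conj : gx * gz * gx⁻¹ = τ * gz := by
  have h8 : gz * gx * (gz * gx) = 1 := by
    have := rels_H0.r8
    rwa [pow_two] at this
  have h1 : gz⁻¹ = gz := by rw [inv_eq_iff_mul_eq_one, gz_sq]
  have h2 : gx * gz = gz * gx⁻¹ := by
    have : gx * gz = gz⁻¹ * (gz * gx * (gz * gx)) * gx⁻¹ := by group
    rw [this, h8, h1, mul_one]
  have h3 : gx⁻¹ * gx⁻¹ = τ := by
    have : gx⁻¹ * gx⁻¹ = τ⁻¹ := by
      show gx⁻¹ * gx⁻¹ = (gx ^ 2)⁻¹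
      rw [pow_two]; group
    rw [this, τ_inv]
  rw [h2, mul_assoc, h3, τ_comm]

theorem isConj_τ_gz : IsConj (τ * gz) gz := by
  rw [← gz_conj]
  exact (isConj_iff.mpr ⟨gx, rfl⟩ : IsConj gz (gx * gz * gx⁻¹)).symm

variable {G : Type*} [Group G]

theorem isConj_map {φ : H0 →* G} {a b : H0} (h : IsConj a b) : IsConj (φ a) (φ b) := by
  obtain ⟨c, hc⟩ := isConj_iff.mp h
  exact isConj_iff.mpr ⟨φ c, by rw [← map_inv, ← map_mul, ← map_mul, hc]⟩

/-- The centraliser structure transported to `G`. -/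
theorem cent_of {φ : H0 →* G} (hφ : Function.Injective φ) (hrange : ∀ g : G, Commute g (φ τ) → g ∈ φ.range)
    {ι : A8 →* H0} (C : Cent τ gz ι) : Cent (φ τ) (φ gz) (φ.comp ι) where
  inj := hφ.comp C.inj
  hu := by rw [← map_mul, C.hu, map_one]
  hv := by rw [← map_mul, C.hv, map_one]
  comm := by rw [← map_mul, C.comm, map_mul]
  u1 := fun h => C.u1 (hφ (by rw [h, map_one]))
  v1 := fun h => C.v1 (hφ (by rw [h, map_one]))
  ne := fun h => C.ne (hφ h)
  cu := fun s => (C.cu s).map φ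
  cv := fun s => (C.cv s).map φ
  cent := by
    intro g h1 h2
    obtain ⟨h, rfl⟩ := hrange g h1
    have h3 : Commute h gz := hφ (by rw [map_mul, map_mul]; exact h2.eq)
    obtain ⟨k, hk, s, hs⟩ := C.cent h (τ_comm h) h3
    refine ⟨φ k, ?_, s, ?_⟩
    · rcases hk with rfl | rfl | rfl | rfl
      · left; exact map_one φ
      · right; left; rfl
      · right; right; left; rfl
      · right; right; right; exact map_mul φ τ gz
    · rw [hs, map_mul]; rfl

/-- **The local structure from fusion.** -/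
theorem loc_of {φ : H0 →* G} (hφ : Function.Injective φ) (hrange : ∀ g : G, Commute g (φ τ) → g ∈ φ.range)
    (hB1 : IsConj (φ gz) (φ τ))
    (hB2 : ∀ h : H0, h * h = 1 → IsConj (φ h) (φ τ) → h = τ ∨ IsConj h gz ∨ IsConj h (gy ^ 3))
    (hB3 : ¬ IsConj (φ (τ * gy ^ 3)) (φ τ))
    {ι : A8 →* H0} (C : Cent τ gz ι) (hf : IsConj (ι f1) (gy ^ 3))
    {w : A8} (hw1 : w ≠ 1) (hw : IsConj (gz * ι w) gz) (hτw : IsConj (τ * ι w) (gy ^ 3)) :
    Loc (φ τ) (φ gz) (φ.comp ι) := by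
  have C' := cent_of hφ hrange C
  have htz : IsConj (φ (τ * gz)) (φ τ) := (isConj_map isConj_τ_gz).trans hB1
  have hfus : ∀ u v : G, u * u = 1 → v * v = 1 → u * v = v * u → u ≠ v → IsConj u (φ τ) → IsConj v (φ τ) →
      IsConj (u * v) (φ τ) → ∃ h : G, h * u * h⁻¹ = φ τ ∧ h * v * h⁻¹ = φ gz := by
    intro u v hu hv huv hne hut hvt huvt
    obtain ⟨h1, h1u⟩ := isConj_iff.mp hut
    have hvc : Commute (h1 * v * h1⁻¹) (φ τ) := by
      rw [← h1u]
      show h1 * v * h1⁻¹ * (h1 * u * h1⁻¹) = h1 * u * h1⁻¹ * (h1 * v * h1⁻¹)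
      calc h1 * v * h1⁻¹ * (h1 * u * h1⁻¹) = h1 * (v * u) * h1⁻¹ := by group
        _ = h1 * (u * v) * h1⁻¹ := by rw [huv]
        _ = _ := by group
    obtain ⟨c, hc⟩ := hrange _ hvc
    have hcc : c * c = 1 := by
      apply hφ
      rw [map_mul, map_one, hc]
      calc h1 * v * h1⁻¹ * (h1 * v * h1⁻¹) = h1 * (v * v) * h1⁻¹ := by group
        _ = 1 := by rw [hv]; group
    have hct : IsConj (φ c) (φ τ) := by
      rw [hc]
      exact (isConj_iff.mpr ⟨h1, rfl⟩ : IsConj v (h1 * v * h1⁻¹)).symm.trans hvt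
    rcases hB2 c hcc hct with rfl | hcz | hca
    · exfalso
      apply hne
      have : h1 * v * h1⁻¹ = h1 * u * h1⁻¹ := by rw [← hc, h1u]
      have h2 := mul_right_cancel this
      exact (mul_left_cancel h2).symm
    · obtain ⟨k, hk⟩ := isConj_iff.mp hcz
      refine ⟨φ k * h1, ?_, ?_⟩
      · calc φ k * h1 * u * (φ k * h1)⁻¹ = φ k * (h1 * u * h1⁻¹) * (φ k)⁻¹ := by group
          _ = φ (k * τ) * (φ k)⁻¹ := by rw [h1u, map_mul]
          _ = φ τ := by rw [τ_comm, map_mul]; group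
      · calc φ k * h1 * v * (φ k * h1)⁻¹ = φ k * (h1 * v * h1⁻¹) * (φ k)⁻¹ := by group
          _ = φ (k * c * k⁻¹) := by rw [← hc, map_mul, map_mul, map_inv]
          _ = φ gz := by rw [hk]
    · exfalso
      apply hB3
      have e1 : IsConj (φ (τ * gy ^ 3)) (φ (τ * c)) := by
        apply isConj_map
        obtain ⟨k, hk⟩ := isConj_iff.mp hca
        refine (isConj_iff.mpr ⟨k, ?_⟩ : IsConj (τ * c) (τ * gy ^ 3)).symm
        calc k * (τ * c) * k⁻¹ = (k * τ) * c * k⁻¹ := by group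
          _ = τ * (k * c * k⁻¹) := by rw [τ_comm]; group
          _ = _ := by rw [hk]
      have e2 : IsConj (φ (τ * c)) (u * v) := by
        refine (isConj_iff.mpr ⟨h1, ?_⟩ : IsConj (u * v) (φ (τ * c))).symm
        rw [map_mul, hc, ← h1u]; group
      exact (e1.trans e2).trans huvt
  refine { toCent := C', zt := hB1, tzt := by rw [← map_mul]; exact htz, fus := hfus, four := ?_ }
  -- the last field
  refine (isConj_map hf).trans ?_
  obtain ⟨h, hz, ht⟩ := hfus (φ gz) (φ τ) C'.hv C'.hu C'.comm.symm (fun e => C'.ne e.symm) hB1 (IsConj.refl _)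
    (by rw [← C'.comm, ← map_mul]; exact htz)
  set g := h * φ (gz * ι w) * h⁻¹ with hg
  set m := h * φ (ι w) * h⁻¹ with hm
  have hgm : g = φ τ * m := by
    rw [hg, hm, map_mul, ← hz]; group
  have hgt : IsConj g (φ τ) :=
    ((isConj_iff.mpr ⟨h, rfl⟩ : IsConj (φ (gz * ι w)) g).symm.trans (isConj_map hw)).trans hB1
  have hcw : Commute (φ (gz * ι w)) (φ gz) := by
    have : Commute (gz * ι w) gz := (Commute.refl gz).mul_left (C.cv w).symm
    exact this.map φ
  have hgc : Commute g (φ τ) := by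
    rw [← hz, hg]
    show h * φ (gz * ι w) * h⁻¹ * (h * φ gz * h⁻¹) = h * φ gz * h⁻¹ * (h * φ (gz * ι w) * h⁻¹)
    calc h * φ (gz * ι w) * h⁻¹ * (h * φ gz * h⁻¹) = h * (φ (gz * ι w) * φ gz) * h⁻¹ := by group
      _ = h * (φ gz * φ (gz * ι w)) * h⁻¹ := by rw [hcw.eq]
      _ = _ := by group
  obtain ⟨c, hc⟩ := hrange g hgc
  have hcc : c * c = 1 := by
    apply hφ
    obtain ⟨q, hq⟩ := isConj_iff.mp hgt
    rw [map_mul, map_one, hc]
    have : g = q⁻¹ * φ τ * q := by rw [← hq]; group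
    calc g * g = q⁻¹ * (φ τ * φ τ) * q := by rw [this]; group
      _ = 1 := by rw [← map_mul, τ_mul_τ, map_one]; group
  have hmw : IsConj m (φ (ι w)) := (isConj_iff.mpr ⟨h, rfl⟩ : IsConj (φ (ι w)) m).symm
  have hττ : φ τ * φ τ = 1 := by rw [← map_mul, τ_mul_τ, map_one]
  have hmc : m = φ (τ * c) := by
    rw [map_mul, hc, hgm, ← mul_assoc, hττ, one_mul]
  rcases hB2 c hcc (by rw [hc]; exact hgt) with hc1 | hcz | hca
  · exfalso
    rw [hc1, τ_mul_τ, map_one] at hmc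
    rw [hmc] at hmw
    have h2 : φ (ι w) = 1 := isConj_one_left.mp hmw.symm
    apply hw1
    apply C'.inj
    rw [map_one]
    exact h2
  · exfalso
    apply hB3
    -- `τ * gy ^ 3` is conjugate to `ι w`
    have e1 : IsConj (τ * gy ^ 3) (ι w) := by
      obtain ⟨k, hk⟩ := isConj_iff.mp hτw
      refine (isConj_iff.mpr ⟨k, ?_⟩ : IsConj (ι w) (τ * gy ^ 3)).symm
      rw [← hk]
      calc k * ι w * k⁻¹ = (k * (τ * τ) * ι w * k⁻¹) := by rw [τ_mul_τ, mul_one]
        _ = (k * τ) * (τ * ι w) * k⁻¹ := by group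
        _ = _ := by rw [τ_comm]; group
    have e2 : IsConj (τ * c) (τ * gz) := by
      obtain ⟨k, hk⟩ := isConj_iff.mp hcz
      refine isConj_iff.mpr ⟨k, ?_⟩
      calc k * (τ * c) * k⁻¹ = (k * τ) * c * k⁻¹ := by group
        _ = τ * (k * c * k⁻¹) := by rw [τ_comm]; group
        _ = _ := by rw [hk]
    have e3 : IsConj (φ (ι w)) (φ (τ * c)) := by rw [← hmc]; exact hmw.symm
    exact (((isConj_map e1).trans e3).trans (isConj_map e2)).trans htz
  · exact ((isConj_map hca).symm.trans (by rw [hc])).trans hgt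

end Cfsg.Agent.HN.LocFromFusion
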