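import Mathlib
import Cfsg.Agent.HN.S8Aut

/-!
# Two commuting alternating groups of degree 4 inside the symmetric group of degree 8
-/

set_option autoImplicit false

namespace Cfsg.Agent.HN.S8Label

open Equiv Equiv.Perm Function
open Cfsg.Agent.HN.S8Aut (c3 c3_def conj_c3 c3_isThreeCycle exists_c3)

/-- the standard element of type `3^2` -/
def a0 : Perm (Fin 8) := c3 0 1 2 * c3 3 4 5

theorem a0_cycleType : a0.cycleType = {3, 3} := by
  have h3 : orderOf a0 = 3 := orderOf_eq_prime (by decide) (by decide)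
  obtain ⟨m, hm⟩ := cycleType_prime_order (σ := a0) (by rw [h3]; norm_num)
  have hs := sum_cycleType a0
  have hc : a0.support.card = 6 := by decide
  rw [hm, h3, Multiset.sum_replicate, smul_eq_mul, hc] at hs
  have : m = 1 := by omega
  rw [hm, h3, this]
  rfl

/-- values of a permutation commuting with `a0`, determined by its values at `0`, `3` -/
def F (k l : Fin 8) : Fin 8 → Fin 8 := ![k, a0 k, a0 (a0 k), l, a0 l, a0 (a0 l), 6, 7]

theorem decF : ∀ k l : Fin 8, (∀ x, F k l (F k l (F k l x)) = x) →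
    ∃ i j : Fin 3, ∀ x, F k l x = ((c3 0 1 2) ^ (i : ℕ) * (c3 3 4 5) ^ (j : ℕ)) x := by
  decide +kernel

theorem eq_of_commute {c : Perm (Fin 8)} (hc : Commute a0 c) (h3 : c ^ 3 = 1) :
    ∃ i j : ℕ, c = (c3 0 1 2) ^ i * (c3 3 4 5) ^ j := by
  have hcomm : ∀ x, a0 (c x) = c (a0 x) := fun x => by
    have := congrArg (fun f : Perm (Fin 8) => f x) hc.eq
    simpa only [Perm.mul_apply] using this
  have hccc : ∀ x, c (c (c x)) = x := fun x => by
    have := congrArg (fun f : Perm (Fin 8) => f x) h3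
    simpa only [pow_succ, pow_zero, one_mul, Perm.mul_apply, Perm.one_apply] using this
  have hfix : ∀ x : Fin 8, a0 x = x → x = 6 ∨ x = 7 := by decide
  have h6' := hfix (c 6) (by rw [hcomm]; congr 1)
  have h7' := hfix (c 7) (by rw [hcomm]; congr 1)
  have h67 : c 6 = 6 ∧ c 7 = 7 := by
    rcases h6' with h6 | h6
    · rcases h7' with h7 | h7
      · exact absurd (c.injective (h6.trans h7.symm)) (by decide)
      · exact ⟨h6, h7⟩
    · rcases h7' with h7 | h7
      · have := hccc 6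
        rw [h6, h7, h6] at this
        exact absurd this (by decide)
      · exact absurd (c.injective (h6.trans h7.symm)) (by decide)
  have hF : ∀ x, c x = F (c 0) (c 3) x := by
    have e1 : c 1 = a0 (c 0) := by rw [hcomm]; congr 1
    have e2 : c 2 = a0 (a0 (c 0)) := by rw [hcomm, hcomm]; congr 1
    have e4 : c 4 = a0 (c 3) := by rw [hcomm]; congr 1
    have e5 : c 5 = a0 (a0 (c 3)) := by rw [hcomm, hcomm]; congr 1
    intro x
    fin_cases x
    · rfl
    · exact e1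
    · exact e2
    · rfl
    · exact e4
    · exact e5
    · exact h67.1
    · exact h67.2
  obtain ⟨i, j, hij⟩ := decF (c 0) (c 3) (fun x => by rw [← hF, ← hF, ← hF, hccc])
  exact ⟨i, j, Equiv.ext fun x => by rw [hF x]; exact hij x⟩

/-- An element of order `3` centralising a pair of elements generating `A_4` is a three-cycle. -/
theorem isThreeCycle_of_commute_pair {a c d : Perm (Fin 8)} (ha : a ^ 3 = 1) (ha1 : a ≠ 1) (hc : c ^ 3 = 1)
    (hd : d ^ 3 = 1) (hcd : (c * d) ^ 2 = 1) (hcd1 : c * d ≠ 1) (hac : Commute a c) (had : Commute a d) :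
    a.IsThreeCycle := by
  have h3 : orderOf a = 3 := orderOf_eq_prime ha ha1
  obtain ⟨m, hm⟩ := cycleType_prime_order (σ := a) (by rw [h3]; norm_num)
  have hs := sum_cycleType a
  have hle : a.support.card ≤ 8 := by
    have := Finset.card_le_univ a.support
    simpa using this
  rw [hm, h3, Multiset.sum_replicate, smul_eq_mul] at hs
  have hm2 : m = 0 ∨ m = 1 := by omega
  rcases hm2 with rfl | rfl
  · rw [← card_support_eq_three_iff]; omega
  · exfalso
    rw [h3] at hm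
    have hconj : IsConj a0 a := by
      rw [isConj_iff_cycleType_eq, a0_cycleType, hm]; rfl
    obtain ⟨g, hg⟩ := isConj_iff.mp hconj
    have hx : ∀ x : Perm (Fin 8), Commute a x → x ^ 3 = 1 →
        ∃ i j : ℕ, g⁻¹ * x * g = (c3 0 1 2) ^ i * (c3 3 4 5) ^ j := by
      intro x hx hx3
      apply eq_of_commute
      · have h1 : a0 = g⁻¹ * a * g := by rw [← hg]; group
        have h2 := hx.eq
        rw [h1]
        show g⁻¹ * a * g * (g⁻¹ * x * g) = g⁻¹ * x * g * (g⁻¹ * a * g)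
        calc g⁻¹ * a * g * (g⁻¹ * x * g) = g⁻¹ * (a * x) * g := by group
          _ = g⁻¹ * (x * a) * g := by rw [h2]
          _ = _ := by group
      · have : (g⁻¹ * x * g) ^ 3 = g⁻¹ * x ^ 3 * g := by
          simp only [pow_succ, pow_zero, one_mul]; group
        rw [this, hx3]; group
    obtain ⟨i, j, h1⟩ := hx c hac hc
    obtain ⟨i', j', h2⟩ := hx d had hd
    have hcom : Commute (c3 0 1 2) (c3 3 4 5) := by
      show c3 0 1 2 * c3 3 4 5 = c3 3 4 5 * c3 0 1 2
      decide +kernel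
    have hcd' : Commute (g⁻¹ * c * g) (g⁻¹ * d * g) := by
      rw [h1, h2]
      exact (((Commute.refl _).pow_pow i i').mul_right (hcom.pow_pow i j')).mul_left
        ((hcom.symm.pow_pow j i').mul_right ((Commute.refl _).pow_pow j j'))
    have hcd'' : Commute c d := by
      have := hcd'.eq
      show c * d = d * c
      calc c * d = g * (g⁻¹ * c * g * (g⁻¹ * d * g)) * g⁻¹ := by group
        _ = g * (g⁻¹ * d * g * (g⁻¹ * c * g)) * g⁻¹ := by rw [this]
        _ = _ := by group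
    have h5 : (c * d) ^ 3 = 1 := by rw [hcd''.mul_pow, hc, hd, one_mul]
    apply hcd1
    have : (c * d) ^ 3 = (c * d) ^ 2 * (c * d) := pow_succ _ _
    rw [h5, hcd, one_mul] at this
    exact this.symm

/-- conclusion of `decP` -/
def Conc (u v w : Fin 8) : Prop :=
  ∃ s, s ≠ 0 ∧ s ≠ 1 ∧ s ≠ 2 ∧ (c3 u v w = c3 0 1 s ∨ c3 u v w = c3 1 2 s ∨ c3 u v w = c3 2 0 s)

instance (u v w : Fin 8) : Decidable (Conc u v w) := by unfold Conc; infer_instance

/-- hypothesis of `decP` -/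
def Hyp (u v w : Fin 8) : Prop := (c3 0 1 2 * c3 u v w) ^ 2 = 1 ∧ c3 0 1 2 * c3 u v w ≠ 1

instance (u v w : Fin 8) : Decidable (Hyp u v w) := by unfold Hyp; infer_instance

set_option maxRecDepth 100000 in
theorem decP : ∀ u v w : Fin 8, u ≠ v → u ≠ w → v ≠ w → Hyp u v w → Conc u v w := by
  decide +kernel

theorem c3_rot (p q r : Fin 8) (h1 : p ≠ q) (h2 : p ≠ r) (h3 : q ≠ r) : c3 p q r = c3 q r p := by
  revert p q r
  decide +kernel

/-- Two three-cycles generating `A_4`. -/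
theorem exists_pair {a b : Perm (Fin 8)} (ha : a.IsThreeCycle) (hb : b.IsThreeCycle) (hab : (a * b) ^ 2 = 1)
    (hab1 : a * b ≠ 1) : ∃ p q r s : Fin 8, p ≠ q ∧ p ≠ r ∧ p ≠ s ∧ q ≠ r ∧ q ≠ s ∧ r ≠ s ∧
      a = c3 p q r ∧ b = c3 p q s := by
  have h0 : (c3 0 1 2).IsThreeCycle := c3_isThreeCycle (by decide) (by decide) (by decide)
  have hc : IsConj (c3 0 1 2) a := by
    rw [isConj_iff_cycleType_eq, h0.cycleType, ha.cycleType]
  obtain ⟨g, hg⟩ := isConj_iff.mp hc
  have hb' : (g⁻¹ * b * g).IsThreeCycle := by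
    have : IsConj b (g⁻¹ * b * g) := isConj_iff.mpr ⟨g⁻¹, by rw [inv_inv]⟩
    rw [isConj_iff_cycleType_eq] at this
    show (g⁻¹ * b * g).cycleType = {3}
    rw [← this]; exact hb
  obtain ⟨u, v, w, huv, huw, hvw, he⟩ := exists_c3 hb'
  have hH : Hyp u v w := by
    have e : c3 0 1 2 * c3 u v w = g⁻¹ * (a * b) * g := by
      rw [← he, ← hg]; group
    constructor
    · rw [e]
      have : (g⁻¹ * (a * b) * g) ^ 2 = g⁻¹ * (a * b) ^ 2 * g := by
        simp only [pow_succ, pow_zero, one_mul]; group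
      rw [this, hab]; group
    · rw [e]
      intro h
      apply hab1
      have : a * b = g * (g⁻¹ * (a * b) * g) * g⁻¹ := by group
      rw [this, h]; group
  obtain ⟨s, s0, s1, s2, hs⟩ := decP u v w huv huw hvw hH
  have hinj : ∀ i j : Fin 8, i ≠ j → g i ≠ g j := fun i j h e => h (g.injective e)
  have hbb : b = g * c3 u v w * g⁻¹ := by rw [← he]; group
  rcases hs with hs | hs | hs
  · refine ⟨g 0, g 1, g 2, g s, hinj _ _ (by decide), hinj _ _ (by decide), hinj _ _ (Ne.symm s0),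
      hinj _ _ (by decide), hinj _ _ (Ne.symm s1), hinj _ _ (Ne.symm s2), ?_, ?_⟩
    · rw [← hg, conj_c3]
    · rw [hbb, hs, conj_c3]
  · refine ⟨g 1, g 2, g 0, g s, hinj _ _ (by decide), hinj _ _ (by decide), hinj _ _ (Ne.symm s1),
      hinj _ _ (by decide), hinj _ _ (Ne.symm s2), hinj _ _ (Ne.symm s0), ?_, ?_⟩
    · rw [← hg, conj_c3]
      exact c3_rot _ _ _ (hinj _ _ (by decide)) (hinj _ _ (by decide)) (hinj _ _ (by decide))
    · rw [hbb, hs, conj_c3]
  · refine ⟨g 2, g 0, g 1, g s, hinj _ _ (by decide), hinj _ _ (by decide), hinj _ _ (Ne.symm s2),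
      hinj _ _ (by decide), hinj _ _ (Ne.symm s0), hinj _ _ (Ne.symm s1), ?_, ?_⟩
    · rw [← hg, conj_c3]
      rw [c3_rot _ _ _ (hinj _ _ (by decide)) (hinj _ _ (by decide)) (hinj _ _ (by decide))]
      exact c3_rot _ _ _ (hinj _ _ (by decide)) (hinj _ _ (by decide)) (hinj _ _ (by decide))
    · rw [hbb, hs, conj_c3]

set_option maxRecDepth 100000 in
theorem decC : ∀ u v w : Fin 8, u ≠ v → u ≠ w → v ≠ w → c3 0 1 2 * c3 u v w = c3 u v w * c3 0 1 2 →
    c3 0 1 3 * c3 u v w = c3 u v w * c3 0 1 3 → (4 ≤ u ∧ 4 ≤ v ∧ 4 ≤ w) := by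
  decide +kernel

/-- injectivity of the table of a permutation fixing `0, 1, 2, 3` -/
def Inj8 (u v w z : Fin 8) : Prop :=
  ∀ i j : Fin 8, (![0, 1, 2, 3, u, v, w, z] : Fin 8 → Fin 8) i = ![0, 1, 2, 3, u, v, w, z] j → i = j

instance (u v w z : Fin 8) : Decidable (Inj8 u v w z) := by unfold Inj8; infer_instance

/-- hypothesis of `decI` -/
def Dist8 (u v w z : Fin 8) : Prop :=
  (4 ≤ u ∧ 4 ≤ v ∧ 4 ≤ w ∧ 4 ≤ z) ∧ u ≠ v ∧ u ≠ w ∧ u ≠ z ∧ v ≠ w ∧ v ≠ z ∧ w ≠ z

instance (u v w z : Fin 8) : Decidable (Dist8 u v w z) := by unfold Dist8; infer_instance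

set_option maxRecDepth 100000 in
theorem decI : ∀ u v w z : Fin 8, Dist8 u v w z → Inj8 u v w z := by
  decide +kernel

theorem exists_perm4 {p q r s : Fin 8} (h1 : p ≠ q) (h2 : p ≠ r) (h3 : p ≠ s) (h4 : q ≠ r) (h5 : q ≠ s)
    (h6 : r ≠ s) : ∃ g : Perm (Fin 8), g 0 = p ∧ g 1 = q ∧ g 2 = r ∧ g 3 = s := by
  -- `g` is built as a product of transpositions
  let g1 : Perm (Fin 8) := swap 0 p
  let g2 : Perm (Fin 8) := swap (g1 1) q * g1
  let g3 : Perm (Fin 8) := swap (g2 2) r * g2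
  let g4 : Perm (Fin 8) := swap (g3 3) s * g3
  have e10 : g1 0 = p := swap_apply_left _ _
  have ne1 : g1 1 ≠ p := fun e => absurd (g1.injective (e.trans e10.symm)) (by decide)
  have e20 : g2 0 = p := by
    show swap (g1 1) q (g1 0) = p
    rw [e10]; exact swap_apply_of_ne_of_ne (Ne.symm ne1) h1
  have e21 : g2 1 = q := swap_apply_left _ _
  have ne20 : g2 2 ≠ p := fun e => absurd (g2.injective (e.trans e20.symm)) (by decide)
  have ne21 : g2 2 ≠ q := fun e => absurd (g2.injective (e.trans e21.symm)) (by decide)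
  have e30 : g3 0 = p := by
    show swap (g2 2) r (g2 0) = p
    rw [e20]; exact swap_apply_of_ne_of_ne (Ne.symm ne20) h2
  have e31 : g3 1 = q := by
    show swap (g2 2) r (g2 1) = q
    rw [e21]; exact swap_apply_of_ne_of_ne (Ne.symm ne21) h4
  have e32 : g3 2 = r := swap_apply_left _ _
  have ne30 : g3 3 ≠ p := fun e => absurd (g3.injective (e.trans e30.symm)) (by decide)
  have ne31 : g3 3 ≠ q := fun e => absurd (g3.injective (e.trans e31.symm)) (by decide)
  have ne32 : g3 3 ≠ r := fun e => absurd (g3.injective (e.trans e32.symm)) (by decide)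
  refine ⟨g4, ?_, ?_, ?_, swap_apply_left _ _⟩
  · show swap (g3 3) s (g3 0) = p
    rw [e30]; exact swap_apply_of_ne_of_ne (Ne.symm ne30) h3
  · show swap (g3 3) s (g3 1) = q
    rw [e31]; exact swap_apply_of_ne_of_ne (Ne.symm ne31) h5
  · show swap (g3 3) s (g3 2) = r
    rw [e32]; exact swap_apply_of_ne_of_ne (Ne.symm ne32) h6

/-- Two commuting pairs, each generating an `A_4`, can be labelled in the standard way. -/
theorem label {a b c d : Perm (Fin 8)} (ha : a ^ 3 = 1) (hb : b ^ 3 = 1) (hc : c ^ 3 = 1) (hd : d ^ 3 = 1)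
    (hab : (a * b) ^ 2 = 1) (hab1 : a * b ≠ 1) (hcd : (c * d) ^ 2 = 1) (hcd1 : c * d ≠ 1)
    (hac : Commute a c) (had : Commute a d) (hbc : Commute b c) (hbd : Commute b d) :
    ∃ g : Perm (Fin 8), a = g * c3 0 1 2 * g⁻¹ ∧ b = g * c3 0 1 3 * g⁻¹ ∧ c = g * c3 4 5 6 * g⁻¹ ∧
      d = g * c3 4 5 7 * g⁻¹ := by
  -- nontriviality
  have triv : ∀ x y : Perm (Fin 8), x ^ 3 = 1 → y ^ 3 = 1 → (x * y) ^ 2 = 1 → x * y ≠ 1 → x ≠ 1 ∧ y ≠ 1 := by
    intro x y hx hy h h'
    have h23 : ∀ w : Perm (Fin 8), w ^ 3 = 1 → w ^ 2 = 1 → w = 1 := by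
      intro w h3 h2
      have : w ^ 3 = w ^ 2 * w := pow_succ _ _
      rw [h3, h2, one_mul] at this
      exact this.symm
    constructor
    · rintro rfl
      rw [one_mul] at h h'
      exact h' (h23 y hy h)
    · rintro rfl
      rw [mul_one] at h h'
      exact h' (h23 x hx h)
  have a3 := isThreeCycle_of_commute_pair ha (triv a b ha hb hab hab1).1 hc hd hcd hcd1 hac had
  have b3 := isThreeCycle_of_commute_pair hb (triv a b ha hb hab hab1).2 hc hd hcd hcd1 hbc hbd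
  have c3' := isThreeCycle_of_commute_pair hc (triv c d hc hd hcd hcd1).1 ha hb hab hab1 hac.symm hbc.symm
  have d3 := isThreeCycle_of_commute_pair hd (triv c d hc hd hcd hcd1).2 ha hb hab hab1 had.symm hbd.symm
  obtain ⟨p, q, r, s, h1, h2, h3, h4, h5, h6, ea, eb⟩ := exists_pair a3 b3 hab hab1
  obtain ⟨g, g0, g1, g2, g3⟩ := exists_perm4 h1 h2 h3 h4 h5 h6
  have ea' : a = g * c3 0 1 2 * g⁻¹ := by rw [ea, conj_c3, g0, g1, g2]
  have eb' : b = g * c3 0 1 3 * g⁻¹ := by rw [eb, conj_c3, g0, g1, g3]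
  have conj3 : ∀ x : Perm (Fin 8), x.IsThreeCycle → (g⁻¹ * x * g).IsThreeCycle := by
    intro x hx
    have : IsConj x (g⁻¹ * x * g) := isConj_iff.mpr ⟨g⁻¹, by rw [inv_inv]⟩
    rw [isConj_iff_cycleType_eq] at this
    show (g⁻¹ * x * g).cycleType = {3}
    rw [← this]; exact hx
  have e : g⁻¹ * c * g * (g⁻¹ * d * g) = g⁻¹ * (c * d) * g := by group
  have hcd' : (g⁻¹ * c * g * (g⁻¹ * d * g)) ^ 2 = 1 := by
    rw [e]
    have : (g⁻¹ * (c * d) * g) ^ 2 = g⁻¹ * (c * d) ^ 2 * g := by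
      simp only [pow_succ, pow_zero, one_mul]; group
    rw [this, hcd]; group
  have hcd1' : g⁻¹ * c * g * (g⁻¹ * d * g) ≠ 1 := by
    rw [e]
    intro h
    apply hcd1
    have : c * d = g * (g⁻¹ * (c * d) * g) * g⁻¹ := by group
    rw [this, h]; group
  obtain ⟨u, v, w, z, k1, k2, k3, k4, k5, k6, ec, ed⟩ := exists_pair (conj3 c c3') (conj3 d d3) hcd' hcd1'
  have hcom : ∀ x y : Perm (Fin 8), Commute x y → g⁻¹ * x * g * (g⁻¹ * y * g) = g⁻¹ * y * g * (g⁻¹ * x * g) := by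
    intro x y h
    calc g⁻¹ * x * g * (g⁻¹ * y * g) = g⁻¹ * (x * y) * g := by group
      _ = g⁻¹ * (y * x) * g := by rw [h.eq]
      _ = _ := by group
  have ea2 : g⁻¹ * a * g = c3 0 1 2 := by rw [ea']; group
  have eb2 : g⁻¹ * b * g = c3 0 1 3 := by rw [eb']; group
  obtain ⟨l1, l2, l3⟩ := decC u v w k1 k2 k4 (by rw [← ec, ← ea2]; exact hcom a c hac)
    (by rw [← ec, ← eb2]; exact hcom b c hbc)
  obtain ⟨-, -, l4⟩ := decC u v z k1 k3 k5 (by rw [← ed, ← ea2]; exact hcom a d had)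
    (by rw [← ed, ← eb2]; exact hcom b d hbd)
  have hinj : Injective (![0, 1, 2, 3, u, v, w, z] : Fin 8 → Fin 8) := fun i j h =>
    decI u v w z ⟨⟨l1, l2, l3, l4⟩, k1, k2, k3, k4, k5, k6⟩ i j h
  let h : Perm (Fin 8) := Equiv.ofBijective _ (Finite.injective_iff_bijective.mp hinj)
  have f0 : h 0 = 0 := rfl
  have f1 : h 1 = 1 := rfl
  have f2 : h 2 = 2 := rfl
  have f3 : h 3 = 3 := rfl
  have f4 : h 4 = u := rfl
  have f5 : h 5 = v := rfl
  have f6 : h 6 = w := rfl
  have f7 : h 7 = z := rfl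
  have hgh : ∀ x : Perm (Fin 8), g * h * x * (g * h)⁻¹ = g * (h * x * h⁻¹) * g⁻¹ := fun x => by group
  refine ⟨g * h, ?_, ?_, ?_, ?_⟩
  · rw [hgh, conj_c3, f0, f1, f2]; exact ea'
  · rw [hgh, conj_c3, f0, f1, f3]; exact eb'
  · rw [hgh, conj_c3, f4, f5, f6, ← ec]; group
  · rw [hgh, conj_c3, f4, f5, f7, ← ed]; group

end Cfsg.Agent.HN.S8Label
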