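import Cfsg.Agent.HN.LocalA12
import Cfsg.Agent.HN.S8Aut
import Cfsg.Agent.HN.S8Label

/-!
# The local argument, unconditional form
-/

set_option autoImplicit false

namespace Cfsg.Agent.HN.LocalThm

open Equiv Cfsg.Agent.HN.Local Cfsg.Agent.HN.LocalX Cfsg.Agent.HN.LocalMain Cfsg.Agent.HN.LocalA12

theorem autStatement : AutStatement := S8Aut.aut

theorem labelStatement : LabelStatement := by
  intro a b c d ha hb hc hd _ _ hab hab1 hcd hcd1 hac had hbc hbd
  have cv : ∀ {a b : A8}, Commute a b → Commute (a : Perm (Fin 8)) (b : Perm (Fin 8)) :=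
    fun {a b} h => congrArg (fun s : A8 => (s : Perm (Fin 8))) h.eq
  have cp : ∀ {a : A8} {n : ℕ}, a ^ n = 1 → (a : Perm (Fin 8)) ^ n = 1 :=
    fun {a n} h => congrArg (fun s : A8 => (s : Perm (Fin 8))) h
  have cn : ∀ {a b : A8}, a * b ≠ 1 → (a : Perm (Fin 8)) * (b : Perm (Fin 8)) ≠ 1 :=
    fun {a b} h h' => h (Subtype.ext h')
  obtain ⟨g, h1, h2, h3, h4⟩ := S8Label.label (cp ha) (cp hb) (cp hc) (cp hd) (cp hab) (cn hab1) (cp hcd)
    (cn hcd1) (cv hac) (cv had) (cv hbc) (cv hbd)
  refine ⟨g⁻¹, ?_, ?_, ?_, ?_⟩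
  · rw [h1]
    have : S8Aut.c3 0 1 2 = (c2 : Perm (Fin 8)) := by decide
    rw [← this]; group
  · rw [h2]
    have : S8Aut.c3 0 1 3 = (c3 : Perm (Fin 8)) := by decide
    rw [← this]; group
  · rw [h3]
    have : S8Aut.c3 4 5 6 = (d6 : Perm (Fin 8)) := by decide
    rw [← this]; group
  · rw [h4]
    have : S8Aut.c3 4 5 7 = (d7 : Perm (Fin 8)) := by decide
    rw [← this]; group

variable {G : Type*} [Group G] {t z : G} {ι : A8 →* G}

/-- The output of the local argument, from the local hypotheses. -/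
theorem exists_out (L : Loc t z ι) : ∃ x y, Out t z ι x y :=
  LocalMain.exists_out autStatement labelStatement L

/-- **Local hypotheses imply that the alternating group of degree 12 is a subgroup.** -/
theorem exists_alt12 (L : Loc t z ι) : ∃ H : Subgroup G, Nonempty (H ≃* alternatingGroup (Fin 12)) := by
  obtain ⟨x, y, O⟩ := exists_out L
  exact LocalA12.exists_alt12 O

end Cfsg.Agent.HN.LocalThm
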