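import Cfsg.Agent.HN.FusGen
import Cfsg.Agent.HN.LocFromFusion
import Cfsg.Agent.HN.LocalThm
import Cfsg.Agent.HN.CentUp2
import Cfsg.Agent.HN.StepDFinal
import Cfsg.Agent.HN.IotaCent
import Cfsg.Agent.HN.Syl

/-!
# From the fusion of involutions to the presented group

`φ : H0 →* G` identifies `H0 = 2.HS.2` with the centraliser of the involution `φ τ`; from the three facts
`gz ∈ K`, `a τ ∉ K`, `d ∉ K` about the set `K` of elements of `H0` fused to `τ` we obtain the local structure, an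
alternating subgroup of degree 12, and the Harada–Norton group inside `G`.
-/

set_option autoImplicit false

namespace Cfsg.Agent.HN.FusionOut

open Cfsg.Agent.HN.Pres Cfsg.Agent.HN.P1408 Cfsg.Agent.HN.H0Basic Cfsg.Agent.HN.Local Cfsg.Agent.HN.LocalCent
open Cfsg.Agent.HN.FusGen Cfsg.Agent.HN.Iota Equiv

theorem map_rels {H G : Type*} [Group H] [Group G] (f : H →* G) {X Y Z : H} (h : Rels X Y Z) :
    Rels (f X) (f Y) (f Z) where
  r1 := by simpa only [map_mul, map_pow, map_inv, map_one] using congrArg f h.r1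
  r2 := by simpa only [map_mul, map_pow, map_inv, map_one] using congrArg f h.r2
  r3 := by simpa only [map_mul, map_pow, map_inv, map_one] using congrArg f h.r3
  r4 := by simpa only [map_mul, map_pow, map_inv, map_one] using congrArg f h.r4
  r5 := by simpa only [map_mul, map_pow, map_inv, map_one] using congrArg f h.r5
  r6 := by simpa only [map_mul, map_pow, map_inv, map_one] using congrArg f h.r6
  r7 := by simpa only [map_mul, map_pow, map_inv, map_one] using congrArg f h.r7
  r8 := by simpa only [map_mul, map_pow, map_inv, map_one] using congrArg f h.r8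
  r9 := by simpa only [map_mul, map_pow, map_inv, map_one] using congrArg f h.r9
  r10 := by simpa only [map_mul, map_pow, map_inv, map_one] using congrArg f h.r10

theorem isConj_inv_mul {H : Type*} [Group H] (c g : H) : IsConj (c⁻¹ * g * c) g :=
  isConj_iff.2 ⟨c, by group⟩

theorem p_w4_ne : p_w4 ≠ 1 := by decide +kernel

section

variable {G : Type*} [Group G] {φ : H0 →* G}

/-- **The local structure.** -/
theorem loc (E : Emb φ τ) (hz : InK φ τ gz) (hb : ¬ InK φ τ (Syl.a * τ)) (hd : ¬ InK φ τ Syl.d) :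
    Loc (φ τ) (φ gz) (φ.comp iota) := by
  refine LocFromFusion.loc_of E.inj ?_ hz.symm ?_ ?_ IotaCent.cent ?_ p_w4_ne ?_ ?_
  · intro g hg
    obtain ⟨h, rfl⟩ := E.cent g hg.eq
    exact ⟨h, rfl⟩
  · intro h hh hconj
    have hK : InK φ τ h := hconj.symm
    rcases Syl.involution_cases (g := h) (by rw [pow_two, hh]) with h1 | h1 | h1 | h1 | h1 | h1
    · exact absurd h1 (E.ne_one_of_inK hK)
    · exact Or.inl h1
    · exact Or.inr (Or.inr h1.symm)
    · exact absurd (hK.conj h1.symm) hb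
    · exact Or.inr (Or.inl h1.symm)
    · exact absurd (hK.conj h1.symm) hd
  · intro h
    apply hb
    have h1 : Syl.a * τ = τ * gy ^ 3 := τ_comm _
    rw [h1]
    exact h.symm
  · rw [f1_conj]
    exact isConj_inv_mul _ _
  · rw [z_w4]
    exact isConj_inv_mul _ _
  · rw [τ_w4]
    exact isConj_inv_mul _ _

/-- **The alternating group of degree 12.** -/
theorem alt12 (E : Emb φ τ) (hz : InK φ τ gz) (hb : ¬ InK φ τ (Syl.a * τ)) (hd : ¬ InK φ τ Syl.d) :
    ∃ K : Subgroup G, Nonempty (K ≃* alternatingGroup (Fin 12)) :=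
  LocalThm.exists_alt12 (loc E hz hb hd)

theorem comm_of_mem_cen (E : Emb φ τ) {S : Set A8} {h : H0} (hh : φ h ∈ cen (φ.comp iota) S) {s : A8}
    (hs : s ∈ S) : h * iota s = iota s * h := by
  apply E.inj
  rw [map_mul, map_mul]
  exact (mem_cen.1 hh s hs).eq

/-- **(h7)** the centraliser of `A₇` in the centraliser of `φ τ`. -/
theorem h7 (E : Emb φ τ) : ∀ g : G, Commute g (φ τ) → g ∈ cen (φ.comp iota) S7 → g ∈ four (φ τ) (φ gz) := by
  intro g hg hc
  obtain ⟨h, rfl⟩ := E.cent g hg.eq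
  have h1 := comm_of_mem_cen E hc (s := p_a1) (show (p_a1 : Perm (Fin 8)) 7 = 7 by decide)
  have h2 := comm_of_mem_cen E hc (s := p_a2) (show (p_a2 : Perm (Fin 8)) 7 = 7 by decide)
  have h3 := comm_of_mem_cen E hc (s := p_a3) (show (p_a3 : Perm (Fin 8)) 7 = 7 by decide)
  rw [iota_a1] at h1
  rw [iota_a2] at h2
  rw [iota_a3] at h3
  rcases CentUp2.centralizer_A7 h1 h2 h3 with rfl | rfl | rfl | rfl
  · exact Or.inl (map_one φ)
  · exact Or.inr (Or.inl rfl)
  · exact Or.inr (Or.inr (Or.inl rfl))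
  · exact Or.inr (Or.inr (Or.inr (map_mul φ τ gz)))

/-- **(h6)** the centraliser of `A₆` in the centraliser of `φ τ`. -/
theorem h6 [Finite G] (E : Emb φ τ) :
    Nat.card (Subgroup.centralizer {φ τ} ⊓ cen (φ.comp iota) S6 : Subgroup G) ≤ 8 := by
  have hle : (Subgroup.centralizer {φ τ} ⊓ cen (φ.comp iota) S6 : Subgroup G) ≤
      (Subgroup.centralizer ({CentUp2.a1, CentUp2.a2} : Set H0)).map φ := by
    rintro g ⟨hg, hc⟩
    obtain ⟨h, rfl⟩ := E.cent g (Subgroup.mem_centralizer_singleton_iff.1 hg)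
    refine ⟨h, ?_, rfl⟩
    have h1 := comm_of_mem_cen E hc (s := p_a1)
      ⟨show (p_a1 : Perm (Fin 8)) 7 = 7 by decide, show (p_a1 : Perm (Fin 8)) 6 = 6 by decide⟩
    have h2 := comm_of_mem_cen E hc (s := p_a2)
      ⟨show (p_a2 : Perm (Fin 8)) 7 = 7 by decide, show (p_a2 : Perm (Fin 8)) 6 = 6 by decide⟩
    rw [iota_a1] at h1
    rw [iota_a2] at h2
    rw [SetLike.mem_coe, Subgroup.mem_centralizer_iff]
    rintro x (rfl | rfl)
    · exact h1.symm
    · exact h2.symm
  have : Finite H0 := finite_H0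
  calc Nat.card (Subgroup.centralizer {φ τ} ⊓ cen (φ.comp iota) S6 : Subgroup G)
      ≤ Nat.card ((Subgroup.centralizer ({CentUp2.a1, CentUp2.a2} : Set H0)).map φ) :=
        Nat.card_le_card_of_injective (Subgroup.inclusion hle) (Subgroup.inclusion_injective hle)
    _ = Nat.card (Subgroup.centralizer ({CentUp2.a1, CentUp2.a2} : Set H0)) :=
        (Nat.card_congr (Subgroup.equivMapOfInjective _ φ E.inj).toEquiv).symm
    _ ≤ 8 := CentUp2.card_centralizer_A6_le

theorem p1_eq : StepDGlue.p1 = p_a1 := by decide +kernel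
theorem p2_eq : StepDGlue.p2 = p_a2 := by decide +kernel
theorem p3_eq : StepDGlue.p3 = p_a3 := by decide +kernel
theorem p4_eq : StepDGlue.p4 = p_g := by decide +kernel

/-- **The Harada–Norton group in `G`.** -/
theorem exists_theta [Finite G] [IsSimpleGroup Spor.HN] (E : Emb φ τ) (hz : InK φ τ gz)
    (hb : ¬ InK φ τ (Syl.a * τ)) (hd : ¬ InK φ τ Syl.d) :
    ∃ θ : Spor.HN →* G, Function.Injective θ ∧ θ hx = φ gx ∧ θ hy = φ gy ∧ θ Pres.hz = φ gz := by
  obtain ⟨x, y, O⟩ := LocalThm.exists_out (loc E hz hb hd)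
  have hτ : φ τ = φ gx * φ gx := by rw [τ, map_pow, pow_two]
  have h7' := h7 E
  have h6' := h6 E
  have hne := E.t_ne
  rw [hτ] at O h7' h6' hne
  refine StepDFinal.exists_HN (map_rels φ rels_H0) hne O ?_ ?_ ?_ ?_ h7' h6'
  · rw [p1_eq, MonoidHom.comp_apply, iota_a1, map_hw]; rfl
  · rw [p2_eq, MonoidHom.comp_apply, iota_a2, map_hw]; rfl
  · rw [p3_eq, MonoidHom.comp_apply, iota_a3, map_hw]; rfl
  · rw [p4_eq, MonoidHom.comp_apply, iota_g, map_hw]; rfl

end

end Cfsg.Agent.HN.FusionOut
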