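import Cfsg.Agent.HN.XMatChk
import Cfsg.Agent.HN.Closing

/-!
# Subspaces of `F_2^8` for the closing lemma

A good set of masks is an `F_2`-subspace which contains no mask of `DD` and contains, for every swap matrix of `SL`, a
nonzero mask fixed by it.  There are exactly ten of them (`TenL`), the five `v ⊗ V` and the five `V ⊗ v`.  The proof is a
search tree (`go`), checked by the kernel.  `good_fields` translates this to the fields `g1, g2, g3` of the structure
`Closing.Cfg`.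
-/

set_option autoImplicit false

namespace Cfsg.Agent.HN.GoodMask

open Cfsg.Agent.HN.XMat

/-- good sets of masks -/
structure GoodM (I : ℕ → Prop) : Prop where
  lt : ∀ m, I m → m < 256
  zero : I 0
  xor : ∀ a b, I a → I b → I (a ^^^ b)
  noD : ∀ m ∈ DD, ¬ I m
  fix : ∀ t ∈ SL, ∃ m, I m ∧ m ≠ 0 ∧ app t.1 m = m

/-- membership of a natural number in a list -/
def mem (m : ℕ) (L : List ℕ) : Bool := L.any (fun x => Nat.beq m x)

theorem mem_iff {m : ℕ} {L : List ℕ} : mem m L = true ↔ m ∈ L := by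
  unfold mem
  rw [List.any_eq_true]
  constructor
  · rintro ⟨x, hx, h⟩
    rwa [Nat.eq_of_beq_eq_true h]
  · intro h
    exact ⟨m, h, Nat.beq_refl m⟩

/-- some swap matrices with their fixed masks outside `DD` -/
def FL : List (ℕ × List ℕ) := [
  (6791464447635658849, [96, 154, 218, 222, 254]), (7950180473497500753, [20, 61, 121, 151, 199]),
  (6420454914380709476, [22, 63, 76, 149, 240]), (11818888331197193796, [69, 156, 221, 249, 253]),
  (9390042678269379076, [7, 21, 23, 176, 181]), (14807393189429224037, [23, 62, 77, 137, 237]),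
  (7394953101138068515, [6, 92, 120, 194, 224])]

/-- the ten good subspaces -/
def TenL : List (List ℕ) := [
  [0, 3, 20, 23, 40, 43, 60, 63, 193, 194, 213, 214, 233, 234, 253, 254],
  [0, 3, 21, 22, 40, 43, 61, 62, 200, 203, 221, 222, 224, 227, 245, 246],
  [0, 6, 17, 23, 74, 76, 91, 93, 139, 141, 154, 156, 193, 199, 208, 214],
  [0, 6, 19, 21, 106, 108, 121, 127, 137, 143, 154, 156, 227, 229, 240, 246],
  [0, 7, 17, 22, 74, 77, 91, 92, 129, 134, 144, 151, 203, 204, 218, 221],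
  [0, 7, 19, 20, 107, 108, 120, 127, 129, 134, 146, 149, 234, 237, 249, 254],
  [0, 24, 37, 61, 69, 93, 96, 120, 141, 149, 168, 176, 200, 208, 237, 245],
  [0, 24, 39, 63, 77, 85, 106, 114, 143, 151, 168, 176, 194, 218, 229, 253],
  [0, 25, 37, 60, 69, 92, 96, 121, 137, 144, 172, 181, 204, 213, 233, 240],
  [0, 25, 39, 62, 76, 85, 107, 114, 139, 146, 172, 181, 199, 222, 224, 249]]

/-- `DD` as a bit mask -/
def DDN : ℕ := 1823829608268195304905218113382260448234415363642013184894125277215575052086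

/-- the set `L` contains a mask of `DD` -/
def hitD (L : List ℕ) : Bool := L.any (fun m => Nat.beq (bt DDN m) 1)

theorem chkDDN : (List.range 256).all (fun m => bif Nat.beq (bt DDN m) 1 then mem m DD else true) = true := by
  decide +kernel

/-- the set `L` contains one of the ten -/
def inTen (L : List ℕ) : Bool := Nat.beq L.length 16 && TenL.any (fun T => T.all (fun m => mem m L))

/-- the search -/
def go : List (ℕ × List ℕ) → List ℕ → Bool
  | [], cur => hitD cur || inTen cur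
  | t :: S, cur => hitD cur || (inTen cur || (bif cur.any (fun m => mem m t.2) then go S cur
      else t.2.all (fun m => go S (cur ++ cur.map (fun x => Nat.xor x m)))))

theorem chkFL1 : FL.all (fun t => SL.any (fun s => Nat.beq s.1 t.1)) = true := by decide +kernel

theorem chkFL2 : FL.all (fun t => (List.range 256).all (fun m => bif Nat.beq (app t.1 m) m then
    (Nat.beq m 0 || (mem m DD || mem m t.2)) else true)) = true := by decide +kernel

theorem chkGo : go FL [0] = true := by decide +kernel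

/-- every good set containing one of the ten is equal to it -/
theorem chkMax : TenL.all (fun T => (List.range 256).all (fun m => mem m T ||
    T.any (fun x => Nat.beq (bt DDN (Nat.xor x m)) 1))) = true := by decide +kernel

theorem chkTenLt : TenL.all (fun T => T.all (fun m => Nat.blt m 256)) = true := by decide +kernel

theorem chkG1 : TenL.all (fun T => TenL.all (fun T' => bif T.all (fun m => mem m T') then T == T' else true)) = true := by
  decide +kernel

theorem chkG2 : SL.all (fun t => TenL.all (fun T => T.any (fun m => !(mem (app t.1 m) T)))) = true := by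
  decide +kernel

theorem chkG3 : TenL.all (fun T => TenL.all (fun T' => T == T' || TenL.all (fun T'' => T == T'' || (T' == T'' ||
    T.all (fun m => Nat.beq m 0 || !(mem m T' && mem m T'')))))) = true := by
  decide +kernel

theorem mem_DD_of_bt {m : ℕ} (hm : m < 256) (h : bt DDN m = 1) : m ∈ DD := by
  have h1 := List.all_eq_true.1 chkDDN m (List.mem_range.2 hm)
  rw [h] at h1
  exact mem_iff.1 h1

variable {I : ℕ → Prop}

theorem GoodM.not_hitD (h : GoodM I) {L : List ℕ} (hL : ∀ m ∈ L, I m) : hitD L = false := by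
  rw [hitD, Bool.eq_false_iff]
  intro hh
  obtain ⟨m, hm, h1⟩ := List.any_eq_true.1 hh
  exact h.noD m (mem_DD_of_bt (h.lt m (hL m hm)) (Nat.eq_of_beq_eq_true h1)) (hL m hm)

theorem exists_of_inTen {L : List ℕ} (hL : ∀ m ∈ L, I m) (h : inTen L = true) :
    ∃ T ∈ TenL, ∀ m ∈ T, I m := by
  rw [inTen, Bool.and_eq_true] at h
  obtain ⟨T, hT, h1⟩ := List.any_eq_true.1 h.2
  exact ⟨T, hT, fun m hm => hL m (mem_iff.1 (List.all_eq_true.1 h1 m hm))⟩

theorem go_spec (h : GoodM I) (S : List (ℕ × List ℕ)) :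
    ∀ cur : List ℕ, (∀ t ∈ S, ∃ m ∈ t.2, I m) → (∀ m ∈ cur, I m) → go S cur = true → ∃ T ∈ TenL, ∀ m ∈ T, I m := by
  induction S with
  | nil =>
    intro cur _ hc hg
    rw [go, h.not_hitD hc, Bool.false_or] at hg
    exact exists_of_inTen hc hg
  | cons t S ih =>
    intro cur hS hc hg
    rw [go, h.not_hitD hc, Bool.false_or] at hg
    by_cases h1 : inTen cur = true
    · exact exists_of_inTen hc h1
    · rw [Bool.eq_false_iff.2 h1, Bool.false_or] at hg
      by_cases h2 : cur.any (fun m => mem m t.2) = true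
      · rw [h2, cond_true] at hg
        exact ih cur (fun t ht => hS t (List.mem_cons_of_mem _ ht)) hc hg
      · rw [Bool.eq_false_iff.2 h2, cond_false] at hg
        obtain ⟨m, hm, hI⟩ := hS t List.mem_cons_self
        refine ih _ (fun t ht => hS t (List.mem_cons_of_mem _ ht)) ?_ (List.all_eq_true.1 hg m hm)
        intro a ha
        rcases List.mem_append.1 ha with ha | ha
        · exact hc a ha
        · obtain ⟨b, hb, rfl⟩ := List.mem_map.1 ha
          exact h.xor b m (hc b hb) hI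

/-- **The ten good subspaces.** -/
theorem GoodM.exists_ten (h : GoodM I) : ∃ T ∈ TenL, ∀ m, I m ↔ m ∈ T := by
  have hFL : ∀ t ∈ FL, ∃ m ∈ t.2, I m := by
    intro t ht
    obtain ⟨s, hs, hst⟩ := List.any_eq_true.1 (List.all_eq_true.1 chkFL1 t ht)
    obtain ⟨m, hI, h0, hm⟩ := h.fix s hs
    rw [Nat.eq_of_beq_eq_true hst] at hm
    have h1 := List.all_eq_true.1 (List.all_eq_true.1 chkFL2 t ht) m (List.mem_range.2 (h.lt m hI))
    rw [hm, Nat.beq_refl, cond_true, Bool.or_eq_true, Bool.or_eq_true] at h1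
    rcases h1 with h1 | h1 | h1
    · exact absurd (Nat.eq_of_beq_eq_true h1) h0
    · exact absurd hI (h.noD m (mem_iff.1 h1))
    · exact ⟨m, mem_iff.1 h1, hI⟩
  obtain ⟨T, hT, hTI⟩ := go_spec h FL [0] hFL (by simpa using h.zero) chkGo
  refine ⟨T, hT, fun m => ⟨fun hI => ?_, hTI m⟩⟩
  have hlt := h.lt m hI
  have h1 := List.all_eq_true.1 (List.all_eq_true.1 chkMax T hT) m (List.mem_range.2 hlt)
  rw [Bool.or_eq_true] at h1
  rcases h1 with h1 | h1
  · exact mem_iff.1 h1
  · exfalso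
    obtain ⟨x, hx, h2⟩ := List.any_eq_true.1 h1
    have h3 : I (x ^^^ m) := h.xor x m (hTI x hx) hI
    exact h.noD _ (mem_DD_of_bt (h.lt _ h3) (Nat.eq_of_beq_eq_true h2)) h3

theorem ten_lt {T : List ℕ} (hT : T ∈ TenL) {m : ℕ} (hm : m ∈ T) : m < 256 := by
  have h1 := List.all_eq_true.1 (List.all_eq_true.1 chkTenLt T hT) m hm
  rw [Nat.blt_eq] at h1
  exact h1

theorem ten_g1 {T T' : List ℕ} (hT : T ∈ TenL) (hT' : T' ∈ TenL) (h : ∀ m ∈ T, m ∈ T') : T = T' := by
  have h1 := List.all_eq_true.1 (List.all_eq_true.1 chkG1 T hT) T' hT'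
  have h2 : T.all (fun m => mem m T') = true := List.all_eq_true.2 fun m hm => mem_iff.2 (h m hm)
  rw [h2, cond_true] at h1
  exact eq_of_beq h1

theorem ten_g2 {T : List ℕ} (hT : T ∈ TenL) {t : ℕ × List ℕ} (ht : t ∈ SL) : ∃ m ∈ T, app t.1 m ∉ T := by
  obtain ⟨m, hm, h⟩ := List.any_eq_true.1 (List.all_eq_true.1 (List.all_eq_true.1 chkG2 t ht) T hT)
  refine ⟨m, hm, fun hh => ?_⟩
  rw [mem_iff.2 hh] at h
  exact Bool.noConfusion h

theorem ten_g3 {T T' T'' : List ℕ} (hT : T ∈ TenL) (hT' : T' ∈ TenL) (hT'' : T'' ∈ TenL) {m : ℕ} (hm : m ∈ T)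
    (hm' : m ∈ T') (hm'' : m ∈ T'') (h0 : m ≠ 0) (h1 : T ≠ T') (h2 : T ≠ T'') : T' = T'' := by
  have h3 := List.all_eq_true.1 (List.all_eq_true.1 chkG3 T hT) T' hT'
  rw [Bool.or_eq_true] at h3
  rcases h3 with h3 | h3
  · exact absurd (eq_of_beq h3) h1
  · have h4 := List.all_eq_true.1 h3 T'' hT''
    rw [Bool.or_eq_true, Bool.or_eq_true] at h4
    rcases h4 with h4 | h4 | h4
    · exact absurd (eq_of_beq h4) h2
    · exact eq_of_beq h4
    · have h5 := List.all_eq_true.1 h4 m hm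
      rw [mem_iff.2 hm', mem_iff.2 hm'', Bool.or_eq_true] at h5
      rcases h5 with h5 | h5
      · exact absurd (Nat.eq_of_beq_eq_true h5) h0
      · exact Bool.noConfusion h5

/-! ### Translation to the group -/

section group

open Cfsg.Agent.HN.Closing

variable {K : Type*} [Group K] {D S : Set K} {R : Subgroup K} {r : ℕ → K}

/-- The subgroup `R` is coordinatised by masks and the elements of `S` normalising `R` act as the matrices of `SL`. -/
structure Coord (D S : Set K) (R : Subgroup K) (r : ℕ → K) : Prop where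
  zero : r 0 = 1
  xor : ∀ a, a < 256 → ∀ b, b < 256 → r (a ^^^ b) = r a * r b
  inj : ∀ a, a < 256 → ∀ b, b < 256 → r a = r b → a = b
  mem : ∀ x, x ∈ R ↔ ∃ m, m < 256 ∧ r m = x
  hD : ∀ m ∈ DD, r m ∈ D
  hS : ∀ s ∈ S, cj s R = R → ∃ t ∈ SL, ∀ m, m < 256 → s⁻¹ * r m * s = r (app t.1 m)
  hS' : ∀ t ∈ SL, ∃ s ∈ S, cj s R = R ∧ ∀ m, m < 256 → s⁻¹ * r m * s = r (app t.1 m)

theorem Coord.goodM (c : Coord D S R r) {I : Subgroup K} (h : Good D S R I) :
    GoodM (fun m => m < 256 ∧ r m ∈ I) where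
  lt := fun m h => h.1
  zero := ⟨by norm_num, by rw [c.zero]; exact I.one_mem⟩
  xor := by
    rintro a b ⟨ha, ha'⟩ ⟨hb, hb'⟩
    refine ⟨Nat.xor_lt_two_pow (n := 8) ha hb, ?_⟩
    rw [c.xor a ha b hb]
    exact I.mul_mem ha' hb'
  noD := fun m hm h' => h.2.1 _ (c.hD m hm) h'.2
  fix := by
    intro t ht
    obtain ⟨s, hs, hsR, hst⟩ := c.hS' t ht
    obtain ⟨z, hz, hz1, hzs⟩ := h.2.2 s hs hsR
    obtain ⟨m, hm, rfl⟩ := (c.mem z).1 (h.1 hz)
    refine ⟨m, ⟨hm, hz⟩, ?_, ?_⟩
    · rintro rfl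
      exact hz1 c.zero
    · apply c.inj _ (app_lt _ _) _ hm
      rw [← hst m hm, mul_assoc, hzs, ← mul_assoc, inv_mul_cancel, one_mul]

theorem Coord.ten (c : Coord D S R r) {I : Subgroup K} (h : Good D S R I) :
    ∃ T ∈ TenL, ∀ x, x ∈ I ↔ ∃ m ∈ T, r m = x := by
  obtain ⟨T, hT, h1⟩ := (c.goodM h).exists_ten
  refine ⟨T, hT, fun x => ⟨fun hx => ?_, ?_⟩⟩
  · obtain ⟨m, hm, rfl⟩ := (c.mem x).1 (h.1 hx)
    exact ⟨m, (h1 m).1 ⟨hm, hx⟩, rfl⟩
  · rintro ⟨m, hm, rfl⟩
    exact ((h1 m).2 hm).2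

theorem Coord.mem_of (c : Coord D S R r) {T : List ℕ} (hT : T ∈ TenL) {m : ℕ} (hm : m < 256)
    (h : ∃ m' ∈ T, r m' = r m) : m ∈ T := by
  obtain ⟨m', h1, h2⟩ := h
  rwa [← c.inj m' (ten_lt hT h1) m hm h2]

theorem Coord.g1 (c : Coord D S R r) : ∀ I J, Good D S R I → Good D S R J → I ≤ J → I = J := by
  intro I J hI hJ hIJ
  obtain ⟨T, hT, h1⟩ := c.ten hI
  obtain ⟨T', hT', h2⟩ := c.ten hJ
  have h3 : T = T' := ten_g1 hT hT' fun m hm =>
    c.mem_of hT' (ten_lt hT hm) ((h2 _).1 (hIJ ((h1 _).2 ⟨m, hm, rfl⟩)))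
  subst h3
  ext x
  rw [h1, h2]

theorem Coord.g2 (c : Coord D S R r) : ∀ I, Good D S R I → ∀ s ∈ S, cj s R = R → cj s I ≠ I := by
  intro I hI s hs hsR hh
  obtain ⟨T, hT, h1⟩ := c.ten hI
  obtain ⟨t, ht, hst⟩ := c.hS s hs hsR
  obtain ⟨m, hm, hm'⟩ := ten_g2 hT ht
  apply hm'
  apply c.mem_of hT (app_lt _ _)
  rw [← h1, ← hst m (ten_lt hT hm)]
  have h2 : r m ∈ I := (h1 _).2 ⟨m, hm, rfl⟩
  rw [← hh, mem_cj] at h2
  exact h2

theorem Coord.g3 (c : Coord D S R r) : ∀ I J J', Good D S R I → Good D S R J → Good D S R J' → ∀ p, p ≠ 1 → p ∈ I →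
    p ∈ J → p ∈ J' → J ≠ I → J' ≠ I → J = J' := by
  intro I J J' hI hJ hJ' p hp hpI hpJ hpJ' hne hne'
  obtain ⟨T, hT, h1⟩ := c.ten hI
  obtain ⟨T', hT', h2⟩ := c.ten hJ
  obtain ⟨T'', hT'', h3⟩ := c.ten hJ'
  obtain ⟨m, hm, rfl⟩ := (c.mem p).1 (hI.1 hpI)
  have e : T' = T'' := by
    apply ten_g3 hT hT' hT'' (c.mem_of hT hm ((h1 _).1 hpI)) (c.mem_of hT' hm ((h2 _).1 hpJ))
      (c.mem_of hT'' hm ((h3 _).1 hpJ'))
    · rintro rfl
      exact hp c.zero
    · rintro rfl
      apply hne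
      ext x
      rw [h1, h2]
    · rintro rfl
      apply hne'
      ext x
      rw [h1, h3]
  subst e
  ext x
  rw [h2, h3]

end group

end Cfsg.Agent.HN.GoodMask
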