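import Cfsg.Agent.HN.Pres

set_option autoImplicit false

/-!
The homomorphism from the presented group `HN` given by four elements satisfying the relations.
-/

namespace Cfsg.Agent.HN.Hom

open Cfsg Cfsg.Spor Cfsg.Agent.HN.Pres

/-- assignment of the four generators -/
def asg4 {G : Type*} (X Y Z T : G) : Cfsg.Spor.HN.Gen → G
  | HN.Gen.x => X
  | HN.Gen.y => Y
  | HN.Gen.z => Z
  | HN.Gen.t => T

theorem not_mem_cox (r : FreeGroup HN.Gen) : r ∉ coxRelators HN.edges := by
  rintro ⟨x, hx, -⟩
  simp [HN.edges, coxNodes] at hx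

/-- The homomorphism from `HN` given by four elements satisfying the relations. -/
theorem exists_hom {G : Type*} [Group G] {X Y Z T : G} (h : Rels X Y Z) (h5 : T ^ 5 = 1)
    (hx : (X⁻¹ * T * X) * T ^ 2 = 1) (hy : T⁻¹ * Y⁻¹ * T * Y = 1) (hz : (Z * T) ^ 3 = 1) :
    ∃ ψ : Cfsg.Spor.HN →* G, ψ Pres.hx = X ∧ ψ Pres.hy = Y ∧ ψ Pres.hz = Z ∧ ψ Pres.ht = T := by
  have key : ∀ r ∈ coxRelators HN.edges ∪ {r | r ∈ HN.extra},
      FreeGroup.lift (asg4 X Y Z T) r = 1 := by
    rintro r (hr | hr)
    · exact absurd hr (not_mem_cox r)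
    · simp only [HN.extra, Set.mem_setOf_eq, List.mem_cons, List.not_mem_nil, or_false] at hr
      rcases hr with rfl | rfl | rfl | rfl | rfl | rfl | rfl | rfl | rfl | rfl | rfl | rfl | rfl | rfl
      · simpa only [map_mul, map_pow, map_inv, FreeGroup.lift_apply_of, asg4] using h.r1
      · simpa only [map_mul, map_pow, map_inv, FreeGroup.lift_apply_of, asg4] using h.r2
      · simpa only [map_mul, map_pow, map_inv, FreeGroup.lift_apply_of, asg4] using h.r3
      · simpa only [map_mul, map_pow, map_inv, FreeGroup.lift_apply_of, asg4] using h.r4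
      · simpa only [map_mul, map_pow, map_inv, FreeGroup.lift_apply_of, asg4] using h.r5
      · simpa only [map_mul, map_pow, map_inv, FreeGroup.lift_apply_of, asg4] using h.r6
      · simpa only [map_mul, map_pow, map_inv, FreeGroup.lift_apply_of, asg4] using h.r7
      · simpa only [map_mul, map_pow, map_inv, FreeGroup.lift_apply_of, asg4] using h.r8
      · simpa only [map_mul, map_pow, map_inv, FreeGroup.lift_apply_of, asg4] using h.r9
      · simpa only [map_mul, map_pow, map_inv, FreeGroup.lift_apply_of, asg4] using h.r10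
      · simpa only [map_mul, map_pow, map_inv, FreeGroup.lift_apply_of, asg4] using h5
      · simpa only [map_mul, map_pow, map_inv, FreeGroup.lift_apply_of, asg4] using hx
      · simpa only [map_mul, map_pow, map_inv, FreeGroup.lift_apply_of, asg4] using hy
      · simpa only [map_mul, map_pow, map_inv, FreeGroup.lift_apply_of, asg4] using hz
  exact ⟨PresentedGroup.toGroup key, PresentedGroup.toGroup.of _, PresentedGroup.toGroup.of _,
    PresentedGroup.toGroup.of _, PresentedGroup.toGroup.of _⟩

end Cfsg.Agent.HN.Hom
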