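import Cfsg.Agent.HN.HypQuot

set_option autoImplicit false

/-!
Second part: centralisers of the elements of `A` in the even part (Burnside's transfer theorem) and the
contradiction.
-/

namespace Cfsg.Agent.HN.HypQuot2

open Subgroup Equiv Cfsg.Agent.HN.HypQuot
open scoped Pointwise

variable {Q : Type*} [Group Q] {A B : Subgroup Q} {τ y e : Q}

/-- the even part -/
noncomputable def W0 (A : Subgroup Q) [Finite Q] : Subgroup Q := (sg A).ker

theorem mem_W0 [Finite Q] {g : Q} : g ∈ W0 A ↔ sg A g = 1 := Iff.rfl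

section

variable (h : Hyp A B τ y e)
include h

theorem A_le_W0 [Finite Q] : A ≤ W0 A := fun _ ha => sg_A h ha

theorem y_pow_B {b : Q} (hb : b ∈ B) (j : ℕ) : (y ^ j)⁻¹ * b * y ^ j ∈ B := by
  induction j with
  | zero => simpa using hb
  | succ j ih =>
    have e1 : (y ^ (j + 1))⁻¹ * b * y ^ (j + 1) = y⁻¹ * ((y ^ j)⁻¹ * b * y ^ j) * y := by
      rw [pow_succ]; group
    rw [e1]
    exact yB h ih

/-- An element of `W0` normalising `A` is in `A y^j`. -/
theorem normalizer_form [Finite Q] {n : Q} (hn : sg A n = 1) (hnA : ∀ a ∈ A, n⁻¹ * a * n ∈ A) :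
    ∃ p ∈ A, ∃ j < 3, n = p * y ^ j := by
  -- `e^n ∈ B`
  have h1 : n⁻¹ * e * n ∈ B := by
    apply h.hE _ (hnA e (h.hBA h.he))
    rw [isConj_iff]
    exact ⟨n⁻¹, by rw [inv_inv]⟩
  have h2 : n⁻¹ * e * n ≠ 1 := by
    intro h3
    apply h.he1
    have : e = n * (n⁻¹ * e * n) * n⁻¹ := by group
    rw [this, h3, mul_one, mul_inv_cancel]
  have key : ∀ j : ℕ, n⁻¹ * e * n = (y ^ j)⁻¹ * e * y ^ j → n * (y ^ j)⁻¹ ∈ A := by
    intro j hj
    apply cent_even h h.he h.he1
    · have e1 : n * (y ^ j)⁻¹ * e = n * ((y ^ j)⁻¹ * e * y ^ j) * (y ^ j)⁻¹ := by group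
      rw [e1, ← hj]
      group
    · rw [map_mul, hn, map_inv, map_pow, sg_y h, one_pow, inv_one, one_mul]
  have hyi : y * y = y⁻¹ := eq_inv_of_mul_eq_one_left h.hy3
  rcases h.hB4 _ h1 with h3 | h3 | h3 | h3
  · exact absurd h3 h2
  · refine ⟨_, key 0 ?_, 0, by norm_num, ?_⟩
    · rw [h3]; simp
    · simp
  · refine ⟨_, key 1 ?_, 1, by norm_num, ?_⟩
    · rw [h3]; simp
    · simp
  · refine ⟨_, key 2 ?_, 2, by norm_num, ?_⟩
    · rw [h3, pow_two, hyi, inv_inv]
    · group

/-- For `v ∈ A \ B` the centraliser of `v` in `W0` is `A`. -/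
theorem cent_v [Finite Q] {v : Q} (hvA : v ∈ A) (hvB : v ∉ B) {g : Q} (hg : g * v = v * g)
    (hs : sg A g = 1) : g ∈ A := by
  have h2 : Fact (Nat.Prime 2) := ⟨Nat.prime_two⟩
  let C0 : Subgroup Q := W0 A ⊓ centralizer ({v} : Set Q)
  have mem_C0 : ∀ {x : Q}, x ∈ C0 ↔ sg A x = 1 ∧ x * v = v * x := by
    intro x
    constructor
    · rintro ⟨h3, h4⟩
      exact ⟨h3, (mem_centralizer_iff.1 h4 v rfl).symm⟩
    · rintro ⟨h3, h4⟩
      refine ⟨h3, mem_centralizer_iff.2 ?_⟩
      rintro w rfl
      exact h4.symm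
  have hAC : A ≤ C0 := fun a ha => mem_C0.2 ⟨sg_A h ha, comm_A h ha hvA⟩
  -- `A` as a Sylow subgroup of `C0`
  let S : Subgroup C0 := A.subgroupOf C0
  have hSp : IsPGroup 2 S := by
    intro a
    refine ⟨1, Subtype.ext (Subtype.ext ?_)⟩
    rw [pow_one, pow_two]
    exact h.hA _ a.2
  have hSi : ¬ 2 ∣ S.index := by
    -- index of `A` in `C0` divides the index of `P`
    have e1 : (P h).index * 2 = A.index := by
      have h4 := A.card_mul_index
      have h5 := (P h).card_mul_index
      rw [card_P h] at h5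
      have h6 : 0 < Nat.card A := Nat.card_pos
      have h7 : Nat.card A * A.index = Nat.card A * ((P h).index * 2) := by
        rw [h4, ← h5]; ring
      exact (Nat.eq_of_mul_eq_mul_left h6 h7).symm
    have e2 : (W0 A).index = 2 := by
      have h4 : Function.Surjective (sg A) := by
        intro u
        rcases Int.units_eq_one_or u with rfl | rfl
        · exact ⟨1, map_one _⟩
        · exact ⟨τ, sg_τ h⟩
      rw [W0, index_ker, MonoidHom.range_eq_top.2 h4, card_top, Nat.card_eq_fintype_card]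
      rfl
    have e3 : A.relIndex (W0 A) * (W0 A).index = A.index :=
      relIndex_mul_index (A_le_W0 h)
    have e4 : A.relIndex (W0 A) = (P h).index := by
      rw [e2, ← e1] at e3
      omega
    have e5 : A.relIndex C0 * C0.relIndex (W0 A) = A.relIndex (W0 A) :=
      relIndex_mul_relIndex A C0 (W0 A) hAC inf_le_left
    have e6 : S.index = A.relIndex C0 := rfl
    rw [e6]
    intro h7
    apply index_P h
    rw [← e4, ← e5]
    exact Dvd.dvd.mul_right h7 _
  let T : Sylow 2 C0 := hSp.toSylow hSi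
  have hTmem : ∀ x : C0, x ∈ (T : Subgroup C0) ↔ (x : Q) ∈ A := fun x => Iff.rfl
  have hnorm : normalizer (T : Set C0) ≤ centralizer (T : Set C0) := by
    intro n hn
    have h3 : ∀ a ∈ A, (n : Q)⁻¹ * a * n ∈ A := by
      intro a ha
      have h4 : (⟨a, hAC ha⟩ : C0) ∈ (T : Subgroup C0) := ha
      have h5 := (mem_normalizer_iff''.1 hn ⟨a, hAC ha⟩).1 h4
      exact h5
    obtain ⟨p, hp, j, hj, hnp⟩ := normalizer_form h (mem_C0.1 n.2).1 h3
    have hnA : (n : Q) ∈ A := by
      have h4 : y ^ j * v = v * y ^ j := by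
        have h5 := (mem_C0.1 n.2).2
        rw [hnp] at h5
        have h6 := comm_A h hp hvA
        have h7 : p * (y ^ j * v) = p * (v * y ^ j) := by
          calc p * (y ^ j * v) = p * y ^ j * v := by simp only [mul_assoc]
            _ = v * (p * y ^ j) := h5
            _ = (v * p) * y ^ j := by simp only [mul_assoc]
            _ = p * (v * y ^ j) := by rw [← h6]; simp only [mul_assoc]
        exact mul_left_cancel h7
      -- `β v` is fixed by `y^j`
      have hβ := β_mem h hvA
      set w := v * (τ * v * τ) with hw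
      have hyτj : y ^ j * τ = τ * y ^ j := ((show Commute y τ from h.hyτ).pow_left j).eq
      have h5 : y ^ j * w = w * y ^ j := by
        calc y ^ j * w = (y ^ j * v) * (τ * v * τ) := by rw [hw]; simp only [mul_assoc]
          _ = v * (y ^ j * τ) * v * τ := by rw [h4]; simp only [mul_assoc]
          _ = v * τ * (y ^ j * v) * τ := by rw [hyτj]; simp only [mul_assoc]
          _ = v * τ * v * (y ^ j * τ) := by rw [h4]; simp only [mul_assoc]
          _ = w * y ^ j := by rw [hyτj, hw]; simp only [mul_assoc]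
      have hw1 : w ≠ 1 := by
        intro h6
        apply hvB
        rw [← h.hB v hvA]
        have h7 : v * v = 1 := h.hA v hvA
        have h8 : τ * v * τ = v := by
          have : v * (τ * v * τ) = v * v := by rw [h7]; exact h6
          exact mul_left_cancel this
        calc v * τ = (τ * v * τ) * τ := by rw [h8]
          _ = τ * v * (τ * τ) := by simp only [mul_assoc]
          _ = τ * v := by rw [h.hτ2, mul_one]
      -- `y` itself commutes with `w` or `j = 0`
      have hy3 : y ^ 3 = 1 := by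
        rw [pow_succ, pow_two]; exact h.hy3
      have h6 : j = 0 := by
        by_contra hj0
        have h7 : y * w = w * y := by
          have hj' : j = 1 ∨ j = 2 := by omega
          rcases hj' with rfl | rfl
          · rw [pow_one] at h5; exact h5
          · have h8 : Commute (y ^ 2) w := h5
            have h9 : Commute ((y ^ 2) ^ 2) w := h8.pow_left 2
            have h10 : (y ^ 2) ^ 2 = y := by
              rw [← pow_mul, show 2 * 2 = 3 + 1 from rfl, pow_succ, hy3, one_mul]
            rw [h10] at h9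
            exact h9.eq
        have h8 := prod_B h hβ
        have h9 : y⁻¹ * w * y = w := by rw [mul_assoc, ← h7, inv_mul_cancel_left]
        have h10 : y * w * y⁻¹ = w := by rw [h7, mul_inv_cancel_right]
        rw [h9, h10, h.hA w (h.hBA hβ), one_mul] at h8
        exact hw1 h8
      rw [h6, pow_zero, mul_one] at hnp
      rw [hnp]
      exact hp
    rw [mem_centralizer_iff]
    intro x hx
    apply Subtype.ext
    exact comm_A h ((hTmem x).1 hx) hnA
  -- the normal complement
  have hcompl := MonoidHom.ker_transferSylow_isComplement' T hnorm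
  set D := (MonoidHom.transferSylow T hnorm).ker with hD
  have hDA : ∀ d ∈ D, (d : Q) ∈ A → d = 1 := by
    intro d hd hdA
    exact (disjoint_def.1 hcompl.disjoint) hd hdA
  -- elements of `B#` invert `D`
  have hinv : ∀ b : Q, b ∈ B → b ≠ 1 → ∀ d ∈ D, b * (d : Q) * b = (d : Q)⁻¹ := by
    intro b hb hb1
    have hbC : b ∈ C0 := hAC (h.hBA hb)
    let b' : C0 := ⟨b, hbC⟩
    have hbb : b' * b' = 1 := Subtype.ext (h.hA b (h.hBA hb))
    have hbi : b'⁻¹ = b' := inv_eq_of_mul_eq_one_left hbb
    let f : D → D := fun d => ⟨(d : C0)⁻¹ * (b' * d * b'⁻¹),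
      D.mul_mem (D.inv_mem d.2) ((MonoidHom.normal_ker _).conj_mem _ d.2 b')⟩
    have hf : Function.Injective f := by
      intro d1 d2 h12
      have h3 : (d1 : C0)⁻¹ * (b' * d1 * b'⁻¹) = (d2 : C0)⁻¹ * (b' * d2 * b'⁻¹) :=
        congrArg Subtype.val h12
      -- `x = d2 d1⁻¹` commutes with `b'`
      have h4 : (d2 : C0) * (d1 : C0)⁻¹ * b' = b' * ((d2 : C0) * (d1 : C0)⁻¹) := by
        have h5 : (d2 : C0) * ((d1 : C0)⁻¹ * (b' * d1 * b'⁻¹)) * b' * (d1 : C0)⁻¹ =
            (d2 : C0) * ((d2 : C0)⁻¹ * (b' * d2 * b'⁻¹)) * b' * (d1 : C0)⁻¹ := by rw [h3]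
        calc (d2 : C0) * (d1 : C0)⁻¹ * b' =
            (d2 : C0) * ((d1 : C0)⁻¹ * (b' * d1 * b'⁻¹)) * b' * (d1 : C0)⁻¹ := by group
          _ = _ := h5
          _ = b' * ((d2 : C0) * (d1 : C0)⁻¹) := by group
      have h6 : ((d2 : C0) * (d1 : C0)⁻¹) = 1 := by
        apply hDA _ (D.mul_mem d2.2 (D.inv_mem d1.2))
        apply cent_even h hb hb1
        · exact congrArg Subtype.val h4
        · exact (mem_C0.1 ((d2 : C0) * (d1 : C0)⁻¹).2).1
      exact Subtype.ext (mul_inv_eq_one.1 h6).symm
    have hsurj : Function.Surjective f := Finite.surjective_of_injective hf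
    intro d hd
    obtain ⟨x, hx⟩ := hsurj ⟨d, hd⟩
    have h3 : (x : C0)⁻¹ * (b' * x * b'⁻¹) = d := congrArg Subtype.val hx
    have h4 : b' * d * b' = d⁻¹ := by
      rw [← h3, hbi]
      calc b' * ((x : C0)⁻¹ * (b' * x * b')) * b'
          = b' * (x : C0)⁻¹ * b' * x * (b' * b') := by simp only [mul_assoc]
        _ = b' * (x : C0)⁻¹ * b' * x := by rw [hbb, mul_one]
        _ = ((x : C0)⁻¹ * (b' * x * b'))⁻¹ := by
          rw [mul_inv_rev, mul_inv_rev, mul_inv_rev, inv_inv, hbi]; simp only [mul_assoc]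
    exact congrArg Subtype.val h4
  have hD1 : ∀ d ∈ D, d = 1 := by
    intro d hd
    set e' := y⁻¹ * e * y with he'
    have he'1 : e' ≠ 1 := by
      intro h3
      apply h.he1
      have : e = y * (y⁻¹ * e * y) * y⁻¹ := by group
      rw [this, ← he', h3, mul_one, mul_inv_cancel]
    have h3 := hinv e h.he h.he1 d hd
    have h4 := hinv e' h.hye he'1 d hd
    have h5 := hinv e h.he h.he1 d⁻¹ (D.inv_mem hd)
    have h5' : e * (d : Q)⁻¹ * e = d := by
      rw [show ((d⁻¹ : C0) : Q) = (d : Q)⁻¹ from rfl, inv_inv] at h5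
      exact h5
    -- `e e'` commutes with `d`
    have hee : e * e' ∈ B := B.mul_mem h.he h.hye
    have hee1 : e * e' ≠ 1 := by
      rw [he', h.hye3]
      intro h6
      apply h.he1
      have : e = y⁻¹ * (y * e * y⁻¹) * y := by group
      rw [this, h6, mul_one, inv_mul_cancel]
    have h6 : (d : Q) * (e * e') = (e * e') * d := by
      have e1 : e * e' = e' * e := comm_A h (h.hBA h.he) (h.hBA h.hye)
      have e2 : e' * e' = 1 := h.hA e' (h.hBA h.hye)
      calc (d : Q) * (e * e') = e * (d : Q)⁻¹ * e * (e * e') := by rw [h5']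
        _ = e * (d : Q)⁻¹ * (e * e) * e' := by simp only [mul_assoc]
        _ = e * (d : Q)⁻¹ * e' := by rw [h.hA e (h.hBA h.he), mul_one]
        _ = e * (e' * (d : Q) * e') * e' := by rw [h4]
        _ = (e * e') * d * (e' * e') := by simp only [mul_assoc]
        _ = (e * e') * d := by rw [e2, mul_one]
    exact hDA d hd (cent_even h hee hee1 h6 (mem_C0.1 d.2).1)
  -- so `C0 = A`
  have hgC : g ∈ C0 := mem_C0.2 ⟨hs, hg⟩
  have hmul := hcompl.mul_eq
  have hg' : (⟨g, hgC⟩ : C0) ∈ ((D : Set C0) * ((T : Subgroup C0) : Set C0)) := by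
    rw [hmul]; exact Set.mem_univ _
  obtain ⟨d, hd, t, ht, hdt⟩ := hg'
  have h3 := hD1 d hd
  have h4 : t = (⟨g, hgC⟩ : C0) := by
    rw [← hdt]
    change t = d * t
    rw [h3, one_mul]
  have h5 : ((t : C0) : Q) ∈ A := (hTmem t).1 ht
  rw [h4] at h5
  exact h5

/-- **The contradiction.** -/
theorem false_of_hyp [Finite Q] : False := by
  obtain ⟨u, hu, huA⟩ := h.hu
  obtain ⟨v, hvA, hvB⟩ := h.hv
  have hu2 : u * u = 1 := by
    obtain ⟨c, hc⟩ := isConj_iff.1 hu
    rw [← hc]
    calc c * e * c⁻¹ * (c * e * c⁻¹) = c * (e * e) * c⁻¹ := by group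
      _ = 1 := by rw [h.hA e (h.hBA h.he), mul_one, mul_inv_cancel]
  have hv2 : v * v = 1 := h.hA v hvA
  have hui : u⁻¹ = u := inv_eq_of_mul_eq_one_left hu2
  have hvi : v⁻¹ = v := inv_eq_of_mul_eq_one_left hv2
  have hsu : sg A u = 1 := by
    obtain ⟨c, hc⟩ := isConj_iff.1 hu
    rw [← hc, map_mul, map_mul, map_inv, sg_B h h.he, mul_one, mul_inv_cancel]
  have hsv : sg A v = 1 := sg_A h hvA
  set r := u * v with hr
  set m := orderOf r with hm
  have hmpos : 0 < m := orderOf_pos r
  have heven : Even m := by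
    rw [← Nat.not_odd_iff_even]
    rintro ⟨k, hk⟩
    have h1 : r ^ (2 * k + 1) = 1 := by rw [← hk]; exact pow_orderOf_eq_one r
    have h2 := isConj_of_odd hu2 hv2 h1
    exact hvB (h.hE v hvA (hu.trans h2))
  obtain ⟨k, hk⟩ := heven
  have hk0 : 0 < k := by omega
  set w := r ^ k with hw
  have hw2 : w * w = 1 := by rw [hw, ← pow_add, ← hk]; exact pow_orderOf_eq_one r
  have hw1 : w ≠ 1 := by
    intro h1
    have h2 := orderOf_dvd_of_pow_eq_one h1
    have h3 := Nat.le_of_dvd hk0 h2
    omega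
  have hwi : w⁻¹ = w := inv_eq_of_mul_eq_one_left hw2
  have hru : u * r * u = r⁻¹ := by
    rw [hr, mul_inv_rev, hui, hvi]
    calc u * (u * v) * u = (u * u) * v * u := by simp only [mul_assoc]
      _ = v * u := by rw [hu2, one_mul]
  have hwu : w * u = u * w := by
    have h1 : ∀ j : ℕ, u * r ^ j * u = (r ^ j)⁻¹ := by
      intro j
      induction j with
      | zero => simp [hu2]
      | succ j ih =>
        have e1 : u * r ^ (j + 1) * u = (u * r ^ j * u) * (u * r * u) := by
          rw [pow_succ]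
          calc u * (r ^ j * r) * u = u * r ^ j * 1 * r * u := by simp only [mul_assoc, one_mul]
            _ = u * r ^ j * (u * u) * r * u := by rw [hu2]
            _ = _ := by simp only [mul_assoc]
        rw [e1, ih, hru, ← mul_inv_rev, ← pow_succ']
    have h2 := h1 k
    rw [← hw, hwi] at h2
    calc w * u = (u * w * u) * u := by rw [h2]
      _ = u * w * (u * u) := by simp only [mul_assoc]
      _ = u * w := by rw [hu2, mul_one]
  have hwr : w * r = r * w := (((Commute.refl r).pow_left k)).eq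
  have hwv : w * v = v * w := by
    have h1 : v = u * r := by
      rw [hr, ← mul_assoc, hu2, one_mul]
    rw [h1]
    calc w * (u * r) = (w * u) * r := by simp only [mul_assoc]
      _ = u * (w * r) := by rw [hwu]; simp only [mul_assoc]
      _ = u * r * w := by rw [hwr]; simp only [mul_assoc]
  have hsw : sg A w = 1 := by
    rw [hw, map_pow, hr, map_mul, hsu, hsv, one_mul, one_pow]
  have hwA : w ∈ A := cent_v h hvA hvB hwv hsw
  by_cases hwB : w ∈ B
  · exact huA (cent_even h hwB hw1 hwu.symm hsu)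
  · exact huA (cent_v h hwA hwB hwu.symm hsu)

end

end Cfsg.Agent.HN.HypQuot2
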