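import Cfsg.Agent.HN.HypLoc
import Cfsg.Agent.HN.HypQuot2

set_option autoImplicit false

/-!
The local data of `HypLoc.Data` are contradictory.
-/

namespace Cfsg.Agent.HN.HypKill

open Cfsg.Agent.HN.Inv4 Cfsg.Agent.HN.HypLoc Cfsg.Agent.HN

variable {G : Type*} [Group G]

/-- The properties of `t₁`. -/
structure T1D (τ z c e1 e2 t1 : G) : Prop where
  tt : t1 * t1 = 1
  tc : t1 * c = c * t1
  tz : t1 * z = z * t1
  te : t1 * e1 = e1 * t1
  tτ : t1 * τ * t1 = τ * z * e1
  tf : t1 * e2 * t1 = e2 * z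
  C1 : ∀ g, g * c = c * g → g * z = z * g → g * e1 = e1 * g →
      ∃ (i : ℕ) (v : V), g = c ^ i * F τ z e1 e2 v ∨ g = c ^ i * F τ z e1 e2 v * t1
  N : ∀ v, ¬ IsConj τ (F τ z e1 e2 v * t1)

/-- action of `t₁` on `E` -/
def v1 (v : V) : V := (v.1, xor v.2.1 (xor v.1 v.2.2.2), xor v.2.2.1 v.1, v.2.2.2)
/-- action of `t₂` on `E` -/
def v2 (v : V) : V := (v.1, xor v.2.1 (xor v.1 v.2.2.1), v.2.2.1, xor v.2.2.2 v.1)
/-- action of `t₃` on `E` -/
def v3 (v : V) : V := (v.1, xor v.2.1 (xor v.1 (xor v.2.2.1 v.2.2.2)), xor v.2.2.1 v.1,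
  xor v.2.2.2 v.1)

theorem v1_comb : ∀ v : V, comb (true, true, true, false) (false, true, false, false)
    (false, false, true, false) (false, true, false, true) v = v1 v := by decide
theorem vy_v1 : ∀ v : V, vy (v1 v) = v2 (vy v) := by decide
theorem vy_v2 : ∀ v : V, vy (v2 v) = v3 (vy v) := by decide
theorem v2_v1 : ∀ v : V, v2 (v1 v) = v3 v := by decide
theorem v1_v2 : ∀ v : V, v1 (v2 v) = v3 v := by decide
theorem v3_v3 : ∀ v : V, v3 (v3 v) = v := by decide
theorem vy_surj : ∀ v : V, vy (v.1, v.2.1, xor v.2.2.1 v.2.2.2, v.2.2.1) = v := by decide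

/-- inverse of `vy` -/
def vyi (v : V) : V := (v.1, v.2.1, xor v.2.2.1 v.2.2.2, v.2.2.1)

theorem dA : ∀ v : V, lab (add v (v1 v)) = false → add v (v1 v) ≠ (false, true, false, false) →
    v.1 = false ∧ v.2.2.2 = false := by decide
theorem dB : ∀ v : V, lab (add v (v2 v)) = false → add v (v2 v) ≠ (false, true, false, false) →
    v.1 = false ∧ v.2.2.1 = false := by decide
theorem dC : ∀ (v : V) (b : Bool), lab (add (add v (v3 v)) (false, b, false, false)) = false →
    v.1 = false := by decide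
theorem dD : ∀ v : V, lab v = false → lab (add v (false, true, false, false)) = false → v.2.2.1 = false ∧
    v.2.2.2 = false := by decide

variable {τ z c e1 e2 t y s t1 : G}

section

variable (h : Data τ z c e1 e2 t y s) (k : T1D τ z c e1 e2 t1)
include h

theorem F_eq_one {v : V} (hv : F τ z e1 e2 v = 1) : lab v = false ∧ v ≠ (false, true, false, false) := by
  constructor
  · rw [← Bool.not_eq_true, ← hK h, hv]
    exact not_K_one h.τ1
  · rintro rfl
    rw [F_0100] at hv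
    exact h.z1 hv

/-- comparison of a power of `c` with an element of `E`. -/
theorem c_pow_of_mem {i : ℕ} {v : V} (hi : c ^ i * c ^ i = F τ z e1 e2 v) : c ^ i = 1 := by
  have h5 : (c ^ i * c ^ i) * (c ^ i * c ^ i) = 1 := by rw [hi, F_sq h.I]
  have h6 : c ^ i * c ^ i = 1 := by
    have h7 : c ^ (i + i) * c ^ (i + i) = 1 := by rw [pow_add]; exact h5
    have := c_pow_eq_one h h7
    rwa [pow_add] at this
  exact c_pow_eq_one h h6

theorem cpow_F (i : ℕ) (v : V) : Commute (c ^ i) (F τ z e1 e2 v) :=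
  (show Commute c _ from c_F h v).pow_left i

include k

theorem t1_F (v : V) : t1 * F τ z e1 e2 v * t1 = F τ z e1 e2 (v1 v) := by
  have hti : t1⁻¹ = t1 := inv_eq_of_mul_eq_one_left k.tt
  have e0 : t1 * F τ z e1 e2 v * t1 = cj t1 (F τ z e1 e2 v) := by rw [cj_apply, hti]
  rw [e0, map_comb h.I (cj t1) (w0 := (true, true, true, false)) (w1 := (false, true, false, false))
    (w2 := (false, false, true, false)) (w3 := (false, true, false, true)), v1_comb]
  · rw [cj_apply, hti, k.tτ]; simp [F]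
  · rw [cj_of_comm k.tz, F_0100]
  · rw [cj_of_comm k.te, F_0010]
  · rw [cj_apply, hti, k.tf]; simp [F, h.I.qs]

theorem t2_F (v : V) : cj y t1 * F τ z e1 e2 v * cj y t1 = F τ z e1 e2 (v2 v) := by
  have e1' : F τ z e1 e2 v = cj y (F τ z e1 e2 (vyi v)) := by
    rw [cj_F_y h]
    exact congrArg _ (vy_surj v).symm
  rw [e1', ← map_mul, ← map_mul, t1_F h k, cj_F_y h, vy_v1]
  exact congrArg (fun w => F τ z e1 e2 (v2 w)) (vy_surj v)

theorem t3_F (v : V) : cj y (cj y t1) * F τ z e1 e2 v * cj y (cj y t1) = F τ z e1 e2 (v3 v) := by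
  have e1' : F τ z e1 e2 v = cj y (F τ z e1 e2 (vyi v)) := by
    rw [cj_F_y h]
    exact congrArg _ (vy_surj v).symm
  rw [e1', ← map_mul, ← map_mul, t2_F h k, cj_F_y h, vy_v2]
  exact congrArg (fun w => F τ z e1 e2 (v3 w)) (vy_surj v)

theorem t2t2 : cj y t1 * cj y t1 = 1 := by rw [← map_mul, k.tt, map_one]
theorem t3t3 : cj y (cj y t1) * cj y (cj y t1) = 1 := by rw [← map_mul, t2t2 h k, map_one]

theorem t2c : cj y t1 * c = c * cj y t1 := by
  have := cj_comm (g := y) k.tc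
  rwa [cj_of_comm h.cy.symm] at this
theorem t3c : cj y (cj y t1) * c = c * cj y (cj y t1) := by
  have := cj_comm (g := y) (t2c h k)
  rwa [cj_of_comm h.cy.symm] at this

theorem N2 (v : V) : ¬ IsConj τ (F τ z e1 e2 v * cj y t1) := by
  have e1' : F τ z e1 e2 v = cj y (F τ z e1 e2 (vyi v)) := by
    rw [cj_F_y h]
    exact congrArg _ (vy_surj v).symm
  rw [e1', ← map_mul, isConj_cj]
  exact k.N _

theorem N3 (v : V) : ¬ IsConj τ (F τ z e1 e2 v * cj y (cj y t1)) := by
  have e1' : F τ z e1 e2 v = cj y (F τ z e1 e2 (vyi v)) := by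
    rw [cj_F_y h]
    exact congrArg _ (vy_surj v).symm
  rw [e1', ← map_mul, isConj_cj]
  exact N2 h k _

/-- elements commuting with `c` and `E`. -/
theorem cent_E {g : G} (hc : g * c = c * g) (hE : ∀ v, g * F τ z e1 e2 v = F τ z e1 e2 v * g) :
    ∃ (i : ℕ) (v : V), g = c ^ i * F τ z e1 e2 v := by
  have hz : g * z = z * g := by
    have := hE (false, true, false, false)
    rwa [F_0100] at this
  have he : g * e1 = e1 * g := by
    have := hE (false, false, true, false)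
    rwa [F_0010] at this
  have hτ : g * τ = τ * g := by
    have := hE (true, false, false, false)
    rwa [F_1000] at this
  obtain ⟨i, v, h1 | h1⟩ := k.C1 g hc hz he
  · exact ⟨i, v, h1⟩
  · exfalso
    -- `t₁` commutes with `τ`
    have h2 : t1 = (c ^ i * F τ z e1 e2 v)⁻¹ * g := by rw [h1, inv_mul_cancel_left]
    have h3 : Commute (c ^ i * F τ z e1 e2 v) τ := by
      have h4 : Commute (c ^ i) τ := (show Commute c τ from h.cτ).pow_left i
      have h5 : Commute (F τ z e1 e2 v) τ := by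
        have := F_comm h.I v (true, false, false, false)
        rwa [F_1000] at this
      exact h4.mul_left h5
    have h4 : Commute t1 τ := by
      rw [h2]
      exact h3.inv_left.mul_left hτ
    have h5 : t1 * τ * t1 = τ := by rw [h4.eq, mul_assoc, k.tt, mul_one]
    rw [k.tτ] at h5
    have h6 : z * e1 = 1 := by
      have h7 : τ * (z * e1) = τ * 1 := by rw [mul_one, ← mul_assoc]; exact h5
      exact mul_left_cancel h7
    have h7 := h.K2
    rw [h6] at h7
    exact not_K_one h.τ1 h7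

/-- `t₁` and `t₂` commute up to `z`. -/
theorem t1t2 : ∃ b : Bool, t1 * cj y t1 * (t1 * cj y t1) = bp b z := by
  set t2 := cj y t1 with ht2
  set g := t1 * t2 * (t1 * t2) with hg
  have t2t2' : t2 * t2 = 1 := t2t2 h k
  have hc : g * c = c * g := by
    have c1 : Commute t1 c := k.tc
    have c2 : Commute t2 c := t2c h k
    exact ((c1.mul_left c2).mul_left (c1.mul_left c2)).eq
  have hE : ∀ v, g * F τ z e1 e2 v = F τ z e1 e2 v * g := by
    intro v
    have e1' : ∀ w, t1 * F τ z e1 e2 w = F τ z e1 e2 (v1 w) * t1 := by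
      intro w
      rw [← t1_F h k, mul_assoc _ t1 t1, k.tt, mul_one]
    have e2' : ∀ w, t2 * F τ z e1 e2 w = F τ z e1 e2 (v2 w) * t2 := by
      intro w
      rw [← t2_F h k, mul_assoc _ (cj y t1) (cj y t1), t2t2 h k, mul_one]
    calc g * F τ z e1 e2 v = t1 * (t2 * (t1 * (t2 * F τ z e1 e2 v))) := by
          rw [hg]; simp only [mul_assoc]
      _ = t1 * (t2 * (t1 * (F τ z e1 e2 (v2 v) * t2))) := by rw [e2']
      _ = t1 * (t2 * ((t1 * F τ z e1 e2 (v2 v)) * t2)) := by simp only [mul_assoc]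
      _ = t1 * ((t2 * F τ z e1 e2 (v1 (v2 v))) * t1 * t2) := by rw [e1']; simp only [mul_assoc]
      _ = (t1 * F τ z e1 e2 (v2 (v1 (v2 v)))) * t2 * t1 * t2 := by rw [e2']; simp only [mul_assoc]
      _ = F τ z e1 e2 (v1 (v2 (v1 (v2 v)))) * (t1 * t2 * t1 * t2) := by
          rw [e1']; simp only [mul_assoc]
      _ = F τ z e1 e2 v * g := by rw [v1_v2, v1_v2, v3_v3, hg]; simp only [mul_assoc]
  obtain ⟨i, v, hgv⟩ := cent_E h k hc hE
  -- `t₁ g t₁ = g⁻¹`
  have hginv : g⁻¹ = t2 * t1 * (t2 * t1) := by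
    have i1 : t1⁻¹ = t1 := inv_eq_of_mul_eq_one_left k.tt
    have i2 : t2⁻¹ = t2 := inv_eq_of_mul_eq_one_left t2t2'
    rw [hg, mul_inv_rev, mul_inv_rev, i1, i2]
  have h1 : t1 * g * t1 = g⁻¹ := by
    rw [hginv, hg]
    calc t1 * (t1 * t2 * (t1 * t2)) * t1 = (t1 * t1) * t2 * t1 * t2 * t1 := by
          simp only [mul_assoc]
      _ = t2 * t1 * (t2 * t1) := by rw [k.tt, one_mul]; simp only [mul_assoc]
  have h2 : t2 * g * t2 = g⁻¹ := by
    rw [hginv, hg]
    calc t2 * (t1 * t2 * (t1 * t2)) * t2 = t2 * t1 * t2 * t1 * (t2 * t2) := by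
          simp only [mul_assoc]
      _ = t2 * t1 * (t2 * t1) := by rw [t2t2', mul_one]; simp only [mul_assoc]
  have hinv : g⁻¹ * (c ^ i * F τ z e1 e2 v) = 1 := by rw [← hgv, inv_mul_cancel]
  have h3 : t1 * g * t1 = c ^ i * F τ z e1 e2 (v1 v) := by
    have c1 : Commute t1 (c ^ i) := (show Commute t1 c from k.tc).pow_right i
    rw [hgv, ← t1_F h k]
    calc t1 * (c ^ i * F τ z e1 e2 v) * t1 = (t1 * c ^ i) * F τ z e1 e2 v * t1 := by
          simp only [mul_assoc]
      _ = c ^ i * (t1 * F τ z e1 e2 v * t1) := by rw [c1.eq]; simp only [mul_assoc]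
  have h4 : t2 * g * t2 = c ^ i * F τ z e1 e2 (v2 v) := by
    have c1 : Commute t2 (c ^ i) := (show Commute t2 c from t2c h k).pow_right i
    rw [hgv, ← t2_F h k]
    calc t2 * (c ^ i * F τ z e1 e2 v) * t2 = (t2 * c ^ i) * F τ z e1 e2 v * t2 := by
          simp only [mul_assoc]
      _ = c ^ i * (t2 * F τ z e1 e2 v * t2) := by rw [c1.eq]; simp only [mul_assoc]
  have key : ∀ w : V, g⁻¹ = c ^ i * F τ z e1 e2 w →
      c ^ i * c ^ i = F τ z e1 e2 (add w v) := by
    intro w hw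
    rw [hw] at hinv
    have e1' : c ^ i * F τ z e1 e2 w * (c ^ i * F τ z e1 e2 v) =
        c ^ i * c ^ i * F τ z e1 e2 (add w v) := by
      rw [(cpow_F h i w).symm.mul_mul_mul_comm, F_mul h.I]
    rw [e1'] at hinv
    have := eq_inv_of_mul_eq_one_left hinv
    rwa [F_inv h.I] at this
  have h5 := key (v1 v) (h1.symm.trans h3)
  have h6 := key (v2 v) (h2.symm.trans h4)
  have hci : c ^ i = 1 := c_pow_of_mem h h5
  rw [hci, one_mul] at h5 h6
  have ac : ∀ a b : V, add a b = add b a := by decide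
  rw [ac] at h5 h6
  obtain ⟨l1, l2⟩ := F_eq_one h h5.symm
  obtain ⟨l3, l4⟩ := F_eq_one h h6.symm
  obtain ⟨m1, m2⟩ := dA v l1 l2
  obtain ⟨m3, m4⟩ := dB v l3 l4
  refine ⟨v.2.1, ?_⟩
  rw [hgv, hci, one_mul]
  rcases v with ⟨a, b, c', d⟩
  simp only at m1 m2 m4
  subst m1 m2 m4
  simp [F]

/-- `t₃ = F v t₁ t₂` with `v.1 = false`. -/
theorem exists_t3 : ∃ v : V, v.1 = false ∧ cj y (cj y t1) = F τ z e1 e2 v * (t1 * cj y t1) := by
  obtain ⟨b, hb⟩ := t1t2 h k
  set t2 := cj y t1 with ht2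
  set t3 := cj y t2 with ht3
  have t2t2' : t2 * t2 = 1 := t2t2 h k
  have t3t3' : t3 * t3 = 1 := t3t3 h k
  have e1' : ∀ w, t1 * F τ z e1 e2 w = F τ z e1 e2 (v1 w) * t1 := by
    intro w
    rw [← t1_F h k, mul_assoc _ t1 t1, k.tt, mul_one]
  have e2' : ∀ w, t2 * F τ z e1 e2 w = F τ z e1 e2 (v2 w) * t2 := by
    intro w
    rw [← t2_F h k, mul_assoc _ (cj y t1) (cj y t1), t2t2 h k, mul_one]
  have e3' : ∀ w, t3 * F τ z e1 e2 w = F τ z e1 e2 (v3 w) * t3 := by
    intro w
    rw [← t3_F h k, mul_assoc _ (cj y (cj y t1)) (cj y (cj y t1)), t3t3 h k, mul_one]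
  set g := t3 * t2 * t1 with hg
  have hc : g * c = c * g := by
    have c1 : Commute t1 c := k.tc
    have c2 : Commute t2 c := t2c h k
    have c3 : Commute t3 c := t3c h k
    exact ((c3.mul_left c2).mul_left c1).eq
  have hE : ∀ v, g * F τ z e1 e2 v = F τ z e1 e2 v * g := by
    intro v
    calc g * F τ z e1 e2 v = t3 * (t2 * (t1 * F τ z e1 e2 v)) := by
          rw [hg]; simp only [mul_assoc]
      _ = t3 * ((t2 * F τ z e1 e2 (v1 v)) * t1) := by rw [e1']; simp only [mul_assoc]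
      _ = (t3 * F τ z e1 e2 (v2 (v1 v))) * t2 * t1 := by rw [e2']; simp only [mul_assoc]
      _ = F τ z e1 e2 v * g := by rw [e3', v2_v1, v3_v3, hg]; simp only [mul_assoc]
  obtain ⟨i, v, hgv⟩ := cent_E h k hc hE
  have h1 : t3 = c ^ i * F τ z e1 e2 v * (t1 * t2) := by
    rw [← hgv, hg]
    calc t3 = t3 * (t2 * (t1 * t1) * t2) := by rw [k.tt, mul_one, t2t2', mul_one]
      _ = t3 * t2 * t1 * (t1 * t2) := by simp only [mul_assoc]
  -- square
  have h2 : c ^ i * c ^ i * F τ z e1 e2 (add (add v (v3 v)) (false, b, false, false)) = 1 := by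
    have cc1 : Commute (t1 * t2) (c ^ i) :=
      ((show Commute t1 c from k.tc).mul_left (show Commute t2 c from t2c h k)).pow_right i
    have h3 : (t1 * t2) * F τ z e1 e2 v = F τ z e1 e2 (v3 v) * (t1 * t2) := by
      calc (t1 * t2) * F τ z e1 e2 v = t1 * (t2 * F τ z e1 e2 v) := by simp only [mul_assoc]
        _ = (t1 * F τ z e1 e2 (v2 v)) * t2 := by rw [e2']; simp only [mul_assoc]
        _ = F τ z e1 e2 (v3 v) * (t1 * t2) := by rw [e1', v1_v2]; simp only [mul_assoc]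
    have h4 : F τ z e1 e2 (false, b, false, false) = bp b z := by simp [F]
    rw [← t3t3', h1, ← F_mul h.I, ← F_mul h.I, h4, ← hb]
    calc c ^ i * c ^ i * (F τ z e1 e2 v * F τ z e1 e2 (v3 v) * (t1 * t2 * (t1 * t2)))
        = c ^ i * (c ^ i * F τ z e1 e2 v) * (F τ z e1 e2 (v3 v) * (t1 * t2)) * (t1 * t2) := by
          simp only [mul_assoc]
      _ = c ^ i * (F τ z e1 e2 v * c ^ i) * ((t1 * t2) * F τ z e1 e2 v) * (t1 * t2) := by
          rw [(cpow_F h i v).eq, h3]
      _ = c ^ i * F τ z e1 e2 v * (c ^ i * (t1 * t2)) * F τ z e1 e2 v * (t1 * t2) := by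
          simp only [mul_assoc]
      _ = c ^ i * F τ z e1 e2 v * ((t1 * t2) * c ^ i) * F τ z e1 e2 v * (t1 * t2) := by
          rw [cc1.eq]
      _ = _ := by simp only [mul_assoc]
  have h3 : c ^ i * c ^ i = F τ z e1 e2 (add (add v (v3 v)) (false, b, false, false)) := by
    have := eq_inv_of_mul_eq_one_left h2
    rwa [F_inv h.I] at this
  have hci := c_pow_of_mem h h3
  rw [hci, one_mul] at h3
  obtain ⟨l1, -⟩ := F_eq_one h h3.symm
  refine ⟨v, dC v b l1, ?_⟩
  rw [hci, one_mul] at h1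
  exact h1

theorem N12 (v : V) : ¬ IsConj τ (F τ z e1 e2 v * (t1 * cj y t1)) := by
  obtain ⟨w, -, hw⟩ := exists_t3 h k
  have h1 : F τ z e1 e2 v * (t1 * cj y t1) = F τ z e1 e2 (add v w) * cj y (cj y t1) := by
    rw [hw, ← F_mul h.I]
    calc F τ z e1 e2 v * (t1 * cj y t1) =
        F τ z e1 e2 v * (F τ z e1 e2 w * F τ z e1 e2 w) * (t1 * cj y t1) := by
          rw [F_sq h.I, mul_one]
      _ = _ := by simp only [mul_assoc]
  rw [h1]
  exact N3 h k _

end

end Cfsg.Agent.HN.HypKill
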