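import Cfsg.Agent.HN.Inv4

set_option autoImplicit false

/-!
The case "`d` is conjugate to `τ`" in groups of Harada–Norton type: local data, and the element `t₁` of
`C(c, z, e₁)`.
-/

namespace Cfsg.Agent.HN.HypLoc

open Cfsg.Agent.HN.Inv4

variable {G : Type*} [Group G]

/-- The data: relations in `H = C(τ)`, classes, centraliser of `c` and `e₁` in `H`. -/
structure Data (τ z c e1 e2 t y s : G) : Prop where
  I : I4 τ z e1 e2
  tt : t * t = 1
  ccc : c * c * c = 1
  c1 : c ≠ 1
  cτ : c * τ = τ * c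
  cz : c * z = z * c
  ce : c * e1 = e1 * c
  cf : c * e2 = e2 * c
  ct : c * t = t * c
  cy : c * y = y * c
  tτ : t * τ = τ * t
  te : t * e1 = e1 * t
  tz : t * z * t = τ * z
  tf : t * e2 * t = e1 * e2
  yyy : y * y * y = 1
  yτ : y * τ = τ * y
  yz : y * z = z * y
  ye : y⁻¹ * e1 * y = e2
  yf : y⁻¹ * e2 * y = e1 * e2
  τ1 : τ ≠ 1
  z1 : z ≠ 1
  sc : s * c = c * s
  sz : s * z = z * s
  s5 : (s⁻¹ * e1 * s * e1) ^ 5 = 1
  s1 : s⁻¹ * e1 * s * e1 ≠ 1
  K1 : IsConj τ e1
  K2 : IsConj τ (z * e1)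
  K3 : IsConj τ (τ * z * e1)
  N1 : ¬ IsConj τ z
  N2 : ¬ IsConj τ (τ * z)
  N3 : ¬ IsConj τ (τ * e1)
  N4 : ¬ IsConj τ t
  f2 : ∀ g, g * τ = τ * g → g * c = c * g → g * e1 = e1 * g →
    ∃ (i : ℕ) (v : V), g = c ^ i * F τ z e1 e2 v ∨ g = c ^ i * F τ z e1 e2 v * t
  T1 : ∀ x, x * x = 1 → x ≠ 1 → x * τ = τ * x → ¬ IsConj τ x → IsConj τ (τ * x) →
    ∃ h, h * τ = τ * h ∧ h⁻¹ * x * h = τ * e1
  T2 : ∀ x, x * x * x = 1 → x ≠ 1 → x * τ = τ * x → x * e1 = e1 * x →
    ∃ h, h * τ = τ * h ∧ h * e1 = e1 * h ∧ (h⁻¹ * x * h = c ∨ h⁻¹ * x * h = c⁻¹)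

/-- labels -/
def lab (v : V) : Bool :=
  bif v.2.2.1 || v.2.2.2 then !(v.1 && !v.2.1) else (v.1 && !v.2.1)

/-- action of `y` on the bits -/
def vy (v : V) : V := (v.1, v.2.1, v.2.2.2, xor v.2.2.1 v.2.2.2)

/-- action of `t` on the bits -/
def vt (v : V) : V := (xor v.1 v.2.1, v.2.1, xor v.2.2.1 v.2.2.2, v.2.2.2)

theorem lab_vy : ∀ v : V, lab (vy v) = lab v := by decide

theorem dec1 : ∀ b d : Bool, add (false, b, false, d) (vt (false, b, false, d)) = (b, false, d, false) := by
  decide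

theorem dec2 : ∀ v : V, v.2.1 = true → v.2.2.2 = true → add v (vt v) = (true, false, true, false) := by
  decide

theorem dec3 : ∀ v : V, lab (add v (vt v)) = false → (v.2.1 = true ∧ v.2.2.2 = true) ∨
    (v.2.1 = false ∧ v.2.2.2 = false) := by
  decide

theorem dec4 : ∀ v : V, lab v = true → lab (add v (true, false, false, false)) = false →
    lab (add v (true, false, true, false)) = false → lab (add v (false, false, true, false)) = true →
    v.2.1 = false ∧ v.2.2.2 = true := by
  decide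

theorem dec5 : ∀ v : V, lab v = true → lab (add v (true, false, false, false)) = true →
    lab (add v (true, false, true, false)) = true → lab (add v (false, false, true, false)) = true →
    v.2.1 = true ∧ v.2.2.2 = true := by
  decide

theorem dec7 : ∀ v : V, v.2.1 = false → v.2.2.2 = true → vt v = add v (false, false, true, false) := by
  decide

theorem dec6 : ∀ v : V, v.2.1 = true → v.2.2.2 = true → vt v = add v (true, false, true, false) := by
  decide

variable {τ z c e1 e2 t y s : G}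

theorem not_K_one (h : τ ≠ 1) : ¬ IsConj τ (1 : G) := by
  intro h1
  apply h
  obtain ⟨g, hg⟩ := isConj_iff.1 h1
  rw [mul_inv_eq_one] at hg
  exact mul_eq_left.1 hg

section

variable (h : Data τ z c e1 e2 t y s)
include h

theorem cj_F_y (v : V) : cj y (F τ z e1 e2 v) = F τ z e1 e2 (vy v) := by
  rw [map_F, cj_of_comm h.yτ, cj_of_comm h.yz, cj_apply y e1, cj_apply y e2, h.ye, h.yf]
  have he : e1 * (e2 * e2) = e1 := by rw [h.I.ss, mul_one]
  have he' : e2 * (e1 * e2) = e1 := by
    rw [← mul_assoc, ← h.I.rs, mul_assoc, h.I.ss, mul_one]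
  rcases v with ⟨a, b, _ | _, _ | _⟩ <;> simp [F, vy, he']

/-- labels are correct -/
theorem hK (v : V) : IsConj τ (F τ z e1 e2 v) ↔ lab v = true := by
  have base : ∀ a b : Bool, (IsConj τ (F τ z e1 e2 (a, b, false, false)) ↔
      lab (a, b, false, false) = true) ∧ (IsConj τ (F τ z e1 e2 (a, b, true, false)) ↔
      lab (a, b, true, false) = true) := by
    have k0 := not_K_one h.τ1
    have k1 := h.K1
    have k2 := h.K2
    have k3 := h.K3
    have n1 := h.N1
    have n2 := h.N2
    have n3 := h.N3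
    intro a b
    rcases a with _ | _ <;> rcases b with _ | _ <;> refine ⟨?_, ?_⟩ <;>
      simp only [F, bp_true, bp_false, one_mul, mul_one]
    · exact iff_of_false k0 (by decide)
    · exact iff_of_true k1 rfl
    · exact iff_of_false n1 (by decide)
    · exact iff_of_true k2 rfl
    · exact iff_of_true (IsConj.refl _) rfl
    · exact iff_of_false n3 (by decide)
    · exact iff_of_false n2 (by decide)
    · exact iff_of_true k3 rfl
  have step : ∀ v : V, (IsConj τ (F τ z e1 e2 v) ↔ lab v = true) →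
      (IsConj τ (F τ z e1 e2 (vy v)) ↔ lab (vy v) = true) := by
    intro v hv
    rw [← cj_F_y h, isConj_cj, hv, lab_vy]
  rcases v with ⟨a, b, _ | _, _ | _⟩
  · exact (base a b).1
  · exact step (a, b, true, false) (base a b).2
  · exact (base a b).2
  · exact step (a, b, false, true) (step (a, b, true, false) (base a b).2)

theorem t_F (v : V) : t * F τ z e1 e2 v * t = F τ z e1 e2 (vt v) := by
  have hti : t⁻¹ = t := inv_eq_of_mul_eq_one_left h.tt
  have e0 : t * F τ z e1 e2 v * t = cj t (F τ z e1 e2 v) := by rw [cj_apply, hti]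
  have e1' : cj t z = τ * z := by rw [cj_apply, hti]; exact h.tz
  have e2' : cj t e2 = e1 * e2 := by rw [cj_apply, hti]; exact h.tf
  rw [e0, map_F, cj_of_comm h.tτ, cj_of_comm h.te, e1', e2']
  have h1 : τ * (τ * z) = z := by rw [← mul_assoc, h.I.pp, one_mul]
  have h2 : e1 * (e1 * e2) = e2 := by rw [← mul_assoc, h.I.rr, one_mul]
  rcases v with ⟨_ | _, _ | _, _ | _, _ | _⟩ <;> simp [F, vt, h1, h2]

theorem c_F (v : V) : c * F τ z e1 e2 v = F τ z e1 e2 v * c :=
  F_commute h.cτ h.cz h.ce h.cf v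

theorem c3 : c ^ 3 = 1 := by rw [pow_succ, pow_two]; exact h.ccc

/-- powers of `c` which are squares-trivial. -/
theorem c_pow_eq_one {i : ℕ} (hi : c ^ i * c ^ i = 1) : c ^ i = 1 := by
  have h1 : c ^ i * (c ^ i * c ^ i) = 1 := by
    rw [← pow_add, ← pow_add, show i + (i + i) = 3 * i by ring, pow_mul, c3 h, one_pow]
  rwa [hi, mul_one] at h1

/-- Involutions in the coset `E t` are conjugate to `t`. -/
theorem conj_t {v : V} (hv : (F τ z e1 e2 v * t) * (F τ z e1 e2 v * t) = 1) :
    IsConj t (F τ z e1 e2 v * t) := by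
  set f := F τ z e1 e2 with hf
  -- candidates: conjugating elements `F (false, b, false, d)`
  have key : ∀ b d : Bool, (f (false, b, false, d)) * t * (f (false, b, false, d))⁻¹ =
      f (b, false, d, false) * t := by
    intro b d
    rw [F_inv h.I]
    have e1 : t * f (false, b, false, d) = (t * f (false, b, false, d) * t) * t := by
      rw [mul_assoc _ t t, h.tt, mul_one]
    rw [mul_assoc, e1, hf, t_F h, ← mul_assoc, F_mul h.I, dec1]
  -- the condition `v = (a, false, c, false)`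
  have h1 : f (add v (vt v)) = 1 := by
    rw [hf, ← F_mul h.I, ← t_F h]
    calc F τ z e1 e2 v * (t * F τ z e1 e2 v * t) = (F τ z e1 e2 v * t) * (F τ z e1 e2 v * t) := by
          simp only [mul_assoc]
      _ = 1 := hv
  have h2 : ¬ IsConj τ (f (add v (vt v))) := by
    rw [h1]; exact not_K_one h.τ1
  have h3 : v.2.1 = false ∧ v.2.2.2 = false := by
    rw [hK h, Bool.not_eq_true] at h2
    rcases dec3 v h2 with h4 | h4
    · -- then the product is `τ e1`
      exfalso
      have h5 : f (true, false, true, false) = 1 := by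
        rw [← h1, dec2 v h4.1 h4.2]
      have h6 : τ * e1 = 1 := by
        have := h5
        simp only [hf, F, bp_true, bp_false, mul_one] at this
        exact this
      have h7 : e1 = τ := by
        have h8 : τ * e1 = τ * τ := by rw [h6, h.I.pp]
        exact mul_left_cancel h8
      -- then `z e1 = τ z`
      apply h.N2
      have h9 := h.K2
      rw [h7, ← h.I.pq] at h9
      exact h9
    · exact h4
  rw [isConj_iff]
  refine ⟨f (false, v.1, false, v.2.2.1), ?_⟩
  rw [key]
  congr 2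
  rcases v with ⟨a, b, c', d⟩
  obtain ⟨rfl, rfl⟩ := h3
  rfl

theorem not_K_t {v : V} : ¬ IsConj τ (F τ z e1 e2 v * t) := by
  intro hK
  have h1 : (F τ z e1 e2 v * t) * (F τ z e1 e2 v * t) = 1 := by
    obtain ⟨g, hg⟩ := isConj_iff.1 hK
    rw [← hg]
    calc g * τ * g⁻¹ * (g * τ * g⁻¹) = g * (τ * τ) * g⁻¹ := by group
      _ = 1 := by rw [h.I.pp, mul_one, mul_inv_cancel]
  exact h.N4 (hK.trans (conj_t h h1).symm)

/-- An involution in `C_H(c, e1)` which is conjugate to `τ` lies in `E`. -/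
theorem mem_E {x : G} (hx : IsConj τ x) (hτ : x * τ = τ * x) (hc : x * c = c * x)
    (he : x * e1 = e1 * x) : ∃ v, x = F τ z e1 e2 v := by
  have hxx : x * x = 1 := by
    obtain ⟨g, hg⟩ := isConj_iff.1 hx
    rw [← hg]
    calc g * τ * g⁻¹ * (g * τ * g⁻¹) = g * (τ * τ) * g⁻¹ := by group
      _ = 1 := by rw [h.I.pp, mul_one, mul_inv_cancel]
  obtain ⟨i, v, h1 | h1⟩ := h.f2 x hτ hc he
  · refine ⟨v, ?_⟩
    have hcF : Commute (c ^ i) (F τ z e1 e2 v) := (show Commute c _ from c_F h v).pow_left i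
    have h2 : c ^ i * c ^ i = 1 := by
      rw [h1] at hxx
      rw [hcF.symm.mul_mul_mul_comm, F_sq h.I, mul_one] at hxx
      exact hxx
    rw [h1, c_pow_eq_one h h2, one_mul]
  · exfalso
    have hcF : Commute (c ^ i) (F τ z e1 e2 v) := (show Commute c _ from c_F h v).pow_left i
    have hct : Commute (c ^ i) t := (show Commute c _ from h.ct).pow_left i
    have hcFt : Commute (c ^ i) (F τ z e1 e2 v * t) := hcF.mul_right hct
    have h2 : c ^ i * c ^ i * (((F τ z e1 e2 v * t)) * (F τ z e1 e2 v * t)) = 1 := by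
      rw [h1, mul_assoc (c ^ i)] at hxx
      rw [hcFt.symm.mul_mul_mul_comm] at hxx
      exact hxx
    -- `(f t)^2` is in `E`, of order dividing 2
    have h3 : (F τ z e1 e2 v * t) * (F τ z e1 e2 v * t) =
        F τ z e1 e2 (add v (vt v)) := by
      rw [← F_mul h.I, ← t_F h]
      simp only [mul_assoc]
    rw [h3] at h2
    set w := add v (vt v)
    have h4 : c ^ i * c ^ i = F τ z e1 e2 w := by
      have := eq_inv_of_mul_eq_one_left h2
      rw [F_inv h.I] at this
      exact this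
    have h5 : (c ^ i * c ^ i) * (c ^ i * c ^ i) = 1 := by rw [h4, F_sq h.I]
    have h6 : c ^ i * c ^ i = 1 := by
      have h7 : c ^ (i + i) * c ^ (i + i) = 1 := by rw [pow_add]; exact h5
      have := c_pow_eq_one h h7
      rwa [pow_add] at this
    have h7 := c_pow_eq_one h h6
    rw [h7, one_mul] at h1
    rw [h1] at hx
    exact not_K_t h hx

/-- The conjugating element. -/
theorem exists_g : ∃ g, cj g e1 = τ ∧ cj g z = τ * e1 ∧ (cj g c = c ∨ cj g c = c⁻¹) := by
  obtain ⟨g, hg⟩ := isConj_iff.1 h.K1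
  -- `cj g e1 = τ`
  have h1 : cj g e1 = τ := by rw [← hg, cj_apply]; group
  have hz : cj g z * cj g z = 1 := by rw [← map_mul, h.I.qq, map_one]
  have hz1 : cj g z ≠ 1 := by
    intro h2
    apply h.z1
    apply cj_injective g
    rw [h2, map_one]
  have hzτ : cj g z * τ = τ * cj g z := by rw [← h1]; exact cj_comm h.I.qr
  have hzK : ¬ IsConj τ (cj g z) := by rw [isConj_cj]; exact h.N1
  have hzK' : IsConj τ (τ * cj g z) := by
    rw [← h1, ← map_mul, isConj_cj, ← h.I.qr]
    rw [h1]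
    exact h.K2
  obtain ⟨k, hk1, hk2⟩ := h.T1 _ hz hz1 hzτ hzK hzK'
  have h2 : cj (g * k) e1 = τ := by rw [← cj_cj, h1, cj_of_comm hk1]
  have h3 : cj (g * k) z = τ * e1 := by rw [← cj_cj, cj_apply k]; exact hk2
  have hc3 : cj (g * k) c * cj (g * k) c * cj (g * k) c = 1 := by
    rw [← map_mul, ← map_mul, h.ccc, map_one]
  have hc1 : cj (g * k) c ≠ 1 := by
    intro h4
    apply h.c1
    apply cj_injective (g * k)
    rw [h4, map_one]
  have hcτ : cj (g * k) c * τ = τ * cj (g * k) c := by rw [← h2]; exact cj_comm h.ce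
  have hce : cj (g * k) c * e1 = e1 * cj (g * k) c := by
    have h4 : cj (g * k) c * (τ * e1) = (τ * e1) * cj (g * k) c := by
      rw [← h3]; exact cj_comm h.cz
    have h5 : τ * (cj (g * k) c * e1) = τ * (e1 * cj (g * k) c) := by
      rw [← mul_assoc, ← hcτ, mul_assoc, h4, mul_assoc]
    exact mul_left_cancel h5
  obtain ⟨k', hk1', hk2', hk3'⟩ := h.T2 _ hc3 hc1 hcτ hce
  refine ⟨g * k * k', ?_, ?_, ?_⟩
  · rw [← cj_cj, h2, cj_of_comm hk1']
  · rw [← cj_cj, h3, map_mul, cj_of_comm hk1', cj_of_comm hk2']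
  · rw [← cj_cj, cj_apply k']
    exact hk3'

/-- The element `t₁` and its properties. -/
theorem exists_t1 [Finite G] : ∃ t1 : G, t1 * t1 = 1 ∧ t1 * c = c * t1 ∧ t1 * z = z * t1 ∧
    t1 * e1 = e1 * t1 ∧ t1 * τ * t1 = τ * z * e1 ∧ t1 * e2 * t1 = e2 * z ∧
    (∀ g, g * c = c * g → g * z = z * g → g * e1 = e1 * g →
      ∃ (i : ℕ) (v : V), g = c ^ i * F τ z e1 e2 v ∨ g = c ^ i * F τ z e1 e2 v * t1) ∧
    (∀ v, ¬ IsConj τ (F τ z e1 e2 v * t1)) := by
  obtain ⟨g, h1, h2, h3⟩ := exists_g h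
  -- commuting with `c`
  have hcc : ∀ x, x * c = c * x → cj g x * c = c * cj g x := by
    intro x hx
    have h4 := cj_comm (g := g) hx
    rcases h3 with h5 | h5
    · rw [h5] at h4; exact h4
    · rw [h5] at h4
      have h6 : Commute (cj g x) c⁻¹ := h4
      exact (inv_inv c ▸ h6.inv_right : Commute (cj g x) c).eq
  have hcc' : ∀ x, cj g x * c = c * cj g x → x * c = c * x := by
    intro x hx
    apply cj_injective g
    rw [map_mul, map_mul]
    rcases h3 with h5 | h5
    · rw [h5]; exact hx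
    · rw [h5]
      have h6 : Commute (cj g x) c := hx
      exact h6.inv_right.eq
  have hee : cj g (z * e1) = e1 := by
    rw [map_mul, h1, h2, mul_assoc, ← h.I.pr, ← mul_assoc, h.I.pp, one_mul]
  have hcomm_e : ∀ x, x * z = z * x → x * e1 = e1 * x → cj g x * e1 = e1 * cj g x := by
    intro x hx1 hx2
    rw [← hee]
    apply cj_comm
    calc x * (z * e1) = (x * z) * e1 := by rw [mul_assoc]
      _ = z * (x * e1) := by rw [hx1, mul_assoc]
      _ = z * e1 * x := by rw [hx2, mul_assoc]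
  have hcomm_τ : ∀ x, x * e1 = e1 * x → cj g x * τ = τ * cj g x := by
    intro x hx
    rw [← h1]
    exact cj_comm hx
  -- images of `τ` and `e2`
  obtain ⟨v, hv⟩ : ∃ v, cj g τ = F τ z e1 e2 v := by
    apply mem_E h
    · rw [isConj_cj]
    · exact hcomm_τ _ h.I.pr
    · exact hcc _ h.cτ.symm
    · exact hcomm_e _ h.I.pq h.I.pr
  obtain ⟨w, hw⟩ : ∃ w, cj g e2 = F τ z e1 e2 w := by
    apply mem_E h
    · rw [isConj_cj]
      have := (hK h (false, false, false, true)).2 rfl
      rwa [F_0001] at this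
    · exact hcomm_τ _ h.I.rs.symm
    · exact hcc _ h.cf.symm
    · exact hcomm_e _ h.I.qs.symm h.I.rs.symm
  have hFτ : τ = F τ z e1 e2 (true, false, false, false) := F_1000.symm
  have hFτe : τ * e1 = F τ z e1 e2 (true, false, true, false) := by simp [F]
  have hFe : e1 = F τ z e1 e2 (false, false, true, false) := F_0010.symm
  -- labels of `v`
  have lv0 : lab v = true := by
    rw [← hK h, ← hv, isConj_cj]
  have lv1 : lab (add v (true, false, false, false)) = false := by
    rw [← Bool.not_eq_true, ← hK h, ← F_mul h.I, ← hv, F_1000, ← h1, ← map_mul, isConj_cj, h1]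
    exact h.N3
  have lv2 : lab (add v (true, false, true, false)) = false := by
    rw [← Bool.not_eq_true, ← hK h, ← F_mul h.I, ← hv, ← hFτe, ← h2, ← map_mul, isConj_cj]
    exact h.N2
  have lv3 : lab (add v (false, false, true, false)) = true := by
    rw [← hK h, ← F_mul h.I, ← hv, F_0010]
    have : cj g τ * e1 = cj g (τ * (z * e1)) := by rw [map_mul, hee]
    rw [this, isConj_cj, ← mul_assoc]
    exact h.K3
  have hvv : v.2.1 = false ∧ v.2.2.2 = true := dec4 v lv0 lv1 lv2 lv3
  -- labels of `w`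
  have Ke : ∀ v', lab v' = true → IsConj τ (F τ z e1 e2 v') := fun v' h' => (hK h v').2 h'
  have lw0 : lab w = true := by
    rw [← hK h, ← hw, isConj_cj]
    have := Ke (false, false, false, true) rfl
    rwa [F_0001] at this
  have lw1 : lab (add w (true, false, false, false)) = true := by
    rw [← hK h, ← F_mul h.I, ← hw, F_1000]
    have e : cj g e2 * τ = cj g (e2 * e1) := by rw [map_mul, h1]
    rw [e, isConj_cj, ← h.I.rs]
    have := Ke (false, false, true, true) rfl
    simpa [F] using this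
  have lw2 : lab (add w (true, false, true, false)) = true := by
    rw [← hK h, ← F_mul h.I, ← hw, ← hFτe]
    have e : cj g e2 * (τ * e1) = cj g (e2 * z) := by rw [map_mul, h2]
    rw [e, isConj_cj, ← h.I.qs]
    have := Ke (false, true, false, true) rfl
    simpa [F] using this
  have lw3 : lab (add w (false, false, true, false)) = true := by
    rw [← hK h, ← F_mul h.I, ← hw, F_0010]
    have e : cj g e2 * e1 = cj g (e2 * (z * e1)) := by rw [map_mul, hee]
    rw [e, isConj_cj]
    have e' : e2 * (z * e1) = z * (e1 * e2) := by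
      rw [← mul_assoc, ← h.I.qs, mul_assoc, ← h.I.rs]
    rw [e']
    have := Ke (false, true, true, true) rfl
    simpa [F] using this
  have hww : w.2.1 = true ∧ w.2.2.2 = true := dec5 w lw0 lw1 lw2 lw3
  -- `E` is normalised by `g`
  have hE : ∀ v', ∃ w', cj g (F τ z e1 e2 w') = F τ z e1 e2 v' := by
    have hle : (S h.I).map (cj g) ≤ S h.I := by
      rintro _ ⟨_, ⟨v', rfl⟩, rfl⟩
      have e0 : cj g τ ∈ S h.I := ⟨v, hv.symm⟩
      have e1' : cj g z ∈ S h.I := ⟨_, by rw [h2]; exact hFτe.symm⟩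
      have e2' : cj g e1 ∈ S h.I := ⟨_, by rw [h1]; exact F_1000⟩
      have e3' : cj g e2 ∈ S h.I := ⟨w, hw.symm⟩
      rw [map_F]
      have hb : ∀ (b : Bool) (x : G), x ∈ S h.I → bp b x ∈ S h.I := by
        intro b x hx
        cases b
        · exact (S h.I).one_mem
        · exact hx
      exact (S h.I).mul_mem ((S h.I).mul_mem (hb _ _ e0) (hb _ _ e1'))
        ((S h.I).mul_mem (hb _ _ e2') (hb _ _ e3'))
    have heq : (S h.I).map (cj g) = S h.I := by
      apply Subgroup.eq_of_le_of_card_ge hle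
      rw [Subgroup.card_map_of_injective (cj_injective g)]
    intro v'
    have : F τ z e1 e2 v' ∈ (S h.I).map (cj g) := by rw [heq]; exact ⟨v', rfl⟩
    obtain ⟨_, ⟨w', rfl⟩, hw'⟩ := this
    exact ⟨w', hw'⟩
  -- the element `t₁`
  set t1 := cj g⁻¹ t with ht1
  have hgt : cj g t1 = t := cj_cj_inv g t
  have hinj := cj_injective g
  refine ⟨t1, ?_, ?_, ?_, ?_, ?_, ?_, ?_, ?_⟩
  · apply hinj
    rw [map_mul, hgt, h.tt, map_one]
  · apply hcc'
    rw [hgt]
    exact h.ct.symm
  · apply hinj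
    rw [map_mul, map_mul, hgt, h2]
    calc t * (τ * e1) = (t * τ) * e1 := by rw [mul_assoc]
      _ = τ * (t * e1) := by rw [h.tτ, mul_assoc]
      _ = τ * e1 * t := by rw [h.te, mul_assoc]
  · apply hinj
    rw [map_mul, map_mul, hgt, h1]
    exact h.tτ
  · apply hinj
    have e5 : F τ z e1 e2 v * e1 = F τ z e1 e2 (add v (false, false, true, false)) := by
      rw [← F_mul h.I, F_0010]
    rw [map_mul, map_mul, hgt, hv, t_F h, mul_assoc τ z e1, map_mul, hee, hv, e5,
      dec7 v hvv.1 hvv.2]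
  · apply hinj
    have e5 : F τ z e1 e2 w * (τ * e1) = F τ z e1 e2 (add w (true, false, true, false)) := by
      rw [hFτe, F_mul h.I]
    rw [map_mul, map_mul, hgt, hw, t_F h, map_mul, h2, hw, e5, dec6 w hww.1 hww.2]
  · intro x hxc hxz hxe
    obtain ⟨i, v', h4⟩ := h.f2 (cj g x) (hcomm_τ _ hxe) (hcc _ hxc) (hcomm_e _ hxz hxe)
    obtain ⟨w', hw'⟩ := hE v'
    have hci : ∃ j : ℕ, c ^ i = cj g (c ^ j) := by
      rcases h3 with h5 | h5
      · exact ⟨i, by rw [map_pow, h5]⟩
      · refine ⟨2 * i, ?_⟩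
        rw [map_pow, h5, inv_pow]
        have h6 := c3 h
        have h7 : c ^ i * c ^ (2 * i) = 1 := by
          rw [← pow_add, show i + 2 * i = 3 * i by ring, pow_mul, h6, one_pow]
        exact eq_inv_of_mul_eq_one_left h7
    obtain ⟨j, hj⟩ := hci
    rcases h4 with h5 | h5
    · refine ⟨j, w', Or.inl ?_⟩
      apply hinj
      rw [h5, hj, ← hw', ← map_mul]
    · refine ⟨j, w', Or.inr ?_⟩
      apply hinj
      rw [h5, hj, ← hw', map_mul, map_mul, hgt]
  · intro v' hK'
    have h4 : IsConj τ (cj g (F τ z e1 e2 v' * t1)) := by rw [isConj_cj]; exact hK'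
    rw [map_mul, hgt] at h4
    -- `cj g (F v')` is in `E`
    have h5 : ∃ w', cj g (F τ z e1 e2 v') = F τ z e1 e2 w' := by
      have hle : (S h.I).map (cj g) ≤ S h.I := by
        rintro _ ⟨_, ⟨v'', rfl⟩, rfl⟩
        have e0 : cj g τ ∈ S h.I := ⟨v, hv.symm⟩
        have e1' : cj g z ∈ S h.I := ⟨_, by rw [h2]; exact hFτe.symm⟩
        have e2' : cj g e1 ∈ S h.I := ⟨_, by rw [h1]; exact F_1000⟩
        have e3' : cj g e2 ∈ S h.I := ⟨w, hw.symm⟩
        rw [map_F]
        have hb : ∀ (b : Bool) (x : G), x ∈ S h.I → bp b x ∈ S h.I := by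
          intro b x hx
          cases b
          · exact (S h.I).one_mem
          · exact hx
        exact (S h.I).mul_mem ((S h.I).mul_mem (hb _ _ e0) (hb _ _ e1'))
          ((S h.I).mul_mem (hb _ _ e2') (hb _ _ e3'))
      obtain ⟨w', hw'⟩ := hle ⟨_, ⟨v', rfl⟩, rfl⟩
      exact ⟨w', hw'.symm⟩
    obtain ⟨w', hw'⟩ := h5
    rw [hw'] at h4
    exact not_K_t h h4

end

end Cfsg.Agent.HN.HypLoc
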