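import Mathlib

set_option autoImplicit false

/-!
A central extension by an element `τ` of order 2 of a group whose Sylow 2-subgroup is semidihedral of
order 16 splits off: `τ` is not in the commutator subgroup (transfer).
-/

namespace Cfsg.Agent.HN.SemiSplit

open Subgroup

variable {G : Type*} [Group G]

/-- The subgroup `H ∪ H v` when `v` normalizes `H` and `v² ∈ H`. -/
def ext (H : Subgroup G) (v : G) (h1 : ∀ h ∈ H, v * h * v⁻¹ ∈ H) (h2 : ∀ h ∈ H, v⁻¹ * h * v ∈ H)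
    (h3 : v * v ∈ H) : Subgroup G where
  carrier := {g | g ∈ H ∨ g * v⁻¹ ∈ H}
  one_mem' := Or.inl H.one_mem
  mul_mem' := by
    rintro a b (ha | ha) (hb | hb)
    · exact Or.inl (H.mul_mem ha hb)
    · exact Or.inr (by rw [mul_assoc]; exact H.mul_mem ha hb)
    · right
      have : a * b * v⁻¹ = (a * v⁻¹) * (v * b * v⁻¹) := by group
      rw [this]
      exact H.mul_mem ha (h1 b hb)
    · left
      have : a * b = (a * v⁻¹) * (v * (b * v⁻¹) * v⁻¹) * (v * v) := by group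
      rw [this]
      exact H.mul_mem (H.mul_mem ha (h1 _ hb)) h3
  inv_mem' := by
    rintro a (ha | ha)
    · exact Or.inl (H.inv_mem ha)
    · right
      have : a⁻¹ * v⁻¹ = (v⁻¹ * (a * v⁻¹)⁻¹ * v) * (v * v)⁻¹ := by group
      rw [this]
      exact H.mul_mem (h2 _ (H.inv_mem ha)) (H.inv_mem h3)

theorem mem_ext {H : Subgroup G} {v : G} {h1 : ∀ h ∈ H, v * h * v⁻¹ ∈ H}
    {h2 : ∀ h ∈ H, v⁻¹ * h * v ∈ H} {h3 : v * v ∈ H} {g : G} :
    g ∈ ext H v h1 h2 h3 ↔ g ∈ H ∨ g * v⁻¹ ∈ H := Iff.rfl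

theorem card_ext [Finite G] {H : Subgroup G} {v : G} (h1 : ∀ h ∈ H, v * h * v⁻¹ ∈ H)
    (h2 : ∀ h ∈ H, v⁻¹ * h * v ∈ H) (h3 : v * v ∈ H) (hv : v ∉ H) :
    Nat.card (ext H v h1 h2 h3) = 2 * Nat.card H := by
  have e : (H ⊕ H) ≃ ext H v h1 h2 h3 := by
    refine Equiv.ofBijective (fun z => z.elim (fun g => ⟨g.1, Or.inl g.2⟩)
      (fun g => ⟨g.1 * v, Or.inr (by rw [mul_inv_cancel_right]; exact g.2)⟩)) ⟨?_, ?_⟩
    · rintro (a | a) (b | b) hab
      · have h : (a : G) = b := congrArg (fun z : ext H v h1 h2 h3 => (z : G)) hab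
        rw [Subtype.ext h]
      · exfalso
        have h : (a : G) = b * v := congrArg (fun z : ext H v h1 h2 h3 => (z : G)) hab
        apply hv
        have : v = (b : G)⁻¹ * a := by rw [h]; group
        rw [this]
        exact H.mul_mem (H.inv_mem b.2) a.2
      · exfalso
        have h : (a : G) * v = b := congrArg (fun z : ext H v h1 h2 h3 => (z : G)) hab
        apply hv
        have : v = (a : G)⁻¹ * b := by rw [← h]; group
        rw [this]
        exact H.mul_mem (H.inv_mem a.2) b.2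
      · have h : (a : G) * v = b * v := congrArg (fun z : ext H v h1 h2 h3 => (z : G)) hab
        rw [Subtype.ext (mul_right_cancel h)]
    · rintro ⟨g, hg | hg⟩
      · exact ⟨Sum.inl ⟨g, hg⟩, rfl⟩
      · exact ⟨Sum.inr ⟨g * v⁻¹, hg⟩, Subtype.ext (inv_mul_cancel_right g v)⟩
  rw [← Nat.card_congr e, Nat.card_sum]
  ring

/-- If all commutators of generators lie in a normalized subgroup `N` then so do all commutators. -/
theorem comm_mem_of_gens {A : Set G} {N : Subgroup G}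
    (hN : ∀ a ∈ A, ∀ n ∈ N, a * n * a⁻¹ ∈ N) (hN' : ∀ a ∈ A, ∀ n ∈ N, a⁻¹ * n * a ∈ N)
    (hc : ∀ a ∈ A, ∀ b ∈ A, a * b * a⁻¹ * b⁻¹ ∈ N) :
    ∀ g ∈ closure A, ∀ h ∈ closure A, g * h * g⁻¹ * h⁻¹ ∈ N := by
  have h1 : ∀ g ∈ closure A, (∀ n ∈ N, g * n * g⁻¹ ∈ N) ∧ (∀ n ∈ N, g⁻¹ * n * g ∈ N) := by
    intro g hg
    induction hg using closure_induction with
    | mem a ha => exact ⟨hN a ha, hN' a ha⟩
    | one => exact ⟨fun n hn => by simpa using hn, fun n hn => by simpa using hn⟩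
    | mul a b _ _ iha ihb =>
      constructor
      · intro n hn
        have : a * b * n * (a * b)⁻¹ = a * (b * n * b⁻¹) * a⁻¹ := by group
        rw [this]
        exact iha.1 _ (ihb.1 n hn)
      · intro n hn
        have : (a * b)⁻¹ * n * (a * b) = b⁻¹ * (a⁻¹ * n * a) * b := by group
        rw [this]
        exact ihb.2 _ (iha.2 n hn)
    | inv a _ iha =>
      refine ⟨fun n hn => ?_, fun n hn => ?_⟩
      · rw [inv_inv]; exact iha.2 n hn
      · rw [inv_inv]; exact iha.1 n hn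
  have h2 : ∀ a ∈ A, ∀ h ∈ closure A, a * h * a⁻¹ * h⁻¹ ∈ N := by
    intro a ha h hh
    induction hh using closure_induction with
    | mem b hb => exact hc a ha b hb
    | one => simp
    | mul x y hx _ ihx ihy =>
      have : a * (x * y) * a⁻¹ * (x * y)⁻¹ =
          (a * x * a⁻¹ * x⁻¹) * (x * (a * y * a⁻¹ * y⁻¹) * x⁻¹) := by group
      rw [this]
      exact N.mul_mem ihx ((h1 x hx).1 _ ihy)
    | inv x hx ihx =>
      have : a * x⁻¹ * a⁻¹ * x⁻¹⁻¹ = x⁻¹ * (a * x * a⁻¹ * x⁻¹)⁻¹ * x := by group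
      rw [this]
      exact (h1 x hx).2 _ (N.inv_mem ihx)
  intro g hg h hh
  induction hg using closure_induction with
  | mem a ha => exact h2 a ha h hh
  | one => simp
  | mul x y hx _ ihx ihy =>
    have : x * y * h * (x * y)⁻¹ * h⁻¹ =
        (x * (y * h * y⁻¹ * h⁻¹) * x⁻¹) * (x * h * x⁻¹ * h⁻¹) := by group
    rw [this]
    exact N.mul_mem ((h1 x hx).1 _ ihy) ihx
  | inv x hx ihx =>
    have : x⁻¹ * h * x⁻¹⁻¹ * h⁻¹ = x⁻¹ * (x * h * x⁻¹ * h⁻¹)⁻¹ * x := by group
    rw [this]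
    exact (h1 x hx).2 _ (N.inv_mem ihx)

/-- Transfer: a central involution of a subgroup `S` of odd index which is a commutator product in `G`
is one in `S`. -/
theorem mem_commutator_of_odd_index [Finite G] (S : Subgroup G) (hodd : Odd S.index) {τ : G}
    (hτS : τ ∈ S) (hτc : ∀ g, g * τ = τ * g) (hτ2 : τ * τ = 1) (h : τ ∈ commutator G) :
    (⟨τ, hτS⟩ : S) ∈ commutator S := by
  have key : ∀ (k : ℕ) (g₀ : G), g₀⁻¹ * τ ^ k * g₀ ∈ S → g₀⁻¹ * τ ^ k * g₀ = τ ^ k := by
    intro k g₀ _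
    have h1 : Commute τ g₀ := (hτc g₀).symm
    rw [mul_assoc, (h1.pow_left k).eq, inv_mul_cancel_left]
  have h1 := MonoidHom.transfer_eq_pow (Abelianization.of : S →* Abelianization S) τ key
  have h2 : MonoidHom.transfer (Abelianization.of : S →* Abelianization S) τ = 1 := by
    have h3 : commutator G ≤ (MonoidHom.transfer (Abelianization.of : S →* Abelianization S)).ker :=
      Abelianization.commutator_subset_ker _
    exact h3 h
  rw [h2] at h1
  have h4 : τ ^ S.index = τ := by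
    obtain ⟨m, hm⟩ := hodd
    rw [hm, pow_succ, pow_mul, pow_two, hτ2, one_pow, one_mul]
  have h5 : (Abelianization.of : S →* Abelianization S) ⟨τ, hτS⟩ = 1 := by
    rw [h1]
    congr 1
    exact Subtype.ext h4.symm
  have h6 : (⟨τ, hτS⟩ : S) ∈ (Abelianization.of : S →* Abelianization S).ker := h5
  rwa [Abelianization.ker_of] at h6

/-- Main splitting lemma. -/
theorem not_mem_commutator [Finite G] {τ r v : G} {m : ℕ} (hcard : Nat.card G = 32 * m)
    (hm : Odd m) (hτ : τ ≠ 1) (hτ2 : τ * τ = 1) (hτc : ∀ g, g * τ = τ * g)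
    (hr4 : r ^ 4 ≠ 1) (hr4' : r ^ 4 ≠ τ)
    (hv : v * v = 1 ∨ v * v = τ) (hrv : v⁻¹ * r * v = r ^ 3 ∨ v⁻¹ * r * v = r ^ 3 * τ) :
    τ ∉ commutator G := by
  have cτ : ∀ g : G, Commute τ g := fun g => (hτc g).symm
  -- `v²` is central
  have hvc : ∀ g, v * v * g = g * (v * v) := by
    intro g
    rcases hv with h | h
    · rw [h, one_mul, mul_one]
    · rw [h, hτc]
  have hvinv : ∀ g, v * g * v⁻¹ = v⁻¹ * g * v := by
    intro g
    have h := hvc g
    calc v * g * v⁻¹ = v⁻¹ * (v * v * g) * v⁻¹ := by group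
      _ = v⁻¹ * (g * (v * v)) * v⁻¹ := by rw [h]
      _ = v⁻¹ * g * v := by group
  obtain ⟨ε, hε, hrv'⟩ : ∃ ε : G, (ε = 1 ∨ ε = τ) ∧ v⁻¹ * r * v = r ^ 3 * ε := by
    rcases hrv with h | h
    · exact ⟨1, Or.inl rfl, by rw [mul_one]; exact h⟩
    · exact ⟨τ, Or.inr rfl, h⟩
  have hεc : ∀ g, Commute ε g := by
    intro g
    rcases hε with h | h
    · rw [h]; exact Commute.one_left g
    · rw [h]; exact cτ g
  have hε2 : ε * ε = 1 := by
    rcases hε with h | h
    · rw [h, one_mul]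
    · rw [h, hτ2]
  have conj_pow : ∀ k : ℕ, v⁻¹ * r ^ k * v = (r ^ 3 * ε) ^ k := by
    intro k
    rw [← hrv']
    have := conj_pow (i := k) (a := v⁻¹) (b := r)
    rw [inv_inv] at this
    exact this.symm
  have hr8 : r ^ 8 = 1 := by
    have h1 : v⁻¹ * (v⁻¹ * r * v) * v = r := by
      have := hvinv (v⁻¹ * r * v)
      rw [← this]
      group
    rw [hrv'] at h1
    have h2 : v⁻¹ * (r ^ 3 * ε) * v = (v⁻¹ * r ^ 3 * v) * ε := by
      have h3 : ε * v = v * ε := (hεc v).eq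
      calc v⁻¹ * (r ^ 3 * ε) * v = v⁻¹ * r ^ 3 * (ε * v) := by group
        _ = v⁻¹ * r ^ 3 * (v * ε) := by rw [h3]
        _ = _ := by group
    rw [h2, conj_pow, ((hεc (r ^ 3)).symm).mul_pow, ← pow_mul] at h1
    have h4 : ε ^ 3 * ε = 1 := by
      rw [← pow_succ, show 3 + 1 = 2 * 2 from rfl, pow_mul, pow_two ε, hε2, one_pow]
    rw [mul_assoc, h4, mul_one] at h1
    have h5 : r ^ 8 * r = 1 * r := by rw [← pow_succ, one_mul]; exact h1
    exact mul_right_cancel h5
  have hord : orderOf r = 8 := by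
    have h1 : orderOf r ∣ 2 ^ 3 := orderOf_dvd_of_pow_eq_one hr8
    obtain ⟨k, hk, h2⟩ := (Nat.dvd_prime_pow Nat.prime_two).1 h1
    have h3 : ¬ k ≤ 2 := by
      intro hk2
      apply hr4
      apply orderOf_dvd_iff_pow_eq_one.1
      rw [h2]
      exact pow_dvd_pow 2 hk2
    have h4 : k = 3 := by omega
    rw [h2, h4]; rfl
  -- the subgroup `⟨r⟩`, then `⟨r, τ⟩`, then `⟨r, τ, v⟩`
  have hτr : τ ∉ zpowers r := by
    intro h
    obtain ⟨k, hk⟩ := Subgroup.mem_zpowers_iff.1 h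
    have h1 : r ^ (2 * k) = 1 := by
      rw [mul_comm, zpow_mul, hk, zpow_ofNat, pow_two, hτ2]
    have h2 : (8 : ℤ) ∣ 2 * k := by
      have := orderOf_dvd_iff_zpow_eq_one.2 h1
      rw [hord] at this
      exact_mod_cast this
    obtain ⟨j, hj⟩ := h2
    have h3 : k = 4 * j := by omega
    rw [h3, zpow_mul] at hk
    have h4 : ((r ^ (4 : ℤ)) : G) = r ^ 4 := zpow_natCast r 4
    rw [h4] at hk
    rcases Int.even_or_odd' j with ⟨i, hi | hi⟩
    · rw [hi, zpow_mul] at hk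
      have h5 : ((r ^ 4) ^ (2 : ℤ) : G) = 1 := by
        rw [show (2 : ℤ) = ((2 : ℕ) : ℤ) from rfl, zpow_natCast, ← pow_mul]; exact hr8
      rw [h5, one_zpow] at hk
      exact hτ hk.symm
    · rw [hi, zpow_add, zpow_mul] at hk
      have h5 : ((r ^ 4) ^ (2 : ℤ) : G) = 1 := by
        rw [show (2 : ℤ) = ((2 : ℕ) : ℤ) from rfl, zpow_natCast, ← pow_mul]; exact hr8
      rw [h5, one_zpow, one_mul, zpow_one] at hk
      exact hr4' hk
  let H1 : Subgroup G := ext (zpowers r) τ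
    (fun h hh => by rw [(cτ h).eq, mul_inv_cancel_right]; exact hh)
    (fun h hh => by rw [mul_assoc, hτc, inv_mul_cancel_left]; exact hh)
    (by rw [hτ2]; exact one_mem _)
  have cH1 : Nat.card H1 = 16 := by
    rw [card_ext _ _ _ hτr, Nat.card_zpowers, hord]
  have memH1 : ∀ g, g ∈ H1 ↔ g ∈ zpowers r ∨ g * τ⁻¹ ∈ zpowers r := fun g => Iff.rfl
  have rH1 : ∀ h ∈ zpowers r, h ∈ H1 := fun h hh => (memH1 h).2 (Or.inl hh)
  have τH1 : τ ∈ H1 := (memH1 τ).2 (Or.inr (by rw [mul_inv_cancel]; exact one_mem _))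
  have εH1 : ε ∈ H1 := by
    rcases hε with h | h
    · rw [h]; exact H1.one_mem
    · rw [h]; exact τH1
  have hconj0 : ∀ h ∈ zpowers r, v⁻¹ * h * v ∈ H1 := by
    rintro _ ⟨k, rfl⟩
    have h1 : v⁻¹ * r ^ k * v = (v⁻¹ * r * v) ^ k := by
      have := conj_zpow (i := k) (a := v⁻¹) (b := r)
      rw [inv_inv] at this
      exact this.symm
    change v⁻¹ * r ^ k * v ∈ H1
    rw [h1, hrv']
    exact H1.zpow_mem (H1.mul_mem (rH1 _ (Subgroup.pow_mem _ (mem_zpowers r) 3)) εH1) k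
  have hconj : ∀ h ∈ H1, v⁻¹ * h * v ∈ H1 := by
    intro h hh
    rcases (memH1 h).1 hh with h1 | h1
    · exact hconj0 h h1
    · have h2 := hconj0 _ h1
      have h3 : v⁻¹ * h * v = v⁻¹ * (h * τ⁻¹) * v * τ := by
        have h4 : τ * v = v * τ := (cτ v).eq
        calc v⁻¹ * h * v = v⁻¹ * (h * τ⁻¹) * (τ * v) := by group
          _ = v⁻¹ * (h * τ⁻¹) * (v * τ) := by rw [h4]
          _ = _ := by group
      rw [h3]
      exact H1.mul_mem h2 τH1
  have hvH1 : v ∉ H1 := by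
    intro h
    have h1 : v * r = r * v := by
      rcases (memH1 v).1 h with h2 | h2
      · obtain ⟨k, hk⟩ := h2
        change r ^ k = v at hk
        rw [← hk]
        exact ((Commute.refl r).zpow_left k).eq
      · obtain ⟨k, hk⟩ := h2
        change r ^ k = v * τ⁻¹ at hk
        have h3 : v = r ^ k * τ := by rw [hk]; group
        rw [h3]
        exact (((Commute.refl r).zpow_left k).mul_left (cτ r)).eq
    have h2 : r = r ^ 3 * ε := by
      rw [← hrv', mul_assoc, ← h1, inv_mul_cancel_left]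
    have h3 : r ^ 2 * ε = 1 := by
      have h4 : r * (r ^ 2 * ε) = r * 1 := by
        rw [mul_one, ← mul_assoc, ← pow_succ']
        exact h2.symm
      exact mul_left_cancel h4
    apply hr4
    have h5 : (r ^ 2 * ε) ^ 2 = r ^ 4 := by
      rw [((hεc (r ^ 2)).symm).mul_pow, ← pow_mul, pow_two ε, hε2, mul_one]
    rw [← h5, h3, one_pow]
  have hvv : v * v ∈ H1 := by
    rcases hv with h | h
    · rw [h]; exact H1.one_mem
    · rw [h]; exact τH1
  let E : Subgroup G := ext H1 v (fun h hh => by rw [hvinv]; exact hconj h hh) hconj hvv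
  have cE : Nat.card E = 32 := by
    rw [card_ext _ _ _ hvH1, cH1]
  -- the subgroup `S`
  let A : Set G := {r, v, τ}
  let S : Subgroup G := closure A
  have hES : E ≤ S := by
    have hrS : r ∈ S := subset_closure (Or.inl rfl)
    have hvS : v ∈ S := subset_closure (Or.inr (Or.inl rfl))
    have hτS : τ ∈ S := subset_closure (Or.inr (Or.inr rfl))
    have hzS : zpowers r ≤ S := by rw [zpowers_le]; exact hrS
    have hH1S : H1 ≤ S := by
      intro g hg
      rcases (memH1 g).1 hg with h | h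
      · exact hzS h
      · have : g = g * τ⁻¹ * τ := by group
        rw [this]
        exact S.mul_mem (hzS h) hτS
    rintro g (h | h)
    · exact hH1S h
    · have : g = g * v⁻¹ * v := by group
      rw [this]
      exact S.mul_mem (hH1S h) hvS
  have hodd : Odd S.index := by
    have h1 : 32 ∣ Nat.card S := by
      rw [← cE]; exact Subgroup.card_dvd_of_le hES
    obtain ⟨k, hk⟩ := h1
    have h2 := S.card_mul_index
    rw [hk, hcard, mul_assoc] at h2
    have h3 : k * S.index = m := Nat.eq_of_mul_eq_mul_left (by norm_num) h2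
    rw [← h3] at hm
    exact (Nat.odd_mul.1 hm).2
  intro hcomm
  have h1 := mem_commutator_of_odd_index S hodd (hES (Or.inl τH1)) hτc hτ2 hcomm
  -- commutators of `S` are in `⟨s⟩`
  let s : G := r ^ 2 * ε
  have hs4 : s ^ 4 = 1 := by
    change (r ^ 2 * ε) ^ 4 = 1
    rw [((hεc (r ^ 2)).symm).mul_pow, ← pow_mul, show 4 = 2 * 2 from rfl, pow_mul ε, pow_two ε,
      hε2, one_pow, mul_one]
    exact hr8
  have hsr : Commute s r := ((Commute.refl r).pow_left 2).mul_left (hεc r)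
  have hsv : v⁻¹ * s * v = s ^ 3 := by
    change v⁻¹ * (r ^ 2 * ε) * v = (r ^ 2 * ε) ^ 3
    have h3 : ε * v = v * ε := (hεc v).eq
    have h4 : v⁻¹ * (r ^ 2 * ε) * v = v⁻¹ * r ^ 2 * v * ε := by
      calc v⁻¹ * (r ^ 2 * ε) * v = v⁻¹ * r ^ 2 * (ε * v) := by group
        _ = v⁻¹ * r ^ 2 * (v * ε) := by rw [h3]
        _ = _ := by group
    rw [h4, conj_pow, ((hεc (r ^ 3)).symm).mul_pow, ((hεc (r ^ 2)).symm).mul_pow, ← pow_mul,
      ← pow_mul, pow_two ε, hε2, mul_one]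
    congr 1
    rw [pow_succ, pow_two, hε2, one_mul]
  have hN : ∀ a ∈ A, (∀ n ∈ zpowers s, a * n * a⁻¹ ∈ zpowers s) ∧
      (∀ n ∈ zpowers s, a⁻¹ * n * a ∈ zpowers s) := by
    have hcase : ∀ a : G, Commute s a → (∀ n ∈ zpowers s, a * n * a⁻¹ ∈ zpowers s) ∧
        (∀ n ∈ zpowers s, a⁻¹ * n * a ∈ zpowers s) := by
      intro a ha
      constructor
      · rintro _ ⟨k, rfl⟩
        change a * s ^ k * a⁻¹ ∈ _
        rw [← (ha.zpow_left k).eq, mul_inv_cancel_right]
        exact ⟨k, rfl⟩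
      · rintro _ ⟨k, rfl⟩
        change a⁻¹ * s ^ k * a ∈ _
        rw [mul_assoc, (ha.zpow_left k).eq, inv_mul_cancel_left]
        exact ⟨k, rfl⟩
    rintro a (rfl | rfl | rfl)
    · exact hcase _ hsr
    · have h5 : ∀ n ∈ zpowers s, a⁻¹ * n * a ∈ zpowers s := by
        rintro _ ⟨k, rfl⟩
        have h6 : a⁻¹ * s ^ k * a = (a⁻¹ * s * a) ^ k := by
          have := conj_zpow (i := k) (a := a⁻¹) (b := s)
          rw [inv_inv] at this
          exact this.symm
        change a⁻¹ * s ^ k * a ∈ _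
        rw [h6, hsv]
        exact Subgroup.zpow_mem _ (Subgroup.pow_mem _ (mem_zpowers s) 3) k
      exact ⟨fun n hn => by rw [hvinv]; exact h5 n hn, h5⟩
    · exact hcase _ (cτ s).symm
  have hrv1 : r * v * r⁻¹ * v⁻¹ ∈ zpowers s ∧ v * r * v⁻¹ * r⁻¹ ∈ zpowers s := by
    have h2 : v * r * v⁻¹ * r⁻¹ = s := by
      rw [hvinv, hrv']
      change r ^ 3 * ε * r⁻¹ = r ^ 2 * ε
      rw [mul_assoc, (hεc r⁻¹).eq, ← mul_assoc, pow_succ r 2, mul_inv_cancel_right]
    constructor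
    · have h3 : r * v * r⁻¹ * v⁻¹ = (v * r * v⁻¹ * r⁻¹)⁻¹ := by group
      rw [h3, h2]
      exact Subgroup.inv_mem _ (mem_zpowers s)
    · rw [h2]; exact mem_zpowers s
  have hC : ∀ a ∈ A, ∀ b ∈ A, a * b * a⁻¹ * b⁻¹ ∈ zpowers s := by
    have hself : ∀ a b : G, Commute a b → a * b * a⁻¹ * b⁻¹ ∈ zpowers s := by
      intro a b hab
      have : a * b * a⁻¹ * b⁻¹ = 1 := by rw [hab.eq]; group
      rw [this]; exact one_mem _
    rintro a (rfl | rfl | rfl) b (rfl | rfl | rfl)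
    · exact hself _ _ (Commute.refl _)
    · exact hrv1.1
    · exact hself _ _ (cτ _).symm
    · exact hrv1.2
    · exact hself _ _ (Commute.refl _)
    · exact hself _ _ (cτ _).symm
    · exact hself _ _ (cτ _)
    · exact hself _ _ (cτ _)
    · exact hself _ _ (Commute.refl _)
  have hall := comm_mem_of_gens (fun a ha => (hN a ha).1) (fun a ha => (hN a ha).2) hC
  have h2 : commutator S ≤ (zpowers s).subgroupOf S := by
    rw [commutator_def, Subgroup.commutator_le]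
    intro g _ h _
    rw [Subgroup.mem_subgroupOf]
    exact hall g g.2 h h.2
  have h3 : τ ∈ zpowers s := h2 h1
  -- `⟨s⟩ = {1, s, s², s³}` does not contain `τ`
  have h4 : ∃ k < 4, s ^ k = τ := by
    obtain ⟨k, hk⟩ := Subgroup.mem_zpowers_iff.1 h3
    have h5 : s ^ k = s ^ (k % 4) := by
      conv_lhs => rw [← Int.emod_add_mul_ediv k 4, zpow_add, zpow_mul]
      have : s ^ (4 : ℤ) = 1 := by exact_mod_cast hs4
      rw [this, one_zpow, mul_one]
    have h6 : 0 ≤ k % 4 := Int.emod_nonneg k (by norm_num)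
    have h7 : k % 4 < 4 := Int.emod_lt_of_pos k (by norm_num)
    refine ⟨(k % 4).toNat, by omega, ?_⟩
    rw [← hk, h5, ← zpow_natCast]
    congr 1
    omega
  obtain ⟨k, hk, hk'⟩ := h4
  have hs2 : s ^ 2 = r ^ 4 := by
    change (r ^ 2 * ε) ^ 2 = r ^ 4
    rw [((hεc (r ^ 2)).symm).mul_pow, ← pow_mul, pow_two ε, hε2, mul_one]
  have hsne : s ^ 2 ≠ 1 := by rw [hs2]; exact hr4
  interval_cases k
  · rw [pow_zero] at hk'; exact hτ hk'.symm
  · rw [pow_one] at hk'
    apply hsne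
    rw [hk', pow_two, hτ2]
  · rw [hs2] at hk'
    exact hr4' hk'
  · apply hsne
    have h5 : (s ^ 3) ^ 2 = 1 := by rw [hk', pow_two, hτ2]
    have h6 : (s ^ 3) ^ 2 = s ^ 4 * s ^ 2 := by rw [← pow_mul, ← pow_add]
    rw [h6, hs4, one_mul] at h5
    exact h5

end Cfsg.Agent.HN.SemiSplit
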