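import Mathlib
import Cfsg.Agent.HN.SemiSplit
import Cfsg.Agent.SporadicA.PermTab

set_option autoImplicit false

/-!
A contradiction in a finite group `Q` containing an elementary abelian 2-subgroup `A`, a subgroup `B ≤ A`
of order 4, an involution `τ` normalising `A` with `C_A(τ) = B`, such that `C_Q(b) ≤ A ⟨τ⟩` for `b ∈ B#`,
an element `y` of order 3 commuting with `τ` and permuting `B#`, and such that the fusion is
restricted: conjugates of `e ∈ B#` in `A` lie in `B`, `τ` has no conjugates in `A`.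
-/

namespace Cfsg.Agent.HN.HypQuot

open Subgroup Equiv

variable {Q : Type*} [Group Q]

/-- The hypotheses. -/
structure Hyp (A B : Subgroup Q) (τ y e : Q) : Prop where
  hA : ∀ a ∈ A, a * a = 1
  hτ2 : τ * τ = 1
  hτA : τ ∉ A
  hconj : ∀ a ∈ A, τ * a * τ ∈ A
  hBA : B ≤ A
  hB : ∀ a ∈ A, a * τ = τ * a ↔ a ∈ B
  hcent : ∀ b ∈ B, b ≠ 1 → ∀ g, g * b = b * g → g ∈ A ∨ g * τ ∈ A
  hy3 : y * y * y = 1
  hyτ : y * τ = τ * y
  he : e ∈ B
  he1 : e ≠ 1
  hye : y⁻¹ * e * y ∈ B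
  hye3 : e * (y⁻¹ * e * y) = y * e * y⁻¹
  hB4 : ∀ b ∈ B, b = 1 ∨ b = e ∨ b = y⁻¹ * e * y ∨ b = y * e * y⁻¹
  hE : ∀ x ∈ A, IsConj e x → x ∈ B
  hT : ∀ a ∈ A, ¬ IsConj τ a
  hu : ∃ u, IsConj e u ∧ u ∉ A
  hv : ∃ v ∈ A, v ∉ B

theorem isConj_of_odd {u v : Q} (hu : u * u = 1) (hv : v * v = 1) {k : ℕ}
    (h : (u * v) ^ (2 * k + 1) = 1) : IsConj u v := by
  have hui : u⁻¹ = u := inv_eq_of_mul_eq_one_left hu
  have hvi : v⁻¹ = v := inv_eq_of_mul_eq_one_left hv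
  have h1 : ∀ j : ℕ, u * (u * v) ^ j = ((u * v) ^ j)⁻¹ * u := by
    intro j
    induction j with
    | zero => simp
    | succ j ih =>
      rw [pow_succ, ← mul_assoc, ih, mul_inv_rev, mul_inv_rev, hui, hvi]
      have h2 : (u * v)⁻¹ = v * u := by rw [mul_inv_rev, hui, hvi]
      have h3 : Commute ((u * v) ^ j)⁻¹ (u * v)⁻¹ := (((Commute.refl (u * v)).pow_left j).inv_inv)
      calc ((u * v) ^ j)⁻¹ * u * (u * v) = ((u * v) ^ j)⁻¹ * ((u * u) * v) := by
            simp only [mul_assoc]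
        _ = ((u * v) ^ j)⁻¹ * (v * u) * u := by
            rw [hu, one_mul, mul_assoc, mul_assoc, hu, mul_one]
        _ = v * u * ((u * v) ^ j)⁻¹ * u := by rw [← h2, h3.eq]
  have h2 : (u * v) ^ (2 * k) = v * u := by
    have h3 : (u * v) ^ (2 * k) * (u * v) = 1 := by rw [← pow_succ]; exact h
    have h4 : (u * v) ^ (2 * k) = (u * v)⁻¹ := eq_inv_of_mul_eq_one_left h3
    rw [h4, mul_inv_rev, hui, hvi]
  -- `(r^k)⁻¹ u r^k = u r^(2k) = u v u`
  have h3 : ((u * v) ^ k)⁻¹ * u * (u * v) ^ k = u * v * u := by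
    rw [← h1 k, mul_assoc, ← pow_add, ← two_mul, h2, mul_assoc]
  rw [isConj_iff]
  refine ⟨u * ((u * v) ^ k)⁻¹, ?_⟩
  calc u * ((u * v) ^ k)⁻¹ * u * (u * ((u * v) ^ k)⁻¹)⁻¹
      = u * (((u * v) ^ k)⁻¹ * u * (u * v) ^ k) * u⁻¹ := by
        rw [mul_inv_rev, inv_inv]; simp only [mul_assoc]
    _ = u * (u * v * u) * u⁻¹ := by rw [h3]
    _ = (u * u) * v := by simp only [mul_assoc, mul_inv_cancel, mul_one]
    _ = v := by rw [hu, one_mul]

variable {A B : Subgroup Q} {τ y e : Q}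

section

variable (h : Hyp A B τ y e)
include h

theorem comm_A {a b : Q} (ha : a ∈ A) (hb : b ∈ A) : a * b = b * a := by
  have h1 := h.hA a ha
  have h2 := h.hA b hb
  have h3 := h.hA (a * b) (A.mul_mem ha hb)
  have ha' : a⁻¹ = a := inv_eq_of_mul_eq_one_left h1
  have hb' : b⁻¹ = b := inv_eq_of_mul_eq_one_left h2
  have h4 : (a * b)⁻¹ = a * b := inv_eq_of_mul_eq_one_left h3
  rw [mul_inv_rev, ha', hb'] at h4
  exact h4.symm

theorem τ_inv : τ⁻¹ = τ := inv_eq_of_mul_eq_one_left h.hτ2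

/-- the subgroup `A ⟨τ⟩`. -/
def P : Subgroup Q := SemiSplit.ext A τ
  (fun a ha => by rw [τ_inv h]; exact h.hconj a ha)
  (fun a ha => by rw [τ_inv h]; exact h.hconj a ha)
  (by rw [h.hτ2]; exact A.one_mem)

theorem mem_P {g : Q} : g ∈ P h ↔ g ∈ A ∨ g * τ ∈ A := by
  change (g ∈ A ∨ g * τ⁻¹ ∈ A) ↔ _
  rw [τ_inv h]

theorem card_P [Finite Q] : Nat.card (P h) = 2 * Nat.card A := SemiSplit.card_ext _ _ _ h.hτA

theorem cent_P {b : Q} (hb : b ∈ B) (hb1 : b ≠ 1) {g : Q} (hg : g * b = b * g) : g ∈ P h :=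
  (mem_P h).2 (h.hcent b hb hb1 g hg)

theorem P_cent {b : Q} (hb : b ∈ B) {g : Q} (hg : g ∈ P h) : g * b = b * g := by
  rcases (mem_P h).1 hg with h1 | h1
  · exact comm_A h h1 (h.hBA hb)
  · have h2 : b * τ = τ * b := (h.hB b (h.hBA hb)).2 hb
    have h3 := comm_A h h1 (h.hBA hb)
    calc g * b = g * (τ * τ) * b := by rw [h.hτ2, mul_one]
      _ = g * τ * (τ * b) := by simp only [mul_assoc]
      _ = g * τ * b * τ := by rw [← h2]; simp only [mul_assoc]
      _ = b * (g * τ) * τ := by rw [h3]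
      _ = b * g * (τ * τ) := by simp only [mul_assoc]
      _ = b * g := by rw [h.hτ2, mul_one]

/-- `P` is a Sylow 2-subgroup. -/
theorem index_P [Finite Q] : ¬ 2 ∣ (P h).index := by
  have h2 : Fact (Nat.Prime 2) := ⟨Nat.prime_two⟩
  have hAp : IsPGroup 2 A := by
    intro a
    exact ⟨1, Subtype.ext (by rw [pow_one, pow_two]; exact h.hA a a.2)⟩
  obtain ⟨n, hn⟩ := (IsPGroup.iff_card).1 hAp
  have hPp : IsPGroup 2 (P h) := by
    rw [IsPGroup.iff_card]
    exact ⟨n + 1, by rw [card_P h, hn, pow_succ, mul_comm]⟩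
  obtain ⟨T, hT⟩ := hPp.exists_le_sylow
  have hAT : ∀ a ∈ A, a ∈ (T : Subgroup Q) := fun a ha => hT ((mem_P h).2 (Or.inl ha))
  have hτT : τ ∈ (T : Subgroup Q) := hT ((mem_P h).2 (Or.inr (by rw [h.hτ2]; exact A.one_mem)))
  have hnt : Nontrivial T := by
    refine ⟨⟨⟨τ, hτT⟩, 1, fun h1 => h.hτA ?_⟩⟩
    have h3 : τ = 1 := congrArg Subtype.val h1
    rw [h3]
    exact A.one_mem
  have hcn := T.2.center_nontrivial
  obtain ⟨⟨⟨ζ, hζT⟩, hζc⟩, hζ1⟩ := exists_ne (1 : center T)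
  have hζ : ∀ g ∈ (T : Subgroup Q), g * ζ = ζ * g := by
    intro g hg
    exact congrArg Subtype.val (mem_center_iff.1 hζc ⟨g, hg⟩)
  have hζ1' : ζ ≠ 1 := fun h3 => hζ1 (Subtype.ext (Subtype.ext h3))
  have hζP : ζ ∈ P h := cent_P h h.he h.he1 ((hζ e (hAT e (h.hBA h.he))).symm)
  have hζA : ζ ∈ A := by
    rcases (mem_P h).1 hζP with h3 | h3
    · exact h3
    · exfalso
      obtain ⟨v, hvA, hvB⟩ := h.hv
      apply hvB
      rw [← h.hB v hvA]
      have h4 := comm_A h hvA h3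
      have h5 := hζ v (hAT v hvA)
      have h6 : ζ * (v * τ) = ζ * (τ * v) := by
        calc ζ * (v * τ) = (ζ * v) * τ := by simp only [mul_assoc]
          _ = v * (ζ * τ) := by rw [← h5]; simp only [mul_assoc]
          _ = ζ * τ * v := h4
          _ = ζ * (τ * v) := by simp only [mul_assoc]
      exact mul_left_cancel h6
  have hζB : ζ ∈ B := (h.hB ζ hζA).1 (hζ τ hτT).symm
  have hTP : (T : Subgroup Q) ≤ P h := fun g hg => cent_P h hζB hζ1' (hζ g hg)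
  have hTP' : (T : Subgroup Q) = P h := le_antisymm hTP hT
  rw [← hTP']
  exact T.not_dvd_index

/-- the sign of the permutation on the cosets of `A` -/
noncomputable def sg (A : Subgroup Q) [Finite Q] : Q →* ℤˣ :=
  letI := Fintype.ofFinite (Q ⧸ A)
  letI := Classical.decEq (Q ⧸ A)
  Perm.sign.comp (MulAction.toPermHom Q (Q ⧸ A))

theorem sg_τ [Finite Q] : sg A τ = -1 := by
  let _ := Fintype.ofFinite (Q ⧸ A)
  let _ := Classical.decEq (Q ⧸ A)
  change Perm.sign (MulAction.toPermHom Q (Q ⧸ A) τ) = -1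
  have h1 : MulAction.toPermHom Q (Q ⧸ A) τ * MulAction.toPermHom Q (Q ⧸ A) τ = 1 := by
    rw [← map_mul, h.hτ2, map_one]
  rw [SporadicA.PermTab.sign_of_involution h1]
  have h2 : (MulAction.toPermHom Q (Q ⧸ A) τ).support = Finset.univ := by
    ext x
    simp only [Perm.mem_support, Finset.mem_univ, iff_true]
    intro hx
    obtain ⟨g, rfl⟩ := QuotientGroup.mk_surjective x
    have h3 : ((τ * g : Q) : Q ⧸ A) = (g : Q ⧸ A) := hx
    rw [QuotientGroup.eq] at h3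
    apply h.hT _ h3
    rw [isConj_iff]
    refine ⟨g⁻¹, ?_⟩
    rw [mul_inv_rev, τ_inv h, inv_inv]
  rw [h2, Finset.card_univ, ← Nat.card_eq_fintype_card]
  change (-1 : ℤˣ) ^ (A.index / 2) = -1
  have h3 : A.index = 2 * (P h).index := by
    have h4 := A.card_mul_index
    have h5 := (P h).card_mul_index
    rw [card_P h] at h5
    have h6 : 0 < Nat.card A := Nat.card_pos
    have h7 : Nat.card A * A.index = Nat.card A * (2 * (P h).index) := by
      rw [h4, ← h5]; ring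
    exact Nat.eq_of_mul_eq_mul_left h6 h7
  rw [h3, Nat.mul_div_cancel_left _ (by norm_num : 0 < 2)]
  have h4 : Odd (P h).index := by
    rw [← Nat.not_even_iff_odd, even_iff_two_dvd]
    exact index_P h
  exact h4.neg_one_pow

/-- conjugation by `y` preserves `B` -/
theorem yB {b : Q} (hb : b ∈ B) : y⁻¹ * b * y ∈ B := by
  have hyi : y * y = y⁻¹ := eq_inv_of_mul_eq_one_left h.hy3
  rcases h.hB4 b hb with rfl | rfl | rfl | rfl
  · rw [mul_one, inv_mul_cancel]; exact B.one_mem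
  · exact h.hye
  · have h1 : y⁻¹ * (y⁻¹ * e * y) * y = y * e * y⁻¹ := by
      have h2 : y⁻¹ * y⁻¹ = y := by
        rw [← mul_inv_rev, hyi, inv_inv]
      calc y⁻¹ * (y⁻¹ * e * y) * y = (y⁻¹ * y⁻¹) * e * (y * y) := by simp only [mul_assoc]
        _ = y * e * y⁻¹ := by rw [h2, hyi]
    rw [h1, ← h.hye3]
    exact B.mul_mem h.he h.hye
  · have h1 : y⁻¹ * (y * e * y⁻¹) * y = e := by group
    rw [h1]
    exact h.he

theorem yB' {b : Q} (hb : b ∈ B) : y * b * y⁻¹ ∈ B := by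
  have hyi : y * y = y⁻¹ := eq_inv_of_mul_eq_one_left h.hy3
  have h1 := yB h (yB h hb)
  have h2 : y⁻¹ * y⁻¹ = y := by rw [← mul_inv_rev, hyi, inv_inv]
  have h3 : y⁻¹ * (y⁻¹ * b * y) * y = y * b * y⁻¹ := by
    calc y⁻¹ * (y⁻¹ * b * y) * y = (y⁻¹ * y⁻¹) * b * (y * y) := by simp only [mul_assoc]
      _ = y * b * y⁻¹ := by rw [h2, hyi]
  rwa [h3] at h1

theorem τ_comm_conj {g : Q} : τ * (y⁻¹ * g * y) * τ = y⁻¹ * (τ * g * τ) * y := by
  have h1 : τ * y⁻¹ = y⁻¹ * τ := by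
    have h2 : Commute y τ := h.hyτ
    exact (h2.symm.inv_right).eq
  have h3 : y * τ = τ * y := h.hyτ
  calc τ * (y⁻¹ * g * y) * τ = (τ * y⁻¹) * g * (y * τ) := by simp only [mul_assoc]
    _ = (y⁻¹ * τ) * g * (τ * y) := by rw [h1, h3]
    _ = y⁻¹ * (τ * g * τ) * y := by simp only [mul_assoc]

/-- conjugation by `y` preserves `A` -/
theorem yA {a : Q} (ha : a ∈ A) : y⁻¹ * a * y ∈ A := by
  -- `a^y` commutes with `e^y`
  have hne : y⁻¹ * e * y ≠ 1 := by
    intro h1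
    apply h.he1
    have h2 : e = y * (y⁻¹ * e * y) * y⁻¹ := by group
    rw [h2, h1, mul_one, mul_inv_cancel]
  have h1 : (y⁻¹ * a * y) * (y⁻¹ * e * y) = (y⁻¹ * e * y) * (y⁻¹ * a * y) := by
    have h2 := comm_A h ha (h.hBA h.he)
    calc (y⁻¹ * a * y) * (y⁻¹ * e * y) = y⁻¹ * (a * e) * y := by group
      _ = y⁻¹ * (e * a) * y := by rw [h2]
      _ = _ := by group
  rcases h.hcent _ h.hye hne _ h1 with h2 | h2
  · exact h2
  · exfalso
    set a' := y⁻¹ * a * y * τ with ha'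
    -- `a'` commutes with `τ`
    have h3 : y⁻¹ * a * y = a' * τ := by rw [ha', mul_assoc _ τ τ, h.hτ2, mul_one]
    have h4 : (y⁻¹ * a * y) * (y⁻¹ * a * y) = 1 := by
      calc (y⁻¹ * a * y) * (y⁻¹ * a * y) = y⁻¹ * (a * a) * y := by group
        _ = 1 := by rw [h.hA a ha, mul_one, inv_mul_cancel]
    rw [h3] at h4
    have h5 : a' * τ = τ * a' := by
      have h6 : a' * a' = 1 := h.hA _ h2
      calc a' * τ = a' * τ * (a' * a') := by rw [h6, mul_one]
        _ = a' * τ * a' * (τ * τ) * a' := by rw [h.hτ2, mul_one]; simp only [mul_assoc]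
        _ = (a' * τ * (a' * τ)) * (τ * a') := by simp only [mul_assoc]
        _ = τ * a' := by rw [h4, one_mul]
    have h6 : a' ∈ B := (h.hB _ h2).1 h5
    have h7 : a = y * a' * y⁻¹ * τ := by
      have h8 : y * τ * y⁻¹ = τ := by rw [h.hyτ, mul_inv_cancel_right]
      calc a = y * (y⁻¹ * a * y) * y⁻¹ := by group
        _ = y * (a' * τ) * y⁻¹ := by rw [h3]
        _ = y * a' * y⁻¹ * (y * τ * y⁻¹) := by group
        _ = y * a' * y⁻¹ * τ := by rw [h8]
    have h9 : y * a' * y⁻¹ ∈ A := h.hBA (yB' h h6)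
    apply h.hτA
    have h10 : τ = (y * a' * y⁻¹)⁻¹ * a := by rw [h7, inv_mul_cancel_left]
    rw [h10]
    exact A.mul_mem (A.inv_mem h9) ha

theorem yA' {b : Q} (hb : b ∈ A) : y * b * y⁻¹ ∈ A := by
  have hyi : y * y = y⁻¹ := eq_inv_of_mul_eq_one_left h.hy3
  have h1 := yA h (yA h hb)
  have h2 : y⁻¹ * y⁻¹ = y := by rw [← mul_inv_rev, hyi, inv_inv]
  have h3 : y⁻¹ * (y⁻¹ * b * y) * y = y * b * y⁻¹ := by
    calc y⁻¹ * (y⁻¹ * b * y) * y = (y⁻¹ * y⁻¹) * b * (y * y) := by simp only [mul_assoc]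
      _ = y * b * y⁻¹ := by rw [h2, hyi]
  rwa [h3] at h1

/-- the commutator `[a, τ]` -/
theorem β_mem {a : Q} (ha : a ∈ A) : a * (τ * a * τ) ∈ B := by
  have h1 := h.hconj a ha
  rw [← h.hB _ (A.mul_mem ha h1)]
  have h2 := comm_A h ha h1
  calc a * (τ * a * τ) * τ = a * τ * a * (τ * τ) := by simp only [mul_assoc]
    _ = a * τ * a := by rw [h.hτ2, mul_one]
    _ = (τ * τ) * (a * τ * a) := by rw [h.hτ2, one_mul]
    _ = τ * ((τ * a * τ) * a) := by simp only [mul_assoc]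
    _ = τ * (a * (τ * a * τ)) := by rw [h2]

/-- product of the three elements of `B#` -/
theorem prod_B {b : Q} (hb : b ∈ B) : b * (y⁻¹ * b * y) * (y * b * y⁻¹) = 1 := by
  have hyi : y * y = y⁻¹ := eq_inv_of_mul_eq_one_left h.hy3
  have h2 : y⁻¹ * y⁻¹ = y := by rw [← mul_inv_rev, hyi, inv_inv]
  have he3 : y * e * y⁻¹ * (y * e * y⁻¹) = 1 := by
    calc y * e * y⁻¹ * (y * e * y⁻¹) = y * (e * e) * y⁻¹ := by group
      _ = 1 := by rw [h.hA e (h.hBA h.he), mul_one, mul_inv_cancel]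
  have hc1 := comm_A h (h.hBA h.he) (h.hBA h.hye)
  have hye' : y * e * y⁻¹ ∈ B := by rw [← h.hye3]; exact B.mul_mem h.he h.hye
  have hc2 := comm_A h (h.hBA h.he) (h.hBA hye')
  have hmain : e * (y⁻¹ * e * y) * (y * e * y⁻¹) = 1 := by rw [h.hye3, he3]
  rcases h.hB4 b hb with rfl | rfl | rfl | rfl
  · group
  · exact hmain
  · have e1 : y⁻¹ * (y⁻¹ * e * y) * y = y * e * y⁻¹ := by
      calc y⁻¹ * (y⁻¹ * e * y) * y = (y⁻¹ * y⁻¹) * e * (y * y) := by simp only [mul_assoc]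
        _ = y * e * y⁻¹ := by rw [h2, hyi]
    have e2 : y * (y⁻¹ * e * y) * y⁻¹ = e := by group
    rw [e1, e2, mul_assoc, ← hc2, ← mul_assoc, ← hc1]
    exact hmain
  · have e1 : y⁻¹ * (y * e * y⁻¹) * y = e := by group
    have e2 : y * (y * e * y⁻¹) * y⁻¹ = y⁻¹ * e * y := by
      calc y * (y * e * y⁻¹) * y⁻¹ = (y * y) * e * (y⁻¹ * y⁻¹) := by simp only [mul_assoc]
        _ = y⁻¹ * e * y := by rw [h2, hyi]
    rw [e1, e2, mul_assoc, ← comm_A h (h.hBA (B.mul_mem h.he h.hye)) (h.hBA hye')]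
    exact hmain

omit [Group Q] h in
theorem sg_cube_eq {s : ℤˣ} (hs : s * s * s = 1) : s = 1 := by
  revert s
  decide

theorem sg_B [Finite Q] {b : Q} (hb : b ∈ B) : sg A b = 1 := by
  apply sg_cube_eq
  have h1 := congrArg (sg A) (prod_B h hb)
  simp only [map_mul, map_inv, map_one] at h1
  have h2 : ∀ s t : ℤˣ, s * (t⁻¹ * s * t) * (t * s * t⁻¹) = s * s * s := by decide
  rw [h2] at h1
  exact h1

theorem sg_A [Finite Q] {a : Q} (ha : a ∈ A) : sg A a = 1 := by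
  apply sg_cube_eq
  -- `a a^y a^(y²)` commutes with `τ`
  have hy1 := yA h ha
  have hy2 := yA' h ha
  have hyi : y * y = y⁻¹ := eq_inv_of_mul_eq_one_left h.hy3
  have hp : a * (y⁻¹ * a * y) * (y * a * y⁻¹) ∈ A := A.mul_mem (A.mul_mem ha hy1) hy2
  have hτ' : τ * (y * a * y⁻¹) * τ = y * (τ * a * τ) * y⁻¹ := by
    have e1 : y * a * y⁻¹ = y⁻¹ * (y⁻¹ * a * y) * y := by
      have h2 : y⁻¹ * y⁻¹ = y := by rw [← mul_inv_rev, hyi, inv_inv]
      calc y * a * y⁻¹ = (y⁻¹ * y⁻¹) * a * (y * y) := by rw [h2, hyi]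
        _ = _ := by simp only [mul_assoc]
    have e2 : y * (τ * a * τ) * y⁻¹ = y⁻¹ * (y⁻¹ * (τ * a * τ) * y) * y := by
      have h2 : y⁻¹ * y⁻¹ = y := by rw [← mul_inv_rev, hyi, inv_inv]
      calc y * (τ * a * τ) * y⁻¹ = (y⁻¹ * y⁻¹) * (τ * a * τ) * (y * y) := by rw [h2, hyi]
        _ = _ := by simp only [mul_assoc]
    rw [e1, τ_comm_conj h, τ_comm_conj h, e2]
  have hb := β_mem h ha
  have hprod := prod_B h hb
  have hτa := h.hconj a ha
  have hτa1 := yA h hτa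
  have hτa2 := yA' h hτa
  have hB : a * (y⁻¹ * a * y) * (y * a * y⁻¹) ∈ B := by
    rw [← h.hB _ hp]
    -- show `p (τ p τ) = 1`
    have e1 : (a * (y⁻¹ * a * y) * (y * a * y⁻¹)) *
        (τ * (a * (y⁻¹ * a * y) * (y * a * y⁻¹)) * τ) = 1 := by
      have e2 : τ * (a * (y⁻¹ * a * y) * (y * a * y⁻¹)) * τ =
          (τ * a * τ) * (y⁻¹ * (τ * a * τ) * y) * (y * (τ * a * τ) * y⁻¹) := by
        rw [← τ_comm_conj h, ← hτ']
        calc τ * (a * (y⁻¹ * a * y) * (y * a * y⁻¹)) * τ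
            = τ * a * 1 * (y⁻¹ * a * y) * 1 * (y * a * y⁻¹) * τ := by
              simp only [mul_one, mul_assoc]
          _ = τ * a * (τ * τ) * (y⁻¹ * a * y) * (τ * τ) * (y * a * y⁻¹) * τ := by rw [h.hτ2]
          _ = _ := by simp only [mul_assoc]
      rw [e2]
      set b1 := y⁻¹ * a * y
      set b2 := y * a * y⁻¹
      set c0 := τ * a * τ
      have e3 : y⁻¹ * (a * c0) * y = b1 * (y⁻¹ * c0 * y) := by
        change y⁻¹ * (a * c0) * y = (y⁻¹ * a * y) * (y⁻¹ * c0 * y)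
        group
      have e4 : y * (a * c0) * y⁻¹ = b2 * (y * c0 * y⁻¹) := by
        change y * (a * c0) * y⁻¹ = (y * a * y⁻¹) * (y * c0 * y⁻¹)
        group
      rw [e3, e4] at hprod
      set c1 := y⁻¹ * c0 * y
      set c2 := y * c0 * y⁻¹
      calc a * b1 * b2 * (c0 * c1 * c2) = a * b1 * (b2 * c0) * c1 * c2 := by
            simp only [mul_assoc]
        _ = a * b1 * (c0 * b2) * c1 * c2 := by rw [comm_A h hy2 hτa]
        _ = a * (b1 * c0) * (b2 * c1) * c2 := by simp only [mul_assoc]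
        _ = a * (c0 * b1) * (c1 * b2) * c2 := by rw [comm_A h hy1 hτa, comm_A h hy2 hτa1]
        _ = a * c0 * (b1 * c1) * (b2 * c2) := by simp only [mul_assoc]
        _ = 1 := hprod
    set p := a * (y⁻¹ * a * y) * (y * a * y⁻¹)
    have e5 : τ * p * τ = p := by
      have e6 : p * p = 1 := h.hA p hp
      exact mul_left_cancel (e1.trans e6.symm)
    calc p * τ = (τ * p * τ) * τ := by rw [e5]
      _ = τ * p * (τ * τ) := by simp only [mul_assoc]
      _ = τ * p := by rw [h.hτ2, mul_one]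
  have h1 := sg_B h hB
  simp only [map_mul, map_inv] at h1
  have h2 : ∀ s t : ℤˣ, s * (t⁻¹ * s * t) * (t * s * t⁻¹) = s * s * s := by decide
  rw [h2] at h1
  exact h1

theorem sg_y [Finite Q] : sg A y = 1 := by
  apply sg_cube_eq
  have := congrArg (sg A) h.hy3
  simpa only [map_mul, map_one] using this

/-- centralisers in the even part. -/
theorem cent_even [Finite Q] {b : Q} (hb : b ∈ B) (hb1 : b ≠ 1) {g : Q} (hg : g * b = b * g)
    (hs : sg A g = 1) : g ∈ A := by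
  rcases h.hcent b hb hb1 g hg with h1 | h1
  · exact h1
  · exfalso
    have h2 := sg_A h h1
    rw [map_mul, hs, sg_τ h, one_mul] at h2
    exact absurd h2 (by decide)

end

end Cfsg.Agent.HN.HypQuot
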