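import Mathlib

set_option autoImplicit false

/-!
Four commuting involutions.
-/

namespace Cfsg.Agent.HN.Inv4

variable {G : Type*} [Group G]

/-- `x` or `1`. -/
def bp (b : Bool) (x : G) : G := bif b then x else 1

@[simp] theorem bp_true (x : G) : bp true x = x := rfl
@[simp] theorem bp_false (x : G) : bp false x = 1 := rfl

theorem bp_mul {x : G} (h : x * x = 1) (b b' : Bool) : bp b x * bp b' x = bp (xor b b') x := by
  cases b <;> cases b' <;> simp [h]

theorem bp_comm {x x' : G} (h : x * x' = x' * x) (b b' : Bool) :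
    Commute (bp b x) (bp b' x') := by
  cases b <;> cases b'
  · exact Commute.one_left _
  · exact Commute.one_left _
  · exact Commute.one_right _
  · exact h

/-- four bits -/
abbrev V : Type := Bool × Bool × Bool × Bool

/-- sum -/
def add (v w : V) : V := (xor v.1 w.1, xor v.2.1 w.2.1, xor v.2.2.1 w.2.2.1, xor v.2.2.2 w.2.2.2)

/-- products of the four involutions -/
def F (p q r s : G) (v : V) : G := (bp v.1 p * bp v.2.1 q) * (bp v.2.2.1 r * bp v.2.2.2 s)

/-- commuting involutions -/
structure I4 (p q r s : G) : Prop where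
  pp : p * p = 1
  qq : q * q = 1
  rr : r * r = 1
  ss : s * s = 1
  pq : p * q = q * p
  pr : p * r = r * p
  ps : p * s = s * p
  qr : q * r = r * q
  qs : q * s = s * q
  rs : r * s = s * r

variable {p q r s : G}

theorem F_mul (h : I4 p q r s) (v w : V) : F p q r s v * F p q r s w = F p q r s (add v w) := by
  have h1 : Commute (bp v.2.2.1 r * bp v.2.2.2 s) (bp w.1 p * bp w.2.1 q) :=
    ((bp_comm h.pr.symm _ _).mul_right (bp_comm h.qr.symm _ _)).mul_left
      ((bp_comm h.ps.symm _ _).mul_right (bp_comm h.qs.symm _ _))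
  unfold F
  rw [h1.mul_mul_mul_comm, (bp_comm h.pq.symm _ _).mul_mul_mul_comm,
    (bp_comm h.rs.symm _ _).mul_mul_mul_comm, bp_mul h.pp, bp_mul h.qq, bp_mul h.rr, bp_mul h.ss]
  rfl

theorem F_zero : F p q r s (false, false, false, false) = 1 := by simp [F]

theorem add_self (v : V) : add v v = (false, false, false, false) := by
  rcases v with ⟨_ | _, _ | _, _ | _, _ | _⟩ <;> rfl

theorem F_sq (h : I4 p q r s) (v : V) : F p q r s v * F p q r s v = 1 := by
  rw [F_mul h, add_self, F_zero]

theorem F_inv (h : I4 p q r s) (v : V) : (F p q r s v)⁻¹ = F p q r s v :=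
  inv_eq_of_mul_eq_one_left (F_sq h v)

theorem F_comm (h : I4 p q r s) (v w : V) :
    F p q r s v * F p q r s w = F p q r s w * F p q r s v := by
  rw [F_mul h, F_mul h]
  congr 1
  revert v w
  decide

theorem F_1000 : F p q r s (true, false, false, false) = p := by simp [F]
theorem F_0100 : F p q r s (false, true, false, false) = q := by simp [F]
theorem F_0010 : F p q r s (false, false, true, false) = r := by simp [F]
theorem F_0001 : F p q r s (false, false, false, true) = s := by simp [F]

theorem F_commute {x : G} (h1 : x * p = p * x) (h2 : x * q = q * x) (h3 : x * r = r * x)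
    (h4 : x * s = s * x) (v : V) : x * F p q r s v = F p q r s v * x := by
  have c : ∀ (b : Bool) (g : G), x * g = g * x → Commute x (bp b g) := by
    intro b g hg
    cases b
    · exact Commute.one_right _
    · exact hg
  exact (((c _ _ h1).mul_right (c _ _ h2)).mul_right ((c _ _ h3).mul_right (c _ _ h4))).eq

/-- image under a homomorphism -/
theorem map_F {H : Type*} [Group H] (f : G →* H) (v : V) :
    f (F p q r s v) = F (f p) (f q) (f r) (f s) v := by
  rcases v with ⟨_ | _, _ | _, _ | _, _ | _⟩ <;> simp [F]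

/-- selection -/
def sel (b : Bool) (w : V) : V := bif b then w else (false, false, false, false)

/-- linear combination -/
def comb (w0 w1 w2 w3 v : V) : V :=
  add (add (sel v.1 w0) (sel v.2.1 w1)) (add (sel v.2.2.1 w2) (sel v.2.2.2 w3))

theorem bp_F (b : Bool) (w : V) : bp b (F p q r s w) = F p q r s (sel b w) := by
  cases b
  · exact F_zero.symm
  · rfl

/-- image under a homomorphism taking the generators into another group of this kind -/
theorem map_comb {H : Type*} [Group H] {p' q' r' s' : H} (h' : I4 p' q' r' s') (f : G →* H)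
    {w0 w1 w2 w3 : V} (h0 : f p = F p' q' r' s' w0) (h1 : f q = F p' q' r' s' w1)
    (h2 : f r = F p' q' r' s' w2) (h3 : f s = F p' q' r' s' w3) (v : V) :
    f (F p q r s v) = F p' q' r' s' (comb w0 w1 w2 w3 v) := by
  rw [map_F, h0, h1, h2, h3]
  have e : F (F p' q' r' s' w0) (F p' q' r' s' w1) (F p' q' r' s' w2) (F p' q' r' s' w3) v =
      (bp v.1 (F p' q' r' s' w0) * bp v.2.1 (F p' q' r' s' w1)) *
      (bp v.2.2.1 (F p' q' r' s' w2) * bp v.2.2.2 (F p' q' r' s' w3)) := rfl
  rw [e, bp_F, bp_F, bp_F, bp_F, F_mul h', F_mul h', F_mul h']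
  rfl

/-- the subgroup generated. -/
def S (h : I4 p q r s) : Subgroup G where
  carrier := Set.range (F p q r s)
  mul_mem' := by
    rintro _ _ ⟨v, rfl⟩ ⟨w, rfl⟩
    exact ⟨add v w, (F_mul h v w).symm⟩
  one_mem' := ⟨_, F_zero⟩
  inv_mem' := by
    rintro _ ⟨v, rfl⟩
    exact ⟨v, (F_inv h v).symm⟩

theorem mem_S (h : I4 p q r s) {g : G} : g ∈ S h ↔ ∃ v, F p q r s v = g := Iff.rfl

/-- conjugation homomorphism -/
def cj (g : G) : G →* G where
  toFun x := g⁻¹ * x * g
  map_one' := by group
  map_mul' x y := by group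

theorem cj_apply (g x : G) : cj g x = g⁻¹ * x * g := rfl

theorem cj_cj (g h x : G) : cj h (cj g x) = cj (g * h) x := by
  simp only [cj_apply, mul_inv_rev, mul_assoc]

theorem cj_inv_cj (g x : G) : cj g⁻¹ (cj g x) = x := by
  simp only [cj_apply]; group

theorem cj_cj_inv (g x : G) : cj g (cj g⁻¹ x) = x := by
  simp only [cj_apply]; group

theorem cj_injective (g : G) : Function.Injective (cj g) := by
  intro a b h
  rw [← cj_inv_cj g a, h, cj_inv_cj]

theorem cj_comm {g x y : G} (h : x * y = y * x) : cj g x * cj g y = cj g y * cj g x := by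
  rw [← map_mul, h, map_mul]

theorem cj_of_comm {g x : G} (h : g * x = x * g) : cj g x = x := by
  rw [cj_apply, mul_assoc, ← h, inv_mul_cancel_left]

theorem isConj_cj {a x : G} (g : G) : IsConj a (cj g x) ↔ IsConj a x := by
  have h : IsConj x (cj g x) := isConj_iff.2 ⟨g⁻¹, by rw [inv_inv]; rfl⟩
  exact ⟨fun h1 => h1.trans h.symm, fun h1 => h1.trans h⟩

end Cfsg.Agent.HN.Inv4
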