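import Cfsg.Agent.HN.Classes
import Cfsg.Agent.HN.IotaCent
import Cfsg.Agent.HN.LocalMain
import Cfsg.Agent.HN.WordSets

set_option autoImplicit false

/-!
Involutions of `H0` in a group `G` containing it together with an element `r` commuting with `ι A8` and
mapping `τ` to `z`: every involution of `H0` is conjugate in `G` to `τ` or to `a τ`.
-/

namespace Cfsg.Agent.HN.InvH0

open Cfsg.Agent.HN.Pres Cfsg.Agent.HN.P1408 Cfsg.Agent.HN.H0Basic Cfsg.Agent.HN.Syl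
open Cfsg.Agent.HN.Iota Cfsg.Agent.HN.WordSets Cfsg.Agent.HN.Local

theorem isConj_z_a2 : IsConj d (gz * iota p_a2) := by
  have h : IsConj (hw [1, 3, 1, 2, 1, 4, 3, 4, 2, 4]) (hw (4 :: [0, 2, 0, 2, 0, 2, 0, 2])) :=
    isConj_of_eqw (c := [0, 2, 2, 0, 2, 2, 2, 0, 2, 0, 3, 4, 3, 3, 4, 3, 3]) (by decide +kernel)
  rw [hw_cons 4, hw_z, ← iota_a2] at h
  exact h

theorem isConj_τ_a2 : IsConj (a * τ) (τ * iota p_a2) := by
  have h : IsConj (hw ([2, 2, 2] ++ [0, 0])) (hw ([0, 0] ++ [0, 2, 0, 2, 0, 2, 0, 2])) :=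
    isConj_of_eqw (c := [2, 2, 0, 3, 0, 3, 0, 3, 0]) (by decide +kernel)
  rw [hw_append, hw_append, hw_a, hw_τ, ← iota_a2] at h
  exact h

theorem isConj_w4_z : IsConj gz (gz * iota p_w4) := by
  rw [isConj_iff]
  exact ⟨(hw [0, 2, 2, 2, 0, 3, 4, 3, 0, 2, 4, 2])⁻¹, by rw [inv_inv]; exact z_w4.symm⟩

theorem isConj_w4_τ : IsConj a (τ * iota p_w4) := by
  rw [isConj_iff]
  exact ⟨(hw [4, 2, 0, 2, 0, 3, 0, 2, 2])⁻¹, by rw [inv_inv]; exact τ_w4.symm⟩

section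

variable {G : Type*} [Group G] {φ : H0 →* G} {r : G}

theorem isConj_mul (hr : r * φ τ * r⁻¹ = φ gz) (hc : ∀ s : A8, Commute r (φ (iota s))) (s : A8) :
    IsConj (φ (τ * iota s)) (φ (gz * iota s)) := by
  rw [isConj_iff]
  refine ⟨r, ?_⟩
  have h : r * φ (iota s) * r⁻¹ = φ (iota s) := by rw [(hc s).eq, mul_inv_cancel_right]
  calc r * φ (τ * iota s) * r⁻¹ = (r * φ τ * r⁻¹) * (r * φ (iota s) * r⁻¹) := by
        rw [map_mul]; group
    _ = φ (gz * iota s) := by rw [hr, h, map_mul]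

theorem isConj_z (hr : r * φ τ * r⁻¹ = φ gz) : IsConj (φ τ) (φ gz) :=
  isConj_iff.2 ⟨r, hr⟩

theorem isConj_a (hr : r * φ τ * r⁻¹ = φ gz) (hc : ∀ s : A8, Commute r (φ (iota s))) :
    IsConj (φ τ) (φ a) :=
  (isConj_z hr).trans <| (φ.map_isConj isConj_w4_z).trans <|
    (isConj_mul hr hc p_w4).symm.trans (φ.map_isConj isConj_w4_τ).symm

theorem isConj_d (hr : r * φ τ * r⁻¹ = φ gz) (hc : ∀ s : A8, Commute r (φ (iota s))) :
    IsConj (φ (a * τ)) (φ d) :=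
  (φ.map_isConj isConj_τ_a2).trans <| (isConj_mul hr hc p_a2).trans (φ.map_isConj isConj_z_a2).symm

/-- **Every involution of `H0` is conjugate in `G` to `τ` or to `a τ`.** -/
theorem involution (hr : r * φ τ * r⁻¹ = φ gz) (hc : ∀ s : A8, Commute r (φ (iota s))) {v : H0}
    (hv : v * v = 1) (h1 : v ≠ 1) : IsConj (φ τ) (φ v) ∨ IsConj (φ (a * τ)) (φ v) := by
  rcases involution_cases (by rw [pow_two, hv]) with h | h | h | h | h | h
  · exact absurd h h1
  · rw [h]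
    exact Or.inl (IsConj.refl _)
  · exact Or.inl ((isConj_a hr hc).trans (φ.map_isConj h))
  · exact Or.inr (φ.map_isConj h)
  · exact Or.inl ((isConj_z hr).trans (φ.map_isConj h))
  · exact Or.inr ((isConj_d hr hc).trans (φ.map_isConj h))

/-- The same from the structure `Quad` (in particular from `Out`). -/
theorem involution_of_quad {x : G} (Q : Quad (φ τ) (φ gz) (φ.comp iota) x) {v : H0}
    (hv : v * v = 1) (h1 : v ≠ 1) : IsConj (φ τ) (φ v) ∨ IsConj (φ (a * τ)) (φ v) :=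
  involution Q.xu Q.cx hv h1

end

end Cfsg.Agent.HN.InvH0
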