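import Mathlib
import Cfsg.Agent.TwoFusion.ElemCentSylow

set_option autoImplicit false

/-!
Lemma X of the fusion analysis for groups of Harada–Norton type: an abstract statement about a class `Q` of
involutions whose centralisers are 2-groups meeting `Q` in a four-group only.
-/

namespace Cfsg.Agent.HN.LemmaX

open Subgroup

/-- An abelian self-normalising 2-subgroup `S` is a Sylow 2-subgroup with a normal complement; if moreover `S`
contains two commuting involutions `p₁, p₂` such that `p₁, p₂, p₁p₂` have 2-groups as centralisers then `S` is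
everything. -/
theorem eq_top_of_self_normalizing {Y : Type*} [Group Y] [Finite Y] (S : Subgroup Y) (hS2 : IsPGroup 2 S)
    (hSc : ∀ a ∈ S, ∀ b ∈ S, a * b = b * a)
    (hN : ∀ n : Y, (∀ c ∈ S, n * c * n⁻¹ ∈ S) → n ∈ S)
    (p₁ p₂ : Y) (hp₁ : p₁ * p₁ = 1) (hp₂ : p₂ * p₂ = 1)
    (hc₁ : ∀ x : Y, x * p₁ = p₁ * x → ∃ k : ℕ, x ^ 2 ^ k = 1)
    (hc₂ : ∀ x : Y, x * p₂ = p₂ * x → ∃ k : ℕ, x ^ 2 ^ k = 1)
    (hc₃ : ∀ x : Y, x * (p₁ * p₂) = (p₁ * p₂) * x → ∃ k : ℕ, x ^ 2 ^ k = 1) : S = ⊤ := by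
  classical
  have : Fact (Nat.Prime 2) := ⟨Nat.prime_two⟩
  -- `S` is a Sylow subgroup
  obtain ⟨T, hT⟩ := hS2.exists_le_sylow
  have hST : S = (T : Subgroup Y) := by
    by_contra hne
    have hnil : Group.IsNilpotent (T : Subgroup Y) := T.isPGroup'.isNilpotent
    have hcond := Group.normalizerCondition_of_isNilpotent (G := (T : Subgroup Y))
    have hlt : S.subgroupOf (T : Subgroup Y) < ⊤ := by
      refine lt_top_iff_ne_top.2 fun h => hne (le_antisymm hT ?_)
      exact subgroupOf_eq_top.1 h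
    obtain ⟨n, hn1, hn2⟩ := SetLike.exists_of_lt (hcond _ hlt)
    apply hn2
    rw [mem_subgroupOf]
    apply hN
    intro c hc
    have := (mem_normalizer_iff.1 hn1 ⟨c, hT hc⟩).1 (by rw [mem_subgroupOf]; exact hc)
    rw [mem_subgroupOf] at this
    exact this
  have hNC : normalizer (T : Set Y) ≤ centralizer (T : Set Y) := by
    intro n hn
    have hn' : n ∈ S := by
      apply hN
      intro c hc
      rw [hST] at hc ⊢
      exact (mem_normalizer_iff.1 hn c).1 hc
    rw [mem_centralizer_iff]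
    intro c hc
    have hc' : c ∈ S := by rw [hST]; exact hc
    exact hSc c hc' n hn'
  set K := (MonoidHom.transferSylow T hNC).ker with hK
  have hcompl := MonoidHom.ker_transferSylow_isComplement' T hNC
  have hodd := MonoidHom.not_dvd_card_ker_transferSylow T hNC
  rw [← hK] at hcompl hodd
  have hKn : K.Normal := inferInstance
  -- elements of `K` of 2-power order are trivial
  have hK2 : ∀ x ∈ K, (∃ k : ℕ, x ^ 2 ^ k = 1) → x = 1 := by
    intro x hx ⟨k, hk⟩
    have h1 : orderOf x ∣ 2 ^ k := orderOf_dvd_of_pow_eq_one hk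
    have h2 : orderOf x ∣ Nat.card K := by
      have := orderOf_dvd_natCard (⟨x, hx⟩ : K)
      rwa [← Subgroup.orderOf_coe] at this
    have hco : Nat.Coprime (2 ^ k) (Nat.card K) :=
      Nat.Coprime.pow_left _ ((Nat.Prime.coprime_iff_not_dvd Nat.prime_two).2 hodd)
    exact orderOf_eq_one_iff.1 (Nat.eq_one_of_dvd_coprimes hco h1 h2)
  -- inversion
  have hinv : ∀ p : Y, p * p = 1 → (∀ x : Y, x * p = p * x → ∃ k : ℕ, x ^ 2 ^ k = 1) →
      ∀ x ∈ K, p * x * p⁻¹ = x⁻¹ := by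
    intro p hp hc x hx
    let φ : K →* K := (MulAut.conjNormal p : MulAut K).toMonoidHom
    have hφ : MonoidHom.FixedPointFree φ := by
      intro g hg
      have h1 : p * (g : Y) * p⁻¹ = g := by
        have := congrArg (Subtype.val) hg
        simpa [φ, MulAut.conjNormal_apply] using this
      have h2 : (g : Y) * p = p * g := by
        nth_rewrite 1 [← h1]
        group
      exact Subtype.ext (hK2 g g.2 (hc _ h2))
    have hinvol : Function.Involutive φ := by
      intro g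
      apply Subtype.ext
      have : p * (p * (g : Y) * p⁻¹) * p⁻¹ = g := by
        have hpi : p⁻¹ = p := inv_eq_of_mul_eq_one_left hp
        rw [hpi]
        calc p * (p * (g : Y) * p) * p = (p * p) * g * (p * p) := by group
          _ = g := by rw [hp]; group
      simpa [φ, MulAut.conjNormal_apply] using this
    have := congrFun (hφ.coe_eq_inv_of_involutive hinvol) ⟨x, hx⟩
    have := congrArg Subtype.val this
    simpa [φ, MulAut.conjNormal_apply] using this
  have hKbot : K = ⊥ := by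
    rw [eq_bot_iff]
    intro x hx
    rw [mem_bot]
    apply hK2 x hx
    apply hc₃
    have e1 := hinv p₁ hp₁ hc₁ _ (K.inv_mem hx)
    have e2 := hinv p₂ hp₂ hc₂ x hx
    rw [inv_inv] at e1
    rw [← e2] at e1
    have : (p₁ * p₂) * x * (p₁ * p₂)⁻¹ = x := by
      calc p₁ * p₂ * x * (p₁ * p₂)⁻¹ = p₁ * (p₂ * x * p₂⁻¹) * p₁⁻¹ := by group
        _ = x := e1
    nth_rewrite 1 [← this]
    group
  have hTtop : (T : Subgroup Y) = ⊤ := by
    have := hcompl.sup_eq_top
    rwa [hKbot, bot_sup_eq] at this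
  rw [hST, hTtop]

/-- **Lemma X.** `Q` is a conjugation invariant set of involutions, `P` a four-group with `P minus 1 ⊆ Q`, `R` the
centraliser of every nontrivial element of `P` (a 2-group) with `Q ∩ R = P minus 1`; `R₀ ≤ R` is elementary abelian,
`P < R₀`, elements of `R₀` outside `P` have centraliser `R₀` in `R`, `R` acts trivially on `R₀ / P`, and `α`
normalises `R₀`, acts fixed-point-freely on `P` and on `R₀ / P`. Then `Q ⊆ P`. -/
theorem lemmaX {X : Type*} [Group X] [Finite X] (Q : Set X) (hQ2 : ∀ q ∈ Q, orderOf q = 2)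
    (hQc : ∀ q ∈ Q, ∀ x : X, x * q * x⁻¹ ∈ Q) (P R₀ R : Subgroup X)
    (p₁ p₂ : X) (hp₁ : p₁ ∈ P) (hp₂ : p₂ ∈ P) (hp₁1 : p₁ ≠ 1) (hp₂1 : p₂ ≠ 1) (hp₁₂ : p₁ ≠ p₂)
    (hP4 : ∀ p ∈ P, p = 1 ∨ p = p₁ ∨ p = p₂ ∨ p = p₁ * p₂)
    (hPQ : ∀ p ∈ P, p ≠ 1 → p ∈ Q)
    (hR : ∀ p ∈ P, p ≠ 1 → ∀ x : X, x ∈ R ↔ x * p = p * x)
    (hRQ : ∀ q ∈ Q, q ∈ R → q ∈ P) (hR2 : ∀ x ∈ R, ∃ k : ℕ, x ^ 2 ^ k = 1)
    (hPR₀ : P ≤ R₀) (hR₀R : R₀ ≤ R) (hR₀c : ∀ a ∈ R₀, ∀ b ∈ R₀, a * b = b * a)
    (hR₀2 : ∀ a ∈ R₀, a * a = 1)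
    (hcR : ∀ c ∈ R₀, c ∉ P → ∀ x ∈ R, x * c = c * x → x ∈ R₀)
    (hRR : ∀ c ∈ R₀, ∀ x ∈ R, x * c * x⁻¹ * c⁻¹ ∈ P)
    (α : X) (hαR₀ : ∀ c ∈ R₀, α * c * α⁻¹ ∈ R₀)
    (hαP : ∀ p ∈ P, α * p * α⁻¹ = p → p = 1)
    (hα : ∀ c ∈ R₀, α * c * α⁻¹ * c⁻¹ ∈ P → c ∈ P)
    (v : X) (hv : v ∈ R₀) (hvP : v ∉ P) : ∀ q ∈ Q, q ∈ P := by
  classical
  -- squares
  have hQsq : ∀ q ∈ Q, q * q = 1 := fun q hq => by
    rw [← pow_two, ← hQ2 q hq, pow_orderOf_eq_one]
  have hp₃ : p₁ * p₂ ≠ 1 := by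
    intro h
    apply hp₁₂
    have := hR₀2 p₁ (hPR₀ hp₁)
    calc p₁ = p₁⁻¹ := (inv_eq_of_mul_eq_one_left this).symm
      _ = p₂ := inv_eq_of_mul_eq_one_right h
  have hp₃P : p₁ * p₂ ∈ P := P.mul_mem hp₁ hp₂
  -- P is normalised by the normaliser of R₀
  have hNP : ∀ n : X, (∀ c ∈ R₀, n * c * n⁻¹ ∈ R₀) → ∀ p ∈ P, n * p * n⁻¹ ∈ P := by
    intro n hn p hp
    by_cases h1 : p = 1
    · rw [h1, mul_one, mul_inv_cancel]; exact P.one_mem
    · exact hRQ _ (hQc p (hPQ p hp h1) n) (hR₀R (hn p (hPR₀ hp)))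
  -- elements of R normalise R₀
  -- the crucial computation: centraliser in R⟨α⟩
  have key : ∀ u ∈ R₀, u ∉ P → ∀ n : X, (∀ c ∈ R₀, n * c * n⁻¹ ∈ R₀) → n * u = u * n → n ∈ R₀ := by
    intro u hu huP n hn hnu
    by_cases hfix : ∃ p ∈ P, p ≠ 1 ∧ n * p = p * n
    · obtain ⟨p, hp, hp1, hnp⟩ := hfix
      exact hcR u hu huP n ((hR p hp hp1 n).2 hnp) hnu
    · exfalso
      push Not at hfix
      have hnP := hNP n hn
      have hαPP := hNP α hαR₀
      -- images of p₁
      have hne : ∀ (m : X), (∀ p ∈ P, m * p * m⁻¹ ∈ P) → ∀ p ∈ P, p ≠ 1 → m * p * m⁻¹ ≠ 1 := by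
        intro m _ p _ hp1 h
        apply hp1
        rw [mul_inv_eq_one] at h
        exact mul_eq_left.1 h
      -- reduce to: exists y ∈ R with n = α y or n = α⁻¹ y
      have hnu' : n * u * n⁻¹ = u := by rw [hnu, mul_inv_cancel_right]
      have hcase : (α⁻¹ * n ∈ R) ∨ (α * n ∈ R) := by
        have hn1 : n * p₁ * n⁻¹ ≠ p₁ := fun h => hfix p₁ hp₁ hp₁1 (mul_inv_eq_iff_eq_mul.1 h)
        have ha1 : α * p₁ * α⁻¹ ≠ p₁ := fun h => hp₁1 (hαP p₁ hp₁ h)
        have ha2 : α * p₂ * α⁻¹ ≠ p₂ := fun h => hp₂1 (hαP p₂ hp₂ h)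
        have ha3 : α * (p₁ * p₂) * α⁻¹ ≠ p₁ * p₂ := fun h => hp₃ (hαP _ hp₃P h)
        have hinj : ∀ a b : X, α * a * α⁻¹ = α * b * α⁻¹ → a = b := by
          intro a b h
          exact mul_left_cancel (mul_right_cancel h)
        have i1 := hne α hαPP p₁ hp₁ hp₁1
        have i2 := hne α hαPP p₂ hp₂ hp₂1
        have i3 := hne α hαPP _ hp₃P hp₃
        have j1 := hne n hnP p₁ hp₁ hp₁1
        have e12 : ∀ a b : X, a = b → b = a := fun _ _ h => h.symm
        have hmulconj : α * (p₁ * p₂) * α⁻¹ = (α * p₁ * α⁻¹) * (α * p₂ * α⁻¹) := by group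
        have hcomm : p₁ * p₂ = p₂ * p₁ := hR₀c _ (hPR₀ hp₁) _ (hPR₀ hp₂)
        have s1 := hR₀2 _ (hPR₀ hp₁)
        have s2 := hR₀2 _ (hPR₀ hp₂)
        -- values of α on p₁, p₂, p₁p₂
        rcases hP4 _ (hnP p₁ hp₁) with h | h | h | h
        · exact absurd h j1
        · exact absurd h hn1
        · -- n : p₁ → p₂
          rcases hP4 _ (hαPP p₁ hp₁) with g | g | g | g
          · exact absurd g i1
          · exact absurd g ha1
          · left
            refine (hR p₁ hp₁ hp₁1 _).2 ?_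
            have : α⁻¹ * (n * p₁ * n⁻¹) * α = p₁ := by
              rw [h, ← g]; group
            calc α⁻¹ * n * p₁ = α⁻¹ * (n * p₁ * n⁻¹) * α * (α⁻¹ * n) := by group
              _ = p₁ * (α⁻¹ * n) := by rw [this]
          · right
            -- α : p₁ → p₁p₂, so α p₂ = p₁
            have g2 : α * p₂ * α⁻¹ = p₁ := by
              rcases hP4 _ (hαPP p₂ hp₂) with k | k | k | k
              · exact absurd k i2
              · exact k
              · exact absurd k ha2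
              · exact absurd (hinj _ _ (g.trans k.symm)) hp₁₂
            refine (hR p₁ hp₁ hp₁1 _).2 ?_
            have : α * (n * p₁ * n⁻¹) * α⁻¹ = p₁ := by rw [h, g2]
            calc α * n * p₁ = α * (n * p₁ * n⁻¹) * α⁻¹ * (α * n) := by group
              _ = p₁ * (α * n) := by rw [this]
        · -- n : p₁ → p₁p₂
          rcases hP4 _ (hαPP p₁ hp₁) with g | g | g | g
          · exact absurd g i1
          · exact absurd g ha1
          · right
            -- α : p₁ → p₂, so α (p₁p₂) = p₁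
            have g3 : α * (p₁ * p₂) * α⁻¹ = p₁ := by
              rcases hP4 _ (hαPP _ hp₃P) with k | k | k | k
              · exact absurd k i3
              · exact k
              · have := hinj _ _ (g.trans k.symm)
                exact absurd (mul_eq_left.1 this.symm) hp₂1
              · exact absurd k ha3
            refine (hR p₁ hp₁ hp₁1 _).2 ?_
            have : α * (n * p₁ * n⁻¹) * α⁻¹ = p₁ := by rw [h, g3]
            calc α * n * p₁ = α * (n * p₁ * n⁻¹) * α⁻¹ * (α * n) := by group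
              _ = p₁ * (α * n) := by rw [this]
          · left
            refine (hR p₁ hp₁ hp₁1 _).2 ?_
            have : α⁻¹ * (n * p₁ * n⁻¹) * α = p₁ := by
              rw [h, ← g]; group
            calc α⁻¹ * n * p₁ = α⁻¹ * (n * p₁ * n⁻¹) * α * (α⁻¹ * n) := by group
              _ = p₁ * (α⁻¹ * n) := by rw [this]
      apply huP
      rcases hcase with hy | hy
      · -- n = α y
        have h1 := hRR u hu _ hy
        -- u = α (y u y⁻¹) α⁻¹
        set y := α⁻¹ * n with hydef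
        have h2 : n = α * y := by rw [hydef]; group
        have h3 : α * (y * u * y⁻¹ * u⁻¹) * α⁻¹ ∈ P := hαPP _ h1
        have h4 : α * u * α⁻¹ * u⁻¹ ∈ P := by
          have h5 : u * (α * u * α⁻¹)⁻¹ ∈ P := by
            have : u * (α * u * α⁻¹)⁻¹ = α * (y * u * y⁻¹ * u⁻¹) * α⁻¹ := by
              nth_rewrite 1 [← hnu']
              rw [h2]; group
            rw [this]; exact h3
          have := P.inv_mem h5
          rwa [mul_inv_rev, inv_inv] at this
        exact hα u hu h4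
      · -- n = α⁻¹ y
        have h1 := hRR u hu _ hy
        set y := α * n with hydef
        have h2 : n = α⁻¹ * y := by rw [hydef]; group
        -- α u α⁻¹ = y u y⁻¹
        have h3 : α * u * α⁻¹ = y * u * y⁻¹ := by
          nth_rewrite 1 [← hnu']
          rw [h2]; group
        rw [← h3] at h1
        exact hα u hu h1
  -- centralisers
  have hcent : ∀ u ∈ R₀, u ∉ P → ∀ x : X, x * u = u * x → x ∈ R₀ := by
    intro u hu huP
    have hR₀u : R₀ ≤ centralizer {u} := by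
      intro c hc
      rw [mem_centralizer_singleton_iff]
      exact hR₀c c hc u hu
    have htop : R₀.subgroupOf (centralizer {u}) = ⊤ := by
      have m1 : p₁ ∈ centralizer {u} := hR₀u (hPR₀ hp₁)
      have m2 : p₂ ∈ centralizer {u} := hR₀u (hPR₀ hp₂)
      have hc : ∀ p ∈ P, p ≠ 1 → ∀ x : centralizer ({u} : Set X), (x : X) * p = p * x →
          ∃ k : ℕ, x ^ 2 ^ k = 1 := by
        intro p hp hp1 x hx
        obtain ⟨k, hk⟩ := hR2 _ ((hR p hp hp1 _).2 hx)
        exact ⟨k, Subtype.ext (by simpa using hk)⟩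
      refine eq_top_of_self_normalizing _ ?_ ?_ ?_ ⟨p₁, m1⟩ ⟨p₂, m2⟩ ?_ ?_ ?_ ?_ ?_
      · intro x
        obtain ⟨k, hk⟩ := hR2 _ (hR₀R (mem_subgroupOf.1 x.2))
        exact ⟨k, Subtype.ext (Subtype.ext (by simpa using hk))⟩
      · intro a ha b hb
        exact Subtype.ext (hR₀c _ (mem_subgroupOf.1 ha) _ (mem_subgroupOf.1 hb))
      · intro n hn
        rw [mem_subgroupOf]
        refine key u hu huP n ?_ (mem_centralizer_singleton_iff.1 n.2)
        intro c hc
        have := hn ⟨c, hR₀u hc⟩ (mem_subgroupOf.2 hc)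
        exact mem_subgroupOf.1 this
      · exact Subtype.ext (hR₀2 _ (hPR₀ hp₁))
      · exact Subtype.ext (hR₀2 _ (hPR₀ hp₂))
      · intro x hx
        exact hc p₁ hp₁ hp₁1 x (congrArg Subtype.val hx)
      · intro x hx
        exact hc p₂ hp₂ hp₂1 x (congrArg Subtype.val hx)
      · intro x hx
        exact hc _ hp₃P hp₃ x (congrArg Subtype.val hx)
    intro x hx
    have hx' : x ∈ centralizer ({u} : Set X) := mem_centralizer_singleton_iff.2 hx
    have : (⟨x, hx'⟩ : centralizer ({u} : Set X)) ∈ R₀.subgroupOf (centralizer {u}) := by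
      rw [htop]; exact mem_top _
    exact mem_subgroupOf.1 this
  intro q hq
  by_contra hqP
  have hv2 : orderOf v = 2 := by
    apply orderOf_eq_prime
    · rw [pow_two]; exact hR₀2 v hv
    · rintro rfl; exact hvP P.one_mem
  rcases Cfsg.Agent.TwoFusion.ElemCentSylow.conj_or_comm q v (hQ2 q hq) hv2 with ⟨g, hg⟩ | ⟨c, hc2, hcq, hcv⟩
  · apply hvP
    apply hRQ v _ (hR₀R hv)
    rw [← hg]
    exact hQc q hq g
  · have hcR₀ : c ∈ R₀ := hcent v hv hvP c hcv
    have hc1 : c ≠ 1 := by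
      rintro rfl
      rw [orderOf_one] at hc2
      exact absurd hc2 (by norm_num)
    by_cases hcP : c ∈ P
    · exact hqP (hRQ q hq ((hR c hcP hc1 q).2 hcq.symm))
    · exact hqP (hRQ q hq (hR₀R (hcent c hcR₀ hcP q hcq.symm)))

end Cfsg.Agent.HN.LemmaX
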