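import Cfsg.Agent.HN.LocalX

/-!
# The local argument for the Harada–Norton type, version for `V × S₈`

Setting: `V = {1, u, v, uv}` is a four-group of `G` whose centraliser acts on `ι(A₈)` through the symmetric group
of degree eight, the kernel of the action being `V`.
-/

set_option autoImplicit false

namespace Cfsg.Agent.HN.Loc8

open Equiv Cfsg.Agent.HN.Local Cfsg.Agent.HN.LocalX

/-- Conjugation of an even permutation by a permutation. -/
def cj (p : Perm (Fin 8)) (s : A8) : A8 := MulAut.conjNormal p s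

theorem coe_cj (p : Perm (Fin 8)) (s : A8) : ((cj p s : A8) : Perm (Fin 8)) = p * (s : Perm (Fin 8)) * p⁻¹ :=
  MulAut.conjNormal_apply p s

theorem cj_coe (l s : A8) : cj (l : Perm (Fin 8)) s = l * s * l⁻¹ := Subtype.ext (coe_cj _ _)

theorem cj_mul (p : Perm (Fin 8)) (s s' : A8) : cj p (s * s') = cj p s * cj p s' := map_mul _ _ _

theorem cj_cj (p q : Perm (Fin 8)) (s : A8) : cj p (cj q s) = cj (p * q) s := by
  apply Subtype.ext
  rw [coe_cj, coe_cj, coe_cj]
  group

theorem cj_one (s : A8) : cj 1 s = s := by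
  apply Subtype.ext
  rw [coe_cj]
  group

theorem commute_of_cj {p : Perm (Fin 8)} {s : A8} (h : cj p s = s) : p * s = s * p := by
  have h1 := congrArg (fun a : A8 => (a : Perm (Fin 8))) h
  simp only [coe_cj] at h1
  rw [mul_inv_eq_iff_eq_mul] at h1
  exact h1

/-- The centraliser of four elements generating `A4 × A4`. -/
theorem cen4' {p : Perm (Fin 8)} (h1 : p * c2 = c2 * p) (h2 : p * c3 = c3 * p) (h3 : p * d6 = d6 * p)
    (h4 : p * d7 = d7 * p) : p = 1 := by
  have e1 : p * (swap 0 1 * swap 1 2) = (swap 0 1 * swap 1 2) * p := h1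
  have e2 : p * (swap 0 1 * swap 1 3) = (swap 0 1 * swap 1 3) * p := h2
  have e3 : p * (swap 4 5 * swap 5 6) = (swap 4 5 * swap 5 6) * p := h3
  have e4 : p * (swap 4 5 * swap 5 7) = (swap 4 5 * swap 5 7) * p := h4
  have ev : ∀ (q : Perm (Fin 8)) (h : p * q = q * p) (i : Fin 8), p (q i) = q (p i) := fun q h i => by
    have := congrArg (fun r : Perm (Fin 8) => r i) h
    exact this
  have k1 := ev _ e1
  have k2 := ev _ e2
  have k3 := ev _ e3
  have k4 := ev _ e4
  -- fixed points
  have f : ∀ (q : Perm (Fin 8)) (h : p * q = q * p) (i : Fin 8), q i = i → q (p i) = p i := fun q h i hi => by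
    rw [← ev q h i, hi]
  have a3 : p 3 = 3 := by
    have b1 := f _ e1 3 (by decide)
    have b3 := f _ e3 3 (by decide)
    have b4 := f _ e4 3 (by decide)
    revert b1 b3 b4
    generalize p 3 = j
    revert j
    decide
  have a2 : p 2 = 2 := by
    have b1 := f _ e2 2 (by decide)
    have b3 := f _ e3 2 (by decide)
    have b4 := f _ e4 2 (by decide)
    revert b1 b3 b4
    generalize p 2 = j
    revert j
    decide
  have a7 : p 7 = 7 := by
    have b1 := f _ e1 7 (by decide)
    have b3 := f _ e2 7 (by decide)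
    have b4 := f _ e3 7 (by decide)
    revert b1 b3 b4
    generalize p 7 = j
    revert j
    decide
  have a6 : p 6 = 6 := by
    have b1 := f _ e1 6 (by decide)
    have b3 := f _ e2 6 (by decide)
    have b4 := f _ e4 6 (by decide)
    revert b1 b3 b4
    generalize p 6 = j
    revert j
    decide
  have q2 : (swap 0 1 * swap 1 2 : Perm (Fin 8)) 2 = 0 := by decide
  have q0 : (swap 0 1 * swap 1 2 : Perm (Fin 8)) 0 = 1 := by decide
  have q6 : (swap 4 5 * swap 5 6 : Perm (Fin 8)) 6 = 4 := by decide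
  have q4 : (swap 4 5 * swap 5 6 : Perm (Fin 8)) 4 = 5 := by decide
  have a0 : p 0 = 0 := by
    have := k1 2
    rw [q2, a2, q2] at this
    exact this
  have a1 : p 1 = 1 := by
    have := k1 0
    rw [q0, a0, q0] at this
    exact this
  have a4 : p 4 = 4 := by
    have := k3 6
    rw [q6, a6, q6] at this
    exact this
  have a5 : p 5 = 5 := by
    have := k3 4
    rw [q4, a4, q4] at this
    exact this
  ext i
  fin_cases i
  · exact congrArg Fin.val a0
  · exact congrArg Fin.val a1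
  · exact congrArg Fin.val a2
  · exact congrArg Fin.val a3
  · exact congrArg Fin.val a4
  · exact congrArg Fin.val a5
  · exact congrArg Fin.val a6
  · exact congrArg Fin.val a7

theorem eq_one_of_cj {p : Perm (Fin 8)} (h : ∀ s : A8, cj p s = s) : p = 1 :=
  cen4' (commute_of_cj (h _)) (commute_of_cj (h _)) (commute_of_cj (h _)) (commute_of_cj (h _))

theorem cj_inj {p q : Perm (Fin 8)} (h : ∀ s : A8, cj p s = cj q s) : p = q := by
  have h1 : q⁻¹ * p = 1 := eq_one_of_cj fun s => by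
    rw [← cj_cj, h, cj_cj, inv_mul_cancel, cj_one]
  rw [inv_mul_eq_one] at h1
  exact h1.symm

variable {G : Type*} [Group G]

/-- The centraliser of the four-group `{1,u,v,uv}` acts on `ι(A8)` through the symmetric group with kernel
`{1,u,v,uv}`. -/
structure CentW (u v : G) (ι : A8 →* G) : Prop where
  inj : Function.Injective ι
  hu : u * u = 1
  hv : v * v = 1
  comm : u * v = v * u
  u1 : u ≠ 1
  v1 : v ≠ 1
  ne : u ≠ v
  cu : ∀ s, Commute u (ι s)
  cv : ∀ s, Commute v (ι s)
  act : ∀ g, Commute g u → Commute g v → ∃ p : Perm (Fin 8), (∀ s, g * ι s * g⁻¹ = ι (cj p s)) ∧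
    (p = 1 → g ∈ four u v)

namespace CentW

variable {u v : G} {ι : A8 →* G} (C : CentW u v ι)
include C

theorem four_commute {k : G} (hk : k ∈ four u v) {g : G} (h1 : Commute g u) (h2 : Commute g v) : Commute g k := by
  rcases hk with rfl | rfl | rfl | rfl
  · exact Commute.one_right g
  · exact h1
  · exact h2
  · exact h1.mul_right h2

theorem four_u {k : G} (hk : k ∈ four u v) : Commute k u :=
  (C.four_commute hk (Commute.refl u) C.comm).symm

theorem four_v {k : G} (hk : k ∈ four u v) : Commute k v :=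
  (C.four_commute hk (C.comm.symm : Commute v u) (Commute.refl v)).symm

theorem four_iota {k : G} (hk : k ∈ four u v) (s : A8) : Commute k (ι s) :=
  (C.four_commute hk (C.cu s).symm (C.cv s).symm).symm

theorem four_four {k k' : G} (hk : k ∈ four u v) (hk' : k' ∈ four u v) : Commute k k' :=
  C.four_commute hk' (C.four_u hk) (C.four_v hk)

theorem four_sq {k : G} (hk : k ∈ four u v) : k * k = 1 := by
  rcases hk with rfl | rfl | rfl | rfl
  · exact mul_one 1
  · exact C.hu
  · exact C.hv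
  · calc u * v * (u * v) = u * (v * u) * v := by group
      _ = u * (u * v) * v := by rw [C.comm]
      _ = (u * u) * (v * v) := by group
      _ = 1 := by rw [C.hu, C.hv, mul_one]

theorem four_mul {k k' : G} (hk : k ∈ four u v) (hk' : k' ∈ four u v) : k * k' ∈ four u v := by
  have hu := C.hu
  have hv := C.hv
  have hc := C.comm
  rcases hk with rfl | rfl | rfl | rfl <;> rcases hk' with rfl | rfl | rfl | rfl
  · left; simp
  · right; left; simp
  · right; right; left; simp
  · right; right; right; simp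
  · right; left; simp
  · left; exact hu
  · right; right; right; rfl
  · right; right; left; rw [← mul_assoc, hu, one_mul]
  · right; right; left; simp
  · right; right; right; exact hc.symm
  · left; exact hv
  · right; left; rw [hc, ← mul_assoc, hv, one_mul]
  · right; right; right; simp
  · right; right; left; rw [hc, mul_assoc, hu, mul_one]
  · right; left; rw [mul_assoc, hv, mul_one]
  · left; exact C.four_sq (Or.inr (Or.inr (Or.inr rfl)))

theorem uv_ne : u * v ≠ 1 := fun h => C.ne (by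
  rw [mul_eq_one_iff_eq_inv] at h
  rw [h, inv_eq_iff_mul_eq_one, C.hv])

/-- The two factors meet trivially. -/
theorem disj {k : G} (hk : k ∈ four u v) {s : A8} (h : k = ι s) : s = 1 ∧ k = 1 := by
  have hs : s = 1 := by
    apply a8_center
    intro t
    have h1 := C.four_iota hk t
    rw [h] at h1
    exact C.inj (by rw [map_mul, map_mul]; exact h1.eq)
  exact ⟨hs, by rw [h, hs, map_one]⟩

theorem commute_of_iota {l s : A8} (h : Commute (ι l) (ι s)) : Commute l s :=
  C.inj (by rw [map_mul, map_mul]; exact h.eq)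

theorem comm_iota_of_cj_one {g : G} (h : ∀ s, g * ι s * g⁻¹ = ι (cj 1 s)) (s : A8) : Commute g (ι s) := by
  have h1 := h s
  rw [cj_one, mul_inv_eq_iff_eq_mul] at h1
  exact h1

/-- An element commuting with `V` and `ι(A8)` is in `V`. -/
theorem mem_four {g : G} (h1 : Commute g u) (h2 : Commute g v) (h3 : ∀ s, Commute g (ι s)) : g ∈ four u v := by
  obtain ⟨p, hp, hp1⟩ := C.act g h1 h2
  apply hp1
  apply eq_one_of_cj
  intro s
  apply C.inj
  rw [← hp, (h3 s).eq, mul_inv_cancel_right]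

/-- An element of the centraliser acting as an even permutation. -/
theorem even {g : G} (h1 : Commute g u) (h2 : Commute g v) (l : A8)
    (h : ∀ s, g * ι s * g⁻¹ = ι (cj (l : Perm (Fin 8)) s)) : ∃ k ∈ four u v, g = k * ι l := by
  refine ⟨g * (ι l)⁻¹, ?_, by group⟩
  apply C.mem_four
  · exact h1.mul_left (C.cu l).symm.inv_left
  · exact h2.mul_left (C.cv l).symm.inv_left
  · intro s
    have h3 : g * (ι l)⁻¹ * ι s * (g * (ι l)⁻¹)⁻¹ = ι s := by
      calc g * (ι l)⁻¹ * ι s * (g * (ι l)⁻¹)⁻¹ = g * ι (l⁻¹ * s * l) * g⁻¹ := by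
            rw [map_mul, map_mul, map_inv]; group
        _ = ι s := by rw [h, cj_coe]; congr 1; group
    rw [mul_inv_eq_iff_eq_mul] at h3
    exact h3

/-- The permutation attached to a power. -/
theorem act_pow {g : G} {p : Perm (Fin 8)} (h : ∀ s, g * ι s * g⁻¹ = ι (cj p s)) (n : ℕ) (s : A8) :
    g ^ n * ι s * (g ^ n)⁻¹ = ι (cj (p ^ n) s) := by
  induction n with
  | zero => rw [pow_zero, pow_zero, cj_one]; group
  | succ n ih =>
    calc g ^ (n + 1) * ι s * (g ^ (n + 1))⁻¹ = g * (g ^ n * ι s * (g ^ n)⁻¹) * g⁻¹ := by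
          rw [pow_succ']; group
      _ = ι (cj (p ^ (n + 1)) s) := by rw [ih, h, cj_cj, ← pow_succ']

theorem pow_eq_one {g : G} {p : Perm (Fin 8)} (h : ∀ s, g * ι s * g⁻¹ = ι (cj p s)) {n : ℕ} (hg : g ^ n = 1) :
    p ^ n = 1 := by
  apply eq_one_of_cj
  intro s
  apply C.inj
  rw [← C.act_pow h n s, hg]
  group

theorem sign_of_cube {p : Perm (Fin 8)} (h : p ^ 3 = 1) : Perm.sign p = 1 := by
  have h1 : Perm.sign p ^ 3 = 1 := by rw [← map_pow, h, map_one]
  rcases Int.units_eq_one_or (Perm.sign p) with h2 | h2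
  · exact h2
  · rw [h2] at h1
    exact absurd h1 (by decide)

/-- An element of order three of the centraliser of `V` lies in `ι(A8)`. -/
theorem cube {g : G} (h1 : Commute g u) (h2 : Commute g v) (h3 : g ^ 3 = 1) : ∃ s, s ^ 3 = 1 ∧ g = ι s := by
  obtain ⟨p, hp, -⟩ := C.act g h1 h2
  have hp3 := C.pow_eq_one hp h3
  obtain ⟨k, hk, hgk⟩ := C.even h1 h2 ⟨p, Perm.mem_alternatingGroup.2 (C.sign_of_cube hp3)⟩ hp
  set l : A8 := ⟨p, Perm.mem_alternatingGroup.2 (C.sign_of_cube hp3)⟩ with hl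
  have hl3 : l ^ 3 = 1 := Subtype.ext hp3
  refine ⟨l, hl3, ?_⟩
  have h4 : (k * ι l) ^ 3 = k ^ 3 * (ι l) ^ 3 := (C.four_iota hk l).mul_pow 3
  rw [← hgk, h3, ← map_pow, hl3, map_one, mul_one, pow_succ, pow_two, C.four_sq hk, one_mul] at h4
  rw [hgk, ← h4, one_mul]

theorem map {G' : Type*} [Group G'] (φ : G ≃* G') : CentW (φ u) (φ v) (φ.toMonoidHom.comp ι) where
  inj := φ.injective.comp C.inj
  hu := by rw [← map_mul, C.hu, map_one]
  hv := by rw [← map_mul, C.hv, map_one]
  comm := by rw [← map_mul, C.comm, map_mul]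
  u1 := fun h => C.u1 (φ.injective (by rw [h, map_one]))
  v1 := fun h => C.v1 (φ.injective (by rw [h, map_one]))
  ne := fun h => C.ne (φ.injective h)
  cu := fun s => (C.cu s).map φ.toMonoidHom
  cv := fun s => (C.cv s).map φ.toMonoidHom
  act := by
    intro g h1 h2
    have h3 := h1.map φ.symm.toMonoidHom
    have h4 := h2.map φ.symm.toMonoidHom
    simp only [MulEquiv.toMonoidHom_eq_coe, MonoidHom.coe_coe, MulEquiv.symm_apply_apply] at h3 h4
    obtain ⟨p, hp, hp1⟩ := C.act _ h3 h4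
    refine ⟨p, ?_, ?_⟩
    · intro s
      have := congrArg φ (hp s)
      rw [map_mul, map_mul, map_inv, MulEquiv.apply_symm_apply] at this
      exact this
    · intro h
      have hk := hp1 h
      have hg : g = φ (φ.symm g) := (φ.apply_symm_apply g).symm
      rw [hg]
      rcases hk with hk | hk | hk | hk
      · left; rw [hk]; exact map_one φ
      · right; left; rw [hk]
      · right; right; left; rw [hk]
      · right; right; right; rw [hk]; exact map_mul φ u v

/-- Relabelling by a permutation. -/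
theorem relabel (p : Perm (Fin 8)) : CentW u v (ι.comp (MulAut.conjNormal p : MulAut A8).toMonoidHom) where
  inj := C.inj.comp (MulAut.conjNormal p : MulAut A8).injective
  hu := C.hu
  hv := C.hv
  comm := C.comm
  u1 := C.u1
  v1 := C.v1
  ne := C.ne
  cu := fun s => C.cu _
  cv := fun s => C.cv _
  act := by
    intro g h1 h2
    obtain ⟨q, hq, hq1⟩ := C.act g h1 h2
    refine ⟨p⁻¹ * q * p, ?_, ?_⟩
    · intro s
      show g * ι (cj p s) * g⁻¹ = ι (cj p (cj (p⁻¹ * q * p) s))
      rw [hq, cj_cj, cj_cj]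
      congr 2
      group
    · intro h
      apply hq1
      calc q = p * (p⁻¹ * q * p) * p⁻¹ := by group
        _ = 1 := by rw [h]; group

end CentW

/-- The centraliser structure together with an element of order three acting on the four-group and centralising
`ι(A8)`. -/
structure QuadW (u v : G) (ι : A8 →* G) (x : G) : Prop extends CentW u v ι where
  x3 : x ^ 3 = 1
  cx : ∀ s, Commute x (ι s)
  xu : x * u * x⁻¹ = v
  xv : x * v * x⁻¹ = u * v

theorem QuadW.map {G' : Type*} [Group G'] {u v x : G} {ι : A8 →* G} (Q : QuadW u v ι x) (φ : G ≃* G') :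
    QuadW (φ u) (φ v) (φ.toMonoidHom.comp ι) (φ x) where
  toCentW := Q.toCentW.map φ
  x3 := by rw [← map_pow, Q.x3, map_one]
  cx := fun s => (Q.cx s).map φ.toMonoidHom
  xu := by rw [← map_inv, ← map_mul, ← map_mul, Q.xu]
  xv := by rw [← map_inv, ← map_mul, ← map_mul, Q.xv, map_mul]

theorem QuadW.relabel {u v x : G} {ι : A8 →* G} (Q : QuadW u v ι x) (p : Perm (Fin 8)) :
    QuadW u v (ι.comp (MulAut.conjNormal p : MulAut A8).toMonoidHom) x where
  toCentW := Q.toCentW.relabel p
  x3 := Q.x3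
  cx := fun s => Q.cx _
  xu := Q.xu
  xv := Q.xv

namespace QuadW

variable {u v x : G} {ι : A8 →* G} (Q : QuadW u v ι x)
include Q

theorem xuv : x * (u * v) * x⁻¹ = u := by
  calc x * (u * v) * x⁻¹ = (x * u * x⁻¹) * (x * v * x⁻¹) := by group
    _ = v * (u * v) := by rw [Q.xu, Q.xv]
    _ = u := by rw [← mul_assoc, ← Q.comm, mul_assoc, Q.hv, mul_one]

/-- `x` moves every non-trivial element of the four-group. -/
theorem fix {k : G} (hk : k ∈ four u v) (h : Commute x k) : k = 1 := by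
  have h' : x * k * x⁻¹ = k := by rw [h.eq]; group
  rcases hk with rfl | rfl | rfl | rfl
  · rfl
  · rw [Q.xu] at h'; exact absurd h'.symm Q.ne
  · rw [Q.xv] at h'
    exact absurd (mul_eq_right.mp h') Q.u1
  · rw [Q.xuv] at h'
    exact absurd (left_eq_mul.mp h') Q.v1

theorem four_conj {k : G} (hk : k ∈ four u v) : x * k * x⁻¹ ∈ four u v := by
  rcases hk with rfl | rfl | rfl | rfl
  · left; group
  · right; right; left; exact Q.xu
  · right; right; right; exact Q.xv
  · right; left; exact Q.xuv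

theorem four_conj_inv {k : G} (hk : k ∈ four u v) : x⁻¹ * k * x ∈ four u v := by
  have h2 : x⁻¹ = x ^ 2 := by
    rw [inv_eq_iff_mul_eq_one, ← pow_succ', Q.x3]
  have h3 : x⁻¹ * k * x = x * (x * k * x⁻¹) * x⁻¹ := by
    have h4 : x = (x ^ 2)⁻¹ := by rw [← h2, inv_inv]
    calc x⁻¹ * k * x = x ^ 2 * k * (x ^ 2)⁻¹ := by rw [← h4, h2]
      _ = x * (x * k * x⁻¹) * x⁻¹ := by rw [pow_two]; group
  rw [h3]
  exact Q.four_conj (Q.four_conj hk)

/-- If `r` acts on the four-group as `x⁻¹` then `r` acts on `ι(A8)`. -/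
theorem split {r : G} (h1 : r * u * r⁻¹ = u * v) (h2 : r * v * r⁻¹ = u) :
    ∃ p : Perm (Fin 8), ∀ s, r * ι s * r⁻¹ = ι (cj p s) := by
  have h3 : r * (u * v) * r⁻¹ = v := by
    calc r * (u * v) * r⁻¹ = (r * u * r⁻¹) * (r * v * r⁻¹) := by group
      _ = (u * v) * u := by rw [h1, h2]
      _ = v := by rw [Q.comm, mul_assoc, Q.hu, mul_one]
  have a1 : Commute (r * x) u := by
    show r * x * u = u * (r * x)
    calc r * x * u = r * (x * u * x⁻¹) * r⁻¹ * (r * x) := by group
      _ = u * (r * x) := by rw [Q.xu, h2]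
  have a2 : Commute (r * x) v := by
    show r * x * v = v * (r * x)
    calc r * x * v = r * (x * v * x⁻¹) * r⁻¹ * (r * x) := by group
      _ = v * (r * x) := by rw [Q.xv, h3]
  obtain ⟨p, hp, -⟩ := Q.act (r * x) a1 a2
  refine ⟨p, fun s => ?_⟩
  rw [← hp s]
  have e1 : x * ι s * x⁻¹ = ι s := by rw [(Q.cx s).eq]; group
  calc r * ι s * r⁻¹ = r * (x * ι s * x⁻¹) * r⁻¹ := by rw [e1]
    _ = r * x * ι s * (r * x)⁻¹ := by group

theorem cj_eq_self {r : G} {p : Perm (Fin 8)} (hp : ∀ s, r * ι s * r⁻¹ = ι (cj p s)) {s : A8}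
    (h : Commute r (ι s)) : cj p s = s := by
  apply Q.inj
  rw [← hp, h.eq, mul_inv_cancel_right]

/-- The rotation argument: an element `r` of order three acting on the four-group like `x⁻¹` centralises `ι(A8)`,
provided that no element of order three commutes with the four-group and with given elements `w`
commuting with the four-group and with `r`. -/
theorem rotation {r : G} (h1 : r * u * r⁻¹ = u * v) (h2 : r * v * r⁻¹ = u) (h3 : r ^ 3 = 1) (W : Set G)
    (hW : ∀ w ∈ W, Commute w u ∧ Commute w v ∧ Commute w r)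
    (hno : ∀ g : G, g ^ 3 = 1 → Commute g u → Commute g v → (∀ w ∈ W, Commute g w) → g = 1) (s : A8) :
    Commute r (ι s) := by
  obtain ⟨p, hp⟩ := Q.split h1 h2
  have hp3 := Q.toCentW.pow_eq_one hp h3
  set l : A8 := ⟨p, Perm.mem_alternatingGroup.2 (Q.toCentW.sign_of_cube hp3)⟩ with hl
  have hlp : (l : Perm (Fin 8)) = p := rfl
  have h4 : ι l = 1 := by
    apply hno
    · rw [← map_pow, show l ^ 3 = 1 from Subtype.ext hp3, map_one]
    · exact (Q.cu l).symm
    · exact (Q.cv l).symm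
    · intro w hw
      obtain ⟨a1, a2, a3⟩ := hW w hw
      obtain ⟨pw, hpw, -⟩ := Q.act w a1 a2
      have e1 : pw * p = p * pw := by
        apply cj_inj
        intro s
        apply Q.inj
        rw [← cj_cj, ← cj_cj, ← hpw, ← hp, ← hp, ← hpw]
        calc w * (r * ι s * r⁻¹) * w⁻¹ = (w * r) * ι s * (w * r)⁻¹ := by group
          _ = (r * w) * ι s * (r * w)⁻¹ := by rw [a3.eq]
          _ = _ := by group
      have e2 : cj pw l = l := by
        apply Subtype.ext
        rw [coe_cj, hlp, e1, mul_inv_cancel_right]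
      have e3 := hpw l
      rw [e2, mul_inv_eq_iff_eq_mul] at e3
      exact e3.symm
  have hl1 : l = 1 := Q.inj (by rw [h4, map_one])
  have hp1 : p = 1 := by rw [← hlp, hl1]; rfl
  rw [hp1] at hp
  exact Q.toCentW.comm_iota_of_cj_one hp s

end QuadW

/-- The local hypotheses: centraliser of the four-group `⟨t, z⟩` and fusion of four-groups. -/
structure LocW (t z : G) (ι : A8 →* G) : Prop extends CentW t z ι where
  zt : IsConj z t
  tzt : IsConj (t * z) t
  fus : ∀ u v : G, u * u = 1 → v * v = 1 → u * v = v * u → u ≠ v → IsConj u t → IsConj v t →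
    IsConj (u * v) t → ∃ h : G, h * u * h⁻¹ = t ∧ h * v * h⁻¹ = z
  four : IsConj (ι f1) t

theorem exists_quad {t z : G} {ι : A8 →* G} (L : LocW t z ι) (hAut : AutStatement) : ∃ x, QuadW t z ι x := by
  obtain ⟨h, h1, h2⟩ := L.fus z (t * z) L.hv (L.toCentW.four_sq (Or.inr (Or.inr (Or.inr rfl))))
    (by rw [← mul_assoc, L.comm]) (fun h => L.u1 (right_eq_mul.mp h)) L.zt L.tzt
    (by rw [L.comm, ← mul_assoc, L.hv, one_mul])
  obtain ⟨q, rfl⟩ : ∃ q, h = q⁻¹ := ⟨h⁻¹, (inv_inv h).symm⟩
  rw [inv_inv] at h1 h2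
  have q1 : q * t * q⁻¹ = z := by rw [← h1]; group
  have q2 : q * z * q⁻¹ = t * z := by
    have h4 : q * (q⁻¹ * (t * z) * q) * q⁻¹ = t * z := by group
    rwa [h2] at h4
  have q3 : q * (t * z) * q⁻¹ = t := by
    calc q * (t * z) * q⁻¹ = (q * t * q⁻¹) * (q * z * q⁻¹) := by group
      _ = z * (t * z) := by rw [q1, q2]
      _ = t := by rw [← mul_assoc, ← L.comm, mul_assoc, L.hv, mul_one]
  have key : ∀ s : A8, q * ι s * q⁻¹ ∈ ι.range := by
    let S : Subgroup A8 := (ι.range.comap (MulAut.conj q).toMonoidHom).comap ι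
    have hS : S = ⊤ := by
      apply a8_gen
      intro s hs
      show q * ι s * q⁻¹ ∈ ι.range
      have i1 : Commute (q * ι s * q⁻¹) z := by
        have := (L.cu s).symm.map (MulAut.conj q).toMonoidHom
        simp only [MulEquiv.toMonoidHom_eq_coe, MonoidHom.coe_coe, MulAut.conj_apply] at this
        rwa [q1] at this
      have i2 : Commute (q * ι s * q⁻¹) t := by
        have := ((L.cu s).symm.mul_right (L.cv s).symm).map (MulAut.conj q).toMonoidHom
        simp only [MulEquiv.toMonoidHom_eq_coe, MonoidHom.coe_coe, MulAut.conj_apply] at this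
        rwa [q3] at this
      have i3 : (q * ι s * q⁻¹) ^ 3 = 1 := by
        rw [conj_pow, ← map_pow, hs, map_one, mul_one, mul_inv_cancel]
      obtain ⟨s', -, hs'⟩ := L.toCentW.cube i2 i1 i3
      exact ⟨s', hs'.symm⟩
    intro s
    have : s ∈ S := by rw [hS]; exact Subgroup.mem_top _
    exact this
  choose f hf using key
  let F : A8 →* A8 :=
    { toFun := f
      map_one' := L.inj (by rw [hf, map_one, mul_one, mul_inv_cancel])
      map_mul' := fun a b => L.inj (by rw [hf, map_mul, map_mul, hf, hf]; group) }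
  have hFinj : Function.Injective F := by
    intro a b hab
    apply L.inj
    have h1 : q * ι a * q⁻¹ = q * ι b * q⁻¹ := by rw [← hf, ← hf]; exact congrArg ι hab
    simpa using h1
  let E : A8 ≃* A8 := MulEquiv.ofBijective F ⟨hFinj, Finite.surjective_of_injective hFinj⟩
  obtain ⟨p, hp⟩ := hAut E
  let e : A8 := ⟨p ^ 2, Perm.mem_alternatingGroup.mpr (by rw [map_pow]; exact Int.units_sq _)⟩
  have hE : ∀ s, ι (E s) = q * ι s * q⁻¹ := fun s => hf s
  have hEE : ∀ s : A8, E (E s) = e * s * e⁻¹ := by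
    intro s
    apply Subtype.ext
    rw [hp, hp]
    show p * (p * (s : Perm (Fin 8)) * p⁻¹) * p⁻¹ = p ^ 2 * (s : Perm (Fin 8)) * (p ^ 2)⁻¹
    rw [pow_two]; group
  have hq2 : ∀ s, q ^ 2 * ι s * (q ^ 2)⁻¹ = ι (e * s * e⁻¹) := by
    intro s
    rw [← hEE, hE, hE, pow_two]; group
  have hq4 : ∀ s, q ^ 4 * ι s * (q ^ 4)⁻¹ = ι ((e * e) * s * (e * e)⁻¹) := by
    intro s
    have : q ^ 4 * ι s * (q ^ 4)⁻¹ = q ^ 2 * (q ^ 2 * ι s * (q ^ 2)⁻¹) * (q ^ 2)⁻¹ := by
      rw [show (4 : ℕ) = 2 + 2 from rfl, pow_add]; group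
    rw [this, hq2, hq2]; congr 1
  have q4t : q ^ 4 * t * (q ^ 4)⁻¹ = z := by
    calc q ^ 4 * t * (q ^ 4)⁻¹ = q * (q * (q * (q * t * q⁻¹) * q⁻¹) * q⁻¹) * q⁻¹ := by
          rw [pow_succ, pow_succ, pow_two]; group
      _ = z := by rw [q1, q2, q3, q1]
  have q4z : q ^ 4 * z * (q ^ 4)⁻¹ = t * z := by
    calc q ^ 4 * z * (q ^ 4)⁻¹ = q * (q * (q * (q * z * q⁻¹) * q⁻¹) * q⁻¹) * q⁻¹ := by
          rw [pow_succ, pow_succ, pow_two]; group
      _ = t * z := by rw [q2, q3, q1, q2]
  have xt : (q ^ 4 * (ι (e * e))⁻¹) * t * (q ^ 4 * (ι (e * e))⁻¹)⁻¹ = z := by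
    have h1 : Commute (ι (e * e))⁻¹ t := (L.cu (e * e)).symm.inv_left
    calc (q ^ 4 * (ι (e * e))⁻¹) * t * (q ^ 4 * (ι (e * e))⁻¹)⁻¹
        = q ^ 4 * ((ι (e * e))⁻¹ * t) * ι (e * e) * (q ^ 4)⁻¹ := by group
      _ = q ^ 4 * t * (q ^ 4)⁻¹ := by rw [h1.eq]; group
      _ = z := q4t
  have xz : (q ^ 4 * (ι (e * e))⁻¹) * z * (q ^ 4 * (ι (e * e))⁻¹)⁻¹ = t * z := by
    have h1 : Commute (ι (e * e))⁻¹ z := (L.cv (e * e)).symm.inv_left
    calc (q ^ 4 * (ι (e * e))⁻¹) * z * (q ^ 4 * (ι (e * e))⁻¹)⁻¹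
        = q ^ 4 * ((ι (e * e))⁻¹ * z) * ι (e * e) * (q ^ 4)⁻¹ := by group
      _ = q ^ 4 * z * (q ^ 4)⁻¹ := by rw [h1.eq]; group
      _ = t * z := q4z
  have cx : ∀ s, Commute (q ^ 4 * (ι (e * e))⁻¹) (ι s) := by
    intro s
    have h1 : (q ^ 4 * (ι (e * e))⁻¹) * ι s * (q ^ 4 * (ι (e * e))⁻¹)⁻¹ = ι s := by
      calc (q ^ 4 * (ι (e * e))⁻¹) * ι s * (q ^ 4 * (ι (e * e))⁻¹)⁻¹
          = q ^ 4 * ι ((e * e)⁻¹ * s * (e * e)) * (q ^ 4)⁻¹ := by
            rw [map_mul ι _ (e * e), map_mul ι _ s, map_inv]; group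
        _ = ι s := by rw [hq4]; congr 1; group
    show _ * _ = _ * _
    conv_rhs => rw [← h1]
    group
  set x := q ^ 4 * (ι (e * e))⁻¹ with hx
  have xtz : x * (t * z) * x⁻¹ = t := by
    calc x * (t * z) * x⁻¹ = (x * t * x⁻¹) * (x * z * x⁻¹) := by group
      _ = z * (t * z) := by rw [xt, xz]
      _ = t := by rw [← mul_assoc, ← L.comm, mul_assoc, L.hv, mul_one]
  refine ⟨x, L.toCentW, ?_, cx, xt, xz⟩
  have c1 : Commute (x ^ 3) t := by
    have : x ^ 3 * t * (x ^ 3)⁻¹ = t := by
      calc x ^ 3 * t * (x ^ 3)⁻¹ = x * (x * (x * t * x⁻¹) * x⁻¹) * x⁻¹ := by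
            rw [pow_succ, pow_two]; group
        _ = t := by rw [xt, xz, xtz]
    show _ * _ = _ * _
    conv_rhs => rw [← this]
    group
  have c2 : Commute (x ^ 3) z := by
    have : x ^ 3 * z * (x ^ 3)⁻¹ = z := by
      calc x ^ 3 * z * (x ^ 3)⁻¹ = x * (x * (x * z * x⁻¹) * x⁻¹) * x⁻¹ := by
            rw [pow_succ, pow_two]; group
        _ = z := by rw [xz, xtz, xt]
    show _ * _ = _ * _
    conv_rhs => rw [← this]
    group
  have hk := L.toCentW.mem_four c1 c2 (fun s => (cx s).pow_left 3)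
  have hkx : Commute x (x ^ 3) := (Commute.refl x).pow_right 3
  have h' : x * x ^ 3 * x⁻¹ = x ^ 3 := by rw [hkx.eq]; group
  rcases hk with hk | hk | hk | hk
  · exact hk
  · rw [hk, xt] at h'; exact absurd h'.symm L.ne
  · rw [hk, xz] at h'
    exact absurd (mul_eq_right.mp h') L.u1
  · rw [hk, xtz] at h'
    exact absurd (left_eq_mul.mp h') L.v1

end Cfsg.Agent.HN.Loc8
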