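import Cfsg.Agent.HN.Loc8Main
import Cfsg.Agent.HN.LocalA12

/-!
# The alternating groups centralising `ι(A7)`, `ι(A6)`, version for `V × S₈`
-/

set_option autoImplicit false

namespace Cfsg.Agent.HN.Loc8A12

open Equiv Cfsg.Agent.HN.Local Cfsg.Agent.HN.Loc8 Cfsg.Agent.HN.Loc8Main Cfsg.Agent.Lib.AltCarmichael
open Cfsg.Agent.HN.LocalA12 (exists_two exists_one mv mv_apply Y seq seq_zero seq_one seq_add)

variable {G : Type*} [Group G] {t z x y : G} {ι : A8 →* G}

section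

variable (O : OutW t z ι x y)
include O

theorem conj_eq (s : A8) : ι s * y * (ι s)⁻¹ = Y ι y ((s : Perm (Fin 8)) 7) := by
  set i := (s : Perm (Fin 8)) 7 with hi
  have h1 : (((mv i)⁻¹ * s : A8) : Perm (Fin 8)) 7 = 7 := by
    show ((mv i : Perm (Fin 8))⁻¹) ((s : Perm (Fin 8)) 7) = 7
    rw [Perm.inv_eq_iff_eq, mv_apply]
  have h2 := (O.cy _ h1).eq
  rw [map_mul, map_inv] at h2
  show ι s * y * (ι s)⁻¹ = ι (mv i) * y * (ι (mv i))⁻¹
  calc ι s * y * (ι s)⁻¹ = ι (mv i) * (((ι (mv i))⁻¹ * ι s) * y) * (ι s)⁻¹ := by group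
    _ = ι (mv i) * (y * ((ι (mv i))⁻¹ * ι s)) * (ι s)⁻¹ := by rw [h2]
    _ = _ := by group

theorem Y_seven : Y ι y 7 = y := by
  have := conj_eq O 1
  rw [map_one] at this
  have h2 : ((1 : A8) : Perm (Fin 8)) 7 = 7 := rfl
  rw [h2] at this
  rw [← this]; group

theorem conj_Y (s : A8) (i : Fin 8) : ι s * Y ι y i * (ι s)⁻¹ = Y ι y ((s : Perm (Fin 8)) i) := by
  have := conj_eq O (s * mv i)
  have h2 : ((s * mv i : A8) : Perm (Fin 8)) 7 = (s : Perm (Fin 8)) i := by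
    show (s : Perm (Fin 8)) ((mv i : Perm (Fin 8)) 7) = _
    rw [mv_apply]
  rw [h2] at this
  rw [← this, map_mul]
  show ι s * (ι (mv i) * y * (ι (mv i))⁻¹) * (ι s)⁻¹ = _
  group

theorem Y_six : Y ι y 6 = ι g0 * y * (ι g0)⁻¹ := by
  have := conj_eq O g0
  have h2 : (g0 : Perm (Fin 8)) 7 = 6 := by decide
  rw [h2] at this
  exact this.symm

theorem Y_comm {i : Fin 8} {s : A8} (hs : (s : Perm (Fin 8)) i = i) : Commute (Y ι y i) (ι s) := by
  have := conj_Y O s i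
  rw [hs] at this
  show Y ι y i * ι s = ι s * Y ι y i
  conv_lhs => rw [← this]
  group

theorem Y_cube (i : Fin 8) : Y ι y i ^ 3 = 1 := by
  show (ι (mv i) * y * (ι (mv i))⁻¹) ^ 3 = 1
  rw [conj_pow, O.y3]; group

theorem Y_sq {i j : Fin 8} (h : i ≠ j) : (Y ι y i * Y ι y j) ^ 2 = 1 := by
  obtain ⟨s, h7, h6⟩ := exists_two i j h
  have e1 := conj_Y O s 7
  have e2 := conj_Y O s 6
  rw [h7, Y_seven O] at e1
  rw [h6, Y_six O] at e2
  have : Y ι y i * Y ι y j = ι s * (y * (ι g0 * y * (ι g0)⁻¹)) * (ι s)⁻¹ := by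
    rw [← e1, ← e2]; group
  rw [this, conj_pow, O.yy]; group

theorem xd_comm (s : A8) : Commute (t * x⁻¹ * t) (ι s) :=
  ((O.cu s).mul_left (O.cx s).inv_left).mul_left (O.cu s)

theorem xY (i : Fin 8) : (x * Y ι y i) ^ 2 = 1 := by
  have h := (O.cx (mv i)).eq
  have : x * Y ι y i = ι (mv i) * (x * y) * (ι (mv i))⁻¹ := by
    show x * (ι (mv i) * y * (ι (mv i))⁻¹) = _
    calc x * (ι (mv i) * y * (ι (mv i))⁻¹) = (x * ι (mv i)) * y * (ι (mv i))⁻¹ := by group
      _ = _ := by rw [h]; group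
  rw [this, conj_pow, O.xy]; group

theorem xdY (i : Fin 8) : ((t * x⁻¹ * t) * Y ι y i) ^ 2 = 1 := by
  have h := (xd_comm O (mv i)).eq
  have : (t * x⁻¹ * t) * Y ι y i = ι (mv i) * ((t * x⁻¹ * t) * y) * (ι (mv i))⁻¹ := by
    show (t * x⁻¹ * t) * (ι (mv i) * y * (ι (mv i))⁻¹) = _
    calc (t * x⁻¹ * t) * (ι (mv i) * y * (ι (mv i))⁻¹)
        = ((t * x⁻¹ * t) * ι (mv i)) * y * (ι (mv i))⁻¹ := by group
      _ = _ := by rw [h]; group
  rw [this, conj_pow, O.xdy]; group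

theorem xxd_eq : x * (t * x⁻¹ * t) = z * t := by
  calc x * (t * x⁻¹ * t) = (x * t * x⁻¹) * t := by group
    _ = z * t := by rw [O.xu]

theorem xxd_sq : (x * (t * x⁻¹ * t)) ^ 2 = 1 := by
  rw [xxd_eq O, pow_two, ← O.comm]
  exact O.toCentW.four_sq (Or.inr (Or.inr (Or.inr rfl)))

theorem xd_cube : (t * x⁻¹ * t) ^ 3 = 1 := by
  have htt : t⁻¹ = t := by rw [inv_eq_iff_mul_eq_one, O.hu]
  have : t * x⁻¹ * t = t * x⁻¹ * t⁻¹ := by rw [htt]
  rw [this, conj_pow, inv_pow, O.x3]; group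

end

theorem rel_seq (O : OutW t z ι x y) (l : List (Fin 8)) (hl : l.Nodup) :
    Rel (l.length + 2) (seq ι t x y l) where
  cube := by
    intro i hi
    rcases i with _ | _ | i
    · exact O.x3
    · exact xd_cube O
    · rw [seq_add l i (by omega)]; exact Y_cube O _
  sq := by
    intro i hi j hj hij
    rcases i with _ | _ | i <;> rcases j with _ | _ | j
    · exact absurd rfl hij
    · exact xxd_sq O
    · rw [seq_add l j (by omega)]; exact xY O _
    · exact swap_rel (xxd_sq O)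
    · exact absurd rfl hij
    · rw [seq_add l j (by omega)]; exact xdY O _
    · rw [seq_add l i (by omega)]; exact swap_rel (xY O _)
    · rw [seq_add l i (by omega)]; exact swap_rel (xdY O _)
    · rw [seq_add l i (by omega), seq_add l j (by omega)]
      apply Y_sq O
      intro h
      have := (List.Nodup.getElem_inj_iff hl).mp h
      omega

theorem x_ne_one (O : OutW t z ι x y) : x ≠ 1 := by
  intro h
  have := O.xu
  rw [h] at this
  apply O.ne
  simpa using this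

end Cfsg.Agent.HN.Loc8A12
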