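import Cfsg.Agent.HN.Loc8A12
import Cfsg.Agent.HN.LocalCent
import Cfsg.Agent.Classification.TransferSign
import Cfsg.Agent.StandardComponent.AltTransfer

/-!
# The centralisers of `ι(A7)` and `ι(A6)`, version for `V × S₈`

The centraliser of `t` is `E ∪ r E` with `r² = t`, no element of `r E` being conjugate to `t`.
-/

set_option autoImplicit false

namespace Cfsg.Agent.HN.Loc8Cent

open scoped commutatorElement
open Equiv Cfsg.Agent.HN.Local Cfsg.Agent.HN.Loc8 Cfsg.Agent.HN.Loc8Main Cfsg.Agent.HN.Loc8A12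
open Cfsg.Agent.Lib.AltCarmichael
open Cfsg.Agent.HN.LocalCent (S7 S6 cen mem_cen A6 k T Z W a6_simple a6_perfect a6_card)
open Cfsg.Agent.HN.LocalMain (commute_conj)
open Cfsg.Agent.HN.LocalA12 (Y seq seq_zero seq_one seq_add)

variable {G : Type*} [Group G]

/-- The centraliser of `t` is `E ∪ r E`. -/
structure Twist (t z : G) (ι : A8 →* G) (r : G) (E : Subgroup G) : Prop where
  r2 : r * r = t
  rι : ∀ s, Commute r (ι s)
  rz : r * z * r⁻¹ = t * z
  Et : ∀ a ∈ E, Commute a t
  cov : ∀ g, Commute g t → g ∈ E ∨ r⁻¹ * g ∈ E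
  rE : ∀ a ∈ E, r * a * r⁻¹ = a ∨ r * a * r⁻¹ = t * a
  fus : ∀ g, Commute g t → IsConj g t → g ∈ E
  h7 : ∀ g ∈ E, g ∈ cen ι S7 → g ∈ four t z
  h6 : Nat.card (E ⊓ cen ι S6 : Subgroup G) ≤ 8

variable {t z x y r : G} {ι : A8 →* G} {E : Subgroup G}

/-- The four-group as a subgroup. -/
def V (C : CentW t z ι) : Subgroup G where
  carrier := four t z
  one_mem' := Or.inl rfl
  mul_mem' := fun h1 h2 => C.four_mul h1 h2
  inv_mem' := fun {k} hk => by rw [inv_eq_of_mul_eq_one_right (C.four_sq hk)]; exact hk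

theorem mem_V (C : CentW t z ι) {g : G} : g ∈ V C ↔ g ∈ four t z := Iff.rfl

theorem card_V (C : CentW t z ι) : Nat.card (V C) = 4 := by
  have h1 : ((V C : Subgroup G) : Set G) = {1, t, z, t * z} := by
    ext g
    show g ∈ four t z ↔ _
    simp [four]
  have h2 : Nat.card (V C) = ({1, t, z, t * z} : Set G).ncard := by
    rw [← h1]; rfl
  rw [h2]
  have n1 : z ∉ ({t * z} : Set G) := by
    intro h
    exact C.u1 (right_eq_mul.mp h)
  have n2 : t ∉ ({z, t * z} : Set G) := by
    rintro (h | h)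
    · exact C.ne h
    · exact C.v1 (left_eq_mul.mp h)
  have n3 : (1 : G) ∉ ({t, z, t * z} : Set G) := by
    rintro (h | h | h)
    · exact C.u1 h.symm
    · exact C.v1 h.symm
    · exact C.uv_ne h.symm
  rw [Set.ncard_insert_of_notMem n3, Set.ncard_insert_of_notMem n2, Set.ncard_insert_of_notMem n1,
    Set.ncard_singleton]

theorem gen_le_cen (O : OutW t z ι x y) (l : List (Fin 8)) (S : Set A8)
    (hS : ∀ s ∈ S, ∀ i ∈ l, (s : Perm (Fin 8)) i = i) : gen (l.length + 2) (seq ι t x y l) ≤ cen ι S := by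
  rw [gen_def, Subgroup.closure_le]
  rintro _ ⟨i, hi, rfl⟩
  show _ ∈ cen ι S
  rw [mem_cen]
  intro s hs
  rcases i with _ | _ | i
  · exact O.cx s
  · exact xd_comm O s
  · rw [seq_add l i (by omega)]
    exact Y_comm O (hS s hs _ (List.getElem_mem _))

theorem x_mem_gen (l : List (Fin 8)) : x ∈ gen (l.length + 2) (seq ι t x y l) := by
  have := mem_gen (x := seq ι t x y l) (show 0 < l.length + 2 by omega)
  rwa [seq_zero] at this

theorem t_mem_gen (O : OutW t z ι x y) (l : List (Fin 8)) : t ∈ gen (l.length + 2) (seq ι t x y l) := by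
  have h0 : x ∈ gen (l.length + 2) (seq ι t x y l) := x_mem_gen l
  have h1 : t * x⁻¹ * t ∈ gen (l.length + 2) (seq ι t x y l) := by
    have := mem_gen (x := seq ι t x y l) (show 1 < l.length + 2 by omega)
    rwa [seq_one] at this
  have h2 : x * (x * (t * x⁻¹ * t)) * x⁻¹ = t := by
    rw [xxd_eq O]
    calc x * (z * t) * x⁻¹ = (x * z * x⁻¹) * (x * t * x⁻¹) := by group
      _ = (t * z) * z := by rw [O.xu, O.xv]
      _ = t := by rw [mul_assoc, O.hv, mul_one]
  have h3 := Subgroup.mul_mem _ (Subgroup.mul_mem _ h0 (Subgroup.mul_mem _ h0 h1)) (Subgroup.inv_mem _ h0)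
  rwa [h2] at h3

theorem z_mem_gen (O : OutW t z ι x y) (l : List (Fin 8)) : z ∈ gen (l.length + 2) (seq ι t x y l) := by
  have h3 := Subgroup.mul_mem _ (Subgroup.mul_mem _ (x_mem_gen (ι := ι) (t := t) (x := x) (y := y) l)
    (t_mem_gen O l)) (Subgroup.inv_mem _ (x_mem_gen l))
  rwa [O.xu] at h3

/-- A subgroup containing all the elements of order three of a group contains the generated alternating groups. -/
theorem gen_le_of_cube (O : OutW t z ι x y) (l : List (Fin 8)) {H : Subgroup G}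
    (h : ∀ g ∈ gen (l.length + 2) (seq ι t x y l), g ^ 3 = 1 → g ∈ H) :
    gen (l.length + 2) (seq ι t x y l) ≤ H := by
  have h1 := h
  rw [gen_def] at h1 ⊢
  rw [Subgroup.closure_le]
  rintro _ ⟨i, hi, rfl⟩
  apply h1
  · exact Subgroup.subset_closure ⟨i, hi, rfl⟩
  · rcases i with _ | _ | i
    · exact O.x3
    · exact xd_cube O
    · rw [seq_add l i (by omega)]; exact Y_cube O _

namespace Twist

variable (Tw : Twist t z ι r E)
include Tw

theorem zE (O : OutW t z ι x y) : z ∈ E :=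
  Tw.fus z O.comm.symm (isConj_iff.2 ⟨x⁻¹, by rw [← O.xu]; group⟩)

theorem tE : t ∈ E := Tw.fus t (Commute.refl t) (IsConj.refl t)

theorem four_E (O : OutW t z ι x y) {k : G} (hk : k ∈ four t z) : k ∈ E := by
  rcases hk with rfl | rfl | rfl | rfl
  · exact E.one_mem
  · exact Tw.tE
  · exact Tw.zE O
  · exact E.mul_mem Tw.tE (Tw.zE O)

theorem rt : Commute r t := by rw [← Tw.r2]; exact (Commute.refl r).mul_right (Commute.refl r)

theorem r_not (O : OutW t z ι x y) : r ∉ E := by
  intro h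
  have h1 := Tw.h7 r h (by rw [mem_cen]; exact fun s _ => Tw.rι s)
  have h2 := O.toCentW.four_sq h1
  rw [Tw.r2] at h2
  exact O.u1 h2

/-- the involution `r z` -/
theorem rz_sq (O : OutW t z ι x y) : (r * z) * (r * z) = 1 := by
  calc (r * z) * (r * z) = (r * z * r⁻¹) * (r * r) * z := by group
    _ = t * (z * t) * z := by rw [Tw.rz, Tw.r2]; group
    _ = (t * t) * (z * z) := by rw [← O.comm]; group
    _ = 1 := by rw [O.hu, O.hv, mul_one]

theorem rz_comm (O : OutW t z ι x y) : Commute (r * z) t := Tw.rt.mul_left O.comm.symm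

theorem rz_not (O : OutW t z ι x y) : r * z ∉ E := fun h =>
  Tw.r_not O (by
    have := E.mul_mem h (E.inv_mem (Tw.zE O))
    rwa [mul_inv_cancel_right] at this)

theorem rz_not_conj (O : OutW t z ι x y) : ¬ IsConj (r * z) t := fun h =>
  Tw.rz_not O (Tw.fus _ (Tw.rz_comm O) h)

theorem rz_ne (O : OutW t z ι x y) : r * z ≠ 1 := fun h => Tw.rz_not O (h ▸ E.one_mem)

theorem orderOf_rz (O : OutW t z ι x y) : orderOf (r * z) = 2 :=
  orderOf_eq_prime (by rw [pow_two]; exact Tw.rz_sq O) (Tw.rz_ne O)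

theorem rz_cen (O : OutW t z ι x y) (S : Set A8) : r * z ∈ cen ι S := by
  rw [mem_cen]
  exact fun s _ => (Tw.rι s).mul_left (O.cv s)

theorem isConj_four (O : OutW t z ι x y) {k : G} (hk : k ∈ four t z) (h1 : k ≠ 1) : IsConj k t := by
  rcases hk with rfl | rfl | rfl | rfl
  · exact absurd rfl h1
  · exact IsConj.refl _
  · exact isConj_iff.2 ⟨x⁻¹, by rw [← O.xu]; group⟩
  · exact isConj_iff.2 ⟨x, O.toQuadW.xuv⟩

/-- Squares in `C(t)` intersected with a subgroup whose `E`-part has squares in `{1, t}`. -/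
theorem sq_of {g : G} (hg : Commute g t) (hsq : ∀ a ∈ E, (∃ b, g = b * a ∧ (b = 1 ∨ b = r)) → a * a = 1 ∨ a * a = t)
    (ht : t * t = 1) : g * g = 1 ∨ g * g = t := by
  rcases Tw.cov g hg with h | h
  · exact hsq g h ⟨1, by rw [one_mul], Or.inl rfl⟩
  · set a := r⁻¹ * g with ha
    have hga : g = r * a := by rw [ha]; group
    have h1 := hsq a h ⟨r, hga, Or.inr rfl⟩
    have h2 : g * g = (r * a * r⁻¹) * (t * a) := by
      rw [hga, ← Tw.r2]; group
    have hat : a * t = t * a := (Tw.Et a h).eq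
    rcases Tw.rE a h with h3 | h3
    · rw [h2, h3]
      have h4 : a * (t * a) = t * (a * a) := by rw [← mul_assoc, hat, mul_assoc]
      rw [h4]
      rcases h1 with h1 | h1
      · right; rw [h1, mul_one]
      · left; rw [h1, ht]
    · rw [h2, h3]
      have h4 : t * a * (t * a) = a * a := by
        calc t * a * (t * a) = t * (a * t) * a := by group
          _ = (t * t) * (a * a) := by rw [hat]; group
          _ = a * a := by rw [ht, one_mul]
      rw [h4]
      exact h1

end Twist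

/-- The general transfer argument: `K` a subgroup, `D = C_K(t)`, `D0 ≤ D` of index two, all elements of `D` have
squares in `{1, t}`, some element of `D` has square `t`, and `f ∈ D` is an involution not conjugate to an
element of `D0`. -/
theorem exists_sign [Finite G] (K D0 : Subgroup G) (t f q : G) (ht1 : t ≠ 1) (htt : t * t = 1) (hD0 : D0 ≤ K)
    (hD0t : ∀ d ∈ D0, Commute d t) (hf : f * f = 1) (hfK : f ∈ K) (hft : Commute f t)
    (hfD : ∀ g, g * f * g⁻¹ ∉ D0)
    (hcov : ∀ g ∈ K, Commute g t → g ∈ D0 ∨ f⁻¹ * g ∈ D0)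
    (hsq : ∀ g ∈ K, Commute g t → g * g = 1 ∨ g * g = t) (hqK : q ∈ K) (hqt : Commute q t)
    (hq : q * q = t) (htK : t ∈ K) : ∃ σ : K →* ℤˣ, σ ⟨f, hfK⟩ = -1 := by
  classical
  have hf1 : f ≠ 1 := by
    intro h
    apply hfD 1
    rw [h]
    simpa using D0.one_mem
  let t' : K := ⟨t, htK⟩
  let D : Subgroup K := Subgroup.centralizer ({t'} : Set K)
  have memD : ∀ g : K, g ∈ D ↔ Commute (g : G) t := by
    intro g
    show g ∈ Subgroup.centralizer ({t'} : Set K) ↔ _
    rw [Subgroup.mem_centralizer_singleton_iff]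
    constructor
    · intro h
      exact (congrArg Subtype.val h : (g : G) * t = t * g)
    · intro h
      exact Subtype.ext h.eq
  have hP : IsPGroup 2 D := by
    intro g
    refine ⟨2, Subtype.ext (Subtype.ext ?_)⟩
    show ((g : K) : G) ^ 2 ^ 2 = 1
    have h1 := hsq _ (g : K).2 ((memD _).1 g.2)
    have h2 : ((g : K) : G) ^ 2 ^ 2 = (((g : K) : G) * g) * (((g : K) : G) * g) := by
      rw [show (2 : ℕ) ^ 2 = 4 from rfl]
      simp only [pow_succ, pow_zero, one_mul, mul_assoc]
    rw [h2]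
    rcases h1 with h1 | h1 <;> rw [h1]
    · rw [mul_one]
    · exact htt
  have hodd : Odd D.index := by
    apply StandardComponent.AltTransfer.odd_index_of_unique hP le_rfl
    intro g hg
    rw [memD]
    have h1 := hg ⟨q, hqK⟩ ((memD _).2 hqt)
    rw [memD] at h1
    have h2 := hsq _ (g⁻¹ * ⟨q, hqK⟩ * g : K).2 h1
    have e : ((g⁻¹ * ⟨q, hqK⟩ * g : K) : G) * ((g⁻¹ * ⟨q, hqK⟩ * g : K) : G) = (g : G)⁻¹ * t * g := by
      show ((g : G)⁻¹ * q * g) * ((g : G)⁻¹ * q * g) = _
      rw [← hq]; group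
    rw [e] at h2
    rcases h2 with h2 | h2
    · exfalso
      apply ht1
      calc t = (g : G) * ((g : G)⁻¹ * t * g) * (g : G)⁻¹ := by group
        _ = 1 := by rw [h2]; group
    · show (g : G) * t = t * g
      calc (g : G) * t = (g : G) * ((g : G)⁻¹ * t * g) := by rw [h2]
        _ = t * g := by group
  let Q : Subgroup K := D0.subgroupOf K
  have hQD : Q ≤ D := by
    intro g hg
    rw [memD]
    exact hD0t _ hg
  have hrel : Q.relIndex D = 2 := by
    rw [Subgroup.relIndex, Subgroup.index_eq_two_iff]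
    refine ⟨⟨⟨f, hfK⟩, (memD _).2 hft⟩, ?_⟩
    intro b
    have hb : ((b : K) : G) ∈ K := (b : K).2
    have hbt : Commute ((b : K) : G) t := (memD _).1 b.2
    have hfi : f⁻¹ = f := inv_eq_of_mul_eq_one_left hf
    show Xor ((((b : K) : G) * f) ∈ D0) (((b : K) : G) ∈ D0)
    have hnot : ¬ (f ∈ D0) := fun h => hfD 1 (by simpa using h)
    have hnorm : ∀ d ∈ D0, f * d * f ∈ D0 := by
      intro d hd
      rcases hcov (f * d * f) (K.mul_mem (K.mul_mem hfK (hD0 hd)) hfK)
        ((hft.mul_left (hD0t d hd)).mul_left hft) with h | h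
      · exact h
      · exfalso
        rw [hfi] at h
        have e1 : f * (f * d * f) = d * f := by
          calc f * (f * d * f) = (f * f) * d * f := by group
            _ = d * f := by rw [hf, one_mul]
        rw [e1] at h
        apply hnot
        have := D0.mul_mem (D0.inv_mem hd) h
        rwa [inv_mul_cancel_left] at this
    by_cases h0 : ((b : K) : G) ∈ D0
    · right
      refine ⟨h0, fun h => hnot ?_⟩
      have := D0.mul_mem (D0.inv_mem h0) h
      rwa [inv_mul_cancel_left] at this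
    · left
      refine ⟨?_, h0⟩
      rcases hcov _ hb hbt with h | h
      · exact absurd h h0
      · rw [hfi] at h
        have := hnorm _ h
        have e1 : f * (f * ((b : K) : G)) * f = ((b : K) : G) * f := by
          rw [← mul_assoc, hf, one_mul]
        rwa [e1] at this
  have hidx : Q.index = 2 * D.index := by
    rw [← Subgroup.relIndex_mul_index hQD, hrel]
  refine Classification.TransferSign.exists_hom_neg_one_of_index Q _ hodd hidx ⟨f, hfK⟩ ?_ ?_
  · exact orderOf_eq_prime (by rw [pow_two]; exact Subtype.ext hf) (fun h => hf1 (congrArg Subtype.val h))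
  · intro g hg
    exact hfD g hg

/-- Elements of order three or five are in the kernel of a sign. -/
theorem sign_eq_one {K : Type*} [Group K] (σ : K →* ℤˣ) {g : K} {n : ℕ} (hn : Odd n) (hg : g ^ n = 1) :
    σ g = 1 := by
  have h1 : σ g ^ n = 1 := by rw [← map_pow, hg, map_one]
  rcases Int.units_eq_one_or (σ g) with h | h
  · exact h
  · rw [h, hn.neg_one_pow] at h1
    exact absurd h1 (by decide)

/-- **The centraliser of `ι(A7)`**: the elements of odd order are in the alternating group generated by `x`, `xd`,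
`y`. -/
theorem cen7_odd [Finite G] (O : OutW t z ι x y) (Tw : Twist t z ι r E) {g : G} (hg : g ∈ cen ι S7) {n : ℕ}
    (hn : Odd n) (hgn : g ^ n = 1) : g ∈ gen 3 (seq ι t x y [7]) := by
  have hD : gen 3 (seq ι t x y [7]) ≤ cen ι S7 := gen_le_cen O [7] S7 (by
    intro s hs i hi
    rw [List.mem_singleton] at hi
    rw [hi]; exact hs)
  obtain ⟨eD⟩ := nonempty_gen_equiv (m := 3) (by norm_num) (rel_seq O [7] (by simp)) ⟨0, by norm_num, x_ne_one O⟩
  have hDcard : Nat.card (gen 3 (seq ι t x y [7])) = 60 := by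
    rw [Nat.card_congr eD.toEquiv, Nat.card_eq_fintype_card]
    have : Nontrivial (Fin (3 + 2)) := ⟨⟨0, 1, by simp⟩⟩
    have h2 := two_mul_card_alternatingGroup (α := Fin (3 + 2))
    rw [Fintype.card_perm, Fintype.card_fin] at h2
    have h3 : (3 + 2).factorial = 120 := rfl
    omega
  have hVC : V O.toCentW ≤ cen ι S7 := by
    intro g hg
    rw [mem_cen]
    exact fun s _ => O.toCentW.four_iota hg s
  have hrK : r ∈ cen ι S7 := by rw [mem_cen]; exact fun s _ => Tw.rι s
  have hfK := Tw.rz_cen O S7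
  have hcovE : ∀ g ∈ cen ι S7, Commute g t → g ∈ four t z ∨ r⁻¹ * g ∈ four t z := by
    intro g hg hgt
    rcases Tw.cov g hgt with h | h
    · exact Or.inl (Tw.h7 g h hg)
    · exact Or.inr (Tw.h7 _ h ((cen ι S7).mul_mem ((cen ι S7).inv_mem hrK) hg))
  have hrzi : (r * z)⁻¹ = r * z := inv_eq_of_mul_eq_one_left (Tw.rz_sq O)
  obtain ⟨σ, hσ⟩ := exists_sign (cen ι S7) (V O.toCentW) t (r * z) r O.u1 O.hu hVC
    (fun d hd => O.toCentW.four_u hd) (Tw.rz_sq O) hfK (Tw.rz_comm O)
    (fun g hgm => by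
      apply Tw.rz_not_conj O
      have h1 : IsConj (r * z) (g * (r * z) * g⁻¹) := isConj_iff.2 ⟨g, rfl⟩
      refine h1.trans (Tw.isConj_four O hgm ?_)
      intro h2
      apply Tw.rz_ne O
      calc r * z = g⁻¹ * (g * (r * z) * g⁻¹) * g := by group
        _ = 1 := by rw [h2]; group)
    (fun g hg hgt => by
      rcases hcovE g hg hgt with h | h
      · exact Or.inl h
      · right
        show (r * z)⁻¹ * g ∈ four t z
        have e : (r * z)⁻¹ * g = z⁻¹ * (r⁻¹ * g) := by group
        rw [e, inv_eq_of_mul_eq_one_left O.hv]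
        exact O.toCentW.four_mul (Or.inr (Or.inr (Or.inl rfl))) h)
    (fun g hg hgt => Tw.sq_of hgt (fun a ha hb => by
      left
      apply O.toCentW.four_sq
      obtain ⟨b, hb1, hb2⟩ := hb
      apply Tw.h7 a ha
      have : a = b⁻¹ * g := by rw [hb1]; group
      rw [this]
      rcases hb2 with rfl | rfl
      · simpa using hg
      · exact (cen ι S7).mul_mem ((cen ι S7).inv_mem hrK) hg) O.hu)
    hrK Tw.rt Tw.r2 (hVC (show t ∈ four t z from Or.inr (Or.inl rfl)))
  -- the kernel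
  have hx : x ∈ cen ι S7 := by rw [mem_cen]; exact fun s _ => O.cx s
  let K0 : Subgroup G := σ.ker.map (cen ι S7).subtype
  have memK0 : ∀ g : G, g ∈ K0 ↔ ∃ h : g ∈ cen ι S7, σ ⟨g, h⟩ = 1 := by
    intro g
    constructor
    · rintro ⟨a, ha, rfl⟩
      exact ⟨a.2, ha⟩
    · rintro ⟨h, h1⟩
      exact ⟨⟨g, h⟩, h1, rfl⟩
  have hodd : ∀ g ∈ cen ι S7, ∀ n : ℕ, Odd n → g ^ n = 1 → g ∈ K0 := by
    intro g hg n hn hgn
    exact (memK0 g).2 ⟨hg, sign_eq_one σ hn (Subtype.ext hgn)⟩
  have hDK0 : gen 3 (seq ι t x y [7]) ≤ K0 :=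
    gen_le_of_cube O [7] fun g hg h3 => hodd g (hD hg) 3 (by decide) h3
  have hVK0 : V O.toCentW ≤ K0 := by
    intro g hg
    rcases (hg : g ∈ four t z) with rfl | rfl | rfl | rfl
    · exact K0.one_mem
    · exact hDK0 (t_mem_gen O [7])
    · exact hDK0 (z_mem_gen O [7])
    · exact K0.mul_mem (hDK0 (t_mem_gen O [7])) (hDK0 (z_mem_gen O [7]))
  have hxK0 : x ∈ K0 := hDK0 (x_mem_gen [7])
  have hcentt : ∀ g ∈ K0, Commute g t → g ∈ four t z := by
    intro g hg hgt
    obtain ⟨h1, h2⟩ := (memK0 g).1 hg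
    rcases hcovE g h1 hgt with h | h
    · exact h
    · exfalso
      have h3 : (z * (r⁻¹ * g)) ∈ K0 := by
        apply K0.mul_mem (hVK0 (show z ∈ four t z from Or.inr (Or.inr (Or.inl rfl))))
        exact hVK0 h
      have e : g = (r * z) * (z * (r⁻¹ * g)) := by
        calc g = r * (z * z) * (r⁻¹ * g) := by rw [O.hv]; group
          _ = _ := by group
      have h4 : (r * z) ∈ K0 := by
        have h5 := K0.mul_mem hg (K0.inv_mem h3)
        have h6 : g * (z * (r⁻¹ * g))⁻¹ = r * z := by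
          conv_lhs => rw [e]
          rw [mul_assoc]
          have : z * (r⁻¹ * g) * (z * (r⁻¹ * (r * z * (z * (r⁻¹ * g)))))⁻¹ = 1 := by
            rw [← e, mul_inv_cancel]
          rw [this, mul_one]
        rwa [h6] at h5
      obtain ⟨h7, h8⟩ := (memK0 _).1 h4
      rw [hσ] at h8
      exact absurd h8 (by decide)
  have hHyp : J2Type.FourSelfCent.Hyp ((V O.toCentW).subgroupOf K0) := by
    refine ⟨?_, ?_, ?_⟩
    · rw [Nat.card_congr (Subgroup.subgroupOfEquivOfLe hVK0).toEquiv, card_V]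
    · intro u hu
      exact Subtype.ext (O.toCentW.four_sq hu)
    · rintro ⟨u, hu'⟩ hu hu1 ⟨g, hg⟩ hgu
      have hu1' : u ≠ 1 := fun h => hu1 (Subtype.ext h)
      have hgu' : Commute g u := congrArg Subtype.val hgu
      show g ∈ four t z
      have hu2 : u ∈ four t z := hu
      rcases hu2 with rfl | rfl | rfl | rfl
      · exact absurd rfl hu1'
      · exact hcentt g hg hgu'
      · -- conjugate by x
        have h1 : Commute (x⁻¹ * g * x) t := by
          have e1 : x⁻¹ * u * x = t := by rw [← O.xu]; group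
          have := commute_conj (g := x⁻¹) hgu'
          rwa [inv_inv, e1] at this
        have h2 := hcentt _ (K0.mul_mem (K0.mul_mem (K0.inv_mem hxK0) hg) hxK0) h1
        have h3 := O.toQuadW.four_conj h2
        have h4 : x * (x⁻¹ * g * x) * x⁻¹ = g := by group
        rwa [h4] at h3
      · have h1 : Commute (x * g * x⁻¹) t := by
          have := commute_conj (g := x) hgu'
          rwa [O.toQuadW.xuv] at this
        have h2 := hcentt _ (K0.mul_mem (K0.mul_mem hxK0 hg) (K0.inv_mem hxK0)) h1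
        have h3 := O.toQuadW.four_conj_inv h2
        have h4 : x⁻¹ * (x * g * x⁻¹) * x = g := by group
        rwa [h4] at h3
  have hcases := hHyp.card_cases
  have hdvd : Nat.card (gen 3 (seq ι t x y [7])) ∣ Nat.card K0 := Subgroup.card_dvd_of_le hDK0
  have heq : gen 3 (seq ι t x y [7]) = K0 := by
    apply Subgroup.eq_of_le_of_card_ge hDK0
    rw [hDcard] at hdvd ⊢
    rcases hcases with h | h | h
    · rw [h] at hdvd; exact absurd hdvd (by norm_num)
    · rw [h] at hdvd; exact absurd hdvd (by norm_num)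
    · rw [h]
  rw [heq]
  exact hodd g hg n hn hgn

/-! ### The centraliser of `ι(A6)` -/

/-- The image of `A6` in the centraliser of `ι(A6)`. -/
theorem exists_a6 (O : OutW t z ι x y) : ∃ ψ : A6 →* G, Function.Injective ψ ∧
    ψ.range = gen 4 (seq ι t x y [6, 7]) ∧ ψ T = t ∧ ψ Z = z := by
  obtain ⟨ψ, hψ⟩ := exists_hom (m := 4) (by norm_num) (rel_seq O [6, 7] (by decide))
  have := a6_simple
  have e0 : ψ (k 0 (by norm_num)) = x := hψ 0 (by norm_num)
  have e1 : ψ (k 1 (by norm_num)) = t * x⁻¹ * t := hψ 1 (by norm_num)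
  have hinj : Function.Injective ψ := by
    rw [← MonoidHom.ker_eq_bot_iff]
    rcases (inferInstance : ψ.ker.Normal).eq_bot_or_eq_top with hb | ht
    · exact hb
    · exfalso
      apply x_ne_one O
      rw [← e0]
      have : k 0 (by norm_num) ∈ ψ.ker := by rw [ht]; exact Subgroup.mem_top _
      exact this
  have eT : ψ T = t := by
    have : ψ T = x * (x * (t * x⁻¹ * t)) * x⁻¹ := by
      show ψ (k 0 (by norm_num) * (k 0 (by norm_num) * k 1 (by norm_num)) * (k 0 (by norm_num))⁻¹) = _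
      rw [map_mul, map_mul, map_mul, map_inv, e0, e1]
    rw [this, xxd_eq O]
    calc x * (z * t) * x⁻¹ = (x * z * x⁻¹) * (x * t * x⁻¹) := by group
      _ = (t * z) * z := by rw [O.xu, O.xv]
      _ = t := by rw [mul_assoc, O.hv, mul_one]
  refine ⟨ψ, hinj, ?_, eT, ?_⟩
  · apply le_antisymm
    · have h2 : (⊤ : Subgroup A6) = Subgroup.closure {g : A6 | ∃ (i : ℕ) (hi : i < 4), g = k i hi} := by
        symm
        rw [eq_top_iff]
        intro g _
        have hg : (g : Equiv.Perm (Fin (4 + 2))) ∈ gen 4 (cyc 4) := by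
          rw [gen_cyc 4 (by omega)]; exact g.2
        have h3 : gen 4 (cyc 4) ≤ (Subgroup.closure {g : A6 | ∃ (i : ℕ) (hi : i < 4), g = k i hi}).map
              (alternatingGroup (Fin (4 + 2))).subtype := by
          rw [gen_def, Subgroup.closure_le]
          rintro _ ⟨i, hi, rfl⟩
          exact ⟨k i hi, Subgroup.subset_closure ⟨i, hi, rfl⟩, rfl⟩
        obtain ⟨g', hg', hgg⟩ := h3 hg
        have : g' = g := Subtype.ext hgg
        rwa [← this]
      rw [MonoidHom.range_eq_map, h2, Subgroup.map_le_iff_le_comap, Subgroup.closure_le]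
      rintro _ ⟨i, hi, rfl⟩
      have e : ψ (k i hi) = seq ι t x y [6, 7] i := hψ i hi
      show ψ (k i hi) ∈ gen 4 (seq ι t x y [6, 7])
      rw [e]
      exact mem_gen hi
    · rw [gen_def, Subgroup.closure_le]
      rintro _ ⟨i, hi, rfl⟩
      exact ⟨k i hi, hψ i hi⟩
  · show ψ (k 0 (by norm_num) * k 1 (by norm_num) * T) = z
    rw [map_mul, map_mul, e0, e1, eT, xxd_eq O, mul_assoc, O.hu, mul_one]

/-- conjugating elements -/
def lC : List A6 := [1, ⟨swap 1 5 * swap 5 4, Perm.mem_alternatingGroup.mpr (by decide)⟩,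
  ⟨swap 1 4 * swap 4 5, Perm.mem_alternatingGroup.mpr (by decide)⟩,
  ⟨swap 2 4 * swap 3 5, Perm.mem_alternatingGroup.mpr (by decide)⟩,
  ⟨swap 0 2 * swap 1 3, Perm.mem_alternatingGroup.mpr (by decide)⟩]

/-- the eight elements -/
def lD : List A6 := [1, Z, W, Z * W, W * Z, Z * W * Z, W * Z * W, Z * W * (Z * W)]

theorem lD_mul : ∀ a ∈ lD, ∀ b ∈ lD, a * b ∈ lD := by decide +kernel
theorem lD_inv : ∀ a ∈ lD, a⁻¹ ∈ lD := by decide +kernel
theorem lD_sq : ∀ a ∈ lD, a * a = 1 ∨ a * a = T := by decide +kernel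
theorem lD_T : ∀ a ∈ lD, a * T = T * a := by decide +kernel
theorem lD_conj : ∀ a ∈ lD, a * a = 1 → a ≠ 1 → ∃ c ∈ lC, c * T * c⁻¹ = a := by decide +kernel

/-- the dihedral group of order eight in `A6` -/
def D8 : Subgroup A6 where
  carrier := {a | a ∈ lD}
  one_mem' := List.mem_cons_self
  mul_mem' := fun {a b} ha hb => lD_mul a ha b hb
  inv_mem' := fun {a} ha => lD_inv a ha

theorem mem_D8 {a : A6} : a ∈ D8 ↔ a ∈ lD := Iff.rfl

/-- **The centraliser of `ι(A6)`**: the elements of odd order are in the alternating group generated by `x`, `xd`,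
`Y 6`, `Y 7`. -/
theorem cen6_odd [Finite G] (O : OutW t z ι x y) (Tw : Twist t z ι r E) {g : G} (hg : g ∈ cen ι S6) {n : ℕ}
    (hn : Odd n) (hgn : g ^ n = 1) : g ∈ gen 4 (seq ι t x y [6, 7]) := by
  obtain ⟨ψ, hinj, hr, eT, eZ⟩ := exists_a6 O
  have hK : gen 4 (seq ι t x y [6, 7]) ≤ cen ι S6 := gen_le_cen O [6, 7] S6 (by
    intro s hs i hi
    simp only [List.mem_cons, List.not_mem_nil, or_false] at hi
    rcases hi with rfl | rfl
    · exact hs.2
    · exact hs.1)
  -- the dihedral group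
  have ztop : Z ∈ D8 := by rw [mem_D8]; decide +kernel
  have wtop : W ∈ D8 := by rw [mem_D8]; decide +kernel
  set D0 : Subgroup G := Subgroup.closure ({z, ψ W} : Set G) with hD0def
  have hD0 : ∀ a ∈ D0, ∃ b ∈ lD, ψ b = a := by
    have h1 : D0 ≤ D8.map ψ := by
      rw [hD0def, Subgroup.closure_le]
      rintro g (rfl | rfl)
      · exact ⟨Z, ztop, eZ⟩
      · exact ⟨W, wtop, rfl⟩
    intro a ha
    obtain ⟨b, hb, hba⟩ := h1 ha
    exact ⟨b, hb, hba⟩
  have oz : orderOf z = 2 := by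
    rw [← eZ, orderOf_injective ψ hinj]
    exact orderOf_eq_prime (by decide +kernel) (by decide +kernel)
  have ow : orderOf (ψ W) = 2 := by
    rw [orderOf_injective ψ hinj]
    exact orderOf_eq_prime (by decide +kernel) (by decide +kernel)
  have ozw : orderOf (z * ψ W) = 4 := by
    rw [← eZ, ← map_mul, orderOf_injective ψ hinj]
    exact orderOf_eq_prime_pow (p := 2) (n := 1) (by decide +kernel) (by decide +kernel)
  have ot : orderOf t = 2 := by
    rw [← eT, orderOf_injective ψ hinj]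
    exact orderOf_eq_prime (by decide +kernel) (by decide +kernel)
  obtain ⟨e⟩ := SporadicB.DihedralLift.closure_pair_equiv_dihedral' oz ow ozw
  have hDt : ∀ a ∈ D0, Commute a t := by
    intro a ha
    obtain ⟨b, hb, rfl⟩ := hD0 a ha
    rw [← eT]
    show ψ b * ψ T = ψ T * ψ b
    rw [← map_mul, ← map_mul, lD_T b hb]
  have hDsq : ∀ a ∈ D0, a * a = 1 ∨ a * a = t := by
    intro a ha
    obtain ⟨b, hb, rfl⟩ := hD0 a ha
    rw [← eT, ← map_mul]
    rcases lD_sq b hb with h | h
    · left; rw [h, map_one]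
    · right; rw [h]
  have hDconj : ∀ a ∈ D0, a * a = 1 → a ≠ 1 → IsConj a t := by
    intro a ha h1 h2
    obtain ⟨b, hb, rfl⟩ := hD0 a ha
    obtain ⟨c, -, hc⟩ := lD_conj b hb (hinj (by rw [map_mul, h1, map_one])) (fun h => h2 (by rw [h, map_one]))
    rw [← hc, ← eT]
    exact isConj_iff.2 ⟨ψ c⁻¹, by rw [← map_inv, ← map_mul, ← map_mul]; congr 1; group⟩
  have hDK : D0 ≤ cen ι S6 := by
    rw [hD0def, Subgroup.closure_le]
    rw [← hr] at hK
    rintro g (rfl | rfl)
    · exact hK ⟨Z, eZ⟩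
    · exact hK ⟨W, rfl⟩
  have hWt : Commute (ψ W) t := hDt _ (Subgroup.subset_closure (by simp))
  have hWE : ψ W ∈ E := by
    apply Tw.fus _ hWt
    apply hDconj _ (Subgroup.subset_closure (by simp))
    · rw [← map_mul, show W * W = 1 by decide +kernel, map_one]
    · intro h
      rw [← orderOf_eq_one_iff, ow] at h
      exact absurd h (by decide)
  have hDE : D0 ≤ E := by
    rw [hD0def, Subgroup.closure_le]
    rintro g (rfl | rfl)
    · exact Tw.zE O
    · exact hWE
  have hDeq : D0 = E ⊓ cen ι S6 := by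
    apply Subgroup.eq_of_le_of_card_ge (le_inf hDE hDK)
    rw [Nat.card_congr e.toEquiv, DihedralGroup.nat_card]
    exact Tw.h6
  have hrK : r ∈ cen ι S6 := by rw [mem_cen]; exact fun s _ => Tw.rι s
  have hfK := Tw.rz_cen O S6
  have hcovE : ∀ g ∈ cen ι S6, Commute g t → g ∈ D0 ∨ r⁻¹ * g ∈ D0 := by
    intro g hg hgt
    rw [hDeq]
    rcases Tw.cov g hgt with h | h
    · exact Or.inl ⟨h, hg⟩
    · exact Or.inr ⟨h, (cen ι S6).mul_mem ((cen ι S6).inv_mem hrK) hg⟩
  have htD : t ∈ D0 := by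
    rw [hDeq]
    exact ⟨Tw.tE, hK (t_mem_gen O [6, 7])⟩
  have hzD : z ∈ D0 := Subgroup.subset_closure (by simp)
  obtain ⟨σ, hσ⟩ := exists_sign (cen ι S6) D0 t (r * z) r O.u1 O.hu hDK hDt (Tw.rz_sq O) hfK (Tw.rz_comm O)
    (fun g hgm => by
      apply Tw.rz_not_conj O
      have h1 : IsConj (r * z) (g * (r * z) * g⁻¹) := isConj_iff.2 ⟨g, rfl⟩
      refine h1.trans (hDconj _ hgm ?_ ?_)
      · calc g * (r * z) * g⁻¹ * (g * (r * z) * g⁻¹) = g * ((r * z) * (r * z)) * g⁻¹ := by group
          _ = 1 := by rw [Tw.rz_sq O]; group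
      · intro h2
        apply Tw.rz_ne O
        calc r * z = g⁻¹ * (g * (r * z) * g⁻¹) * g := by group
          _ = 1 := by rw [h2]; group)
    (fun g hg hgt => by
      rcases hcovE g hg hgt with h | h
      · exact Or.inl h
      · right
        have e : (r * z)⁻¹ * g = z⁻¹ * (r⁻¹ * g) := by group
        rw [e]
        exact D0.mul_mem (D0.inv_mem hzD) h)
    (fun g hg hgt => Tw.sq_of hgt (fun a ha hb => by
      apply hDsq
      obtain ⟨b, hb1, hb2⟩ := hb
      rw [hDeq]
      refine ⟨ha, ?_⟩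
      have : a = b⁻¹ * g := by rw [hb1]; group
      rw [this]
      rcases hb2 with rfl | rfl
      · simpa using hg
      · exact (cen ι S6).mul_mem ((cen ι S6).inv_mem hrK) hg) O.hu)
    hrK Tw.rt Tw.r2 (hDK htD)
  -- the kernel
  let K0 : Subgroup G := σ.ker.map (cen ι S6).subtype
  have memK0 : ∀ g : G, g ∈ K0 ↔ ∃ h : g ∈ cen ι S6, σ ⟨g, h⟩ = 1 := by
    intro g
    constructor
    · rintro ⟨a, ha, rfl⟩
      exact ⟨a.2, ha⟩
    · rintro ⟨h, h1⟩
      exact ⟨⟨g, h⟩, h1, rfl⟩
  have hodd : ∀ g ∈ cen ι S6, ∀ n : ℕ, Odd n → g ^ n = 1 → g ∈ K0 := by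
    intro g hg n hn hgn
    exact (memK0 g).2 ⟨hg, sign_eq_one σ hn (Subtype.ext hgn)⟩
  have hKK0 : gen 4 (seq ι t x y [6, 7]) ≤ K0 :=
    gen_le_of_cube O [6, 7] fun g hg h3 => hodd g (hK hg) 3 (by decide) h3
  have hDK0 : D0 ≤ K0 := by
    rw [← hr] at hKK0
    intro a ha
    obtain ⟨b, hb, rfl⟩ := hD0 a ha
    exact hKK0 ⟨b, rfl⟩
  have hcentt : ∀ g ∈ K0, Commute g t → g ∈ D0 := by
    intro g hg hgt
    obtain ⟨h1, h2⟩ := (memK0 g).1 hg
    rcases hcovE g h1 hgt with h | h
    · exact h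
    · exfalso
      have h3 : (z⁻¹ * (r⁻¹ * g)) ∈ K0 := K0.mul_mem (K0.inv_mem (hDK0 hzD)) (hDK0 h)
      have h4 : (r * z) ∈ K0 := by
        have h5 := K0.mul_mem hg (K0.inv_mem h3)
        have h6 : g * (z⁻¹ * (r⁻¹ * g))⁻¹ = r * z := by group
        rwa [h6] at h5
      obtain ⟨h7, h8⟩ := (memK0 _).1 h4
      rw [hσ] at h8
      exact absurd h8 (by decide)
  rw [← hr] at hKK0 ⊢
  -- inside `K0`
  have htK : t ∈ K0 := hDK0 htD
  let t' : K0 := ⟨t, htK⟩
  have ht' : orderOf t' = 2 := by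
    rw [← ot]; exact (orderOf_injective K0.subtype K0.subtype_injective t').symm
  have hmem : ∀ g : K0, g ∈ Subgroup.centralizer ({t'} : Set K0) ↔ (g : G) ∈ D0 := by
    intro g
    rw [Subgroup.mem_centralizer_singleton_iff]
    constructor
    · intro h
      exact hcentt g g.2 (congrArg Subtype.val h)
    · intro h
      exact Subtype.ext (hDt _ h).eq
  let e1 : Subgroup.centralizer ({t'} : Set K0) ≃* D0 :=
    { toFun := fun g => ⟨g.1.1, (hmem g.1).mp g.2⟩
      invFun := fun g => ⟨⟨g.1, hDK0 g.2⟩, (hmem _).mpr g.2⟩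
      left_inv := fun g => rfl
      right_inv := fun g => rfl
      map_mul' := fun a b => rfl }
  have hperf : ⁅ψ.range, ψ.range⁆ = ψ.range := by
    rw [MonoidHom.range_eq_map, ← Subgroup.map_commutator]
    congr 1
    exact a6_perfect
  have hcard : Nat.card ψ.range = 360 := by
    rw [← a6_card]
    exact (Nat.card_congr (MonoidHom.ofInjective hinj).toEquiv).symm
  have key := DihClose.eq_top (ψ.range.subgroupOf K0) t' ht' (e1.trans e)
    (by
      intro g hg
      rw [Subgroup.mem_subgroupOf]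
      obtain ⟨b, -, hb⟩ := hD0 _ ((hmem g).mp hg)
      exact ⟨b, hb⟩)
    (by rw [Nat.card_congr (Subgroup.subgroupOfEquivOfLe hKK0).toEquiv, hcard])
    (by
      apply Subgroup.map_injective K0.subtype_injective
      rw [Subgroup.map_commutator, Subgroup.map_subgroupOf_eq_of_le hKK0, hperf])
    ⟨⟨ψ (Z * W), hKK0 ⟨_, rfl⟩⟩, Subtype.ext (by
      show (ψ (Z * W)) ^ 2 = t
      rw [← eT, ← map_pow, show (Z * W) ^ 2 = T by decide +kernel])⟩
  rw [Subgroup.subgroupOf_eq_top] at key
  exact key (hodd g hg n hn hgn)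

end Cfsg.Agent.HN.Loc8Cent
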