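import Cfsg.Agent.HN.Loc8
import Cfsg.Agent.HN.LocalThm

/-!
# The local argument, version for `V × S₈`: the element `y` commuting with `ι(A7)`
-/

set_option autoImplicit false

namespace Cfsg.Agent.HN.Loc8Main

open Equiv Cfsg.Agent.HN.Local Cfsg.Agent.HN.LocalX Cfsg.Agent.HN.A8Facts Cfsg.Agent.HN.Loc8
open Cfsg.Agent.HN.LocalMain (LabelStatement conj_f2 conj_f12 conj_b0 conj_fb isConj_of commute_conj)

variable {G : Type*} [Group G]

/-- The output of the local argument. -/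
structure OutW (t z : G) (ι : A8 →* G) (x y : G) : Prop extends QuadW t z ι x where
  y3 : y ^ 3 = 1
  y1 : y ≠ 1
  xy : (x * y) ^ 2 = 1
  xdy : ((t * x⁻¹ * t) * y) ^ 2 = 1
  cy : ∀ s : A8, (s : Perm (Fin 8)) 7 = 7 → Commute y (ι s)
  yy : (y * (ι g0 * y * (ι g0)⁻¹)) ^ 2 = 1

/-- The four-group `⟨ι a, ι b⟩` gets a `Quad` structure. -/
theorem exists_quad_of {t z x : G} {ι : A8 →* G} (L : LocW t z ι) (Q : QuadW t z ι x) (a b : A8)
    (ha : a * a = 1) (hb : b * b = 1) (hab : a * b = b * a) (hne : a ≠ b) (h1 : IsConj (ι a) t)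
    (h2 : IsConj (ι b) t) (h3 : IsConj (ι (a * b)) t) : ∃ ι' x', QuadW (ι a) (ι b) ι' x' := by
  obtain ⟨h, e1, e2⟩ := L.fus (ι a) (ι b) (by rw [← map_mul, ha, map_one]) (by rw [← map_mul, hb, map_one])
    (by rw [← map_mul, hab, map_mul]) (fun h => hne (L.inj h)) h1 h2 (by rwa [← map_mul])
  have Q' := Q.map (MulAut.conj h⁻¹)
  have e1' : (MulAut.conj h⁻¹) t = ι a := by rw [MulAut.conj_apply, ← e1]; group
  have e2' : (MulAut.conj h⁻¹) z = ι b := by rw [MulAut.conj_apply, ← e2]; group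
  rw [e1', e2'] at Q'
  exact ⟨_, _, Q'⟩

theorem exists_out (hAut : AutStatement) (hLabel : LabelStatement) {t z : G} {ι : A8 →* G} (L : LocW t z ι) :
    ∃ x y, OutW t z ι x y := by
  obtain ⟨x, Q⟩ := exists_quad L hAut
  -- the second element of order three of `J8`
  have htt : t⁻¹ = t := by rw [inv_eq_iff_mul_eq_one, L.hu]
  set xd : G := t * x⁻¹ * t with hxd
  have xd3 : xd ^ 3 = 1 := by
    have : xd = t * x⁻¹ * t⁻¹ := by rw [htt]
    rw [this, conj_pow, inv_pow, Q.x3]; group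
  have xxd : x * xd = z * t := by
    calc x * xd = (x * t * x⁻¹) * t := by rw [hxd]; group
      _ = z * t := by rw [Q.xu]
  have xxd2 : (x * xd) ^ 2 = 1 := by
    rw [xxd, pow_two, ← L.comm]
    exact L.toCentW.four_sq (Or.inr (Or.inr (Or.inr rfl)))
  have xxd1 : x * xd ≠ 1 := by
    rw [xxd, ← L.comm]; exact L.toCentW.uv_ne
  have cxd : ∀ s, Commute xd (ι s) := fun s =>
    ((L.cu s).mul_left (Q.cx s).inv_left).mul_left (L.cu s)
  have x1 : x ≠ 1 := by
    intro h
    have := Q.xu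
    rw [h] at this
    apply L.ne
    simpa using this
  -- the four-group F
  have cf1 : IsConj (ι f1) t := L.four
  have cf2 : IsConj (ι f2) t := isConj_of L.four conj_f2
  have cf12 : IsConj (ι (f1 * f2)) t := isConj_of L.four conj_f12
  obtain ⟨ι₀, x₀, Q₀⟩ := exists_quad_of L Q f1 f2 (by decide) (by decide) (by decide) (by decide) cf1 cf2 cf12
  have cc : ∀ a b : A8, a * b = b * a → Commute (ι a) (ι b) := fun a b h => by
    show ι a * ι b = ι b * ι a
    rw [← map_mul, ← map_mul, h]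
  obtain ⟨sa, sa3, hsa⟩ := Q₀.toCentW.cube (Q.cx f1) (Q.cx f2) Q.x3
  obtain ⟨sb, sb3, hsb⟩ := Q₀.toCentW.cube (cxd f1) (cxd f2) xd3
  obtain ⟨sc, sc3, hsc⟩ := Q₀.toCentW.cube (g := ι d6) (cc d6 f1 (by decide)) (cc d6 f2 (by decide))
    (by rw [← map_pow, show d6 ^ 3 = 1 by decide, map_one])
  obtain ⟨sd, sd3, hsd⟩ := Q₀.toCentW.cube (g := ι d7) (cc d7 f1 (by decide)) (cc d7 f2 (by decide))
    (by rw [← map_pow, show d7 ^ 3 = 1 by decide, map_one])
  have inj₀ := Q₀.inj
  obtain ⟨p, pa, pb, pc, pd⟩ := hLabel sa sb sc sd sa3 sb3 sc3 sd3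
    (fun h => x1 (by rw [hsa, h, map_one]))
    (fun h => by
      have : ι d6 = ι 1 := by rw [hsc, h, map_one, map_one]
      exact absurd (L.inj this) (by decide))
    (inj₀ (by rw [map_pow, map_mul, ← hsa, ← hsb, xxd2, map_one]))
    (fun h => xxd1 (by rw [hsa, hsb, ← map_mul, h, map_one]))
    (inj₀ (by rw [map_pow, map_mul, ← hsc, ← hsd, ← map_mul, ← map_pow, show (d6 * d7) ^ 2 = 1 by decide,
      map_one, map_one]))
    (fun h => by
      have : ι (d6 * d7) = ι 1 := by rw [map_mul, hsc, hsd, ← map_mul, h, map_one, map_one]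
      exact absurd (L.inj this) (by decide))
    (Q₀.toCentW.commute_of_iota (by rw [← hsa, ← hsc]; exact Q.cx d6))
    (Q₀.toCentW.commute_of_iota (by rw [← hsa, ← hsd]; exact Q.cx d7))
    (Q₀.toCentW.commute_of_iota (by rw [← hsb, ← hsc]; exact cxd d6))
    (Q₀.toCentW.commute_of_iota (by rw [← hsb, ← hsd]; exact cxd d7))
  -- relabel
  let E : A8 ≃* A8 := (MulAut.conjNormal p⁻¹ : MulAut A8)
  have hE : ∀ s : A8, ((E s : A8) : Perm (Fin 8)) = p⁻¹ * (s : Perm (Fin 8)) * p := by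
    intro s
    have := MulAut.conjNormal_apply (G := Perm (Fin 8)) (H := A8) p⁻¹ s
    rw [inv_inv] at this
    exact this
  have QF := Q₀.relabel p⁻¹
  set ιF : A8 →* G := ι₀.comp E.toMonoidHom with hιF
  have hF : ∀ s s' : A8, p * (s : Perm (Fin 8)) * p⁻¹ = (s' : Perm (Fin 8)) → ιF s' = ι₀ s := by
    intro s s' h
    show ι₀ (E s') = ι₀ s
    congr 1
    apply Subtype.ext
    rw [hE, ← h]; group
  have Fa : ιF c2 = x := by rw [hF _ _ pa, hsa]
  have Fb : ιF c3 = xd := by rw [hF _ _ pb, hsb]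
  have Fc : ιF d6 = ι d6 := by rw [hF _ _ pc, hsc]
  have Fd : ιF d7 = ι d7 := by rw [hF _ _ pd, hsd]
  -- (0 1 2) centralises L_F
  have hr1 : ι c2 * ι f1 * (ι c2)⁻¹ = ι f1 * ι f2 := by
    rw [← map_inv, ← map_mul, ← map_mul, ← map_mul, show c2 * f1 * c2⁻¹ = f1 * f2 by decide]
  have hr2 : ι c2 * ι f2 * (ι c2)⁻¹ = ι f1 := by
    rw [← map_inv, ← map_mul, ← map_mul, show c2 * f2 * c2⁻¹ = f1 by decide]
  have R : ∀ s, Commute (ι c2) (ιF s) := by
    obtain ⟨q, hq⟩ := QF.split hr1 hr2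
    have hq1 : q = 1 := by
      apply cen4'
      · exact commute_of_cj (QF.cj_eq_self hq (by rw [Fa]; exact (Q.cx c2).symm))
      · exact commute_of_cj (QF.cj_eq_self hq (by rw [Fb]; exact (cxd c2).symm))
      · exact commute_of_cj (QF.cj_eq_self hq (by rw [Fc]; exact cc _ _ (by decide)))
      · exact commute_of_cj (QF.cj_eq_self hq (by rw [Fd]; exact cc _ _ (by decide)))
    rw [hq1] at hq
    exact QF.toCentW.comm_iota_of_cj_one hq
  -- the element y
  set y : G := ιF c7 with hy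
  have y3 : y ^ 3 = 1 := by rw [hy, ← map_pow, show c7 ^ 3 = 1 by decide, map_one]
  have xy : (x * y) ^ 2 = 1 := by
    rw [← Fa, hy, ← map_mul, ← map_pow, show (c2 * c7) ^ 2 = 1 by decide, map_one]
  have xdy : (xd * y) ^ 2 = 1 := by
    rw [← Fb, hy, ← map_mul, ← map_pow, show (c3 * c7) ^ 2 = 1 by decide, map_one]
  have yd6 : Commute y (ι d6) := by
    rw [← Fc]
    show ιF c7 * ιF d6 = ιF d6 * ιF c7
    rw [← map_mul, ← map_mul, show c7 * d6 = d6 * c7 by decide]
  have yf1 : Commute y (ι f1) := (QF.cu c7).symm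
  have yf2 : Commute y (ι f2) := (QF.cv c7).symm
  have yc2 : Commute y (ι c2) := (R c7).symm
  -- b = (0 1)(4 5)
  have yb : Commute y (ι b0) := by
    have a1 : Commute (ι b0 * y * (ι b0)⁻¹) (ι f1) := by
      have := commute_conj (g := ι b0) yf1
      rwa [← map_inv, ← map_mul, ← map_mul, show b0 * f1 * b0⁻¹ = f1 by decide, map_inv] at this
    have a2 : Commute (ι b0 * y * (ι b0)⁻¹) (ι f2) := by
      have := commute_conj (g := ι b0) (yf1.mul_right yf2)
      rwa [← map_inv, ← map_mul, ← map_mul, ← map_mul, show b0 * (f1 * f2) * b0⁻¹ = f2 by decide, map_inv] at this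
    have a3 : (ι b0 * y * (ι b0)⁻¹) ^ 3 = 1 := by rw [conj_pow, y3]; group
    obtain ⟨s, s3, hs⟩ := QF.toCentW.cube a1 a2 a3
    have a4 : Commute (ι b0 * y * (ι b0)⁻¹) (ι d6) := by
      have := commute_conj (g := ι b0) yd6.inv_right
      rwa [← map_inv, ← map_inv, ← map_mul, ← map_mul, show b0 * d6⁻¹ * b0⁻¹ = d6 by decide, map_inv] at this
    have a5 : (x * (ι b0 * y * (ι b0)⁻¹)) ^ 2 = 1 := by
      have : x * (ι b0 * y * (ι b0)⁻¹) = ι b0 * (x * y) * (ι b0)⁻¹ := by
        have := (Q.cx b0).eq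
        calc x * (ι b0 * y * (ι b0)⁻¹) = (x * ι b0) * y * (ι b0)⁻¹ := by group
          _ = _ := by rw [this]; group
      rw [this, conj_pow, xy]; group
    have a6 : (xd * (ι b0 * y * (ι b0)⁻¹)) ^ 2 = 1 := by
      have : xd * (ι b0 * y * (ι b0)⁻¹) = ι b0 * (xd * y) * (ι b0)⁻¹ := by
        have := (cxd b0).eq
        calc xd * (ι b0 * y * (ι b0)⁻¹) = (xd * ι b0) * y * (ι b0)⁻¹ := by group
          _ = _ := by rw [this]; group
      rw [this, conj_pow, xdy]; group
    have s7 : s = c7 := by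
      apply uniq s3
      · apply QF.inj
        rw [map_pow, map_mul, ← hs, Fa, a5, map_one]
      · apply QF.inj
        rw [map_pow, map_mul, ← hs, Fb, a6, map_one]
      · apply QF.toCentW.commute_of_iota
        rw [← hs, Fc]; exact a4
    rw [s7] at hs
    show y * ι b0 = ι b0 * y
    conv_lhs => rw [hy, ← hs]
    group
  -- the four-group K0
  have cb0 : IsConj (ι b0) t := isConj_of L.four conj_b0
  have cfb : IsConj (ι (f1 * b0)) t := isConj_of L.four conj_fb
  obtain ⟨ιK, xK, QK⟩ := exists_quad_of L Q f1 b0 (by decide) (by decide) (by decide) (by decide) cf1 cb0 cfb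
  obtain ⟨s8, -, hs8⟩ := QK.toCentW.cube yf1 yb y3
  have yrho : Commute y (ι rho) := by
    have := QK.rotation (r := ι rho)
      (by rw [← map_inv, ← map_mul, ← map_mul, ← map_mul, show rho * f1 * rho⁻¹ = f1 * b0 by decide])
      (by rw [← map_inv, ← map_mul, ← map_mul, show rho * b0 * rho⁻¹ = f1 by decide])
      (by rw [← map_pow, show rho ^ 3 = 1 by decide, map_one]) {t, z}
      (by
        rintro w (rfl | rfl)
        · exact ⟨L.cu _, L.cu _, L.cu _⟩
        · exact ⟨L.cv _, L.cv _, L.cv _⟩)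
      (by
        intro g g3 g1 g2 hg
        obtain ⟨s, s3, rfl⟩ := L.toCentW.cube (hg t (Or.inl rfl)) (hg z (Or.inr rfl)) g3
        rw [no3 s3 (L.toCentW.commute_of_iota g1) (L.toCentW.commute_of_iota g2), map_one]) s8
    rw [hs8]
    exact this.symm
  have cy : ∀ s : A8, (s : Perm (Fin 8)) 7 = 7 → Commute y (ι s) := by
    let S : Subgroup A8 := (Subgroup.centralizer {y}).comap ι
    have hS : ∀ s : A8, s ∈ S ↔ Commute y (ι s) := by
      intro s
      show ι s ∈ Subgroup.centralizer {y} ↔ _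
      rw [Subgroup.mem_centralizer_singleton_iff]
      exact ⟨fun h => h.symm, fun h => h.symm⟩
    intro s hs
    rw [← hS]
    exact stab_le S ((hS _).mpr yf1) ((hS _).mpr yf2) ((hS _).mpr yc2) ((hS _).mpr yd6) ((hS _).mpr yb)
      ((hS _).mpr yrho) s hs
  refine ⟨x, y, Q, y3, ?_, xy, xdy, cy, ?_⟩
  · intro h
    have : ιF c7 = ιF 1 := by rw [← hy, h, map_one]
    exact absurd (QF.inj this) (by decide)
  · have hg : ι g0 = ιF g0 := by
      rw [show g0 = d6 * (d6 * d7) * d6⁻¹ by decide]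
      simp only [map_mul, map_inv, Fc, Fd]
    rw [hg, hy, ← map_inv, ← map_mul, ← map_mul, ← map_mul, ← map_pow,
      show (c7 * (g0 * c7 * g0⁻¹)) ^ 2 = 1 by decide, map_one]

/-- The output of the local argument, from the local hypotheses. -/
theorem exists_outW {t z : G} {ι : A8 →* G} (L : LocW t z ι) : ∃ x y, OutW t z ι x y :=
  exists_out LocalThm.autStatement LocalThm.labelStatement L

end Cfsg.Agent.HN.Loc8Main
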