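import Cfsg.Agent.HN.LocS
import Cfsg.Agent.HN.LocalThm

/-!
# The local argument with outer elements
-/

set_option autoImplicit false

namespace Cfsg.Agent.HN.LocMainS

open Equiv Cfsg.Agent.HN.Local Cfsg.Agent.HN.LocalX Cfsg.Agent.HN.A8Facts Cfsg.Agent.HN.LocS
open Cfsg.Agent.HN.LocalMain (LabelStatement conj_f2 conj_f12 conj_b0 conj_fb commute_conj)

/-- The local hypotheses: centraliser of the four-group `⟨t, z⟩` and fusion of four-groups. -/
structure LocSt {G : Type*} [Group G] (t z : G) (κ : P8 →* G) : Prop extends CentS t z κ where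
  zt : IsConj z t
  tzt : IsConj (t * z) t
  fus : ∀ u v : G, u * u = 1 → v * v = 1 → u * v = v * u → u ≠ v → IsConj u t → IsConj v t →
    IsConj (u * v) t → ∃ h : G, h * u * h⁻¹ = t ∧ h * v * h⁻¹ = z
  four : IsConj (κ (f1 : P8)) t

/-- The output of the local argument. -/
structure OutC {G : Type*} [Group G] (t z : G) (ι : A8 →* G) (x y : G) : Prop extends QuadC t z ι x where
  y3 : y ^ 3 = 1
  y1 : y ≠ 1
  xy : (x * y) ^ 2 = 1
  xdy : ((t * x⁻¹ * t) * y) ^ 2 = 1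
  cy : ∀ s : A8, (s : Perm (Fin 8)) 7 = 7 → Commute y (ι s)
  yy : (y * (ι g0 * y * (ι g0)⁻¹)) ^ 2 = 1

variable {G : Type*} [Group G] {t z : G} {κ : P8 →* G}

theorem exists_quad (L : LocSt t z κ) (hAut : AutStatement) : ∃ x, QuadS t z κ x := by
  set ι : A8 →* G := κ.comp incl with hι
  obtain ⟨h, h1, h2⟩ := L.fus z (t * z) L.hv (L.toCentC.four_sq (Or.inr (Or.inr (Or.inr rfl))))
    (by rw [← mul_assoc, L.comm]) (fun h => L.u1 (right_eq_mul.mp h)) L.zt L.tzt
    (by rw [L.comm, ← mul_assoc, L.hv, one_mul])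
  obtain ⟨q, rfl⟩ : ∃ q, h = q⁻¹ := ⟨h⁻¹, (inv_inv h).symm⟩
  rw [inv_inv] at h1 h2
  have q1 : q * t * q⁻¹ = z := by rw [← h1]; group
  have q2 : q * z * q⁻¹ = t * z := by
    have h4 : q * (q⁻¹ * (t * z) * q) * q⁻¹ = t * z := by group
    rwa [h2] at h4
  have q3 : q * (t * z) * q⁻¹ = t := by
    calc q * (t * z) * q⁻¹ = (q * t * q⁻¹) * (q * z * q⁻¹) := by group
      _ = z * (t * z) := by rw [q1, q2]
      _ = t := by rw [← mul_assoc, ← L.comm, mul_assoc, L.hv, mul_one]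
  have key : ∀ s : A8, q * ι s * q⁻¹ ∈ ι.range := by
    let S : Subgroup A8 := (ι.range.comap (MulAut.conj q).toMonoidHom).comap ι
    have hS : S = ⊤ := by
      apply a8_gen
      intro s hs
      show q * ι s * q⁻¹ ∈ ι.range
      have i1 : Commute (q * ι s * q⁻¹) z := by
        have := (L.cu s).symm.map (MulAut.conj q).toMonoidHom
        simp only [MulEquiv.toMonoidHom_eq_coe, MonoidHom.coe_coe, MulAut.conj_apply] at this
        rwa [q1] at this
      have i2 : Commute (q * ι s * q⁻¹) t := by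
        have := ((L.cu s).symm.mul_right (L.cv s).symm).map (MulAut.conj q).toMonoidHom
        simp only [MulEquiv.toMonoidHom_eq_coe, MonoidHom.coe_coe, MulAut.conj_apply] at this
        rwa [q3] at this
      have i3 : (q * ι s * q⁻¹) ^ 3 = 1 := by
        rw [conj_pow, ← map_pow, hs, map_one, mul_one, mul_inv_cancel]
      obtain ⟨s', -, hs'⟩ := L.toCentS.cube i2 i1 i3
      exact ⟨s', hs'.symm⟩
    intro s
    have : s ∈ S := by rw [hS]; exact Subgroup.mem_top _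
    exact this
  choose f hf using key
  let F : A8 →* A8 :=
    { toFun := f
      map_one' := L.inj (by rw [hf, map_one, mul_one, mul_inv_cancel])
      map_mul' := fun a b => L.inj (by rw [hf, map_mul, map_mul, hf, hf]; group) }
  have hFinj : Function.Injective F := by
    intro a b hab
    apply L.inj
    have h1 : q * ι a * q⁻¹ = q * ι b * q⁻¹ := by rw [← hf, ← hf]; exact congrArg ι hab
    exact mul_left_cancel (mul_right_cancel h1)
  let E : A8 ≃* A8 := MulEquiv.ofBijective F ⟨hFinj, Finite.surjective_of_injective hFinj⟩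
  obtain ⟨p, hp⟩ := hAut E
  let e : A8 := ⟨p ^ 2, Perm.mem_alternatingGroup.mpr (by rw [map_pow]; exact Int.units_sq _)⟩
  have hE : ∀ s, ι (E s) = q * ι s * q⁻¹ := fun s => hf s
  have hEE : ∀ s : A8, E (E s) = e * s * e⁻¹ := by
    intro s
    apply Subtype.ext
    rw [hp, hp]
    show p * (p * (s : Perm (Fin 8)) * p⁻¹) * p⁻¹ = p ^ 2 * (s : Perm (Fin 8)) * (p ^ 2)⁻¹
    rw [pow_two]; group
  have hq2 : ∀ s, q ^ 2 * ι s * (q ^ 2)⁻¹ = ι (e * s * e⁻¹) := by
    intro s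
    rw [← hEE, hE, hE, pow_two]; group
  have hq4 : ∀ s, q ^ 4 * ι s * (q ^ 4)⁻¹ = ι ((e * e) * s * (e * e)⁻¹) := by
    intro s
    have : q ^ 4 * ι s * (q ^ 4)⁻¹ = q ^ 2 * (q ^ 2 * ι s * (q ^ 2)⁻¹) * (q ^ 2)⁻¹ := by
      rw [show (4 : ℕ) = 2 + 2 from rfl, pow_add]; group
    rw [this, hq2, hq2]; congr 1
  have q4t : q ^ 4 * t * (q ^ 4)⁻¹ = z := by
    calc q ^ 4 * t * (q ^ 4)⁻¹ = q * (q * (q * (q * t * q⁻¹) * q⁻¹) * q⁻¹) * q⁻¹ := by
          rw [pow_succ, pow_succ, pow_two]; group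
      _ = z := by rw [q1, q2, q3, q1]
  have q4z : q ^ 4 * z * (q ^ 4)⁻¹ = t * z := by
    calc q ^ 4 * z * (q ^ 4)⁻¹ = q * (q * (q * (q * z * q⁻¹) * q⁻¹) * q⁻¹) * q⁻¹ := by
          rw [pow_succ, pow_succ, pow_two]; group
      _ = t * z := by rw [q2, q3, q1, q2]
  have xt : (q ^ 4 * (ι (e * e))⁻¹) * t * (q ^ 4 * (ι (e * e))⁻¹)⁻¹ = z := by
    have h1 : Commute (ι (e * e))⁻¹ t := (L.cu (e * e)).symm.inv_left
    calc (q ^ 4 * (ι (e * e))⁻¹) * t * (q ^ 4 * (ι (e * e))⁻¹)⁻¹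
        = q ^ 4 * ((ι (e * e))⁻¹ * t) * ι (e * e) * (q ^ 4)⁻¹ := by group
      _ = q ^ 4 * t * (q ^ 4)⁻¹ := by rw [h1.eq]; group
      _ = z := q4t
  have xz : (q ^ 4 * (ι (e * e))⁻¹) * z * (q ^ 4 * (ι (e * e))⁻¹)⁻¹ = t * z := by
    have h1 : Commute (ι (e * e))⁻¹ z := (L.cv (e * e)).symm.inv_left
    calc (q ^ 4 * (ι (e * e))⁻¹) * z * (q ^ 4 * (ι (e * e))⁻¹)⁻¹
        = q ^ 4 * ((ι (e * e))⁻¹ * z) * ι (e * e) * (q ^ 4)⁻¹ := by group
      _ = q ^ 4 * z * (q ^ 4)⁻¹ := by rw [h1.eq]; group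
      _ = t * z := q4z
  have cx : ∀ s, Commute (q ^ 4 * (ι (e * e))⁻¹) (ι s) := by
    intro s
    have h1 : (q ^ 4 * (ι (e * e))⁻¹) * ι s * (q ^ 4 * (ι (e * e))⁻¹)⁻¹ = ι s := by
      calc (q ^ 4 * (ι (e * e))⁻¹) * ι s * (q ^ 4 * (ι (e * e))⁻¹)⁻¹
          = q ^ 4 * ι ((e * e)⁻¹ * s * (e * e)) * (q ^ 4)⁻¹ := by
            rw [map_mul ι _ (e * e), map_mul ι _ s, map_inv]; group
        _ = ι s := by rw [hq4]; congr 1; group
    show _ * _ = _ * _
    conv_rhs => rw [← h1]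
    group
  set x := q ^ 4 * (ι (e * e))⁻¹ with hx
  have xtz : x * (t * z) * x⁻¹ = t := by
    calc x * (t * z) * x⁻¹ = (x * t * x⁻¹) * (x * z * x⁻¹) := by group
      _ = z * (t * z) := by rw [xt, xz]
      _ = t := by rw [← mul_assoc, ← L.comm, mul_assoc, L.hv, mul_one]
  refine ⟨x, L.toCentS, ?_, cx, xt, xz⟩
  have c1 : Commute (x ^ 3) t := by
    have : x ^ 3 * t * (x ^ 3)⁻¹ = t := by
      calc x ^ 3 * t * (x ^ 3)⁻¹ = x * (x * (x * t * x⁻¹) * x⁻¹) * x⁻¹ := by
            rw [pow_succ, pow_two]; group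
        _ = t := by rw [xt, xz, xtz]
    show _ * _ = _ * _
    conv_rhs => rw [← this]
    group
  have c2 : Commute (x ^ 3) z := by
    have : x ^ 3 * z * (x ^ 3)⁻¹ = z := by
      calc x ^ 3 * z * (x ^ 3)⁻¹ = x * (x * (x * z * x⁻¹) * x⁻¹) * x⁻¹ := by
            rw [pow_succ, pow_two]; group
        _ = z := by rw [xz, xtz, xt]
    show _ * _ = _ * _
    conv_rhs => rw [← this]
    group
  obtain ⟨k, hk, s, hs⟩ := L.cent _ c1 c2
  have s1 : s = 1 := by
    apply p8_center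
    intro r
    apply L.toCentS.commute_of_kappa
    have : κ s = k⁻¹ * x ^ 3 := by rw [hs]; group
    rw [this]
    exact (L.toCentS.four_kappa hk r).inv_left.mul_left ((cx r).pow_left 3)
  rw [s1, map_one, mul_one] at hs
  have hkx : Commute x k := by rw [← hs]; exact (Commute.refl x).pow_right 3
  have h' : x * k * x⁻¹ = k := by rw [hkx.eq]; group
  rw [hs]
  rcases hk with rfl | rfl | rfl | rfl
  · rfl
  · rw [xt] at h'; exact absurd h'.symm L.ne
  · rw [xz] at h'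
    exact absurd (mul_eq_right.mp h') L.u1
  · rw [xtz] at h'
    exact absurd (left_eq_mul.mp h') L.v1

theorem isConj_of {t : G} {κ : P8 →* G} (h : IsConj (κ (f1 : P8)) t) {g s : A8} (hg : g * s * g⁻¹ = f1) :
    IsConj (κ s) t := by
  refine IsConj.trans ?_ h
  rw [isConj_iff]
  exact ⟨κ g, by rw [← map_inv, ← map_mul, ← map_mul, ← hg]; rfl⟩

/-- The four-group `⟨κ a, κ b⟩` gets a `Quad` structure. -/
theorem exists_quad_of {t z x : G} {κ : P8 →* G} (L : LocSt t z κ) (Q : QuadS t z κ x) (a b : A8)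
    (ha : a * a = 1) (hb : b * b = 1) (hab : a * b = b * a) (hne : a ≠ b) (h1 : IsConj (κ a) t)
    (h2 : IsConj (κ b) t) (h3 : IsConj (κ ((a * b : A8) : P8)) t) : ∃ κ' x', QuadS (κ a) (κ b) κ' x' := by
  have m : ∀ a b : A8, κ a * κ b = κ ((a * b : A8) : P8) := fun a b => (map_mul κ _ _).symm
  have o : κ ((1 : A8) : P8) = 1 := map_one κ
  obtain ⟨h, e1, e2⟩ := L.fus (κ a) (κ b) (by rw [m, ha, o]) (by rw [m, hb, o])
    (by rw [m, m, hab]) (fun h => hne (Subtype.ext (L.injS h))) h1 h2 (by rwa [m])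
  have Q' := Q.map (MulAut.conj h⁻¹)
  have e1' : (MulAut.conj h⁻¹) t = κ a := by rw [MulAut.conj_apply, ← e1]; group
  have e2' : (MulAut.conj h⁻¹) z = κ b := by rw [MulAut.conj_apply, ← e2]; group
  rw [e1', e2'] at Q'
  exact ⟨_, _, Q'⟩

theorem exists_out (hAut : AutStatement) (hLabel : LabelStatement) {t z : G} {κ : P8 →* G} (L : LocSt t z κ) :
    ∃ x y, OutC t z (κ.comp incl) x y := by
  obtain ⟨x, Q⟩ := exists_quad L hAut
  set ι : A8 →* G := κ.comp incl with hι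
  -- the second element of order three of `J8`
  have htt : t⁻¹ = t := by rw [inv_eq_iff_mul_eq_one, L.hu]
  set xd : G := t * x⁻¹ * t with hxd
  have xd3 : xd ^ 3 = 1 := by
    have : xd = t * x⁻¹ * t⁻¹ := by rw [htt]
    rw [this, conj_pow, inv_pow, Q.x3]; group
  have xxd : x * xd = z * t := by
    calc x * xd = (x * t * x⁻¹) * t := by rw [hxd]; group
      _ = z * t := by rw [Q.xu]
  have xxd2 : (x * xd) ^ 2 = 1 := by
    rw [xxd, pow_two, ← L.comm]
    exact L.toCentC.four_sq (Or.inr (Or.inr (Or.inr rfl)))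
  have xxd1 : x * xd ≠ 1 := by
    rw [xxd, ← L.comm]; exact L.toCentC.uv_ne
  have cxd : ∀ s, Commute xd (ι s) := fun s =>
    ((L.cu s).mul_left (Q.cx s).inv_left).mul_left (L.cu s)
  have x1 : x ≠ 1 := by
    intro h
    have := Q.xu
    rw [h] at this
    apply L.ne
    simpa using this
  -- the four-group F
  have cf1 : IsConj (ι f1) t := L.four
  have cf2 : IsConj (ι f2) t := isConj_of L.four conj_f2
  have cf12 : IsConj (ι (f1 * f2)) t := isConj_of L.four conj_f12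
  obtain ⟨κ₀, x₀, Q₀⟩ := exists_quad_of L Q f1 f2 (by decide) (by decide) (by decide) (by decide) cf1 cf2 cf12
  have cc : ∀ a b : A8, a * b = b * a → Commute (ι a) (ι b) := fun a b h => by
    show ι a * ι b = ι b * ι a
    rw [← map_mul, ← map_mul, h]
  set ι₀ : A8 →* G := κ₀.comp incl with hι₀
  obtain ⟨sa, sa3, hsa⟩ : ∃ s : A8, s ^ 3 = 1 ∧ x = ι₀ s := Q₀.toCentS.cube (Q.cx f1) (Q.cx f2) Q.x3
  obtain ⟨sb, sb3, hsb⟩ : ∃ s : A8, s ^ 3 = 1 ∧ xd = ι₀ s := Q₀.toCentS.cube (cxd f1) (cxd f2) xd3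
  obtain ⟨sc, sc3, hsc⟩ : ∃ s : A8, s ^ 3 = 1 ∧ ι d6 = ι₀ s := Q₀.toCentS.cube (g := ι d6) (cc d6 f1 (by decide)) (cc d6 f2 (by decide))
    (by rw [← map_pow, show d6 ^ 3 = 1 by decide, map_one])
  obtain ⟨sd, sd3, hsd⟩ : ∃ s : A8, s ^ 3 = 1 ∧ ι d7 = ι₀ s := Q₀.toCentS.cube (g := ι d7) (cc d7 f1 (by decide)) (cc d7 f2 (by decide))
    (by rw [← map_pow, show d7 ^ 3 = 1 by decide, map_one])
  have inj₀ : Function.Injective ι₀ := Q₀.inj
  have cio : ∀ {a b : A8}, Commute (ι₀ a) (ι₀ b) → Commute a b := fun {a b} h => inj₀ (by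
    rw [map_mul, map_mul]; exact h.eq)
  obtain ⟨p, pa, pb, pc, pd⟩ := hLabel sa sb sc sd sa3 sb3 sc3 sd3
    (fun h => x1 (by rw [hsa, h, map_one]))
    (fun h => by
      have : ι d6 = ι 1 := by rw [hsc, h, map_one, map_one]
      exact absurd (L.inj this) (by decide))
    (inj₀ (by rw [map_pow, map_mul, ← hsa, ← hsb, xxd2, map_one]))
    (fun h => xxd1 (by rw [hsa, hsb, ← map_mul, h, map_one]))
    (inj₀ (by rw [map_pow, map_mul, ← hsc, ← hsd, ← map_mul, ← map_pow, show (d6 * d7) ^ 2 = 1 by decide,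
      map_one, map_one]))
    (fun h => by
      have : ι (d6 * d7) = ι 1 := by rw [map_mul, hsc, hsd, ← map_mul, h, map_one, map_one]
      exact absurd (L.inj this) (by decide))
    (cio (by rw [← hsa, ← hsc]; exact Q.cx d6))
    (cio (by rw [← hsa, ← hsd]; exact Q.cx d7))
    (cio (by rw [← hsb, ← hsc]; exact cxd d6))
    (cio (by rw [← hsb, ← hsd]; exact cxd d7))
  -- relabel
  have QF := Q₀.comp p⁻¹
  set κF : P8 →* G := κ₀.comp (MulAut.conj p⁻¹).toMonoidHom with hκF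
  set ιF : A8 →* G := κF.comp incl with hιF
  have hF : ∀ s s' : A8, p * (s : Perm (Fin 8)) * p⁻¹ = (s' : Perm (Fin 8)) → ιF s' = ι₀ s := by
    intro s s' h
    show κ₀ (p⁻¹ * (s' : P8) * p⁻¹⁻¹) = κ₀ (s : P8)
    congr 1
    rw [← h]; group
  have injF : Function.Injective ιF := QF.inj
  have cioF : ∀ {a b : A8}, Commute (ιF a) (ιF b) → Commute a b := fun {a b} h => injF (by
    rw [map_mul, map_mul]; exact h.eq)
  have Fa : ιF c2 = x := by rw [hF _ _ pa, hsa]
  have Fb : ιF c3 = xd := by rw [hF _ _ pb, hsb]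
  have Fc : ιF d6 = ι d6 := by rw [hF _ _ pc, hsc]
  have Fd : ιF d7 = ι d7 := by rw [hF _ _ pd, hsd]
  -- (0 1 2) centralises L_F
  have hr1 : ι c2 * ι f1 * (ι c2)⁻¹ = ι f1 * ι f2 := by
    rw [← map_inv, ← map_mul, ← map_mul, ← map_mul, show c2 * f1 * c2⁻¹ = f1 * f2 by decide]
  have hr2 : ι c2 * ι f2 * (ι c2)⁻¹ = ι f1 := by
    rw [← map_inv, ← map_mul, ← map_mul, show c2 * f2 * c2⁻¹ = f1 by decide]
  have R : ∀ s, Commute (ι c2) (ιF s) := by
    obtain ⟨k, hk, l, hl⟩ := QF.split hr1 hr2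
    have hl1 : l = 1 := by
      apply cen4P
      · exact QF.split_commute (s := c2) hk hl (by rw [show κF (c2 : P8) = x from Fa]; exact (Q.cx c2).symm)
      · exact QF.split_commute (s := c3) hk hl (by rw [show κF (c3 : P8) = xd from Fb]; exact (cxd c2).symm)
      · exact QF.split_commute (s := d6) hk hl (by rw [show κF (d6 : P8) = ι d6 from Fc]; exact cc _ _ (by decide))
      · exact QF.split_commute (s := d7) hk hl (by rw [show κF (d7 : P8) = ι d7 from Fd]; exact cc _ _ (by decide))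
    rw [hl1, map_one, mul_one] at hl
    exact QF.commute_of_split hk hl
  -- the element y
  set y : G := ιF c7 with hy
  have y3 : y ^ 3 = 1 := by rw [hy, ← map_pow, show c7 ^ 3 = 1 by decide, map_one]
  have xy : (x * y) ^ 2 = 1 := by
    rw [← Fa, hy, ← map_mul, ← map_pow, show (c2 * c7) ^ 2 = 1 by decide, map_one]
  have xdy : (xd * y) ^ 2 = 1 := by
    rw [← Fb, hy, ← map_mul, ← map_pow, show (c3 * c7) ^ 2 = 1 by decide, map_one]
  have yd6 : Commute y (ι d6) := by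
    rw [← Fc]
    show ιF c7 * ιF d6 = ιF d6 * ιF c7
    rw [← map_mul, ← map_mul, show c7 * d6 = d6 * c7 by decide]
  have yf1 : Commute y (ι f1) := (QF.cu c7).symm
  have yf2 : Commute y (ι f2) := (QF.cv c7).symm
  have yc2 : Commute y (ι c2) := (R c7).symm
  -- b = (0 1)(4 5)
  have yb : Commute y (ι b0) := by
    have a1 : Commute (ι b0 * y * (ι b0)⁻¹) (ι f1) := by
      have := commute_conj (g := ι b0) yf1
      rwa [← map_inv, ← map_mul, ← map_mul, show b0 * f1 * b0⁻¹ = f1 by decide, map_inv] at this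
    have a2 : Commute (ι b0 * y * (ι b0)⁻¹) (ι f2) := by
      have := commute_conj (g := ι b0) (yf1.mul_right yf2)
      rwa [← map_inv, ← map_mul, ← map_mul, ← map_mul, show b0 * (f1 * f2) * b0⁻¹ = f2 by decide, map_inv] at this
    have a3 : (ι b0 * y * (ι b0)⁻¹) ^ 3 = 1 := by rw [conj_pow, y3]; group
    obtain ⟨s, s3, hs⟩ : ∃ s : A8, s ^ 3 = 1 ∧ _ = ιF s := QF.toCentS.cube a1 a2 a3
    have a4 : Commute (ι b0 * y * (ι b0)⁻¹) (ι d6) := by
      have := commute_conj (g := ι b0) yd6.inv_right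
      rwa [← map_inv, ← map_inv, ← map_mul, ← map_mul, show b0 * d6⁻¹ * b0⁻¹ = d6 by decide, map_inv] at this
    have a5 : (x * (ι b0 * y * (ι b0)⁻¹)) ^ 2 = 1 := by
      have : x * (ι b0 * y * (ι b0)⁻¹) = ι b0 * (x * y) * (ι b0)⁻¹ := by
        have : x * ι b0 = ι b0 * x := (Q.cx b0).eq
        calc x * (ι b0 * y * (ι b0)⁻¹) = (x * ι b0) * y * (ι b0)⁻¹ := by group
          _ = _ := by rw [this]; group
      rw [this, conj_pow, xy]; group
    have a6 : (xd * (ι b0 * y * (ι b0)⁻¹)) ^ 2 = 1 := by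
      have : xd * (ι b0 * y * (ι b0)⁻¹) = ι b0 * (xd * y) * (ι b0)⁻¹ := by
        have := (cxd b0).eq
        calc xd * (ι b0 * y * (ι b0)⁻¹) = (xd * ι b0) * y * (ι b0)⁻¹ := by group
          _ = _ := by rw [this]; group
      rw [this, conj_pow, xdy]; group
    have s7 : s = c7 := by
      apply uniq s3
      · apply injF
        rw [map_pow, map_mul, ← hs, Fa, a5, map_one]
      · apply injF
        rw [map_pow, map_mul, ← hs, Fb, a6, map_one]
      · apply cioF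
        rw [← hs, Fc]; exact a4
    rw [s7] at hs
    show y * ι b0 = ι b0 * y
    conv_lhs => rw [hy, ← hs]
    group
  -- the four-group K0
  have cb0 : IsConj (ι b0) t := isConj_of L.four conj_b0
  have cfb : IsConj (ι (f1 * b0)) t := isConj_of L.four conj_fb
  obtain ⟨κK, xK, QK⟩ := exists_quad_of L Q f1 b0 (by decide) (by decide) (by decide) (by decide) cf1 cb0 cfb
  obtain ⟨s8, -, hs8⟩ := QK.toCentS.cube yf1 yb y3
  obtain ⟨s9, -, hs9⟩ := QK.toCentS.cube (Q.cx f1) (Q.cx b0) Q.x3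
  obtain ⟨s10, -, hs10⟩ := QK.toCentS.cube (cxd f1) (cxd b0) xd3
  have mK : ∀ a b : A8, κK a * κK b = κK ((a * b : A8) : P8) := fun a b => (map_mul κK _ _).symm
  have iK : ∀ a : A8, (κK a)⁻¹ = κK ((a⁻¹ : A8) : P8) := fun a => (map_inv κK _).symm
  have hst : ∃ s11 : A8, t = κK s11 := by
    refine ⟨s9 * (s9 * s10) * s9⁻¹, ?_⟩
    rw [← mK, ← mK, ← mK, ← iK, ← hs9, ← hs10, xxd]
    calc t = (t * z) * z := by rw [mul_assoc, L.hv, mul_one]
      _ = (x * z * x⁻¹) * (x * t * x⁻¹) := by rw [Q.xv, Q.xu]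
      _ = x * (z * t) * x⁻¹ := by group
  obtain ⟨s11, hs11⟩ := hst
  have hsz : ∃ s12 : A8, z = κK s12 := by
    refine ⟨s9 * s11 * s9⁻¹, ?_⟩
    rw [← mK, ← mK, ← iK, ← hs9, ← hs11, Q.xu]
  obtain ⟨s12, hs12⟩ := hsz
  have yrho : Commute y (ι rho) := by
    have := QK.rotation (r := ι rho)
      (by
        show ι rho * ι f1 * (ι rho)⁻¹ = ι f1 * ι b0
        rw [← map_inv, ← map_mul, ← map_mul, show rho * f1 * rho⁻¹ = f1 * b0 by decide, map_mul])
      (by
        show ι rho * ι b0 * (ι rho)⁻¹ = ι f1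
        rw [← map_inv, ← map_mul, ← map_mul, show rho * b0 * rho⁻¹ = f1 by decide])
      (by rw [← map_pow, show rho ^ 3 = 1 by decide, map_one]) {s11, s12}
      (by
        rintro w (rfl | rfl)
        · rw [← hs11]; exact L.cu _
        · rw [← hs12]; exact L.cv _)
      (by
        intro g g3 g1 g2 hg
        have hgt : Commute g t := by rw [hs11]; exact hg s11 (Or.inl rfl)
        have hgz : Commute g z := by rw [hs12]; exact hg s12 (Or.inr rfl)
        obtain ⟨s, s3, rfl⟩ := L.toCentS.cube hgt hgz g3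
        have e1 : Commute s f1 := L.inj (by
          show ι (s * f1) = ι (f1 * s)
          rw [map_mul, map_mul]; exact g1.eq)
        have e2 : Commute s b0 := L.inj (by
          show ι (s * b0) = ι (b0 * s)
          rw [map_mul, map_mul]; exact g2.eq)
        rw [no3 s3 e1 e2]; exact map_one κ) s8
    rw [hs8]
    exact this.symm
  have cy : ∀ s : A8, (s : Perm (Fin 8)) 7 = 7 → Commute y (ι s) := by
    let S : Subgroup A8 := (Subgroup.centralizer {y}).comap ι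
    have hS : ∀ s : A8, s ∈ S ↔ Commute y (ι s) := by
      intro s
      show ι s ∈ Subgroup.centralizer {y} ↔ _
      rw [Subgroup.mem_centralizer_singleton_iff]
      exact ⟨fun h => h.symm, fun h => h.symm⟩
    intro s hs
    rw [← hS]
    exact stab_le S ((hS _).mpr yf1) ((hS _).mpr yf2) ((hS _).mpr yc2) ((hS _).mpr yd6) ((hS _).mpr yb)
      ((hS _).mpr yrho) s hs
  refine ⟨x, y, Q.toQuadC, y3, ?_, xy, xdy, cy, ?_⟩
  · intro h
    have : ιF c7 = ιF 1 := by rw [← hy, h, map_one]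
    exact absurd (QF.inj this) (by decide)
  · have hg : ι g0 = ιF g0 := by
      rw [show g0 = d6 * (d6 * d7) * d6⁻¹ by decide]
      simp only [map_mul, map_inv, Fc, Fd]
    rw [hg, hy, ← map_inv, ← map_mul, ← map_mul, ← map_mul, ← map_pow,
      show (c7 * (g0 * c7 * g0⁻¹)) ^ 2 = 1 by decide, map_one]

/-- The output of the local argument, from the local hypotheses. -/
theorem exists_outC {t z : G} {κ : P8 →* G} (L : LocSt t z κ) : ∃ x y, OutC t z (κ.comp incl) x y :=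
  exists_out LocalThm.autStatement LocalThm.labelStatement L

end Cfsg.Agent.HN.LocMainS
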