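import Cfsg.Agent.HN.A8Facts

/-!
# The local argument for the Harada–Norton type with outer elements: abstract part

Setting: `V = {1, u, v, uv}` is a four-group of `G` whose centraliser is `V × ι(S₈)`.
-/

set_option autoImplicit false

namespace Cfsg.Agent.HN.LocS

open Equiv Cfsg.Agent.HN.Local Cfsg.Agent.HN.A8Facts

/-- The symmetric group on the eight points `0, ..., 7`. -/
abbrev P8 := Perm (Fin 8)

/-- The inclusion of `A8`. -/
abbrev incl : A8 →* P8 := (alternatingGroup (Fin 8)).subtype

theorem comm_applyP {a b : P8} (h : Commute a b) (i : Fin 8) : a (b i) = b (a i) :=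
  congrArg (fun s : P8 => s i) h.eq

theorem fix_ofP {l a b : P8} (ha : Commute l a) (hb : Commute l b) (j : Fin 8)
    (hj : a j = j) (hj' : b j ≠ j) (hu : ∀ i, a i = i → b i ≠ i → i = j) : l j = j := by
  apply hu
  · rw [← comm_applyP ha, hj]
  · intro h
    rw [← comm_applyP hb] at h
    exact hj' (l.injective h)

theorem cen4P {l : P8} (h1 : Commute l (c2 : P8)) (h2 : Commute l (c3 : P8)) (h3 : Commute l (d6 : P8))
    (h4 : Commute l (d7 : P8)) : l = 1 := by
  have e3 := fix_ofP h1 h2 3 (by decide) (by decide) (by decide)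
  have e2 := fix_ofP h2 h1 2 (by decide) (by decide) (by decide)
  have e7 := fix_ofP h3 h4 7 (by decide) (by decide) (by decide)
  have e6 := fix_ofP h4 h3 6 (by decide) (by decide) (by decide)
  have e0 : l 0 = 0 := by
    have := comm_applyP h2 3
    rw [e3] at this
    exact this
  have e1 : l 1 = 1 := by
    have := comm_applyP h2 0
    rw [e0] at this
    exact this
  have e4 : l 4 = 4 := by
    have := comm_applyP h4 7
    rw [e7] at this
    exact this
  have e5 : l 5 = 5 := by
    have := comm_applyP h4 4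
    rw [e4] at this
    exact this
  apply Equiv.ext
  intro i
  fin_cases i
  · exact e0
  · exact e1
  · exact e2
  · exact e3
  · exact e4
  · exact e5
  · exact e6
  · exact e7

/-- The centraliser of `A8` in `S8` is trivial. -/
theorem p8_center (s : P8) (h : ∀ t : A8, Commute s (t : P8)) : s = 1 :=
  cen4P (h _) (h _) (h _) (h _)

theorem mem_A8_of_cube {s : P8} (h : s ^ 3 = 1) : Perm.sign s = 1 := by
  have h1 : Perm.sign s ^ 3 = 1 := by rw [← map_pow, h, map_one]
  rcases Int.units_eq_one_or (Perm.sign s) with h2 | h2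
  · exact h2
  · rw [h2] at h1
    exact absurd h1 (by decide)

variable {G : Type*} [Group G]

/-- The four-group `{1,u,v,uv}` commutes with `ι(A8)`. -/
structure CentC (u v : G) (ι : A8 →* G) : Prop where
  inj : Function.Injective ι
  hu : u * u = 1
  hv : v * v = 1
  comm : u * v = v * u
  u1 : u ≠ 1
  v1 : v ≠ 1
  ne : u ≠ v
  cu : ∀ s, Commute u (ι s)
  cv : ∀ s, Commute v (ι s)

namespace CentC

variable {u v : G} {ι : A8 →* G} (C : CentC u v ι)
include C

theorem four_commute {k : G} (hk : k ∈ four u v) {g : G} (h1 : Commute g u) (h2 : Commute g v) : Commute g k := by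
  rcases hk with rfl | rfl | rfl | rfl
  · exact Commute.one_right g
  · exact h1
  · exact h2
  · exact h1.mul_right h2

theorem four_u {k : G} (hk : k ∈ four u v) : Commute k u :=
  (C.four_commute hk (Commute.refl u) C.comm).symm

theorem four_v {k : G} (hk : k ∈ four u v) : Commute k v :=
  (C.four_commute hk (C.comm.symm : Commute v u) (Commute.refl v)).symm

theorem four_iota {k : G} (hk : k ∈ four u v) (s : A8) : Commute k (ι s) :=
  (C.four_commute hk (C.cu s).symm (C.cv s).symm).symm

theorem four_four {k k' : G} (hk : k ∈ four u v) (hk' : k' ∈ four u v) : Commute k k' :=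
  C.four_commute hk' (C.four_u hk) (C.four_v hk)

theorem four_sq {k : G} (hk : k ∈ four u v) : k * k = 1 := by
  rcases hk with rfl | rfl | rfl | rfl
  · exact mul_one 1
  · exact C.hu
  · exact C.hv
  · calc u * v * (u * v) = u * (v * u) * v := by group
      _ = u * (u * v) * v := by rw [C.comm]
      _ = (u * u) * (v * v) := by group
      _ = 1 := by rw [C.hu, C.hv, mul_one]

theorem four_mul {k k' : G} (hk : k ∈ four u v) (hk' : k' ∈ four u v) : k * k' ∈ four u v := by
  have hu := C.hu
  have hv := C.hv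
  have hc := C.comm
  rcases hk with rfl | rfl | rfl | rfl <;> rcases hk' with rfl | rfl | rfl | rfl
  · left; simp
  · right; left; simp
  · right; right; left; simp
  · right; right; right; simp
  · right; left; simp
  · left; exact hu
  · right; right; right; rfl
  · right; right; left; rw [← mul_assoc, hu, one_mul]
  · right; right; left; simp
  · right; right; right; exact hc.symm
  · left; exact hv
  · right; left; rw [hc, ← mul_assoc, hv, one_mul]
  · right; right; right; simp
  · right; right; left; rw [hc, mul_assoc, hu, mul_one]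
  · right; left; rw [mul_assoc, hv, mul_one]
  · left; exact C.four_sq (Or.inr (Or.inr (Or.inr rfl)))

theorem uv_ne : u * v ≠ 1 := fun h => C.ne (by
  rw [mul_eq_one_iff_eq_inv] at h
  rw [h, inv_eq_iff_mul_eq_one, C.hv])

/-- The two factors meet trivially. -/
theorem disj {k : G} (hk : k ∈ four u v) {s : A8} (h : k = ι s) : s = 1 ∧ k = 1 := by
  have hs : s = 1 := by
    apply a8_center
    intro t
    have h1 := C.four_iota hk t
    rw [h] at h1
    exact C.inj (by rw [map_mul, map_mul]; exact h1.eq)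
  exact ⟨hs, by rw [h, hs, map_one]⟩

/-- Unique decomposition. -/
theorem unique {k k' : G} (hk : k ∈ four u v) (hk' : k' ∈ four u v) {s s' : A8} (h : k * ι s = k' * ι s') :
    k = k' ∧ s = s' := by
  have h1 : k' * k = ι (s' * s⁻¹) := by
    have hk2 : k'⁻¹ = k' := by rw [inv_eq_iff_mul_eq_one, C.four_sq hk']
    calc k' * k = k'⁻¹ * (k * ι s) * (ι s)⁻¹ := by rw [hk2]; group
      _ = ι (s' * s⁻¹) := by rw [h, map_mul, map_inv]; group
  obtain ⟨h2, h3⟩ := C.disj (C.four_mul hk' hk) h1
  constructor
  · have : k'⁻¹ = k' := by rw [inv_eq_iff_mul_eq_one, C.four_sq hk']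
    rw [← this, ← inv_eq_of_mul_eq_one_right (C.four_sq hk)] at h3
    have h4 : k'⁻¹ * k⁻¹ = 1 := h3
    rw [← mul_inv_rev, inv_eq_one] at h4
    rw [mul_eq_one_iff_eq_inv] at h4
    rw [h4, inv_eq_of_mul_eq_one_right (C.four_sq hk')]
  · rw [mul_inv_eq_one] at h2
    exact h2.symm

theorem commute_of_iota {l s : A8} (h : Commute (ι l) (ι s)) : Commute l s :=
  C.inj (by rw [map_mul, map_mul]; exact h.eq)

end CentC

/-- The four-group `{1,u,v,uv}` has centraliser `{1,u,v,uv} × κ(S8)`. -/
structure CentS (u v : G) (κ : P8 →* G) : Prop extends CentC u v (κ.comp incl) where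
  injS : Function.Injective κ
  cuS : ∀ s, Commute u (κ s)
  cvS : ∀ s, Commute v (κ s)
  cent : ∀ g, Commute g u → Commute g v → ∃ k ∈ four u v, ∃ s, g = k * κ s

namespace CentS

variable {u v : G} {κ : P8 →* G} (C : CentS u v κ)
include C

theorem four_kappa {k : G} (hk : k ∈ four u v) (s : P8) : Commute k (κ s) :=
  (C.toCentC.four_commute hk (C.cuS s).symm (C.cvS s).symm).symm

theorem commute_of_kappa {l s : P8} (h : Commute (κ l) (κ s)) : Commute l s :=
  C.injS (by rw [map_mul, map_mul]; exact h.eq)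

/-- The two factors meet trivially. -/
theorem disjS {k : G} (hk : k ∈ four u v) {s : P8} (h : k = κ s) : s = 1 ∧ k = 1 := by
  have hs : s = 1 := by
    apply p8_center
    intro t
    apply C.commute_of_kappa
    rw [← h]
    exact C.four_kappa hk _
  exact ⟨hs, by rw [h, hs, map_one]⟩

/-- Unique decomposition. -/
theorem uniqueS {k k' : G} (hk : k ∈ four u v) (hk' : k' ∈ four u v) {s s' : P8} (h : k * κ s = k' * κ s') :
    k = k' ∧ s = s' := by
  have h1 : k' * k = κ (s' * s⁻¹) := by
    have hk2 : k'⁻¹ = k' := by rw [inv_eq_iff_mul_eq_one, C.four_sq hk']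
    calc k' * k = k'⁻¹ * (k * κ s) * (κ s)⁻¹ := by rw [hk2]; group
      _ = κ (s' * s⁻¹) := by rw [h, map_mul, map_inv]; group
  obtain ⟨h2, h3⟩ := C.disjS (C.four_mul hk' hk) h1
  constructor
  · have : k'⁻¹ = k' := by rw [inv_eq_iff_mul_eq_one, C.four_sq hk']
    rw [← this, ← inv_eq_of_mul_eq_one_right (C.four_sq hk)] at h3
    have h4 : k'⁻¹ * k⁻¹ = 1 := h3
    rw [← mul_inv_rev, inv_eq_one] at h4
    rw [mul_eq_one_iff_eq_inv] at h4
    rw [h4, inv_eq_of_mul_eq_one_right (C.four_sq hk')]
  · rw [mul_inv_eq_one] at h2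
    exact h2.symm

/-- An element of order three of the centraliser of `V` lies in `κ(A8)`. -/
theorem cube {g : G} (h1 : Commute g u) (h2 : Commute g v) (h3 : g ^ 3 = 1) :
    ∃ s : A8, s ^ 3 = 1 ∧ g = κ s := by
  obtain ⟨k, hk, s, rfl⟩ := C.cent g h1 h2
  have h4 : k * κ (s ^ 3) = 1 * κ 1 := by
    have hc := C.four_kappa hk s
    have h5 : (k * κ s) ^ 3 = k ^ 3 * (κ s) ^ 3 := hc.mul_pow 3
    have h6 : k ^ 3 = k := by rw [pow_succ, pow_two, C.four_sq hk, one_mul]
    rw [map_one, mul_one, map_pow, ← h3, h5, h6]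
  obtain ⟨h5, h6⟩ := C.uniqueS hk (Or.inl rfl) h4
  exact ⟨⟨s, Perm.mem_alternatingGroup.mpr (mem_A8_of_cube h6)⟩, Subtype.ext h6, by rw [h5, one_mul]⟩

theorem map {G' : Type*} [Group G'] (φ : G ≃* G') : CentS (φ u) (φ v) (φ.toMonoidHom.comp κ) where
  inj := φ.injective.comp C.inj
  hu := by rw [← map_mul, C.hu, map_one]
  hv := by rw [← map_mul, C.hv, map_one]
  comm := by rw [← map_mul, C.comm, map_mul]
  u1 := fun h => C.u1 (φ.injective (by rw [h, map_one]))
  v1 := fun h => C.v1 (φ.injective (by rw [h, map_one]))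
  ne := fun h => C.ne (φ.injective h)
  cu := fun s => (C.cu s).map φ.toMonoidHom
  cv := fun s => (C.cv s).map φ.toMonoidHom
  injS := φ.injective.comp C.injS
  cuS := fun s => (C.cuS s).map φ.toMonoidHom
  cvS := fun s => (C.cvS s).map φ.toMonoidHom
  cent := by
    intro g h1 h2
    have h3 := h1.map φ.symm.toMonoidHom
    have h4 := h2.map φ.symm.toMonoidHom
    simp only [MulEquiv.toMonoidHom_eq_coe, MonoidHom.coe_coe, MulEquiv.symm_apply_apply] at h3 h4
    obtain ⟨k, hk, s, hs⟩ := C.cent _ h3 h4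
    refine ⟨φ k, ?_, s, ?_⟩
    · rcases hk with rfl | rfl | rfl | rfl
      · left; exact map_one φ
      · right; left; rfl
      · right; right; left; rfl
      · right; right; right; exact map_mul φ u v
    · have := congrArg φ hs
      rw [MulEquiv.apply_symm_apply, map_mul] at this
      exact this

theorem comp (p : P8) : CentS u v (κ.comp (MulAut.conj p).toMonoidHom) where
  inj := by
    intro a b h
    have h1 := C.injS h
    have h2 : p * (a : P8) * p⁻¹ = p * (b : P8) * p⁻¹ := h1
    exact Subtype.ext (mul_left_cancel (mul_right_cancel h2))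
  hu := C.hu
  hv := C.hv
  comm := C.comm
  u1 := C.u1
  v1 := C.v1
  ne := C.ne
  cu := fun s => C.cuS _
  cv := fun s => C.cvS _
  injS := C.injS.comp (MulAut.conj p).injective
  cuS := fun s => C.cuS _
  cvS := fun s => C.cvS _
  cent := by
    intro g h1 h2
    obtain ⟨k, hk, s, hs⟩ := C.cent g h1 h2
    refine ⟨k, hk, p⁻¹ * s * p, ?_⟩
    have e1 : p * (p⁻¹ * s * p) * p⁻¹ = s := by group
    show g = k * κ (p * (p⁻¹ * s * p) * p⁻¹)
    rw [e1, hs]

end CentS

/-- The four-group with an element of order three acting on it and centralising `ι(A8)`. -/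
structure QuadC (u v : G) (ι : A8 →* G) (x : G) : Prop extends CentC u v ι where
  x3 : x ^ 3 = 1
  cx : ∀ s, Commute x (ι s)
  xu : x * u * x⁻¹ = v
  xv : x * v * x⁻¹ = u * v

namespace QuadC

variable {u v x : G} {ι : A8 →* G} (Q : QuadC u v ι x)
include Q

theorem xuv : x * (u * v) * x⁻¹ = u := by
  calc x * (u * v) * x⁻¹ = (x * u * x⁻¹) * (x * v * x⁻¹) := by group
    _ = v * (u * v) := by rw [Q.xu, Q.xv]
    _ = u := by rw [← mul_assoc, ← Q.comm, mul_assoc, Q.hv, mul_one]

/-- `x` moves every non-trivial element of the four-group. -/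
theorem fix {k : G} (hk : k ∈ four u v) (h : Commute x k) : k = 1 := by
  have h' : x * k * x⁻¹ = k := by rw [h.eq]; group
  rcases hk with rfl | rfl | rfl | rfl
  · rfl
  · rw [Q.xu] at h'; exact absurd h'.symm Q.ne
  · rw [Q.xv] at h'
    exact absurd (mul_eq_right.mp h') Q.u1
  · rw [Q.xuv] at h'
    exact absurd (left_eq_mul.mp h') Q.v1

theorem four_conj {k : G} (hk : k ∈ four u v) : x * k * x⁻¹ ∈ four u v := by
  rcases hk with rfl | rfl | rfl | rfl
  · left; group
  · right; right; left; exact Q.xu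
  · right; right; right; exact Q.xv
  · right; left; exact Q.xuv

theorem four_conj_inv {k : G} (hk : k ∈ four u v) : x⁻¹ * k * x ∈ four u v := by
  have h2 : x⁻¹ = x ^ 2 := by
    rw [inv_eq_iff_mul_eq_one, ← pow_succ', Q.x3]
  have h3 : x⁻¹ * k * x = x * (x * k * x⁻¹) * x⁻¹ := by
    have h4 : x = (x ^ 2)⁻¹ := by rw [← h2, inv_inv]
    calc x⁻¹ * k * x = x ^ 2 * k * (x ^ 2)⁻¹ := by rw [← h4, h2]
      _ = x * (x * k * x⁻¹) * x⁻¹ := by rw [pow_two]; group
  rw [h3]
  exact Q.four_conj (Q.four_conj hk)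

end QuadC

/-- The centraliser structure together with an element of order three acting on the four-group and centralising
`κ(A8)`. -/
structure QuadS (u v : G) (κ : P8 →* G) (x : G) : Prop extends CentS u v κ where
  x3 : x ^ 3 = 1
  cx : ∀ s : A8, Commute x (κ s)
  xu : x * u * x⁻¹ = v
  xv : x * v * x⁻¹ = u * v

namespace QuadS

variable {u v x : G} {κ : P8 →* G}

theorem toQuadC (Q : QuadS u v κ x) : QuadC u v (κ.comp incl) x where
  toCentC := Q.toCentC
  x3 := Q.x3
  cx := Q.cx
  xu := Q.xu
  xv := Q.xv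

theorem map {G' : Type*} [Group G'] (Q : QuadS u v κ x) (φ : G ≃* G') :
    QuadS (φ u) (φ v) (φ.toMonoidHom.comp κ) (φ x) where
  toCentS := Q.toCentS.map φ
  x3 := by rw [← map_pow, Q.x3, map_one]
  cx := fun s => (Q.cx s).map φ.toMonoidHom
  xu := by rw [← map_inv, ← map_mul, ← map_mul, Q.xu]
  xv := by rw [← map_inv, ← map_mul, ← map_mul, Q.xv, map_mul]

theorem comp (Q : QuadS u v κ x) (p : P8) : QuadS u v (κ.comp (MulAut.conj p).toMonoidHom) x where
  toCentS := Q.toCentS.comp p
  x3 := Q.x3
  cx := by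
    intro s
    exact Q.cx (MulAut.conjNormal p s)
  xu := Q.xu
  xv := Q.xv

variable (Q : QuadS u v κ x)
include Q

/-- If `r` acts on the four-group as `x⁻¹` then `r * x` lies in the centraliser. -/
theorem split {r : G} (h1 : r * u * r⁻¹ = u * v) (h2 : r * v * r⁻¹ = u) :
    ∃ k ∈ four u v, ∃ l, r * x = k * κ l := by
  have h3 : r * (u * v) * r⁻¹ = v := by
    calc r * (u * v) * r⁻¹ = (r * u * r⁻¹) * (r * v * r⁻¹) := by group
      _ = (u * v) * u := by rw [h1, h2]
      _ = v := by rw [Q.comm, mul_assoc, Q.hu, mul_one]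
  apply Q.cent
  · show r * x * u = u * (r * x)
    calc r * x * u = r * (x * u * x⁻¹) * r⁻¹ * (r * x) := by group
      _ = u * (r * x) := by rw [Q.xu, h2]
  · show r * x * v = v * (r * x)
    calc r * x * v = r * (x * v * x⁻¹) * r⁻¹ * (r * x) := by group
      _ = v * (r * x) := by rw [Q.xv, h3]

/-- The component `l` of such an element commutes with everything in `κ(A8)` commuting with `r`. -/
theorem split_commute {r k : G} {l : P8} {s : A8} (hk : k ∈ four u v) (h : r * x = k * κ l)
    (hr : Commute r (κ s)) : Commute l (s : P8) := by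
  apply Q.commute_of_kappa
  have h1 : κ l = k⁻¹ * (r * x) := by rw [h]; group
  rw [h1]
  exact ((Q.four_kappa hk s).inv_left).mul_left (hr.mul_left (Q.cx s))

theorem commute_of_split {r k : G} (hk : k ∈ four u v) (h : r * x = k) (s : A8) : Commute r (κ s) := by
  have h1 : r = k * x⁻¹ := by rw [← h]; group
  rw [h1]
  exact (Q.four_kappa hk s).mul_left (Q.cx s).inv_left

/-- The action of `r` on `κ(A8)`. -/
theorem act {r k : G} {l : P8} (hk : k ∈ four u v) (h : r * x = k * κ l) {t : P8} (ht : Perm.sign t = 1) :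
    r * κ t * r⁻¹ = κ (l * t * l⁻¹) := by
  have e1 : Commute x (κ t) := Q.cx ⟨t, Perm.mem_alternatingGroup.mpr ht⟩
  have e2 : Commute k (κ (l * t * l⁻¹)) := Q.four_kappa hk _
  calc r * κ t * r⁻¹ = (r * x) * (x⁻¹ * κ t) * r⁻¹ := by group
    _ = (r * x) * κ t * (r * x)⁻¹ := by rw [e1.inv_left.eq]; group
    _ = k * κ (l * t * l⁻¹) * k⁻¹ := by rw [h]; simp only [map_mul, map_inv]; group
    _ = κ (l * t * l⁻¹) := by rw [e2.eq]; group

/-- If `κ w` (for `w` in `A8`) commutes with `r`, then it commutes with the `κ(S8)`-component of `r * x`. -/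
theorem split_commute_fixed {r k : G} {l : P8} {w : A8} (hk : k ∈ four u v) (h : r * x = k * κ l)
    (hwr : Commute (κ w) r) : Commute (κ l) (κ w) := by
  have h1 := Q.split_commute hk h hwr.symm
  show κ l * κ w = κ w * κ l
  rw [← map_mul, ← map_mul, h1.eq]

/-- The rotation argument. -/
theorem rotation {r : G} (h1 : r * u * r⁻¹ = u * v) (h2 : r * v * r⁻¹ = u) (h3 : r ^ 3 = 1) (W : Set A8)
    (hW : ∀ w ∈ W, Commute (κ w) r)
    (hno : ∀ g : G, g ^ 3 = 1 → Commute g u → Commute g v → (∀ w ∈ W, Commute g (κ w)) → g = 1) (s : A8) :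
    Commute r (κ s) := by
  obtain ⟨k, hk, l, hl⟩ := Q.split h1 h2
  have h4 : κ l = 1 := by
    apply hno
    · rw [← map_pow]
      have h5 : l ^ 3 = 1 := by
        have act := fun t ht => Q.act hk hl (t := t) ht
        have hs : ∀ t : P8, Perm.sign t = 1 → Perm.sign (l * t * l⁻¹) = 1 := by
          intro t ht
          rw [map_mul, map_mul, ht, mul_one, ← map_mul, mul_inv_cancel, map_one]
        apply p8_center
        intro t
        have ht : Perm.sign (t : P8) = 1 := Perm.mem_alternatingGroup.mp t.2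
        have e1 := act _ ht
        have e2 := act _ (hs _ ht)
        have e3 := act _ (hs _ (hs _ ht))
        rw [← e2, ← e1] at e3
        have e4 : r * (r * (r * κ t * r⁻¹) * r⁻¹) * r⁻¹ = κ t := by
          have h3' : r * r * r = 1 := by rw [← h3, pow_succ, pow_two]
          calc r * (r * (r * κ t * r⁻¹) * r⁻¹) * r⁻¹ = (r * r * r) * κ t * (r * r * r)⁻¹ := by
                simp only [mul_inv_rev, mul_assoc]
            _ = κ t := by rw [h3']; group
        rw [e4] at e3
        have e5 := Q.injS e3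
        have hl3 : l ^ 3 = l * l * l := by rw [pow_succ, pow_two]
        show l ^ 3 * (t : P8) = (t : P8) * l ^ 3
        rw [hl3]
        conv_rhs => rw [e5]
        simp only [mul_assoc, inv_mul_cancel, inv_mul_cancel_left, mul_one]
      rw [h5, map_one]
    · exact (Q.cuS l).symm
    · exact (Q.cvS l).symm
    · intro w hw
      exact Q.split_commute_fixed hk hl (hW w hw)
  exact Q.commute_of_split hk (by rw [hl, h4, mul_one]) s

end QuadS

end Cfsg.Agent.HN.LocS
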