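import Cfsg.Agent.HN.Local

/-!
# The element of order three centralising `ι(A8)`
-/

set_option autoImplicit false

namespace Cfsg.Agent.HN.LocalX

open Equiv Cfsg.Agent.HN.Local

/-- Every automorphism of `A8` is conjugation by an element of `S8`. -/
def AutStatement : Prop :=
  ∀ f : A8 ≃* A8, ∃ p : Perm (Fin 8), ∀ s : A8, ((f s : A8) : Perm (Fin 8)) = p * (s : Perm (Fin 8)) * p⁻¹

theorem a8_gen (S : Subgroup A8) (h : ∀ s : A8, s ^ 3 = 1 → s ∈ S) : S = ⊤ := by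
  rw [eq_top_iff]
  have h1 : alternatingGroup (Fin 8) ≤ S.map (alternatingGroup (Fin 8)).subtype := by
    refine Perm.closure_three_cycles_eq_alternating.symm.le.trans ((Subgroup.closure_le _).mpr ?_)
    intro σ hσ
    have h3 : σ ^ 3 = 1 := by
      have := pow_orderOf_eq_one σ
      rwa [Perm.IsThreeCycle.orderOf hσ] at this
    refine ⟨⟨σ, Perm.IsThreeCycle.mem_alternatingGroup hσ⟩, h _ (Subtype.ext h3), rfl⟩
  intro s _
  obtain ⟨s', hs', hss⟩ := h1 s.2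
  have : s' = s := Subtype.ext hss
  rwa [← this]

variable {G : Type*} [Group G] {t z : G} {ι : A8 →* G}

theorem exists_quad (L : Loc t z ι) (hAut : AutStatement) : ∃ x, Quad t z ι x := by
  obtain ⟨h, h1, h2⟩ := L.fus z (t * z) L.hv (L.toCent.four_sq (Or.inr (Or.inr (Or.inr rfl))))
    (by rw [← mul_assoc, L.comm]) (fun h => L.u1 (right_eq_mul.mp h)) L.zt L.tzt
    (by rw [L.comm, ← mul_assoc, L.hv, one_mul])
  obtain ⟨q, rfl⟩ : ∃ q, h = q⁻¹ := ⟨h⁻¹, (inv_inv h).symm⟩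
  rw [inv_inv] at h1 h2
  have q1 : q * t * q⁻¹ = z := by rw [← h1]; group
  have q2 : q * z * q⁻¹ = t * z := by
    have h4 : q * (q⁻¹ * (t * z) * q) * q⁻¹ = t * z := by group
    rwa [h2] at h4
  have q3 : q * (t * z) * q⁻¹ = t := by
    calc q * (t * z) * q⁻¹ = (q * t * q⁻¹) * (q * z * q⁻¹) := by group
      _ = z * (t * z) := by rw [q1, q2]
      _ = t := by rw [← mul_assoc, ← L.comm, mul_assoc, L.hv, mul_one]
  have key : ∀ s : A8, q * ι s * q⁻¹ ∈ ι.range := by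
    let S : Subgroup A8 := (ι.range.comap (MulAut.conj q).toMonoidHom).comap ι
    have hS : S = ⊤ := by
      apply a8_gen
      intro s hs
      show q * ι s * q⁻¹ ∈ ι.range
      have i1 : Commute (q * ι s * q⁻¹) z := by
        have := (L.cu s).symm.map (MulAut.conj q).toMonoidHom
        simp only [MulEquiv.toMonoidHom_eq_coe, MonoidHom.coe_coe, MulAut.conj_apply] at this
        rwa [q1] at this
      have i2 : Commute (q * ι s * q⁻¹) t := by
        have := ((L.cu s).symm.mul_right (L.cv s).symm).map (MulAut.conj q).toMonoidHom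
        simp only [MulEquiv.toMonoidHom_eq_coe, MonoidHom.coe_coe, MulAut.conj_apply] at this
        rwa [q3] at this
      have i3 : (q * ι s * q⁻¹) ^ 3 = 1 := by
        rw [conj_pow, ← map_pow, hs, map_one, mul_one, mul_inv_cancel]
      obtain ⟨s', -, hs'⟩ := L.toCent.cube i2 i1 i3
      exact ⟨s', hs'.symm⟩
    intro s
    have : s ∈ S := by rw [hS]; exact Subgroup.mem_top _
    exact this
  choose f hf using key
  let F : A8 →* A8 :=
    { toFun := f
      map_one' := L.inj (by rw [hf, map_one, mul_one, mul_inv_cancel])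
      map_mul' := fun a b => L.inj (by rw [hf, map_mul, map_mul, hf, hf]; group) }
  have hFinj : Function.Injective F := by
    intro a b hab
    apply L.inj
    have h1 : q * ι a * q⁻¹ = q * ι b * q⁻¹ := by rw [← hf, ← hf]; exact congrArg ι hab
    simpa using h1
  let E : A8 ≃* A8 := MulEquiv.ofBijective F ⟨hFinj, Finite.surjective_of_injective hFinj⟩
  obtain ⟨p, hp⟩ := hAut E
  let e : A8 := ⟨p ^ 2, Perm.mem_alternatingGroup.mpr (by rw [map_pow]; exact Int.units_sq _)⟩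
  have hE : ∀ s, ι (E s) = q * ι s * q⁻¹ := fun s => hf s
  have hEE : ∀ s : A8, E (E s) = e * s * e⁻¹ := by
    intro s
    apply Subtype.ext
    rw [hp, hp]
    show p * (p * (s : Perm (Fin 8)) * p⁻¹) * p⁻¹ = p ^ 2 * (s : Perm (Fin 8)) * (p ^ 2)⁻¹
    rw [pow_two]; group
  have hq2 : ∀ s, q ^ 2 * ι s * (q ^ 2)⁻¹ = ι (e * s * e⁻¹) := by
    intro s
    rw [← hEE, hE, hE, pow_two]; group
  have hq4 : ∀ s, q ^ 4 * ι s * (q ^ 4)⁻¹ = ι ((e * e) * s * (e * e)⁻¹) := by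
    intro s
    have : q ^ 4 * ι s * (q ^ 4)⁻¹ = q ^ 2 * (q ^ 2 * ι s * (q ^ 2)⁻¹) * (q ^ 2)⁻¹ := by
      rw [show (4 : ℕ) = 2 + 2 from rfl, pow_add]; group
    rw [this, hq2, hq2]; congr 1
  have q4t : q ^ 4 * t * (q ^ 4)⁻¹ = z := by
    calc q ^ 4 * t * (q ^ 4)⁻¹ = q * (q * (q * (q * t * q⁻¹) * q⁻¹) * q⁻¹) * q⁻¹ := by
          rw [pow_succ, pow_succ, pow_two]; group
      _ = z := by rw [q1, q2, q3, q1]
  have q4z : q ^ 4 * z * (q ^ 4)⁻¹ = t * z := by
    calc q ^ 4 * z * (q ^ 4)⁻¹ = q * (q * (q * (q * z * q⁻¹) * q⁻¹) * q⁻¹) * q⁻¹ := by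
          rw [pow_succ, pow_succ, pow_two]; group
      _ = t * z := by rw [q2, q3, q1, q2]
  have xt : (q ^ 4 * (ι (e * e))⁻¹) * t * (q ^ 4 * (ι (e * e))⁻¹)⁻¹ = z := by
    have h1 : Commute (ι (e * e))⁻¹ t := (L.cu (e * e)).symm.inv_left
    calc (q ^ 4 * (ι (e * e))⁻¹) * t * (q ^ 4 * (ι (e * e))⁻¹)⁻¹
        = q ^ 4 * ((ι (e * e))⁻¹ * t) * ι (e * e) * (q ^ 4)⁻¹ := by group
      _ = q ^ 4 * t * (q ^ 4)⁻¹ := by rw [h1.eq]; group
      _ = z := q4t
  have xz : (q ^ 4 * (ι (e * e))⁻¹) * z * (q ^ 4 * (ι (e * e))⁻¹)⁻¹ = t * z := by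
    have h1 : Commute (ι (e * e))⁻¹ z := (L.cv (e * e)).symm.inv_left
    calc (q ^ 4 * (ι (e * e))⁻¹) * z * (q ^ 4 * (ι (e * e))⁻¹)⁻¹
        = q ^ 4 * ((ι (e * e))⁻¹ * z) * ι (e * e) * (q ^ 4)⁻¹ := by group
      _ = q ^ 4 * z * (q ^ 4)⁻¹ := by rw [h1.eq]; group
      _ = t * z := q4z
  have cx : ∀ s, Commute (q ^ 4 * (ι (e * e))⁻¹) (ι s) := by
    intro s
    have h1 : (q ^ 4 * (ι (e * e))⁻¹) * ι s * (q ^ 4 * (ι (e * e))⁻¹)⁻¹ = ι s := by
      calc (q ^ 4 * (ι (e * e))⁻¹) * ι s * (q ^ 4 * (ι (e * e))⁻¹)⁻¹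
          = q ^ 4 * ι ((e * e)⁻¹ * s * (e * e)) * (q ^ 4)⁻¹ := by
            rw [map_mul ι _ (e * e), map_mul ι _ s, map_inv]; group
        _ = ι s := by rw [hq4]; congr 1; group
    show _ * _ = _ * _
    conv_rhs => rw [← h1]
    group
  set x := q ^ 4 * (ι (e * e))⁻¹ with hx
  have xtz : x * (t * z) * x⁻¹ = t := by
    calc x * (t * z) * x⁻¹ = (x * t * x⁻¹) * (x * z * x⁻¹) := by group
      _ = z * (t * z) := by rw [xt, xz]
      _ = t := by rw [← mul_assoc, ← L.comm, mul_assoc, L.hv, mul_one]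
  refine ⟨x, L.toCent, ?_, cx, xt, xz⟩
  have c1 : Commute (x ^ 3) t := by
    have : x ^ 3 * t * (x ^ 3)⁻¹ = t := by
      calc x ^ 3 * t * (x ^ 3)⁻¹ = x * (x * (x * t * x⁻¹) * x⁻¹) * x⁻¹ := by
            rw [pow_succ, pow_two]; group
        _ = t := by rw [xt, xz, xtz]
    show _ * _ = _ * _
    conv_rhs => rw [← this]
    group
  have c2 : Commute (x ^ 3) z := by
    have : x ^ 3 * z * (x ^ 3)⁻¹ = z := by
      calc x ^ 3 * z * (x ^ 3)⁻¹ = x * (x * (x * z * x⁻¹) * x⁻¹) * x⁻¹ := by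
            rw [pow_succ, pow_two]; group
        _ = z := by rw [xz, xtz, xt]
    show _ * _ = _ * _
    conv_rhs => rw [← this]
    group
  obtain ⟨k, hk, s, hs⟩ := L.cent _ c1 c2
  have s1 : s = 1 := by
    apply a8_center
    intro r
    apply L.toCent.commute_of_iota
    have : ι s = k⁻¹ * x ^ 3 := by rw [hs]; group
    rw [this]
    exact (L.toCent.four_iota hk r).inv_left.mul_left ((cx r).pow_left 3)
  rw [s1, map_one, mul_one] at hs
  have hkx : Commute x k := by rw [← hs]; exact (Commute.refl x).pow_right 3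
  have h' : x * k * x⁻¹ = k := by rw [hkx.eq]; group
  rw [hs]
  rcases hk with rfl | rfl | rfl | rfl
  · rfl
  · rw [xt] at h'; exact absurd h'.symm L.ne
  · rw [xz] at h'
    exact absurd (mul_eq_right.mp h') L.u1
  · rw [xtz] at h'
    exact absurd (left_eq_mul.mp h') L.v1

end Cfsg.Agent.HN.LocalX
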