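import Cfsg.Agent.HN.CloseFinal
import Cfsg.Agent.HN.DistinctC
import Cfsg.Agent.HN.Central
import Cfsg.Agent.HN.Classes

set_option autoImplicit false

/-!
The two classes of involutions of the Harada–Norton group, from the fusion of the involutions of `H0` and the
involutions of the centraliser of `w = ψ (a τ)`.
-/

namespace Cfsg.Agent.HN.TwoClasses

open Cfsg.Agent.HN.Pres Cfsg.Agent.HN.H0Basic Cfsg.Agent.HN.NormalH Cfsg.Agent.HN.Syl

/-- Two commuting partners are enough. -/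
theorem cases_of_centralizers {G : Type*} [Group G] [Finite G] {t w : G} (ht : orderOf t = 2)
    (h1 : ∀ v : G, orderOf v = 2 → v * t = t * v → IsConj v t ∨ IsConj v w)
    (h2 : ∀ v : G, orderOf v = 2 → v * w = w * v → IsConj v t ∨ IsConj v w) :
    ∀ v : G, orderOf v = 2 → IsConj v t ∨ IsConj v w := by
  intro v hv
  by_cases hc : IsConj t v
  · exact Or.inl hc.symm
  obtain ⟨u, hu, htu, hvu⟩ := CloseFinal.exists_central ht hv hc
  have main : ∀ s : G, (∀ v : G, orderOf v = 2 → v * s = s * v → IsConj v t ∨ IsConj v w) → IsConj u s →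
      IsConj v t ∨ IsConj v w := by
    intro s hs hus
    obtain ⟨c, rfl⟩ := isConj_iff.1 hus
    have h4 : orderOf (c * v * c⁻¹) = 2 := by
      rw [← MulAut.conj_apply, MulEquiv.orderOf_eq, hv]
    have h5 : c * v * c⁻¹ * (c * u * c⁻¹) = c * u * c⁻¹ * (c * v * c⁻¹) := by
      calc c * v * c⁻¹ * (c * u * c⁻¹) = c * (v * u) * c⁻¹ := by group
        _ = c * (u * v) * c⁻¹ := by rw [hvu]
        _ = c * u * c⁻¹ * (c * v * c⁻¹) := by group
    have h6 : IsConj v (c * v * c⁻¹) := isConj_iff.2 ⟨c, rfl⟩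
    exact (hs _ h4 h5).imp h6.trans h6.trans
  rcases h1 u hu htu.symm with h | h
  · exact main t h1 h
  · exact main w h2 h

/-- Two non-conjugate involutions: the centraliser of one of them has not the full `2`-part. -/
theorem not_conj_of_card {G : Type*} [Group G] [Finite G] {t w : G} (ht : orderOf t = 2)
    (h1 : ∀ v : G, orderOf v = 2 → v * t = t * v → IsConj v t ∨ IsConj v w)
    (hn : ¬ 2 ^ (Nat.card G).factorization 2 ∣ Nat.card (Subgroup.centralizer ({t} : Set G))) :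
    ¬ IsConj t w := by
  intro htw
  haveI : Fact (Nat.Prime 2) := ⟨Nat.prime_two⟩
  -- a Sylow subgroup containing `t`
  have hp : IsPGroup 2 (Subgroup.zpowers t) := by
    rw [IsPGroup.iff_card]
    exact ⟨1, by rw [Nat.card_zpowers, ht, pow_one]⟩
  obtain ⟨S, hS⟩ := hp.exists_le_sylow
  have htS : t ∈ S := hS (Subgroup.mem_zpowers t)
  have hne : t ≠ 1 := (CloseFinal.orderOf_eq_two_iff'.1 ht).1
  haveI : Nontrivial S := ⟨⟨⟨t, htS⟩, 1, fun h => hne (congrArg Subtype.val h)⟩⟩
  haveI := S.isPGroup'.center_nontrivial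
  obtain ⟨⟨c, hcZ⟩, hc1⟩ := exists_ne (1 : Subgroup.center S)
  -- a central involution
  have hcne : c ≠ 1 := fun h => hc1 (Subtype.ext h)
  obtain ⟨k, hk⟩ := S.isPGroup' c
  obtain ⟨u, huZ, hu⟩ : ∃ u : S, u ∈ Subgroup.center S ∧ orderOf u = 2 := by
    have h2 : 2 ∣ orderOf c := by
      obtain ⟨m, -, hm⟩ := (Nat.dvd_prime_pow Nat.prime_two).1 (orderOf_dvd_of_pow_eq_one hk)
      rcases m with _ | m
      · rw [pow_zero, orderOf_eq_one_iff] at hm
        exact absurd hm hcne
      · rw [hm, pow_succ]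
        exact dvd_mul_left 2 _
    obtain ⟨m, hm⟩ := h2
    have hpos : 0 < orderOf c := orderOf_pos c
    refine ⟨c ^ m, Subgroup.pow_mem _ hcZ m, ?_⟩
    rw [CloseFinal.orderOf_eq_two_iff']
    constructor
    · intro h
      have h3 := Nat.le_of_dvd (by omega) (orderOf_dvd_of_pow_eq_one h)
      omega
    · rw [← pow_add, ← two_mul, ← hm, pow_orderOf_eq_one]
  have hu' : orderOf (u : G) = 2 := by
    rw [Subgroup.orderOf_coe, hu]
  have hle : (S : Subgroup G) ≤ Subgroup.centralizer ({(u : G)} : Set G) := by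
    intro s hs
    rw [Subgroup.mem_centralizer_iff]
    rintro _ rfl
    have := (Subgroup.mem_center_iff.1 huZ) ⟨s, hs⟩
    exact (congrArg Subtype.val this).symm
  have hcomm : (u : G) * t = t * u := by
    have := (Subgroup.mem_center_iff.1 huZ) ⟨t, htS⟩
    exact (congrArg Subtype.val this).symm
  have hut : IsConj (u : G) t := by
    rcases h1 u hu' hcomm with h | h
    · exact h
    · exact h.trans htw.symm
  obtain ⟨g, hg⟩ := isConj_iff.1 hut
  apply hn
  have e1 : Nat.card (S : Subgroup G) ∣ Nat.card (Subgroup.centralizer ({(u : G)} : Set G)) :=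
    Subgroup.card_dvd_of_le hle
  have e2 : (Subgroup.centralizer ({(u : G)} : Set G)).map (MulAut.conj g).toMonoidHom =
      Subgroup.centralizer ({t} : Set G) := by
    ext x
    rw [Subgroup.mem_map]
    constructor
    · rintro ⟨y, hy, rfl⟩
      rw [Subgroup.mem_centralizer_iff] at hy ⊢
      rintro _ rfl
      have hy' := hy _ rfl
      change _ * (g * y * g⁻¹) = (g * y * g⁻¹) * _
      rw [← hg]
      calc g * u * g⁻¹ * (g * y * g⁻¹) = g * (u * y) * g⁻¹ := by group
        _ = g * (y * u) * g⁻¹ := by rw [hy']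
        _ = g * y * g⁻¹ * (g * u * g⁻¹) := by group
    · intro hx
      rw [Subgroup.mem_centralizer_iff] at hx
      have hx' := hx _ rfl
      refine ⟨g⁻¹ * x * g, ?_, ?_⟩
      · rw [Subgroup.mem_centralizer_iff]
        rintro _ rfl
        rw [← hg] at hx'
        calc (u : G) * (g⁻¹ * x * g) = g⁻¹ * ((g * u * g⁻¹) * x) * g := by group
          _ = g⁻¹ * (x * (g * u * g⁻¹)) * g := by rw [hx']
          _ = g⁻¹ * x * g * u := by group
      · change g * (g⁻¹ * x * g) * g⁻¹ = x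
        group
  rw [← e2, Subgroup.card_map_of_injective (MulAut.conj g).injective]
  rw [Sylow.card_eq_multiplicity] at e1
  exact e1

/-- `w = ψ (a τ)`, the second involution. -/
def w : Cfsg.Spor.HN := ψ (a * τ)

theorem t_eq : Pres.hx ^ 2 = ψ τ := by rw [τ, map_pow, ψ_gx]

theorem ψ_inj : Function.Injective ψ :=
  ψ_injective H0Basic.finite_H0 H0Basic.card_H0_le XSq.hx_sq_ne

theorem orderOf_ψτ : orderOf (ψ τ) = 2 := by
  rw [CloseFinal.orderOf_eq_two_iff', ← map_mul, τ_mul_τ, map_one, ← t_eq]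
  exact ⟨XSq.hx_sq_ne, rfl⟩

theorem aτ_sq : (a * τ) * (a * τ) = 1 := by
  rw [mul_assoc, ← mul_assoc τ a τ, ← τ_comm a, mul_assoc, τ_mul_τ, mul_one, a_sq]

/-- the involutions of `H` from the fusion of the representatives. -/
theorem inv_H (hA : IsConj (ψ a) (ψ τ)) (hZ : IsConj (ψ gz) (ψ τ) ∨ IsConj (ψ gz) w)
    (hD : IsConj (ψ d) (ψ τ) ∨ IsConj (ψ d) w) (v : H0) (hv : v ≠ 1) (hv2 : v ^ 2 = 1) :
    IsConj (ψ v) (ψ τ) ∨ IsConj (ψ v) w := by
  have main : ∀ s : H0, IsConj s v → (IsConj (ψ s) (ψ τ) ∨ IsConj (ψ s) w) →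
      (IsConj (ψ v) (ψ τ) ∨ IsConj (ψ v) w) := by
    intro s hs h
    obtain ⟨c, rfl⟩ := isConj_iff.1 hs
    have h6 : IsConj (ψ (c * s * c⁻¹)) (ψ s) := by
      rw [map_mul, map_mul, map_inv]
      exact (isConj_iff.2 ⟨ψ c, rfl⟩ : IsConj (ψ s) _).symm
    exact h.imp h6.trans h6.trans
  rcases involution_cases hv2 with h | h | h | h | h | h
  · exact absurd h hv
  · left; rw [h]
  · exact main _ h (Or.inl hA)
  · exact main _ h (Or.inr (IsConj.refl _))
  · exact main _ h hZ
  · exact main _ h hD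

/-- **The two classes of involutions of `HN`.** -/
theorem two_classes
    (hH : ∀ v : H0, v ≠ 1 → v ^ 2 = 1 → IsConj (ψ v) (ψ τ) ∨ IsConj (ψ v) w)
    (hW : ∀ v : Cfsg.Spor.HN, orderOf v = 2 → v * w = w * v → IsConj v (ψ τ) ∨ IsConj v w) :
    (∀ v : Cfsg.Spor.HN, orderOf v = 2 → IsConj v (ψ τ) ∨ IsConj v w) ∧ ¬ IsConj (ψ τ) w := by
  haveI := Index.finite_HN
  have h1 : ∀ v : Cfsg.Spor.HN, orderOf v = 2 → v * ψ τ = ψ τ * v → IsConj v (ψ τ) ∨ IsConj v w := by
    intro v hv hc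
    have hm : v ∈ Subgroup.centralizer ({Pres.hx ^ 2} : Set Cfsg.Spor.HN) := by
      rw [Subgroup.mem_centralizer_iff]
      rintro _ rfl
      rw [t_eq]
      exact hc.symm
    rw [Central.centralizer_eq, ← range_ψ] at hm
    obtain ⟨g, rfl⟩ := hm
    have h2 := CloseFinal.orderOf_eq_two_iff'.1 hv
    apply hH g
    · rintro rfl
      exact h2.1 (map_one ψ)
    · apply ψ_inj
      rw [pow_two, map_mul, h2.2, map_one]
  refine ⟨cases_of_centralizers orderOf_ψτ h1 hW, not_conj_of_card orderOf_ψτ h1 ?_⟩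
  rw [← t_eq, Central.centralizer_eq, Index.card_HN DistinctC.hdis]
  have hc : Nat.card H = 177408000 := Index.card_H
  rw [hc]
  intro h
  have h14 : 14 ≤ (273030912000000 : ℕ).factorization 2 := by
    rw [← Nat.Prime.pow_dvd_iff_le_factorization Nat.prime_two (by norm_num)]
    norm_num
  have h15 : (2 : ℕ) ^ 14 ∣ 177408000 := (pow_dvd_pow 2 h14).trans h
  revert h15
  norm_num

/-- transport to an isomorphic group: the second half of `S1650`. -/
theorem exists_two {G : Type*} [Group G] (e : G ≃* Cfsg.Spor.HN)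
    (hH : ∀ v : H0, v ≠ 1 → v ^ 2 = 1 → IsConj (ψ v) (ψ τ) ∨ IsConj (ψ v) w)
    (hW : ∀ v : Cfsg.Spor.HN, orderOf v = 2 → v * w = w * v → IsConj v (ψ τ) ∨ IsConj v w) :
    ∃ x y : G, orderOf x = 2 ∧ orderOf y = 2 ∧ ¬ IsConj x y ∧
      ∀ z : G, orderOf z = 2 → IsConj z x ∨ IsConj z y := by
  obtain ⟨h1, h2⟩ := two_classes hH hW
  have conj : ∀ a b : Cfsg.Spor.HN, IsConj a b → IsConj (e.symm a) (e.symm b) := by
    intro a b h
    obtain ⟨c, rfl⟩ := isConj_iff.1 h
    exact isConj_iff.2 ⟨e.symm c, by rw [map_mul, map_mul, map_inv]⟩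
  have conj' : ∀ a b : G, IsConj a b → IsConj (e a) (e b) := by
    intro a b h
    obtain ⟨c, rfl⟩ := isConj_iff.1 h
    exact isConj_iff.2 ⟨e c, by rw [map_mul, map_mul, map_inv]⟩
  refine ⟨e.symm (ψ τ), e.symm w, ?_, ?_, ?_, ?_⟩
  · rw [MulEquiv.orderOf_eq, orderOf_ψτ]
  · rw [MulEquiv.orderOf_eq, CloseFinal.orderOf_eq_two_iff']
    constructor
    · intro h
      exact Classes.aτ_ne_one (ψ_inj (h.trans (map_one ψ).symm))
    · rw [w, ← map_mul, aτ_sq, map_one]
  · intro h
    apply h2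
    have := conj' _ _ h
    rwa [e.apply_symm_apply, e.apply_symm_apply] at this
  · intro z hz
    have h3 : orderOf (e z) = 2 := by rw [MulEquiv.orderOf_eq, hz]
    refine (h1 _ h3).imp ?_ ?_
    · intro h
      have := conj _ _ h
      rwa [e.symm_apply_apply] at this
    · intro h
      have := conj _ _ h
      rwa [e.symm_apply_apply] at this

end Cfsg.Agent.HN.TwoClasses
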