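import Cfsg.Agent.HN.ExistsEmb
import Cfsg.Agent.HN.FusionOut
import Cfsg.Agent.HN.InvHN
import Cfsg.Agent.HN.TwoClasses
import Cfsg.Agent.S1701

set_option autoImplicit false

/-!
Main theorem of the recognition of the Harada–Norton group, modulo the fusion theorem and the closing.
-/

namespace Cfsg.Agent.HN.Main

open Cfsg.Agent.HN.Pres Cfsg.Agent.HN.H0Basic Cfsg.Agent.HN.FusGen Cfsg.Agent.HN.Syl Subgroup

/-- the fusion statement -/
def FusStatement (G : Type*) [Group G] : Prop :=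
  ∀ f : H0 →* G, Emb f τ → InK f τ gz ∧ ¬ InK f τ (a * τ) ∧ ¬ InK f τ d

/-- the closing statement -/
def CloseStatement (G : Type*) [Group G] : Prop :=
  ∀ (f : H0 →* G) (θ : Cfsg.Spor.HN →* G), Emb f τ → Function.Injective θ → (∀ g, θ (NormalH.ψ g) = f g) →
    InK f τ gz → ¬ InK f τ (a * τ) → ¬ InK f τ d → centralizer ({f (a * τ)} : Set G) ≤ θ.range

/-- the classification of the involutions commuting with `w` -/
def InvStatement (G : Type*) [Group G] : Prop :=
  ∀ (f : H0 →* G) (θ : Cfsg.Spor.HN →* G), Emb f τ → Function.Injective θ → (∀ g, θ (NormalH.ψ g) = f g) →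
    InK f τ gz → ¬ InK f τ (a * τ) → ¬ InK f τ d →
    ∀ v : G, orderOf v = 2 → v * f (a * τ) = f (a * τ) * v → IsConj v (f τ) ∨ IsConj v (f (a * τ))

theorem simple_HN : IsSimpleGroup Cfsg.Spor.HN := S1701.result.1

universe u

theorem exists_iso {G : Type u} [Group G] [Finite G] [IsSimpleGroup G] (hfus : FusStatement G)
    (hclose : CloseStatement G) (t : G) (ht : orderOf t = 2)
    (M : Subgroup (centralizer ({t} : Set G))) (hMn : M.Normal) (hidx : M.index = 2)
    (hout : centralizer (M : Set (centralizer ({t} : Set G))) ≤ M)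
    (hcov : Cfsg.IsNonsplitDoubleCover M Cfsg.Spor.HS) :
    ∃ (f : H0 →* G) (θ : Cfsg.Spor.HN →* G), Emb f τ ∧ Function.Bijective θ ∧
      (∀ g, θ (NormalH.ψ g) = f g) ∧ InK f τ gz ∧ ¬ InK f τ (a * τ) ∧ ¬ InK f τ d := by
  haveI := simple_HN
  obtain ⟨f, E, -⟩ := ExistsEmb.exists_emb t ht M hMn hidx hout hcov
  obtain ⟨hz, hb, hd⟩ := hfus f E
  obtain ⟨θ, hθ, hx, hy, hz'⟩ := FusionOut.exists_theta E hz hb hd
  have hext := Final.comp_eq hx hy hz'
  exact ⟨f, θ, E, ⟨hθ, Final.surjective E hb hext (hclose f θ E hθ hext hz hb hd) InvHN.hinv⟩, hext, hz, hb, hd⟩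

/-- **Uniqueness of the Harada–Norton group.** -/
theorem iso {G : Type u} [Group G] [Finite G] [IsSimpleGroup G] (hfus : FusStatement G)
    (hclose : CloseStatement G) (t : G) (ht : orderOf t = 2)
    (M : Subgroup (centralizer ({t} : Set G))) (hMn : M.Normal) (hidx : M.index = 2)
    (hout : centralizer (M : Set (centralizer ({t} : Set G))) ≤ M)
    (hcov : Cfsg.IsNonsplitDoubleCover M Cfsg.Spor.HS) : Cfsg.Spor.IsoHN G := by
  obtain ⟨f, θ, -, hθ, -⟩ := exists_iso hfus hclose t ht M hMn hidx hout hcov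
  exact ⟨(MulEquiv.ofBijective θ hθ).symm⟩

theorem order {G : Type u} [Group G] [Finite G] [IsSimpleGroup G] (hfus : FusStatement G)
    (hclose : CloseStatement G) (hinv : InvStatement G) (t : G) (ht : orderOf t = 2)
    (M : Subgroup (centralizer ({t} : Set G))) (hMn : M.Normal) (hidx : M.index = 2)
    (hout : centralizer (M : Set (centralizer ({t} : Set G))) ≤ M)
    (hcov : Cfsg.IsNonsplitDoubleCover M Cfsg.Spor.HS) :
    Cfsg.IsHN G ∧ ∃ x y : G, orderOf x = 2 ∧ orderOf y = 2 ∧ ¬ IsConj x y ∧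
      ∀ z : G, orderOf z = 2 → IsConj z x ∨ IsConj z y := by
  haveI := simple_HN
  obtain ⟨f, θ, E, hθ, hext, hz, hb, hd⟩ := exists_iso hfus hclose t ht M hMn hidx hout hcov
  refine ⟨⟨inferInstance, ?_⟩, f τ, f (a * τ), E.orderOf_t, ?_, hb, ?_⟩
  · rw [← Nat.card_congr (MulEquiv.ofBijective θ hθ).toEquiv]
    exact S1701.result.2
  · rw [Final.orderOf_map_of_injective E.inj, Final.orderOf_aτ]
  · refine TwoClasses.cases_of_centralizers E.orderOf_t ?_ (hinv f θ E hθ.1 hext hz hb hd)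
    intro v hv hvt
    obtain ⟨h, rfl⟩ := E.cent v hvt
    rw [Final.orderOf_map_of_injective E.inj] at hv
    obtain ⟨g, hg⟩ := InvHN.hinv h hv
    rcases hg with hg | hg
    · left
      rw [← hext h, ← hext τ]
      exact θ.map_isConj (isConj_iff.2 ⟨g, hg⟩)
    · right
      rw [← hext h, ← hext (a * τ)]
      exact θ.map_isConj (isConj_iff.2 ⟨g, hg⟩)

end Cfsg.Agent.HN.Main
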