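import Cfsg.Agent.HN.FusOne
import Cfsg.Agent.HN.HypFacts
import Cfsg.Agent.HN.FusionOut
import Cfsg.Agent.HN.ExistsEmb

set_option autoImplicit false

/-!
The fusion theorem for groups of Harada–Norton type, and the alternating subgroup of degree 12.
-/

namespace Cfsg.Agent.HN.MainFus

open Cfsg.Agent.HN.Pres Cfsg.Agent.HN.H0Basic Cfsg.Agent.HN.FusGen Cfsg.Agent.HN.Syl Subgroup

/-- **Fusion.** -/
theorem main' {G : Type*} [Group G] [Finite G] {f : H0 →* G} (E : Emb f τ) (hex : ∃ h, InK f τ h ∧ h ≠ τ) :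
    InK f τ gz ∧ ¬ InK f τ (a * τ) ∧ ¬ InK f τ d := by
  by_cases hz : InK f τ gz
  · exact ⟨hz, FusOne.not_inK_aτ E, FusOne.not_inK_d E hz⟩
  · have hd := (FusOne.z_or_d' E hex).resolve_left hz
    exact (HypFacts.hyp_false E (FusOne.inK_a E hz hd) hd hz (FusOne.not_inK_aτ E)).elim

/-- **Fusion in simple groups.** -/
theorem main {G : Type*} [Group G] [Finite G] [IsSimpleGroup G] {f : H0 →* G} (E : Emb f τ) :
    InK f τ gz ∧ ¬ InK f τ (a * τ) ∧ ¬ InK f τ d :=
  main' E (E.exists_inK FusOne.noncomm)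

universe u

/-- **The alternating group of degree 12 is a subgroup.** -/
theorem exists_alt12 {G : Type u} [Group G] [Finite G] [IsSimpleGroup G] (t : G) (ht : orderOf t = 2)
    (M : Subgroup (centralizer ({t} : Set G))) (hMn : M.Normal) (hidx : M.index = 2)
    (hout : centralizer (M : Set (centralizer ({t} : Set G))) ≤ M)
    (hcov : Cfsg.IsNonsplitDoubleCover M Cfsg.Spor.HS) :
    ∃ H : Subgroup G, Nonempty (H ≃* alternatingGroup (Fin 12)) := by
  obtain ⟨f, E, -⟩ := ExistsEmb.exists_emb t ht M hMn hidx hout hcov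
  obtain ⟨hz, hb, hd⟩ := main E
  exact FusionOut.alt12 E hz hb hd

end Cfsg.Agent.HN.MainFus
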