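import Cfsg.Agent.HN.FusGen
import Cfsg.Agent.HN.Twist

set_option autoImplicit false

/-!
The isoclinic type of the involution centraliser does not occur in a finite simple group.
-/

namespace Cfsg.Agent.HN.NoIso

open Cfsg.Agent.HN.FusGen Cfsg.Agent.HN.Twist Cfsg.Agent.HN.Syl Cfsg.Agent.HN.Classes
open Cfsg.Agent.HN.HS100 Cfsg.Agent.HN.Pres Cfsg.Agent.HN.H0Basic Cfsg.Agent.SporadicA.PermTab
open scoped commutatorElement

variable {G : Type*} [Group G] [Finite G]

/-- **The isoclinic group is not an involution centraliser of a finite simple group.** -/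
theorem no_isoclinic [IsSimpleGroup G] {φ : T →* G} (E : Emb φ τT) : False := by
  -- `bT` is not fused to `τ`
  have hb : ¬ InK φ τT bT := by
    apply E.not_inK_of_sylow sylT bT
    · intro s hs
      have hs' : s ∈ Twist.ST := hs
      rw [bT_eq]
      calc s * (aT * τT) = (s * aT) * τT := by group
        _ = aT * (s * τT) := by rw [aT_comm hs']; group
        _ = (aT * τT) * s := by rw [τT_comm]; group
    · intro σ s hs hσ
      obtain ⟨g1, h1, g2, h2, g3, h3, g4, h4, g5, h5, hg⟩ := comm5_eq_T
      let k1 := σ.symm ⟨g1, h1⟩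
      let k2 := σ.symm ⟨g2, h2⟩
      let k3 := σ.symm ⟨g3, h3⟩
      let k4 := σ.symm ⟨g4, h4⟩
      let k5 := σ.symm ⟨g5, h5⟩
      have hc : ⁅⁅⁅⁅k1, k2⁆, k3⁆, k4⁆, k5⁆ = s := by
        apply σ.injective
        rw [map_commutatorElement, map_commutatorElement, map_commutatorElement, map_commutatorElement]
        apply Subtype.ext
        rw [hσ, ← hg]
        simp only [k1, k2, k3, k4, k5, MulEquiv.apply_symm_apply]
        rfl
      have hc' : ⁅⁅⁅⁅(k1 : T), (k2 : T)⁆, (k3 : T)⁆, (k4 : T)⁆, (k5 : T)⁆ = τT := by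
        rw [← hs, ← hc]
        rfl
      rcases comm5_T k1.2 k2.2 k3.2 k4.2 k5.2 with h | h
      · rw [hc'] at h
        exact τT_ne_one h
      · rw [hc'] at h
        exact bT_ne_τT h.symm
  have hK : ∀ h, InK φ τT h → h = τT ∨ IsConj aT h := by
    intro h hh
    have hsq : h ^ 2 = 1 := by
      rw [pow_two]
      exact E.sq_of_inK hh
    rcases involution_cases_T hsq with h1 | h1 | h1 | h1
    · exact absurd h1 (E.ne_one_of_inK hh)
    · exact Or.inl h1
    · exact Or.inr h1
    · exact absurd (hh.conj h1.symm) hb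
  -- `Z*`
  have hnc : ∃ a b : T, a * b ≠ b * a := by
    by_contra hcon
    push Not at hcon
    apply not_isConj_aT_bT
    have h1 : IsConj aT a2T := isConj_aT_a2T
    exfalso
    have h2 : ∀ g : T, IsConj aT g → g = aT := by
      intro g hg
      obtain ⟨c, rfl⟩ := isConj_iff.1 hg
      rw [hcon, inv_mul_cancel_left]
    have h3 := h2 _ isConj_aT_mul
    have h4 := h2 _ isConj_aT_a2T
    rw [h4, mul_eq_left] at h3
    exact aT_ne_one h3
  obtain ⟨h, hh, hne⟩ := E.exists_inK hnc
  have ha : InK φ τT aT := by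
    rcases hK h hh with h1 | h1
    · exact absurd h1 hne
    · exact hh.conj h1.symm
  refine E.f4 (a := aT) (a₁ := aT) (a₂ := a2T) a2T_comm.symm (IsConj.refl _) isConj_aT_a2T isConj_aT_mul ha ?_ hK
  rw [← bT_eq]
  exact hb

/-- the form of the second alternative of `Embed.exists_embed`. -/
theorem no_relsI [IsSimpleGroup G] {t : G} (ht : orderOf t = 2)
    {t' : Subgroup.centralizer ({t} : Set G)} (ht' : (t' : G) = t)
    {π : Subgroup.centralizer ({t} : Set G) →* Equiv.Perm (Fin 100)}
    {x y z : Subgroup.centralizer ({t} : Set G)} (hx : π x = X) (hy : π y = Y) (hz : π z = Z)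
    (hxx : x ^ 2 = t') (hcl : Subgroup.closure ({x, y, z} : Set (Subgroup.centralizer ({t} : Set G))) = ⊤)
    (h : SignSplit.RelsI x y z) : False := by
  have ht2 : t * t = 1 := by rw [← pow_two, ← ht, pow_orderOf_eq_one]
  have ht1 : t ≠ 1 := by
    rintro rfl
    rw [orderOf_one] at ht
    exact absurd ht (by norm_num)
  have hcen : ∀ g : Subgroup.centralizer ({t} : Set G), g * t' = t' * g := by
    intro g
    apply Subtype.ext
    change (g : G) * t' = t' * g
    rw [ht']
    exact Subgroup.mem_centralizer_singleton_iff.1 g.2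
  obtain ⟨e, he, -, -⟩ := exists_equiv_T h hx hy hz
    (by
      rw [hxx]
      intro h1
      exact ht1 (ht'.symm.trans (congrArg Subtype.val h1)))
    (by
      rw [hxx]
      apply Subtype.ext
      change (t' : G) * t' = 1
      rw [ht', ht2])
    (by
      rw [hxx]
      exact hcen) hcl
  have hτ : e τT = t' := by
    have h1 : τT = ofH gx ^ 2 := (sq_even gx_mem).symm
    rw [h1, map_pow, he, hxx]
  refine no_isoclinic (G := G) (φ := (Subgroup.centralizer ({t} : Set G)).subtype.comp e.toMonoidHom)
    ⟨?_, ?_, τT_comm, by rw [← pow_two]; exact τT_sq, τT_ne_one⟩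
  · exact Subtype.val_injective.comp e.injective
  · intro g hg
    have hφ : (Subgroup.centralizer ({t} : Set G)).subtype.comp e.toMonoidHom τT = t := by
      change ((e τT : Subgroup.centralizer ({t} : Set G)) : G) = t
      rw [hτ, ht']
    rw [hφ] at hg
    obtain ⟨k, hk⟩ := e.surjective ⟨g, Subgroup.mem_centralizer_singleton_iff.2 hg⟩
    exact ⟨k, congrArg Subtype.val hk⟩

end Cfsg.Agent.HN.NoIso
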