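import Cfsg.Agent.HN.Red

/-!
# A word w with w and w y of order 19 in the presented group HN
-/

set_option autoImplicit false

namespace Cfsg.Agent.HN.Order19Y

open Cfsg.Agent.Lib.PackMat Cfsg.Agent.Lib.PackMatGroup Cfsg.Agent.Lib.PackMatMul
open Cfsg.Agent.HN.RepData Cfsg.Agent.HN.Rep Cfsg.Agent.HN.Red

theorem chk : ordC C L 0 [2, 2, 2, 4, 3, 6, 4] [false, false, true, true] = true := by decide +kernel
theorem chk' : ordC C L 0 [2, 2, 2, 4, 3, 6, 4, 2] [false, false, true, true] = true := by decide +kernel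
theorem ord : (evG LG (0 :: [2, 2, 2, 4, 3, 6, 4])) ^ bval [false, false, true, true] 1 = 1 ∧ evG LG (0 :: [2, 2, 2, 4, 3, 6, 4]) ≠ 1 :=
  ordC_spec hgood one_lt codesR chk
theorem ord' : (evG LG (0 :: [2, 2, 2, 4, 3, 6, 4, 2])) ^ bval [false, false, true, true] 1 = 1 ∧ evG LG (0 :: [2, 2, 2, 4, 3, 6, 4, 2]) ≠ 1 :=
  ordC_spec hgood one_lt codesR chk'

end Cfsg.Agent.HN.Order19Y
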