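import Cfsg.Agent.HN.U35P
import Cfsg.Agent.HN.SemiSplit
import Cfsg.Agent.HN.CentralProd

set_option autoImplicit false

/-!
Central extensions `C` of the group `⟨X, Y, Z⟩ ≤ Sym(100)` (`≅ HS:2`) by an involution `τ`: choice of
the generators `x, y, z` of `C` and the relations they satisfy.
-/

namespace Cfsg.Agent.HN.SignSplit

open Cfsg.Agent.HN.Pres Cfsg.Agent.HN.HS100 Cfsg.Agent.HN.U35 Cfsg.Agent.HN.U35P Cfsg.Agent.HN.MaskOrbit Equiv Subgroup
open scoped commutatorElement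

/-- The relations in the isoclinic variant: as `Rels`, but `Z² = (Z X)² = X²`. -/
structure RelsI {G : Type*} [Group G] (X Y Z : G) : Prop where
  r1 : Y ^ 6 = 1
  r2 : (X ^ 2) * Y * (X ^ 2) * (Y⁻¹) = 1
  r3 : (X⁻¹ * Y⁻¹ * X * Y) ^ 3 = 1
  r4 : ((X⁻¹) * (Y ^ 2) * X * (Y ^ 3)) ^ 3 = 1
  r5 : (X * Y) ^ 8 = 1
  r6 : (X * Y * X * (Y ^ 3)) ^ 4 = 1
  r7 : Z ^ 2 = X ^ 2
  r8 : (Z * X) ^ 2 = X ^ 2
  r9 : (Z⁻¹ * (Y * X * Y * X * (Y ^ 2) * X * (Y⁻¹))⁻¹ * Z * (Y * X * Y * X * (Y ^ 2) * X * (Y⁻¹))) *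
    ((X ^ 2)⁻¹) = 1
  r10 : Z * (((((Y ^ 3) * X * Y * X * Y)⁻¹ * Z * ((Y ^ 3) * X * Y * X * Y)) * X) ^ 3) = 1

/-- The hypotheses on the extension. -/
structure Ext {C : Type*} [Group C] (τ : C) (π : C →* Perm (Fin 100)) : Prop where
  ne : τ ≠ 1
  sq : τ * τ = 1
  cen : ∀ g, g * τ = τ * g
  ker : ∀ g, π g = 1 ↔ g = 1 ∨ g = τ
  range : π.range = φ.range

variable {C : Type*} [Group C] {τ : C} {π : C →* Perm (Fin 100)}

theorem Ext.kt (h : Ext τ π) : π τ = 1 := (h.ker τ).2 (Or.inr rfl)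

theorem Ext.eq_or (h : Ext τ π) {a b : C} (hab : π a = π b) : a = b ∨ a = b * τ := by
  have h1 : π (b⁻¹ * a) = 1 := by rw [map_mul, map_inv, hab, inv_mul_cancel]
  rcases (h.ker _).1 h1 with h2 | h2
  · left
    rw [inv_mul_eq_one] at h2
    exact h2.symm
  · right
    rw [← h2, mul_inv_cancel_left]

theorem Ext.lift (h : Ext τ π) {p : Perm (Fin 100)} (hp : p ∈ φ.range) : ∃ g, π g = p := by
  rw [← h.range] at hp
  exact hp

theorem X_mem_range : X ∈ φ.range := ⟨gx, φ_gx⟩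
theorem Y_mem_range : Y ∈ φ.range := ⟨gy, φ_gy⟩
theorem Z_mem_range : Z ∈ φ.range := ⟨gz, φ_gz⟩

theorem U_mem_range : U ∈ φ.range :=
  mul_mem (mul_mem (inv_mem X_mem_range) Y_mem_range) X_mem_range

theorem U0_le_range : U0 ≤ φ.range := by
  rw [U0, closure_le]
  rintro g (rfl | rfl)
  · exact Y_mem_range
  · exact U_mem_range

theorem Q_le_range : Q ≤ φ.range := by
  rintro _ ⟨g, -, rfl⟩
  exact ⟨g, rfl⟩

theorem range_closure : φ.range = closure {X, Y, Z} := by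
  rw [MonoidHom.range_eq_map, ← closure_gens, MonoidHom.map_closure]
  congr 1
  ext g
  simp only [Set.mem_image, Set.mem_insert_iff, Set.mem_singleton_iff]
  constructor
  · rintro ⟨a, rfl | rfl | rfl, rfl⟩
    · exact Or.inl φ_gx
    · exact Or.inr (Or.inl φ_gy)
    · exact Or.inr (Or.inr φ_gz)
  · rintro (rfl | rfl | rfl)
    · exact ⟨_, Or.inl rfl, φ_gx⟩
    · exact ⟨_, Or.inr (Or.inl rfl), φ_gy⟩
    · exact ⟨_, Or.inr (Or.inr rfl), φ_gz⟩

theorem card_comap (h : Ext τ π) (S : Subgroup (Perm (Fin 100))) (hS : S ≤ φ.range) :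
    Nat.card (S.comap π) = 2 * Nat.card S := by
  let f : S.comap π →* S := π.subgroupComap S
  have hf : ∀ g, (f g : Perm (Fin 100)) = π g := fun _ => rfl
  have hsurj : Function.Surjective f := by
    rintro ⟨s, hs⟩
    obtain ⟨g, hg⟩ := h.lift (hS hs)
    exact ⟨⟨g, by rw [mem_comap, hg]; exact hs⟩, Subtype.ext hg⟩
  let t : S.comap π := ⟨τ, by rw [mem_comap, h.kt]; exact S.one_mem⟩
  have ht1 : t ≠ 1 := fun h1 => h.ne (congrArg Subtype.val h1)
  have ht2 : t ^ 2 = 1 := Subtype.ext (by rw [pow_two]; exact h.sq)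
  have hk : f.ker = zpowers t := by
    ext g
    rw [MonoidHom.mem_ker]
    constructor
    · intro hg
      have h1 : π g = 1 := by rw [← hf, hg]; rfl
      rcases (h.ker _).1 h1 with h2 | h2
      · rw [show g = 1 from Subtype.ext h2]; exact one_mem _
      · rw [show g = t from Subtype.ext h2]; exact mem_zpowers t
    · rintro ⟨k, rfl⟩
      apply Subtype.ext
      change π ((t : C) ^ k) = 1
      rw [map_zpow]
      change π τ ^ k = 1
      rw [h.kt, one_zpow]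
  have h1 := f.ker.card_mul_index
  rw [index_ker, MonoidHom.range_eq_top.2 hsurj, card_top, hk, Nat.card_zpowers,
    orderOf_eq_prime ht2 ht1] at h1
  exact h1.symm

/-- preimage of `U0` -/
def St (π : C →* Perm (Fin 100)) : Subgroup C := U0.comap π

/-- its commutator subgroup -/
def D (π : C →* Perm (Fin 100)) : Subgroup C := ⁅St π, St π⁆

theorem card_St (h : Ext τ π) : Nat.card (St π) = 32 * 7875 := by
  rw [St, card_comap h U0 U0_le_range, card_U0]

theorem tau_not_mem_D (h : Ext τ π) : τ ∉ D π := by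
  have hfin : Finite (St π) := Nat.finite_of_card_ne_zero (by rw [card_St h]; norm_num)
  obtain ⟨r, hr⟩ := h.lift (U0_le_range R8_mem)
  obtain ⟨v, hv⟩ := h.lift (U0_le_range V2_mem)
  let τ' : St π := ⟨τ, by rw [St, mem_comap, h.kt]; exact U0.one_mem⟩
  let r' : St π := ⟨r, by rw [St, mem_comap, hr]; exact R8_mem⟩
  let v' : St π := ⟨v, by rw [St, mem_comap, hv]; exact V2_mem⟩
  have hr4 : π (r ^ 4) ≠ 1 := by rw [map_pow, hr]; exact R8_pow4
  have key := SemiSplit.not_mem_commutator (τ := τ') (r := r') (v := v') (card_St h) (by decide)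
    (fun h1 => h.ne (congrArg Subtype.val h1)) (Subtype.ext h.sq) (fun g => Subtype.ext (h.cen g))
    (fun h1 => hr4 (by
      have h2 : r ^ 4 = 1 := congrArg Subtype.val h1
      rw [h2, map_one]))
    (fun h1 => hr4 (by
      have h2 : r ^ 4 = τ := congrArg Subtype.val h1
      rw [h2, h.kt]))
    (by
      have h1 : π (v * v) = 1 := by rw [map_mul, hv]; exact V2_sq
      rcases (h.ker _).1 h1 with h2 | h2
      · exact Or.inl (Subtype.ext h2)
      · exact Or.inr (Subtype.ext h2))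
    (by
      have h1 : π (v⁻¹ * r * v) = π (r ^ 3) := by
        rw [map_mul, map_mul, map_inv, map_pow, hv, hr]; exact V2_conj
      rcases h.eq_or h1 with h2 | h2
      · exact Or.inl (Subtype.ext h2)
      · exact Or.inr (Subtype.ext h2))
  intro hmem
  apply key
  rw [D, ← map_subtype_commutator] at hmem
  obtain ⟨g, hg, hgτ⟩ := hmem
  have h1 : g = τ' := Subtype.ext hgτ
  rw [← h1]
  exact hg

theorem eq_one_of_D (h : Ext τ π) {g : C} (hg : g ∈ D π) (h1 : π g = 1) : g = 1 := by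
  rcases (h.ker g).1 h1 with h2 | h2
  · exact h2
  · exfalso
    rw [h2] at hg
    exact tau_not_mem_D h hg

theorem map_D (h : Ext τ π) : (D π).map π = U0 := by
  rw [D, map_commutator, St, map_comap_eq, h.range, inf_eq_right.2 U0_le_range, comm_U0]

theorem conj_X {g : Perm (Fin 100)} (hg : g ∈ U0) : X⁻¹ * g * X ∈ U0 := by
  induction hg using closure_induction with
  | mem a ha =>
    rcases ha with rfl | rfl
    · exact U_mem
    · have h1 : X⁻¹ * U * X = Y := by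
        have h2 : X * X = 1 := by rw [← pow_two]; exact X_sq
        have h3 : X⁻¹ = X := inv_eq_of_mul_eq_one_left h2
        rw [U, h3]
        calc X * (X * Y * X) * X = (X * X) * Y * (X * X) := by group
          _ = Y := by rw [h2, one_mul, mul_one]
      rw [h1]
      exact Y_mem
  | one => rw [mul_one, inv_mul_cancel]; exact U0.one_mem
  | mul a b _ _ iha ihb =>
    have : X⁻¹ * (a * b) * X = (X⁻¹ * a * X) * (X⁻¹ * b * X) := by group
    rw [this]
    exact U0.mul_mem iha ihb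
  | inv a _ iha =>
    have : X⁻¹ * a⁻¹ * X = (X⁻¹ * a * X)⁻¹ := by group
    rw [this]
    exact U0.inv_mem iha

theorem conj_D {x : C} (hx : π x = X) {g : C} (hg : g ∈ D π) : x⁻¹ * g * x ∈ D π := by
  have h1 : (St π).map (MulAut.conj x⁻¹).toMonoidHom ≤ St π := by
    rintro _ ⟨s, hs, rfl⟩
    change π (x⁻¹ * s * x⁻¹⁻¹) ∈ U0
    rw [inv_inv, map_mul, map_mul, map_inv, hx]
    exact conj_X hs
  have h2 : (D π).map (MulAut.conj x⁻¹).toMonoidHom ≤ D π := by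
    rw [D, map_commutator]
    exact commutator_mono h1 h1
  have h3 := h2 ⟨g, hg, rfl⟩
  change x⁻¹ * g * x⁻¹⁻¹ ∈ D π at h3
  rwa [inv_inv] at h3

theorem exists_y (h : Ext τ π) : ∃ y ∈ D π, π y = Y := by
  have h1 : Y ∈ (D π).map π := by rw [map_D h]; exact Y_mem
  obtain ⟨y, hy, hyY⟩ := h1
  exact ⟨y, hy, hyY⟩

/-- central elements: 1 or τ -/
theorem cen' (h : Ext τ π) {a : C} (ha : a = 1 ∨ a = τ) : (∀ g, Commute a g) ∧ a * a = 1 := by
  rcases ha with rfl | rfl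
  · exact ⟨fun g => Commute.one_left g, one_mul 1⟩
  · exact ⟨fun g => (h.cen g).symm, h.sq⟩

section S1

variable (h : Ext τ π) {x y : C} (hx : π x = X) (hy : y ∈ D π) (hyY : π y = Y)

include h hx in
theorem xx : x ^ 2 = 1 ∨ x ^ 2 = τ := by
  apply (h.ker _).1
  rw [map_pow, hx]
  exact X_sq

include hx hyY in
theorem piu : π (x⁻¹ * y * x) = U := by
  rw [map_mul, map_mul, map_inv, hx, hyY]
  rfl

include h hy hyY in
theorem s1 : y ^ 6 = 1 := by
  refine eq_one_of_D h (pow_mem hy 6) ?_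
  rw [map_pow, hyY]
  exact rU1

include h hx in
theorem s2 : (x ^ 2) * y * (x ^ 2) * (y⁻¹) = 1 := by
  obtain ⟨h1, h2⟩ := cen' h (xx h hx)
  have h3 : x ^ 2 * y * x ^ 2 * y⁻¹ = x ^ 2 * (x ^ 2) * (y * y⁻¹) := by
    rw [mul_assoc (x ^ 2) y, ← (h1 y).eq]
    group
  rw [h3, h2, one_mul, mul_inv_cancel]

include h hx hy hyY

theorem s3 : (x⁻¹ * y⁻¹ * x * y) ^ 3 = 1 := by
  have h1 : x⁻¹ * y⁻¹ * x * y = (x⁻¹ * y * x)⁻¹ * y := by group
  rw [h1]
  refine eq_one_of_D h (pow_mem (mul_mem (inv_mem (conj_D hx hy)) hy) 3) ?_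
  rw [map_pow, map_mul, map_inv, piu hx hyY, hyY]
  exact rU3

theorem s4 : ((x⁻¹) * (y ^ 2) * x * (y ^ 3)) ^ 3 = 1 := by
  have h1 : x⁻¹ * (y ^ 2) * x * (y ^ 3) = (x⁻¹ * y * x) ^ 2 * y ^ 3 := by simp [pow_succ, mul_assoc]
  rw [h1]
  refine eq_one_of_D h (pow_mem (mul_mem (pow_mem (conj_D hx hy) 2) (pow_mem hy 3)) 3) ?_
  rw [map_pow, map_mul, map_pow, map_pow, piu hx hyY, hyY]
  exact rU4

theorem s5 : (x * y) ^ 8 = 1 := by
  obtain ⟨h1, h2⟩ := cen' h (xx h hx)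
  have h3 : (x * y) ^ 8 = ((x ^ 2) * ((x⁻¹ * y * x) * y)) ^ 4 := by
    rw [show 8 = 2 * 4 from rfl, pow_mul]
    congr 1
    simp [pow_succ, mul_assoc]
  rw [h3, (h1 _).mul_pow, show 4 = 2 * 2 from rfl, pow_mul (x ^ 2), pow_two (x ^ 2), h2, one_pow,
    one_mul]
  refine eq_one_of_D h (pow_mem (mul_mem (conj_D hx hy) hy) 4) ?_
  rw [map_pow, map_mul, piu hx hyY, hyY]
  exact rU5

theorem s6 : (x * y * x * (y ^ 3)) ^ 4 = 1 := by
  obtain ⟨h1, h2⟩ := cen' h (xx h hx)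
  have h3 : x * y * x * (y ^ 3) = (x ^ 2) * ((x⁻¹ * y * x) * y ^ 3) := by
    group
  rw [h3, (h1 _).mul_pow, show 4 = 2 * 2 from rfl, pow_mul (x ^ 2), pow_two (x ^ 2), h2, one_pow,
    one_mul]
  refine eq_one_of_D h (pow_mem (mul_mem (conj_D hx hy) (pow_mem hy 3)) 4) ?_
  rw [map_pow, map_mul, map_pow, piu hx hyY, hyY]
  exact rU6

end S1

/-- the element `a = z^g` in the last relator -/
abbrev aw (x y z : C) : C := ((y ^ 3) * x * y * x * y)⁻¹ * z * ((y ^ 3) * x * y * x * y)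

theorem XW_pow : (X * (Y * X * Y * X * (Y ^ 2) * X * (Y⁻¹))) ^ 7 = 1 := by
  refine Equiv.ext fun i => Fin.ext ?_
  revert i
  decide +kernel

/-- the choice of `x`. -/
theorem exists_x (h : Ext τ π) {y z : C} (hy : π y = Y) (hz : π z = Z) :
    ∃ x, π x = X ∧ z * ((aw x y z * x) ^ 3) = 1 := by
  obtain ⟨x, hx⟩ := h.lift X_mem_range
  have h1 : π (z * ((aw x y z * x) ^ 3)) = 1 := by
    simp only [aw, map_mul, map_pow, map_inv, hx, hy, hz]
    exact rels.r10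
  rcases (h.ker _).1 h1 with h2 | h2
  · exact ⟨x, hx, h2⟩
  · refine ⟨x * τ, by rw [map_mul, hx, h.kt, mul_one], ?_⟩
    have cτ : ∀ g, Commute τ g := fun g => (h.cen g).symm
    have h3 : (y ^ 3) * (x * τ) * y * (x * τ) * y = (y ^ 3) * x * y * x * y := by
      have e1 : x * τ * y * (x * τ) * y = x * y * x * y * (τ * τ) := by
        calc x * τ * y * (x * τ) * y = x * (τ * y) * x * (τ * y) := by group
          _ = x * (y * τ) * x * (y * τ) := by rw [(cτ y).eq]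
          _ = x * y * (τ * (x * y)) * τ := by group
          _ = x * y * ((x * y) * τ) * τ := by rw [(cτ (x * y)).eq]
          _ = x * y * x * y * (τ * τ) := by group
      calc (y ^ 3) * (x * τ) * y * (x * τ) * y = y ^ 3 * (x * τ * y * (x * τ) * y) := by group
        _ = y ^ 3 * (x * y * x * y * (τ * τ)) := by rw [e1]
        _ = (y ^ 3) * x * y * x * y := by rw [h.sq]; group
    have h4 : aw (x * τ) y z = aw x y z := by
      simp only [aw, h3]
    rw [h4, ← mul_assoc, ((cτ (aw x y z * x)).symm).mul_pow, ← mul_assoc, h2]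
    calc τ * τ ^ 3 = (τ * τ) * (τ * τ) := by simp [pow_succ, mul_assoc]
      _ = 1 := by rw [h.sq, one_mul]

section S2

variable (h : Ext τ π) {x y z : C} (hx : π x = X) (hyY : π y = Y) (hz : π z = Z)
  (h10 : z * ((aw x y z * x) ^ 3) = 1)

include h hz in
theorem zz : z ^ 2 = 1 ∨ z ^ 2 = τ := by
  apply (h.ker _).1
  rw [map_pow, hz]
  exact rels.r7

include h hx hz in
theorem zconj : ∃ κ, (κ = 1 ∨ κ = τ) ∧ x⁻¹ * z * x = z * κ := by
  have h1 : π (z⁻¹ * (x⁻¹ * z * x)) = 1 := by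
    have h2 : X * X = 1 := by rw [← pow_two]; exact X_sq
    have h3 : X⁻¹ = X := inv_eq_of_mul_eq_one_left h2
    have h4 : Z * Z = 1 := by rw [← pow_two]; exact rels.r7
    have h5 : Z⁻¹ = Z := inv_eq_of_mul_eq_one_left h4
    simp only [map_mul, map_inv, hx, hz, h3, h5]
    have h6 := rels.r8
    rw [pow_two] at h6
    rw [← h6]
    group
  exact ⟨_, (h.ker _).1 h1, by group⟩

include h hx hz h10 in
/-- the commutator of `z` and `x` is `x²`. -/
theorem zconj_eq : x⁻¹ * z * x = z * x ^ 2 := by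
  obtain ⟨κ, hκ, h1⟩ := zconj h hx hz
  obtain ⟨cκ, κ2⟩ := cen' h hκ
  obtain ⟨cA, A2⟩ := cen' h (xx h hx)
  obtain ⟨cB, B2⟩ := cen' h (zz h hz)
  set a := aw x y z with ha
  have haa : a * a = z ^ 2 := by
    have e1 : a * a = ((y ^ 3) * x * y * x * y)⁻¹ * z ^ 2 * ((y ^ 3) * x * y * x * y) := by
      rw [ha, aw]; simp only [pow_two, mul_assoc, mul_inv_cancel_left]
    rw [e1, mul_assoc, (cB _).eq, inv_mul_cancel_left]
  have hza : (a * x) ^ 3 = z⁻¹ := (inv_eq_of_mul_eq_one_right h10).symm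
  -- conjugate by `x`
  have e2 : x⁻¹ * (a * x) ^ 3 * x = ((a * x)⁻¹ * (z ^ 2 * x ^ 2)) ^ 3 := by
    have e3 : x⁻¹ * (a * x) ^ 3 * x = (x⁻¹ * (a * x) * x) ^ 3 := by
      simp only [pow_succ, pow_zero, one_mul, mul_assoc, mul_inv_cancel_left]
    rw [e3]
    congr 1
    have e4 : (a * x)⁻¹ * (z ^ 2 * x ^ 2) = x⁻¹ * a⁻¹ * z ^ 2 * x ^ 2 := by group
    rw [e4, ← haa]
    simp only [pow_two, mul_assoc, inv_mul_cancel_left]
  have cBA : ∀ g, Commute (z ^ 2 * x ^ 2) g := fun g => (cB g).mul_left (cA g)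
  have BA2 : (z ^ 2 * x ^ 2) * (z ^ 2 * x ^ 2) = 1 := by
    have e5 : (z ^ 2 * x ^ 2) * (z ^ 2 * x ^ 2) = z ^ 2 * ((x ^ 2 * z ^ 2) * x ^ 2) := by group
    rw [e5, (cA (z ^ 2)).eq]
    calc z ^ 2 * (z ^ 2 * x ^ 2 * x ^ 2) = (z ^ 2 * z ^ 2) * (x ^ 2 * x ^ 2) := by group
      _ = 1 := by rw [A2, B2, one_mul]
  rw [((cBA _).symm).mul_pow, inv_pow, hza, inv_inv, pow_succ (z ^ 2 * x ^ 2) 2,
    pow_two (z ^ 2 * x ^ 2), BA2, one_mul] at e2
  -- `x⁻¹ z⁻¹ x = z B A`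
  have e6 : x⁻¹ * z * x = (z * (z ^ 2 * x ^ 2))⁻¹ := by rw [← e2]; group
  rw [e6]
  have e7 : (z ^ 2 * x ^ 2)⁻¹ = z ^ 2 * x ^ 2 := inv_eq_of_mul_eq_one_left BA2
  have e8 : (z ^ 2)⁻¹ = z ^ 2 := inv_eq_of_mul_eq_one_left B2
  rw [mul_inv_rev, e7, (cBA _).eq]
  calc z⁻¹ * (z ^ 2 * x ^ 2) = z * x ^ 2 := by group

include h hx hyY hz h10 in
theorem s9 : (z⁻¹ * (y * x * y * x * (y ^ 2) * x * (y⁻¹))⁻¹ * z *
    (y * x * y * x * (y ^ 2) * x * (y⁻¹))) * ((x ^ 2)⁻¹) = 1 := by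
  set w := y * x * y * x * (y ^ 2) * x * (y⁻¹) with hw
  have hπw : π w = Y * X * Y * X * (Y ^ 2) * X * (Y⁻¹) := by
    simp only [hw, map_mul, map_pow, map_inv, hx, hyY]
  have h1 : π (z⁻¹ * w⁻¹ * z * w) = 1 := by
    simp only [map_mul, map_inv, hπw, hz]
    have h2 := rels.r9
    rw [X_sq, inv_one, mul_one] at h2
    exact h2
  have hω := (h.ker _).1 h1
  set ω := z⁻¹ * w⁻¹ * z * w with hωd
  obtain ⟨cω, ω2⟩ := cen' h hω
  obtain ⟨cA, A2⟩ := cen' h (xx h hx)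
  have h3 := zconj_eq h hx hz h10
  -- the element `q = x w`
  have h4 : (x * w)⁻¹ * z * (x * w) = z * (ω * x ^ 2) := by
    have e1 : (x * w)⁻¹ * z * (x * w) = w⁻¹ * (x⁻¹ * z * x) * w := by group
    rw [e1, h3]
    have e2 : w⁻¹ * (z * x ^ 2) * w = w⁻¹ * z * (x ^ 2 * w) := by group
    rw [e2, (cA w).eq]
    rw [hωd]; group
  set c := ω * x ^ 2 with hc
  have cc : ∀ g, Commute c g := fun g => (cω g).mul_left (cA g)
  have c2 : c * c = 1 := by
    have e1 : c * c = ω * ((x ^ 2 * ω) * x ^ 2) := by rw [hc]; group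
    rw [e1, (cA ω).eq]
    calc ω * (ω * x ^ 2 * x ^ 2) = (ω * ω) * (x ^ 2 * x ^ 2) := by group
      _ = 1 := by rw [A2, ω2, one_mul]
  have h5 : ∀ k : ℕ, ((x * w) ^ k)⁻¹ * z * (x * w) ^ k = z * c ^ k := by
    intro k
    induction k with
    | zero => simp
    | succ k ih =>
      have e1 : ((x * w) ^ (k + 1))⁻¹ * z * (x * w) ^ (k + 1) =
          (x * w)⁻¹ * (((x * w) ^ k)⁻¹ * z * (x * w) ^ k) * (x * w) := by
        rw [pow_succ]; group
      rw [e1, ih]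
      have e2 : (x * w)⁻¹ * (z * c ^ k) * (x * w) = (x * w)⁻¹ * z * (c ^ k * (x * w)) := by group
      rw [e2, ((cc (x * w)).pow_left k).eq]
      have e3 : (x * w)⁻¹ * z * ((x * w) * c ^ k) = ((x * w)⁻¹ * z * (x * w)) * c ^ k := by group
      rw [e3, h4, mul_assoc, ← pow_succ']
  have h6 : ∀ g, Commute ((x * w) ^ 7) g := by
    have e1 : π ((x * w) ^ 7) = 1 := by
      rw [map_pow, map_mul, hx, hπw]
      exact XW_pow
    exact (cen' h ((h.ker _).1 e1)).1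
  have h7 := h5 7
  rw [mul_assoc, ← (h6 z).eq, inv_mul_cancel_left] at h7
  have h8 : c ^ 7 = c := by
    calc c ^ 7 = (c * c) * (c * c) * (c * c) * c := by simp only [pow_succ, pow_zero, one_mul, mul_assoc]
      _ = c := by rw [c2]; simp only [one_mul]
  rw [h8] at h7
  have h9 : c = 1 := by
    have : z * 1 = z * c := by rw [mul_one]; exact h7
    exact (mul_left_cancel this).symm
  rw [hc] at h9
  rw [mul_inv_eq_one]
  have h10' : ω * (x ^ 2 * x ^ 2) = x ^ 2 := by rw [← mul_assoc, h9, one_mul]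
  rw [A2, mul_one] at h10'
  exact h10'

include h hx hz h10 in
theorem s8 : (z * x) ^ 2 = z ^ 2 := by
  obtain ⟨cA, A2⟩ := cen' h (xx h hx)
  have h3 := zconj_eq h hx hz h10
  have e1 : (z * x) ^ 2 = z * x ^ 2 * (x⁻¹ * z * x) := by
    simp only [pow_two, mul_assoc, mul_inv_cancel_left]
  rw [e1, h3]
  calc z * x ^ 2 * (z * x ^ 2) = z * ((x ^ 2 * z) * x ^ 2) := by simp only [mul_assoc]
    _ = z * ((z * x ^ 2) * x ^ 2) := by rw [(cA z).eq]
    _ = z ^ 2 * (x ^ 2 * x ^ 2) := by simp only [pow_two, mul_assoc]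
    _ = z ^ 2 := by rw [A2, mul_one]

end S2

end Cfsg.Agent.HN.SignSplit
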