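import Cfsg.Prelude.Def_Sporadic
import Cfsg.Agent.HN.Lower
import Cfsg.Agent.HN.Center
import Cfsg.Agent.HN.Order19X
import Cfsg.Agent.HN.Order19Y
import Cfsg.Agent.HN.Order19Z
import Cfsg.Agent.HN.Order19T
import Cfsg.Agent.Lib.SimpleByPrime

/-!
# Simplicity of the presented group HN from the upper bound of its order

`isHN_of_card_le : Finite HN → Nat.card HN ≤ 273030912000000 → IsHN HN`.
-/

set_option autoImplicit false

namespace Cfsg.Agent.HN.Simple

open Cfsg.Agent.Lib.PackMat Cfsg.Agent.Lib.PackMatGroup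
open Cfsg.Agent.HN.RepData Cfsg.Agent.HN.Rep Cfsg.Agent.HN.Center

/-! ### Homomorphisms to commutative groups are trivial -/

theorem rel_hn {G : Type*} [Group G] (f : Cfsg.Spor.HN →* G) (r : FreeGroup Cfsg.Spor.HN.Gen)
    (hr : r ∈ Cfsg.Spor.HN.extra) : f (PresentedGroup.mk _ r) = 1 := by
  have : (PresentedGroup.mk (Cfsg.Spor.coxRelators Cfsg.Spor.HN.edges ∪ {r | r ∈ Cfsg.Spor.HN.extra}) r) = 1 :=
    PresentedGroup.one_of_mem (Or.inr hr)
  rw [this, map_one]

theorem hom_comm {A : Type*} [CommGroup A] (f : Cfsg.Spor.HN →* A) : ∀ g, f g = 1 := by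
  have key : ∀ r ∈ Cfsg.Spor.HN.extra, (f.comp (PresentedGroup.mk
      (Cfsg.Spor.coxRelators Cfsg.Spor.HN.edges ∪ {r | r ∈ Cfsg.Spor.HN.extra}))) r = 1 :=
    fun r hr => rel_hn f r hr
  set F := f.comp (PresentedGroup.mk (Cfsg.Spor.coxRelators Cfsg.Spor.HN.edges ∪ {r | r ∈ Cfsg.Spor.HN.extra}))
    with hF
  unfold Cfsg.Spor.HN.extra at key
  simp only [List.mem_cons, List.not_mem_nil, or_false, forall_eq_or_imp, forall_eq] at key
  obtain ⟨k1, k2, k3, k4, k5, k6, k7, k8, k9, k10, k11, k12, k13, k14⟩ := key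
  simp only [map_mul, map_pow, map_inv] at k1 k2 k3 k4 k5 k6 k7 k8 k9 k10 k11 k12 k13 k14
  set a := F (FreeGroup.of Cfsg.Spor.HN.Gen.x) with ha
  set b := F (FreeGroup.of Cfsg.Spor.HN.Gen.y) with hb
  set c := F (FreeGroup.of Cfsg.Spor.HN.Gen.z) with hc
  set d := F (FreeGroup.of Cfsg.Spor.HN.Gen.t) with hd
  have e12 : d ^ 3 = 1 := by
    rw [← k12, mul_comm a⁻¹ d, mul_assoc d, inv_mul_cancel, mul_one]
    exact pow_succ' d 2
  have ed : d = 1 := by
    have h1 : d ^ 6 = 1 := by rw [show 6 = 3 * 2 from rfl, pow_mul, e12, one_pow]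
    have h2 : d ^ 6 = d ^ 5 * d := pow_succ d 5
    rw [k11, one_mul] at h2
    rw [← h2, h1]
  have ec : c = 1 := by
    rw [ed, mul_one] at k14
    have h2 : c ^ 3 = c ^ 2 * c := pow_succ c 2
    rw [k14, k7, one_mul] at h2
    exact h2.symm
  have ea2 : a ^ 2 = 1 := by
    rw [ec, inv_one, one_mul, mul_one, inv_mul_cancel, one_mul, inv_eq_one] at k9
    exact k9
  have ea : a = 1 := by
    rw [ec, one_mul, mul_one, inv_mul_cancel, one_mul] at k10
    have h2 : a ^ 3 = a ^ 2 * a := pow_succ a 2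
    rw [k10, ea2, one_mul] at h2
    exact h2.symm
  have eb : b = 1 := by
    rw [ea, one_mul] at k5
    have h8 : b ^ 8 = b ^ 6 * b ^ 2 := pow_add b 6 2
    rw [k5, k1, one_mul] at h8
    rw [ea, inv_one, one_mul, mul_one, ← pow_add, ← pow_mul] at k4
    have h15 : b ^ ((2 + 3) * 3) = (b ^ 2) ^ 7 * b := by rw [← pow_mul, ← pow_succ]
    rw [k4, ← h8, one_pow, one_mul] at h15
    exact h15.symm
  have hF1 : F = 1 := by
    apply FreeGroup.ext_hom
    rintro (_ | _ | _ | _)
    · exact ea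
    · exact eb
    · exact ec
    · exact ed
  intro g
  obtain ⟨r, rfl⟩ := PresentedGroup.mk_surjective _ g
  exact DFunLike.congr_fun hF1 r

/-! ### Assembly -/

theorem rho_injective [Finite Cfsg.Spor.HN] (h : Nat.card Cfsg.Spor.HN ≤ 273030912000000) :
    Function.Injective rho := by
  have h1 := Lower.dvd_card_range
  have h3 : 273030912000000 ≤ Nat.card rho.range := Nat.le_of_dvd Nat.card_pos h1
  have h4 : Nat.card Cfsg.Spor.HN ≤ Nat.card rho.range := h.trans h3
  have h5 := (MonoidHom.rangeRestrict_surjective rho).bijective_of_nat_card_le h4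
  exact MonoidHom.rangeRestrict_injective_iff.mp h5.1

theorem card_eq [Finite Cfsg.Spor.HN] (h : Nat.card Cfsg.Spor.HN ≤ 273030912000000) :
    Nat.card Cfsg.Spor.HN = 273030912000000 :=
  le_antisymm h (Nat.le_of_dvd Nat.card_pos Lower.dvd_card)

theorem scalar_eq_one (c : ZMod 31) (h1 : c ^ 133 = 1) : c = 1 := by
  revert h1
  revert c
  decide +kernel

theorem center_eq_bot (hinj : Function.Injective rho) : Subgroup.center Cfsg.Spor.HN = ⊥ := by
  rw [eq_bot_iff]
  intro g hg
  rw [Subgroup.mem_bot]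
  apply hinj
  rw [map_one]
  have hcom : ∀ h : Cfsg.Spor.HN, h * g = g * h := Subgroup.mem_center_iff.mp hg
  obtain ⟨c, hc⟩ := scalar ((rho g : U C) : M C) (by
    intro w
    rw [← rho_word, ← Units.val_mul, ← map_mul, hcom, map_mul, Units.val_mul])
  -- determinant
  have hdet : ((rho g : U C) : M C).det = 1 := by
    have := hom_comm ((Units.map (Matrix.detMonoidHom (n := Fin C.n) (R := ZMod C.p))).comp rho) g
    have h2 := congrArg Units.val this
    simpa using h2
  rw [hc, Matrix.det_smul, Matrix.det_one, mul_one, Fintype.card_fin] at hdet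
  have hc1 : c = 1 := scalar_eq_one c hdet
  apply Units.ext
  rw [hc, hc1, one_smul, Units.val_one]

theorem orderOf_eq {G : Type*} [Group G] {f : Cfsg.Spor.HN →* G} (hinj : Function.Injective f) {g : Cfsg.Spor.HN}
    (h1 : f g ^ 19 = 1) (h2 : f g ≠ 1) : orderOf g = 19 := by
  have : Fact (Nat.Prime 19) := ⟨by norm_num⟩
  apply orderOf_eq_prime
  · apply hinj
    rw [map_pow, h1, map_one]
  · intro h
    exact h2 (by rw [h, map_one])

/-- Words in HN from the checks in the representation. -/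
theorem exists_order (hinj : Function.Injective rho) {s : Cfsg.Spor.HN} {j : ℕ} (hs : gens.getD j 1 = s)
    {w w' : List ℕ} (hw : w' = w ++ [j])
    (h1 : evG LG w ^ 19 = 1 ∧ evG LG w ≠ 1) (h2 : evG LG w' ^ 19 = 1 ∧ evG LG w' ≠ 1) :
    ∃ w : Cfsg.Spor.HN, orderOf w = 19 ∧ orderOf (w * s) = 19 := by
  refine ⟨evG gens w, orderOf_eq hinj (by rw [rho_word]; exact h1.1) (by rw [rho_word]; exact h1.2), ?_⟩
  have e : evG gens w * s = evG gens w' := by
    rw [hw, evG_append, evG_cons, evG_nil, mul_one, hs]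
  rw [e]
  exact orderOf_eq hinj (by rw [rho_word]; exact h2.1) (by rw [rho_word]; exact h2.2)

/-- **Simplicity and order of the presented group HN from the upper bound.** -/
theorem isHN_of_card_le [Finite Cfsg.Spor.HN] (h : Nat.card Cfsg.Spor.HN ≤ 273030912000000) :
    Cfsg.IsHN Cfsg.Spor.HN := by
  have hinj := rho_injective h
  have hcard := card_eq h
  refine ⟨?_, hcard⟩
  have hcl : Subgroup.closure {x, y, z, t} = (⊤ : Subgroup Cfsg.Spor.HN) := closure_eq_top
  refine Cfsg.Agent.Lib.SimpleByPrime.isSimpleGroup_of_prime_list 19 (by norm_num)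
    [(2, 14), (3, 6), (5, 6), (7, 1), (11, 1)] (by rw [hcard]; norm_num) ?_ (by decide) (by decide)
    {x, y, z, t} hcl ?_ (center_eq_bot hinj)
  · intro q hq
    simp only [List.mem_cons, List.not_mem_nil, or_false] at hq
    rcases hq with rfl | rfl | rfl | rfl | rfl <;> norm_num
  · rintro s (rfl | rfl | rfl | rfl)
    · exact exists_order hinj (j := 0) rfl rfl Order19X.ord Order19X.ord'
    · exact exists_order hinj (j := 2) rfl rfl Order19Y.ord Order19Y.ord'
    · exact exists_order hinj (j := 4) rfl rfl Order19Z.ord Order19Z.ord'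
    · exact exists_order hinj (j := 6) rfl rfl Order19T.ord Order19T.ord'

end Cfsg.Agent.HN.Simple
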