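import Mathlib
import Cfsg.Agent.HN.Pres

set_option autoImplicit false

/-!
Simplicity of the Harada–Norton group from its order and the involution centralizer `⟨x, y, z⟩`.
-/

namespace Cfsg.Agent.HN.SimpleAbs

open Cfsg.Agent.HN

/-- Killing `x ^ 2` kills everything. -/
theorem collapse {Q : Type*} [Group Q] {X Y Z T : Q} (h : Pres.Rels X Y Z) (hT5 : T ^ 5 = 1)
    (hxt : (X⁻¹ * T * X) * T ^ 2 = 1) (hzt : (Z * T) ^ 3 = 1) (hX : X ^ 2 = 1) :
    X = 1 ∧ Y = 1 ∧ Z = 1 ∧ T = 1 := by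
  have hXX : X * X = 1 := by rw [← pow_two]; exact hX
  have hXinv : X⁻¹ = X := inv_eq_of_mul_eq_one_left hXX
  have h1 : X⁻¹ * T * X = (T ^ 2)⁻¹ := eq_inv_of_mul_eq_one_left hxt
  have h2 : (X⁻¹ * T * X) ^ 2 = X⁻¹ * T ^ 2 * X := by
    simp only [pow_two]; group
  have h3 : X⁻¹ * (X⁻¹ * T * X) * X = T := by
    rw [hXinv]
    calc X * (X * T * X) * X = (X * X) * T * (X * X) := by simp only [mul_assoc]
      _ = T := by rw [hXX]; simp
  have h4 : T ^ 4 = T := by
    have e1 : X⁻¹ * (T ^ 2)⁻¹ * X = T := by rw [← h1]; exact h3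
    have e2 : X⁻¹ * (T ^ 2)⁻¹ * X = (X⁻¹ * T ^ 2 * X)⁻¹ := by group
    rw [e2, ← h2, h1] at e1
    have e3 : (((T ^ 2)⁻¹) ^ 2)⁻¹ = T ^ 4 := by group
    rw [e3] at e1
    exact e1
  have hT3 : T ^ 3 = 1 := by
    have : T ^ 3 * T = 1 * T := by
      rw [one_mul, ← pow_succ]; exact h4
    exact mul_right_cancel this
  have hT : T = 1 := by
    have e : T = (T ^ 3) ^ 2 * (T ^ 5)⁻¹ := by group
    rw [e, hT3, hT5]; simp
  subst hT
  have hZ3 : Z ^ 3 = 1 := by simpa using hzt
  have hZ : Z = 1 := by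
    have e : Z = Z ^ 3 * (Z ^ 2)⁻¹ := by group
    rw [e, hZ3, h.r7]; simp
  have hX3 : X ^ 3 = 1 := by
    have := h.r10
    rw [hZ, mul_one, inv_mul_cancel, one_mul, one_mul] at this
    exact this
  have hX1 : X = 1 := by
    have e : X = X ^ 3 * (X ^ 2)⁻¹ := by group
    rw [e, hX3, hX]; simp
  have hY15 : Y ^ 15 = 1 := by
    have := h.r4
    rw [hX1] at this
    have e : ((1 : Q)⁻¹ * Y ^ 2 * 1 * Y ^ 3) ^ 3 = Y ^ 15 := by
      simp only [inv_one, one_mul, mul_one, ← pow_add, ← pow_mul]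
    rw [e] at this
    exact this
  have hY8 : Y ^ 8 = 1 := by
    have := h.r5
    rw [hX1] at this
    simpa using this
  have hY : Y = 1 := by
    have e : Y = (Y ^ 8) ^ 2 * (Y ^ 15)⁻¹ := by group
    rw [e, hY8, hY15]; simp
  exact ⟨hX1, hY, hZ, rfl⟩

theorem rels_map {G Q : Type*} [Group G] [Group Q] (f : G →* Q) {X Y Z : G} (h : Pres.Rels X Y Z) :
    Pres.Rels (f X) (f Y) (f Z) := by
  constructor
  · simpa using congrArg f h.r1
  · simpa using congrArg f h.r2
  · simpa using congrArg f h.r3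
  · simpa using congrArg f h.r4
  · simpa using congrArg f h.r5
  · simpa using congrArg f h.r6
  · simpa using congrArg f h.r7
  · simpa using congrArg f h.r8
  · simpa using congrArg f h.r9
  · simpa using congrArg f h.r10

section

variable {G : Type*} [Group G] {x y z t : G}

/-- A normal subgroup containing `x ^ 2` is everything. -/
theorem eq_top_of_mem (hgen : Subgroup.closure ({x, y, z, t} : Set G) = ⊤)
    (h : Pres.Rels x y z) (hT5 : t ^ 5 = 1)
    (hxt : (x⁻¹ * t * x) * t ^ 2 = 1) (hzt : (z * t) ^ 3 = 1)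
    (N : Subgroup G) [N.Normal] (hx : x ^ 2 ∈ N) : N = ⊤ := by
  let π := QuotientGroup.mk' N
  have hc := collapse (X := π x) (Y := π y) (Z := π z) (T := π t) (rels_map π h)
    (by rw [← map_pow, hT5, map_one]) (by simpa using congrArg π hxt)
    (by simpa using congrArg π hzt)
    (by
      rw [← map_pow]
      exact (QuotientGroup.eq_one_iff (x ^ 2)).2 hx)
  rw [eq_top_iff, ← hgen, Subgroup.closure_le]
  obtain ⟨h1, h2, h3, h4⟩ := hc
  rintro g (rfl | rfl | rfl | rfl)
  · exact (QuotientGroup.eq_one_iff _).1 h1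
  · exact (QuotientGroup.eq_one_iff _).1 h2
  · exact (QuotientGroup.eq_one_iff _).1 h3
  · exact (QuotientGroup.eq_one_iff _).1 h4

/-- The elements of `N` killed by `p`, for abelian `N`. -/
def omegaP (N : Subgroup G) (hab : ∀ a ∈ N, ∀ b ∈ N, a * b = b * a) (p : ℕ) : Subgroup G where
  carrier := {k | k ∈ N ∧ k ^ p = 1}
  mul_mem' := by
    rintro a b ⟨ha, ha'⟩ ⟨hb, hb'⟩
    refine ⟨N.mul_mem ha hb, ?_⟩
    have : Commute a b := hab a ha b hb
    rw [this.mul_pow, ha', hb', one_mul]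
  one_mem' := ⟨N.one_mem, one_pow p⟩
  inv_mem' := by
    rintro a ⟨ha, ha'⟩
    exact ⟨N.inv_mem ha, by rw [inv_pow, ha', inv_one]⟩

theorem omegaP_normal (N : Subgroup G) (hN : N.Normal) (hab : ∀ a ∈ N, ∀ b ∈ N, a * b = b * a)
    (p : ℕ) : (omegaP N hab p).Normal := by
  refine ⟨fun n hn g => ⟨hN.conj_mem n hn.1 g, ?_⟩⟩
  rw [conj_pow, hn.2]
  simp

/-- An element of order 11 centralizes a normal subgroup of order 3^i (i ≤ 4), 5^i (i ≤ 3), 19. -/
theorem centralizes [Finite G] (M : Subgroup G) [M.Normal] (w : G) (hw : orderOf w = 11)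
    (hM : Nat.card M ∣ 81 ∨ Nat.card M ∣ 125 ∨ Nat.card M ∣ 19) : ∀ m ∈ M, w * m = m * w := by
  classical
  let _ : MulAction (Subgroup.zpowers w) M :=
    MulAction.compHom M ((MulAut.conjNormal (H := M)).comp (Subgroup.zpowers w).subtype)
  have hsmul : ∀ (a : Subgroup.zpowers w) (m : M), ((a • m : M) : G) = a * m * (a : G)⁻¹ :=
    fun a m => rfl
  have : Fact (Nat.Prime 11) := ⟨by norm_num⟩
  have hp : IsPGroup 11 (Subgroup.zpowers w) := by
    refine IsPGroup.of_card (n := 1) ?_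
    rw [Nat.card_zpowers, hw, pow_one]
  have hmod := hp.card_modEq_card_fixedPoints (α := M)
  let F : Subgroup M :=
    { carrier := MulAction.fixedPoints (Subgroup.zpowers w) M
      mul_mem' := by
        intro a b ha hb u
        apply Subtype.ext
        rw [hsmul]
        have h1 := congrArg Subtype.val (ha u)
        have h2 := congrArg Subtype.val (hb u)
        rw [hsmul] at h1 h2
        calc (u : G) * ((a * b : M) : G) * (u : G)⁻¹
            = ((u : G) * a * (u : G)⁻¹) * ((u : G) * b * (u : G)⁻¹) := by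
              rw [Subgroup.coe_mul]; group
          _ = _ := by rw [h1, h2, Subgroup.coe_mul]
      one_mem' := by
        intro u
        apply Subtype.ext
        rw [hsmul]; simp
      inv_mem' := by
        intro a ha u
        apply Subtype.ext
        rw [hsmul]
        have h1 := congrArg Subtype.val (ha u)
        rw [hsmul] at h1
        calc (u : G) * ((a⁻¹ : M) : G) * (u : G)⁻¹ = ((u : G) * a * (u : G)⁻¹)⁻¹ := by
              rw [Subgroup.coe_inv]; group
          _ = _ := by rw [h1, Subgroup.coe_inv] }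
  have hF : Nat.card F ∣ Nat.card M := Subgroup.card_subgroup_dvd_card F
  have hFc : Nat.card F = Nat.card (MulAction.fixedPoints (Subgroup.zpowers w) M) := rfl
  rw [← hFc] at hmod
  have hpos : 0 < Nat.card M := Nat.card_pos
  have heq : Nat.card F = Nat.card M := by
    generalize Nat.card F = f at *
    generalize Nat.card M = m at *
    have h11 : m % 11 = f % 11 := hmod
    rcases hM with hM | hM | hM
    · have hmem : m ∈ Nat.divisors 81 := Nat.mem_divisors.2 ⟨hM, by norm_num⟩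
      have e : Nat.divisors 81 = {1, 3, 9, 27, 81} := by decide +kernel
      rw [e] at hmem
      have hfm : f ∈ Nat.divisors 81 := Nat.mem_divisors.2 ⟨hF.trans hM, by norm_num⟩
      rw [e] at hfm
      simp only [Finset.mem_insert, Finset.mem_singleton] at hmem hfm
      rcases hmem with rfl | rfl | rfl | rfl | rfl <;>
        rcases hfm with rfl | rfl | rfl | rfl | rfl <;> simp at h11 hF ⊢
    · have hmem : m ∈ Nat.divisors 125 := Nat.mem_divisors.2 ⟨hM, by norm_num⟩
      have e : Nat.divisors 125 = {1, 5, 25, 125} := by decide +kernel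
      rw [e] at hmem
      have hfm : f ∈ Nat.divisors 125 := Nat.mem_divisors.2 ⟨hF.trans hM, by norm_num⟩
      rw [e] at hfm
      simp only [Finset.mem_insert, Finset.mem_singleton] at hmem hfm
      rcases hmem with rfl | rfl | rfl | rfl <;>
        rcases hfm with rfl | rfl | rfl | rfl <;> simp at h11 hF ⊢
    · have hmem : m ∈ Nat.divisors 19 := Nat.mem_divisors.2 ⟨hM, by norm_num⟩
      have e : Nat.divisors 19 = {1, 19} := by decide +kernel
      rw [e] at hmem
      have hfm : f ∈ Nat.divisors 19 := Nat.mem_divisors.2 ⟨hF.trans hM, by norm_num⟩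
      rw [e] at hfm
      simp only [Finset.mem_insert, Finset.mem_singleton] at hmem hfm
      rcases hmem with rfl | rfl <;>
        rcases hfm with rfl | rfl <;> simp at h11 hF ⊢
  have htop : F = ⊤ := Subgroup.eq_top_of_card_eq F heq
  intro m hm
  have h1 : (⟨m, hm⟩ : M) ∈ F := by rw [htop]; trivial
  have h2 := congrArg Subtype.val (h1 ⟨w, Subgroup.mem_zpowers w⟩)
  rw [hsmul] at h2
  change w * m * w⁻¹ = m at h2
  exact mul_inv_eq_iff_eq_mul.1 h2

/-- The abstract simplicity theorem. -/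
theorem isSimpleGroup [Finite G] (hgen : Subgroup.closure ({x, y, z, t} : Set G) = ⊤)
    (h : Pres.Rels x y z) (hT5 : t ^ 5 = 1)
    (hxt : (x⁻¹ * t * x) * t ^ 2 = 1) (hzt : (z * t) ^ 3 = 1) (H : Subgroup G)
    (hcG : Nat.card G = 273030912000000) (hcH : Nat.card H = 177408000)
    (hs1 : x ^ 2 ≠ 1) (hs2 : (x ^ 2) ^ 2 = 1)
    (hC : Subgroup.centralizer ({x ^ 2} : Set G) ≤ H)
    (hmin : ∀ N : Subgroup G, N ≤ H → N ≠ ⊥ → (∀ h ∈ H, ∀ n ∈ N, h * n * h⁻¹ ∈ N) → x ^ 2 ∈ N) :
    IsSimpleGroup G := by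
  have key : ∀ K : Subgroup G, K.Normal → K ⊓ H ≠ ⊥ → K = ⊤ := by
    intro K hK hKH
    have h1 : x ^ 2 ∈ K ⊓ H := hmin (K ⊓ H) inf_le_right hKH
      (fun u hu n hn => ⟨hK.conj_mem n hn.1 u, H.mul_mem (H.mul_mem hu hn.2) (H.inv_mem hu)⟩)
    have := hK
    exact eq_top_of_mem hgen h hT5 hxt hzt K h1.1
  have : Nontrivial G := by
    refine ⟨⟨x ^ 2, 1, hs1⟩⟩
  refine ⟨fun N hN => ?_⟩
  by_cases hNH : N ⊓ H = ⊥
  swap
  · exact Or.inr (key N hN hNH)
  left
  by_contra hne
  -- conjugation by the involution on `N`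
  have hfix : ∀ k ∈ N, x ^ 2 * k = k * x ^ 2 → k = 1 := by
    intro k hk hc
    have h1 : k ∈ H := hC (by
      rw [Subgroup.mem_centralizer_singleton_iff]
      exact hc.symm)
    have h2 : k ∈ N ⊓ H := ⟨hk, h1⟩
    rw [hNH] at h2
    exact Subgroup.mem_bot.1 h2
  have := hN
  let φ : N →* N := (MulAut.conjNormal (x ^ 2) : MulAut N).toMonoidHom
  have hφ : ∀ k : N, ((φ k : N) : G) = x ^ 2 * k * (x ^ 2)⁻¹ := fun k => rfl
  have hfp : MonoidHom.FixedPointFree φ := by
    intro k hk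
    have h1 := congrArg Subtype.val hk
    rw [hφ] at h1
    apply Subtype.ext
    exact hfix k k.2 (mul_inv_eq_iff_eq_mul.1 h1)
  have hinv : Function.Involutive φ := by
    intro k
    apply Subtype.ext
    rw [hφ, hφ]
    have e : x ^ 2 * (x ^ 2 * (k : G) * (x ^ 2)⁻¹) * (x ^ 2)⁻¹ = (x ^ 2) ^ 2 * k * ((x ^ 2) ^ 2)⁻¹ := by
      group
    rw [e, hs2]; simp
  have hcomm := hfp.commute_all_of_involutive hinv
  have hodd : Odd (Nat.card N) := hfp.odd_card_of_involutive hinv
  have hab : ∀ a ∈ N, ∀ b ∈ N, a * b = b * a := by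
    intro a ha b hb
    exact congrArg Subtype.val (hcomm ⟨a, ha⟩ ⟨b, hb⟩).eq
  -- the order of `N`
  have hdvd : Nat.card N ∣ 1539000 := by
    have h1 : Nat.card H ∣ Nat.card (G ⧸ N) := by
      let f : H →* G ⧸ N := (QuotientGroup.mk' N).comp H.subtype
      refine Subgroup.card_dvd_of_injective f ?_
      rw [injective_iff_map_eq_one]
      intro a ha
      have h2 : (a : G) ∈ N := (QuotientGroup.eq_one_iff (a : G)).1 ha
      have h3 : (a : G) ∈ N ⊓ H := ⟨h2, a.2⟩
      rw [hNH] at h3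
      exact Subtype.ext (Subgroup.mem_bot.1 h3)
    have h2 : Nat.card N * Nat.card (G ⧸ N) = Nat.card G := by
      rw [← Subgroup.index_eq_card]; exact Subgroup.card_mul_index N
    obtain ⟨c, hc⟩ := h1
    rw [hc, hcH, hcG] at h2
    refine ⟨c, ?_⟩
    have : 177408000 * (Nat.card N * c) = 177408000 * 1539000 := by
      rw [show 177408000 * 1539000 = 273030912000000 by norm_num, ← h2]; ring
    exact (Nat.eq_of_mul_eq_mul_left (by norm_num) this).symm
  have hN1 : Nat.card N ≠ 1 := fun h1 => hne (Subgroup.card_eq_one.1 h1)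
  obtain ⟨p, hp, hpd⟩ := Nat.exists_prime_and_dvd hN1
  have := Fact.mk hp
  let M := omegaP N hab p
  have hMn : M.Normal := omegaP_normal N hN hab p
  have hMN : M ≤ N := fun k hk => hk.1
  have hMne : M ≠ ⊥ := by
    obtain ⟨k, hk⟩ := exists_prime_orderOf_dvd_card' (G := N) p hpd
    intro h1
    have h2 : (k : G) ∈ M := ⟨k.2, by
      have := pow_orderOf_eq_one k
      rw [hk] at this
      exact congrArg Subtype.val this⟩
    rw [h1, Subgroup.mem_bot] at h2
    have h3 : k = 1 := Subtype.ext h2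
    rw [h3, orderOf_one] at hk
    exact hp.one_lt.ne hk
  have hMp : IsPGroup p M := by
    intro k
    exact ⟨1, Subtype.ext (by rw [pow_one]; exact k.2.2)⟩
  obtain ⟨n, hn⟩ := IsPGroup.iff_card.1 hMp
  have hMd : Nat.card M ∣ 1539000 := (Subgroup.card_dvd_of_le hMN).trans hdvd
  have hMcases : Nat.card M ∣ 81 ∨ Nat.card M ∣ 125 ∨ Nat.card M ∣ 19 := by
    have hp2 : p ≠ 2 := by
      rintro rfl
      exact (Nat.not_even_iff_odd.2 hodd) (even_iff_two_dvd.2 hpd)
    have hpf : p ∣ 2 ^ 3 * (3 ^ 4 * (5 ^ 3 * 19)) := by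
      have : (1539000 : ℕ) = 2 ^ 3 * (3 ^ 4 * (5 ^ 3 * 19)) := by norm_num
      rw [← this]; exact hpd.trans hdvd
    have hp' : p = 3 ∨ p = 5 ∨ p = 19 := by
      rcases (Nat.Prime.dvd_mul hp).1 hpf with h1 | h1
      · exact absurd ((Nat.prime_dvd_prime_iff_eq hp Nat.prime_two).1 (hp.dvd_of_dvd_pow h1)) hp2
      rcases (Nat.Prime.dvd_mul hp).1 h1 with h1 | h1
      · exact Or.inl ((Nat.prime_dvd_prime_iff_eq hp Nat.prime_three).1 (hp.dvd_of_dvd_pow h1))
      rcases (Nat.Prime.dvd_mul hp).1 h1 with h1 | h1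
      · exact Or.inr (Or.inl
          ((Nat.prime_dvd_prime_iff_eq hp Nat.prime_five).1 (hp.dvd_of_dvd_pow h1)))
      · exact Or.inr (Or.inr ((Nat.prime_dvd_prime_iff_eq hp (by norm_num)).1 h1))
    rw [hn] at hMd ⊢
    rcases hp' with rfl | rfl | rfl
    · left
      have h1 : n ≤ 4 := by
        by_contra hcon
        have h2 : 3 ^ 5 ∣ 1539000 := (pow_dvd_pow 3 (by omega)).trans hMd
        revert h2; norm_num
      have : (81 : ℕ) = 3 ^ 4 := by norm_num
      rw [this]; exact pow_dvd_pow 3 h1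
    · right; left
      have h1 : n ≤ 3 := by
        by_contra hcon
        have h2 : 5 ^ 4 ∣ 1539000 := (pow_dvd_pow 5 (by omega)).trans hMd
        revert h2; norm_num
      have : (125 : ℕ) = 5 ^ 3 := by norm_num
      rw [this]; exact pow_dvd_pow 5 h1
    · right; right
      have h1 : n ≤ 1 := by
        by_contra hcon
        have h2 : 19 ^ 2 ∣ 1539000 := (pow_dvd_pow 19 (by omega)).trans hMd
        revert h2; norm_num
      have : (19 : ℕ) = 19 ^ 1 := by norm_num
      rw [this]; exact pow_dvd_pow 19 h1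
  -- an element of order 11
  have : Fact (Nat.Prime 11) := ⟨by norm_num⟩
  obtain ⟨w, hw⟩ := exists_prime_orderOf_dvd_card' (G := H) 11 (by rw [hcH]; norm_num)
  have hw' : orderOf (w : G) = 11 := by rw [Subgroup.orderOf_coe]; exact hw
  have hcen := centralizes M (w : G) hw' hMcases
  have hCM : Subgroup.centralizer (M : Set G) = ⊤ := by
    refine key _ inferInstance ?_
    intro h1
    have h2 : (w : G) ∈ Subgroup.centralizer (M : Set G) ⊓ H :=
      ⟨Subgroup.mem_centralizer_iff.2 (fun m hm => (hcen m hm).symm), w.2⟩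
    rw [h1, Subgroup.mem_bot] at h2
    rw [h2, orderOf_one] at hw'
    omega
  apply hMne
  rw [Subgroup.eq_bot_iff_forall]
  intro k hk
  have h1 : x ^ 2 ∈ Subgroup.centralizer (M : Set G) := by rw [hCM]; trivial
  exact hfix k (hMN hk) ((Subgroup.mem_centralizer_iff.1 h1 k hk).symm)

end

end Cfsg.Agent.HN.SimpleAbs
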