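import Cfsg.Agent.HN.A12Group

/-!
Straight line programs and words in the presented Harada-Norton group: if two results of a program agree in the
133-dimensional representation and one of them expands to the trivial word `x x⁻¹`, the other one expands to a word
which is trivial in HN.
-/

set_option autoImplicit false

namespace Cfsg.Agent.HN.SlpWords

open Cfsg.Agent.Lib.PackMat Cfsg.Agent.Lib.PackMatGroup Cfsg.Agent.Lib.PackMatMul Cfsg.Agent.HN.RepData
open Cfsg.Agent.HN.Rep (L LG gens rho)

/-- Expand a straight line program into words. -/
def expand : List (ℕ × List ℕ) → List (List ℕ) → List (List ℕ)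
  | [], B => B
  | w :: ws, B => expand ws ((w.1 :: w.2).flatMap (fun i => B.getD i []) :: B)

section

variable {G : Type*} [Group G] (LG0 : List G)

theorem getD_map (B : List (List ℕ)) (i : ℕ) : (B.map (evG LG0)).getD i 1 = evG LG0 (B.getD i []) := by
  rw [List.getD_eq_getElem?_getD, List.getD_eq_getElem?_getD, List.getElem?_map]
  cases B[i]? with
  | none => rfl
  | some a => rfl

theorem evG_flatMap (B : List (List ℕ)) (w : List ℕ) :
    evG (B.map (evG LG0)) w = evG LG0 (w.flatMap fun i => B.getD i []) := by
  induction w with
  | nil => rfl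
  | cons i w ih => rw [evG_cons, ih, getD_map, List.flatMap_cons, evG_append]

theorem runG_expand (ws : List (ℕ × List ℕ)) (B : List (List ℕ)) :
    runG ws (B.map (evG LG0)) = (expand ws B).map (evG LG0) := by
  induction ws generalizing B with
  | nil => rfl
  | cons w ws ih =>
    rw [runG_cons, evG_flatMap, ← List.map_cons, ih]
    rfl

end

/-- The letters. -/
def base : List (List ℕ) := [[0], [1], [2], [3], [4], [5], [6], [7]]

theorem map_base : base.map (evG LG) = LG := by
  simp only [base, LG, List.map_cons, List.map_nil, evG_cons, evG_nil, List.getD_cons_zero, List.getD_cons_succ,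
    mul_one]

theorem eq_one [IsSimpleGroup Cfsg.Spor.HN] (ws : List (ℕ × List ℕ)) {es : List (ℕ × ℕ)}
    (hall : ∀ q ∈ es, (runG ws LG).getD q.1 1 = (runG ws LG).getD q.2 1) {q : ℕ × ℕ} (hq : q ∈ es) {w : List ℕ}
    (h : ((expand ws base).getD q.1 [] == w && (expand ws base).getD q.2 [] == [0, 1]) = true) :
    evG gens w = 1 := by
  apply A12Group.rho_injective
  rw [Rep.rho_word, map_one]
  rw [Bool.and_eq_true, beq_iff_eq, beq_iff_eq] at h
  have h1 := hall q hq
  have hr : runG ws LG = (expand ws base).map (evG LG) := by
    have := runG_expand LG ws base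
    rwa [map_base] at this
  rw [hr, getD_map, getD_map, h.1, h.2] at h1
  rw [h1]
  simp only [LG, evG_cons, evG_nil, List.getD_cons_zero, List.getD_cons_succ, mul_one]
  exact mul_inv_cancel _

end Cfsg.Agent.HN.SlpWords
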