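import Cfsg.Agent.HN.AutBound

set_option autoImplicit false

/-!
The graph `adjA` on 100 points is strongly regular with parameters (100, 22, 0, 6); Cauchy-type identities
for subsets.
-/

namespace Cfsg.Agent.HN.SrgHS

open Cfsg.Agent.SporadicA.PermTab Cfsg.Agent.HN.Pres Cfsg.Agent.HN.HS100 Equiv Finset

/-- the adjacency function (with values 0 and 1) -/
def ad (u v : Fin 100) : ℕ := bitM 100 adjA u v

def sumN (f : ℕ → ℕ) (n : ℕ) : ℕ := Nat.rec 0 (fun k ih => Nat.add (f k) ih) n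

theorem sumN_eq (f : ℕ → ℕ) (n : ℕ) : sumN f n = ∑ i ∈ range n, f i := by
  induction n with
  | zero => rfl
  | succ n ih =>
    change f n + sumN f n = _
    rw [sum_range_succ, ← ih, add_comm]

theorem ad_zero_or_one (u v : Fin 100) : ad u v = 0 ∨ ad u v = 1 := by
  rw [ad, bitM_eq]
  cases Nat.testBit adjA (100 * (u : ℕ) + v) <;> simp

theorem chkSym : allB (fun i => allB (fun j => Nat.beq (bitM 100 adjA i j) (bitM 100 adjA j i)) 100) 100
    = true := by decide +kernel

theorem ad_symm (u v : Fin 100) : ad u v = ad v u := by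
  have h := (allB_iff _ _).1 ((allB_iff _ _).1 chkSym u u.2) v v.2
  exact Nat.eq_of_beq_eq_true h

theorem chkIrr : allB (fun i => Nat.beq (bitM 100 adjA i i) 0) 100 = true := by decide +kernel

theorem ad_self (u : Fin 100) : ad u u = 0 :=
  Nat.eq_of_beq_eq_true ((allB_iff _ _).1 chkIrr u u.2)

theorem chkDeg : Nat.beq (sumN (fun w => bitM 100 adjA 0 w) 100) 22 = true := by decide +kernel

theorem chkSrg : allB (fun v => Nat.beq (Nat.add (sumN (fun w => Nat.mul (bitM 100 adjA 0 w) (bitM 100 adjA v w))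
    100) (Nat.mul 6 (bitM 100 adjA 0 v))) (cond (Nat.beq v 0) 22 6)) 100 = true := by decide +kernel

theorem ad_map {g : Perm (Fin 100)} (hg : g ∈ autG 100 adjA) (u v : Fin 100) :
    ad (g u) (g v) = ad u v := hg u v

theorem ad_map_Q {g : Perm (Fin 100)} (hg : g ∈ Q) (u v : Fin 100) : ad (g u) (g v) = ad u v :=
  ad_map (Q_le hg) u v

theorem exists_map (u v : Fin 100) : ∃ g ∈ Q, g u = v := by
  obtain ⟨⟨g, hg⟩, h⟩ := trans_Q.exists_smul_eq u v
  exact ⟨g, hg, h⟩

theorem deg (u : Fin 100) : ∑ w, ad u w = 22 := by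
  obtain ⟨g, hg, rfl⟩ := exists_map 0 u
  rw [← Equiv.sum_comp g]
  simp only [ad_map_Q hg]
  have h := Nat.eq_of_beq_eq_true chkDeg
  rw [sumN_eq, Finset.sum_range] at h
  exact h

theorem srg (u v : Fin 100) : ∑ w, ad u w * ad v w + 6 * ad u v = if v = u then 22 else 6 := by
  obtain ⟨g, hg, rfl⟩ := exists_map 0 u
  obtain ⟨v, rfl⟩ := g.surjective v
  rw [← Equiv.sum_comp g]
  simp only [ad_map_Q hg, EmbeddingLike.apply_eq_iff_eq]
  have h := Nat.eq_of_beq_eq_true ((allB_iff _ _).1 chkSrg v v.2)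
  rw [sumN_eq, Finset.sum_range] at h
  have h2 : (if v = 0 then 22 else 6 : ℕ) = cond (Nat.beq v 0) 22 6 := by
    by_cases hv : v = 0
    · subst hv; rfl
    · rw [if_neg hv]
      have : Nat.beq (v : ℕ) 0 = false := by
        rw [Bool.eq_false_iff]
        intro h3
        exact hv (Fin.ext (Nat.eq_of_beq_eq_true h3))
      rw [this]
      rfl
  rw [h2]
  exact h

/-- triangle-free -/
theorem no_triangle {u v w : Fin 100} (h1 : ad u v = 1) (h2 : ad u w = 1) (h3 : ad v w = 1) : False := by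
  have h := srg u v
  have hne : v ≠ u := by
    rintro rfl
    rw [ad_self] at h1
    exact absurd h1 (by decide)
  rw [if_neg hne, h1] at h
  have h4 : ∑ w, ad u w * ad v w = 0 := by omega
  rw [Finset.sum_eq_zero_iff] at h4
  have h5 := h4 w (mem_univ w)
  rw [h2, h3] at h5
  exact absurd h5 (by decide)

/-- the number of neighbours of `w` in `O` -/
def nb (O : Finset (Fin 100)) (w : Fin 100) : ℤ := ∑ v ∈ O, (ad w v : ℤ)

theorem sum_nb (O : Finset (Fin 100)) : ∑ w, nb O w = 22 * O.card := by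
  unfold nb
  rw [Finset.sum_comm]
  have : ∀ v ∈ O, ∑ w, (ad w v : ℤ) = 22 := by
    intro v _
    have h := deg v
    have h2 : ∑ w, ad w v = 22 := by
      rw [← h]
      exact Finset.sum_congr rfl fun w _ => ad_symm w v
    rw [← Nat.cast_sum, h2]
    rfl
  rw [Finset.sum_congr rfl this, Finset.sum_const, nsmul_eq_mul, mul_comm]

theorem sum_nb_sq (O : Finset (Fin 100)) :
    ∑ w, nb O w ^ 2 = 16 * O.card + 6 * O.card ^ 2 - 6 * ∑ u ∈ O, nb O u := by
  have h1 : ∀ w, nb O w ^ 2 = ∑ u ∈ O, ∑ v ∈ O, (ad w u : ℤ) * ad w v := by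
    intro w
    rw [sq, nb, Finset.sum_mul_sum]
  have h2 : ∀ u v : Fin 100, ∑ w, (ad w u : ℤ) * ad w v = (if v = u then 22 else 6) - 6 * (ad u v : ℤ) := by
    intro u v
    have h := srg u v
    have h3 : ∑ w, ad w u * ad w v = ∑ w, ad u w * ad v w :=
      Finset.sum_congr rfl fun w _ => by rw [ad_symm w u, ad_symm w v]
    have h4 : (∑ w, (ad w u : ℤ) * ad w v) = ((∑ w, ad w u * ad w v : ℕ) : ℤ) := by
      push_cast
      rfl
    rw [h4, h3]
    split_ifs with h5
    · rw [if_pos h5] at h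
      have : (((∑ w, ad u w * ad v w + 6 * ad u v : ℕ)) : ℤ) = 22 := by rw [h]; rfl
      push_cast at this ⊢
      linarith
    · rw [if_neg h5] at h
      have : (((∑ w, ad u w * ad v w + 6 * ad u v : ℕ)) : ℤ) = 6 := by rw [h]; rfl
      push_cast at this ⊢
      linarith
  simp only [h1]
  rw [Finset.sum_comm]
  have h3 : ∀ u ∈ O, ∑ w, ∑ v ∈ O, (ad w u : ℤ) * ad w v = 16 + 6 * O.card - 6 * nb O u := by
    intro u hu
    rw [Finset.sum_comm]
    simp only [h2]
    rw [Finset.sum_sub_distrib, ← Finset.mul_sum]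
    have h4 : ∑ v ∈ O, (if v = u then (22 : ℤ) else 6) = 16 + 6 * O.card := by
      have h5 : ∀ v ∈ O, (if v = u then (22 : ℤ) else 6) = (if v = u then (16 : ℤ) else 0) + 6 := by
        intro v _
        split_ifs <;> rfl
      rw [Finset.sum_congr rfl h5, Finset.sum_add_distrib, Finset.sum_ite_eq' O u (fun _ => (16 : ℤ)),
        if_pos hu, Finset.sum_const, nsmul_eq_mul, mul_comm]
    rw [h4]
    rfl
  rw [Finset.sum_congr rfl h3, Finset.sum_sub_distrib, Finset.sum_const, nsmul_eq_mul, ← Finset.mul_sum]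
  ring

end Cfsg.Agent.HN.SrgHS
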