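import Cfsg.Agent.HN.StepD8Words
import Cfsg.Agent.HN.StepDFinal
import Cfsg.Agent.HN.Loc8Cent

set_option autoImplicit false

/-!
Step (D), version for `V × S₈`: a homomorphism from the presented Harada–Norton group.
-/

namespace Cfsg.Agent.HN.StepD8Final

open Cfsg Cfsg.Spor Cfsg.Agent.HN.Pres Cfsg.Agent.HN.Local Cfsg.Agent.HN.LocalCent
open Cfsg.Agent.HN.StepDGlue Cfsg.Agent.HN.P1408 Cfsg.Agent.HN.StepDWords
open Cfsg.Agent.HN.Loc8 Cfsg.Agent.HN.Loc8Main Cfsg.Agent.HN.Loc8Cent Cfsg.Agent.HN.StepDFinal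
open Cfsg.Agent.HN.LocalA12 (seq)
open Cfsg.Agent.Lib.AltCarmichael
open Equiv

variable {G : Type*} [Group G]

/-- Two commuting involutions. -/
structure CentFour (u v : G) : Prop where
  hu : u * u = 1
  hv : v * v = 1
  comm : u * v = v * u
  u1 : u ≠ 1
  v1 : v ≠ 1
  ne : u ≠ v

namespace CentFour

variable {u v : G} (C : CentFour u v)
include C

theorem uv_ne : u * v ≠ 1 := fun h => C.ne (by
  rw [mul_eq_one_iff_eq_inv] at h
  rw [h, inv_eq_iff_mul_eq_one, C.hv])

/-- The four-group as a subgroup. -/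
def V : Subgroup G where
  carrier := four u v
  one_mem' := Or.inl rfl
  mul_mem' := by
    intro k k' hk hk'
    have hu := C.hu
    have hv := C.hv
    have hc := C.comm
    rcases hk with rfl | rfl | rfl | rfl <;> rcases hk' with rfl | rfl | rfl | rfl
    · left; simp
    · right; left; simp
    · right; right; left; simp
    · right; right; right; simp
    · right; left; simp
    · left; exact hu
    · right; right; right; rfl
    · right; right; left; rw [← mul_assoc, hu, one_mul]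
    · right; right; left; simp
    · right; right; right; exact hc.symm
    · left; exact hv
    · right; left; rw [hc, ← mul_assoc, hv, one_mul]
    · right; right; right; simp
    · right; right; left; rw [hc, mul_assoc, hu, mul_one]
    · right; left; rw [mul_assoc, hv, mul_one]
    · left
      calc u * v * (u * v) = u * (v * u) * v := by group
        _ = u * (u * v) * v := by rw [hc]
        _ = (u * u) * (v * v) := by group
        _ = 1 := by rw [hu, hv, mul_one]
  inv_mem' := by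
    intro k hk
    have hu := C.hu
    have hv := C.hv
    have hc := C.comm
    rcases hk with rfl | rfl | rfl | rfl
    · left; simp
    · right; left; exact inv_eq_of_mul_eq_one_left hu
    · right; right; left; exact inv_eq_of_mul_eq_one_left hv
    · right; right; right
      rw [mul_inv_rev, inv_eq_of_mul_eq_one_left hu, inv_eq_of_mul_eq_one_left hv, hc]

theorem card_V : Nat.card C.V = 4 := by
  have h1 : ((C.V : Subgroup G) : Set G) = {1, u, v, u * v} := by
    ext g
    show g ∈ four u v ↔ _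
    simp [four]
  have h2 : Nat.card C.V = ({1, u, v, u * v} : Set G).ncard := by
    rw [← h1]; rfl
  rw [h2]
  have n1 : v ∉ ({u * v} : Set G) := by
    intro h
    exact C.u1 (right_eq_mul.mp h)
  have n2 : u ∉ ({v, u * v} : Set G) := by
    rintro (h | h)
    · exact C.ne h
    · exact C.v1 (left_eq_mul.mp h)
  have n3 : (1 : G) ∉ ({u, v, u * v} : Set G) := by
    rintro (h | h | h)
    · exact C.u1 h.symm
    · exact C.v1 h.symm
    · exact C.uv_ne h.symm
  rw [Set.ncard_insert_of_notMem n3, Set.ncard_insert_of_notMem n2, Set.ncard_insert_of_notMem n1,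
    Set.ncard_singleton]

end CentFour

theorem exists_t [Finite G] {ι : A8 →* G} {X Y Z : G} (hR : Rels X Y Z) (hX : X * X ≠ 1) {x y r : G}
    {E : Subgroup G} (O : OutW (X * X) Z ι x y) (Tw : Twist (X * X) Z ι r E)
    (e1 : ι p1 = ev X Y Z wa1) (e2 : ι p2 = ev X Y Z wa2) (e3 : ι p3 = ev X Y Z wa3)
    (e4 : ι p4 = ev X Y Z wg) :
    ∃ t ∈ gen 3 (seq ι (X * X) x y [7]), t ≠ 1 ∧ t * t * t * t * t = 1 ∧ t * Y = Y * t ∧ X⁻¹ * t * X * (t * t) = 1 ∧
      Z * t * (Z * t) * (Z * t) = 1 ∧ X * X * t * (X * X) * t = 1 := by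
  have hD7 : gen 3 (seq ι (X * X) x y [7]) ≤ cen ι LocalCent.S7 := gen_le_cen O [7] LocalCent.S7 (by
    intro s hs i hi
    rw [List.mem_singleton] at hi
    rw [hi]; exact hs)
  obtain ⟨t, ht, h⟩ := StepD8Words.exists_t hR hX (D := gen 3 (seq ι (X * X) x y [7]))
    (K := gen 4 (seq ι (X * X) x y [6, 7]))
    (nonempty_gen_equiv (m := 3) (by norm_num) (Loc8A12.rel_seq O [7] (by simp))
      ⟨0, by norm_num, Loc8A12.x_ne_one O⟩)
    (nonempty_gen_equiv (m := 4) (by norm_num) (Loc8A12.rel_seq O [6, 7] (by decide))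
      ⟨0, by norm_num, Loc8A12.x_ne_one O⟩)
    (by rw [StepDGlue.cen7 e1 e2 e3]; exact hD7)
    (fun d hd h5 => by
      rw [StepDGlue.cen7 e1 e2 e3] at hd
      exact cen7_odd O Tw hd (n := 5) (by decide) h5)
    (fun H h => gen_le_of_cube O [7] h)
    (fun d hd h3 => by
      rw [StepDGlue.cen6 e1 e2] at hd
      exact cen6_odd O Tw hd (n := 3) (by decide) h3)
    (t_mem_gen O [7]) (z_mem_gen O [7]) ⟨x⁻¹, Subgroup.inv_mem _ (x_mem_gen [7]), by
      rw [← e4]
      exact (O.cx p4).inv_left.eq.symm, by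
      rw [inv_inv]
      exact O.xu⟩
  exact ⟨t, ht, h⟩

/-- A subgroup of a group isomorphic to `A₅` containing a four-group and an element of order five is everything. -/
theorem le_of_A5 [Finite G] {D H : Subgroup G} (hD : Nonempty (D ≃* alternatingGroup (Fin 5))) {u v t : G}
    (hu : u ∈ D) (hv : v ∈ D) (ht : t ∈ D) (hu' : u ∈ H) (hv' : v ∈ H) (ht' : t ∈ H) (hu2 : u * u = 1)
    (hv2 : v * v = 1) (huv : u * v = v * u) (u1 : u ≠ 1) (v1 : v ≠ 1) (ne : u ≠ v) (t1 : t ≠ 1) (t5 : t ^ 5 = 1) :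
    D ≤ H := by
  classical
  obtain ⟨e⟩ := hD
  have hcard : Nat.card D = 60 := StepD.card_A5 ⟨e⟩
  have hsimp : IsSimpleGroup (alternatingGroup (Fin 5)) := inferInstance
  have hDs : IsSimpleGroup D := e.isSimpleGroup
  set Q : Subgroup D := H.subgroupOf D with hQ
  -- the four-group
  let C : CentFour u v := ⟨hu2, hv2, huv, u1, v1, ne⟩
  have h4 : 4 ∣ Nat.card Q := by
    have h1 : Nat.card (C.V) = 4 := C.card_V
    have h2 : C.V ≤ D ⊓ H := by
      intro g hg
      rcases (hg : g ∈ four u v) with rfl | rfl | rfl | rfl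
      · exact one_mem _
      · exact ⟨hu, hu'⟩
      · exact ⟨hv, hv'⟩
      · exact ⟨D.mul_mem hu hv, H.mul_mem hu' hv'⟩
    have h3 : Nat.card (C.V.subgroupOf D) = 4 := by
      rw [Nat.card_congr (Subgroup.subgroupOfEquivOfLe (h2.trans inf_le_left)).toEquiv, h1]
    rw [← h3]
    exact Subgroup.card_dvd_of_le (fun g hg => (h2 hg).2)
  have h5 : 5 ∣ Nat.card Q := by
    have h1 : orderOf (⟨⟨t, ht⟩, ht'⟩ : Q) = 5 := by
      refine orderOf_eq_prime (hp := ⟨by norm_num⟩) (Subtype.ext (Subtype.ext t5)) ?_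
      intro h
      exact t1 (congrArg (fun q : Q => ((q : D) : G)) h)
    rw [← h1]
    exact orderOf_dvd_natCard _
  have h20 : 20 ∣ Nat.card Q := by
    have := Nat.Coprime.mul_dvd_of_dvd_of_dvd (by norm_num : Nat.Coprime 4 5) h4 h5
    simpa using this
  have hdvd : Nat.card Q ∣ 60 := by rw [← hcard]; exact Subgroup.card_subgroup_dvd_card Q
  have hidx : Q.index ≤ 3 := by
    have h1 := Q.card_mul_index
    rw [hcard] at h1
    obtain ⟨k, hk⟩ := h20
    rw [hk] at h1
    have : k * Q.index = 3 := by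
      have : 20 * (k * Q.index) = 20 * 3 := by rw [← mul_assoc, h1]
      exact Nat.eq_of_mul_eq_mul_left (by norm_num) this
    exact Nat.le_of_dvd (by norm_num) ⟨k, by rw [mul_comm]; exact this.symm⟩
  have hker := (MulAction.toPermHom D (D ⧸ Q)).normal_ker.eq_bot_or_eq_top
  rcases hker with h | h
  · exfalso
    have hinj : Function.Injective (MulAction.toPermHom D (D ⧸ Q)) := (MonoidHom.ker_eq_bot_iff _).1 h
    have h1 := Nat.card_le_card_of_injective _ hinj
    rw [hcard, Nat.card_perm] at h1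
    have h2 : Nat.card (D ⧸ Q) ≤ 3 := hidx
    have h3 := Nat.factorial_le h2
    have h4 : (3 : ℕ).factorial = 6 := rfl
    omega
  · intro d hd
    have h1 : (⟨d, hd⟩ : D) ∈ (MulAction.toPermHom D (D ⧸ Q)).ker := by rw [h]; exact Subgroup.mem_top _
    rw [MonoidHom.mem_ker] at h1
    have h2 : (⟨d, hd⟩ : D) • ((1 : D) : D ⧸ Q) = ((1 : D) : D ⧸ Q) :=
      congrArg (fun σ : Perm (D ⧸ Q) => σ ((1 : D) : D ⧸ Q)) h1
    have h3 : (((⟨d, hd⟩ : D) * 1 : D) : D ⧸ Q) = ((1 : D) : D ⧸ Q) := h2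
    rw [eq_comm, QuotientGroup.eq, inv_one, one_mul, mul_one] at h3
    exact h3

/-- **Step (D).** -/
theorem exists_HN [Finite G] [IsSimpleGroup Spor.HN] {ι : A8 →* G} {X Y Z : G} (hR : Rels X Y Z)
    (hX : X * X ≠ 1) {x y r : G} {E : Subgroup G} (O : OutW (X * X) Z ι x y) (Tw : Twist (X * X) Z ι r E)
    (e1 : ι p1 = ev X Y Z wa1) (e2 : ι p2 = ev X Y Z wa2) (e3 : ι p3 = ev X Y Z wa3)
    (e4 : ι p4 = ev X Y Z wg) (hrX : r * X = X * r) (hrY : r * Y = Y * r) :
    ∃ θ : Spor.HN →* G, Function.Injective θ ∧ θ hx = X ∧ θ hy = Y ∧ θ hz = Z ∧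
      ∀ g ∈ θ.range, r * g * r⁻¹ ∈ θ.range := by
  obtain ⟨t, tD, t1, t5, ty, tx, tz, tt⟩ := exists_t hR hX O Tw e1 e2 e3 e4
  have a5 : t ^ 5 = 1 := by
    rw [← t5]
    simp only [pow_succ, pow_zero, one_mul]
  have ax : (X⁻¹ * t * X) * (t ^ 2) = 1 := by
    rw [pow_two]
    exact tx
  have ay : t⁻¹ * Y⁻¹ * t * Y = 1 := by
    calc t⁻¹ * Y⁻¹ * t * Y = t⁻¹ * Y⁻¹ * (t * Y) := by group
      _ = t⁻¹ * Y⁻¹ * (Y * t) := by rw [ty]
      _ = 1 := by group
  have az : (Z * t) ^ 3 = 1 := by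
    rw [← tz]
    simp only [pow_succ, pow_zero, one_mul]
  let θ := liftHN hR a5 ax ay az
  have θx : θ hx = X := PresentedGroup.toGroup.of _
  have θy : θ hy = Y := PresentedGroup.toGroup.of _
  have θz : θ hz = Z := PresentedGroup.toGroup.of _
  have θt : θ ht = t := PresentedGroup.toGroup.of _
  refine ⟨θ, injective_of_simple θ (g := hx * hx) ?_, θx, θy, θz, ?_⟩
  · rw [map_mul, θx]
    exact hX
  · have mX : X ∈ θ.range := ⟨hx, θx⟩
    have mY : Y ∈ θ.range := ⟨hy, θy⟩
    have mZ : Z ∈ θ.range := ⟨hz, θz⟩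
    have mt : t ∈ θ.range := ⟨ht, θt⟩
    have hD : gen 3 (seq ι (X * X) x y [7]) ≤ θ.range :=
      le_of_A5 (nonempty_gen_equiv (m := 3) (by norm_num) (Loc8A12.rel_seq O [7] (by simp))
        ⟨0, by norm_num, Loc8A12.x_ne_one O⟩) (t_mem_gen O [7]) (z_mem_gen O [7]) tD
        (θ.range.mul_mem mX mX) mZ mt O.hu O.hv O.comm O.u1 O.v1 O.ne t1 a5
    have hrt : r * t * r⁻¹ ∈ θ.range := by
      apply hD
      have hD7 : gen 3 (seq ι (X * X) x y [7]) ≤ cen ι LocalCent.S7 := gen_le_cen O [7] LocalCent.S7 (by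
        intro s hs i hi
        rw [List.mem_singleton] at hi
        rw [hi]; exact hs)
      have hr7 : r ∈ cen ι LocalCent.S7 := by rw [mem_cen]; exact fun s _ => Tw.rι s
      refine cen7_odd O Tw (n := 5) ((cen ι LocalCent.S7).mul_mem ((cen ι LocalCent.S7).mul_mem hr7 (hD7 tD))
        ((cen ι LocalCent.S7).inv_mem hr7)) (by decide) ?_
      rw [conj_pow, a5]
      group
    have hle : θ.range ≤ θ.range.comap (MulAut.conj r).toMonoidHom := by
      have h1 : (⊤ : Subgroup Spor.HN) = Subgroup.closure (Set.range PresentedGroup.of) :=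
        (PresentedGroup.closure_range_of _).symm
      rw [MonoidHom.range_eq_map, h1, MonoidHom.map_closure, Subgroup.closure_le]
      rintro _ ⟨_, ⟨i, rfl⟩, rfl⟩
      rw [← MonoidHom.map_closure, ← h1, ← MonoidHom.range_eq_map]
      show r * θ (PresentedGroup.of i) * r⁻¹ ∈ θ.range
      cases i
      · have : r * θ hx * r⁻¹ ∈ θ.range := by
          rw [θx, hrX, mul_inv_cancel_right]; exact mX
        exact this
      · have : r * θ hy * r⁻¹ ∈ θ.range := by
          rw [θy, hrY, mul_inv_cancel_right]; exact mY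
        exact this
      · have : r * θ hz * r⁻¹ ∈ θ.range := by
          rw [θz, Tw.rz]; exact θ.range.mul_mem (θ.range.mul_mem mX mX) mZ
        exact this
      · have : r * θ ht * r⁻¹ ∈ θ.range := by
          rw [θt]; exact hrt
        exact this
    intro g hg
    exact hle hg

end Cfsg.Agent.HN.StepD8Final
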