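import Cfsg.Agent.HN.StepDWords
import Cfsg.Agent.HN.StepD8

set_option autoImplicit false

/-!
Step (D), version with subgroups `D ≅ A₅`, `K ≅ A₆`, for three elements `X, Y, Z` satisfying the ten relations
of `2.HS:2`.
-/

namespace Cfsg.Agent.HN.StepD8Words

open Equiv Cfsg.Agent.HN.WordEq Cfsg.Agent.HN.P1408 Cfsg.Agent.HN.Pres Cfsg.Agent.HN.StepDWords

section

variable {G : Type*} [Group G] {X Y Z : G} (hR : Rels X Y Z)

include hR

theorem exists_t [Finite G] (hX : X * X ≠ 1)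
    {D K : Subgroup G}
    (hD : Nonempty (D ≃* alternatingGroup (Fin 5)))
    (hK : Nonempty (K ≃* alternatingGroup (Fin 6)))
    (hDc : D ≤ Subgroup.centralizer (S7 X Y Z))
    (h5D : ∀ d ∈ Subgroup.centralizer (S7 X Y Z), d ^ 5 = 1 → d ∈ D)
    (h3D : ∀ H : Subgroup G, (∀ d ∈ D, d ^ 3 = 1 → d ∈ H) → D ≤ H)
    (h3K : ∀ d ∈ Subgroup.centralizer (S6 X Y Z), d ^ 3 = 1 → d ∈ K)
    (hτD : X * X ∈ D) (hzD : Z ∈ D)
    (hr : ∃ r ∈ D, ev X Y Z wg * r = r * ev X Y Z wg ∧ r⁻¹ * (X * X) * r = Z) :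
    ∃ t : G, t ∈ D ∧ t ≠ 1 ∧ t * t * t * t * t = 1 ∧ t * Y = Y * t ∧ X⁻¹ * t * X * (t * t) = 1 ∧
      Z * t * (Z * t) * (Z * t) = 1 ∧ X * X * t * (X * X) * t = 1 := by
  have z2 := hR.r7
  have hu : ev X Y Z wu = (ev X Y Z wc)⁻¹ * Z * ev X Y Z wc := by
    rw [← ev_iw z2]
    have : wu = iw wc ++ [4] ++ wc := rfl
    rw [this, ev_append, ev_append, ev_cons, ev_nil, mul_one]
    rfl
  have hg : ev X Y Z wg = X⁻¹ * ev X Y Z wu * Z := by
    have : wg = [1] ++ wu ++ [4] := rfl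
    rw [this, ev_append, ev_append, ev_cons, ev_nil, ev_cons, ev_nil, mul_one, mul_one]
    rfl
  have e1 := ev_eq hR (a := wu ++ [4] ++ (wu ++ [4])) (b := [0, 0]) (by decide +kernel)
  have e2 := ev_eq hR (a := wc ++ wa1 ++ iw wc) (b := wa1 ++ iw wa3 ++ iw wa3 ++ wa1)
    (by decide +kernel)
  have e3 := ev_eq hR (a := wc ++ wa2 ++ iw wc) (b := wa2) (by decide +kernel)
  have e4 := ev_eq hR (a := [2]) (b := wa1 ++ (iw wc ++ wa1 ++ wc) ++ iw wa3 ++
    iw (iw wc ++ wa3 ++ wc) ++ wa3 ++ (iw wc ++ wa1 ++ wc) ++ iw (iw wc ++ wa3 ++ wc))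
    (by decide +kernel)
  have e5 := ev_eq hR (a := [1, 2, 0]) (b := iw wa1 ++ wa3 ++ iw wa1 ++
    iw (iw wc ++ wa3 ++ wc) ++ iw wa3 ++ iw (iw wc ++ wa3 ++ wc) ++ wa2 ++ wa3)
    (by decide +kernel)
  simp only [ev_append, ev_iw z2] at e2 e3 e4 e5
  simp only [ev_append] at e1
  have l4 : ev X Y Z [4] = Z := mul_one _
  have l2 : ev X Y Z [2] = Y := mul_one _
  have l00 : ev X Y Z [0, 0] = X * X := by simp only [ev, letG, mul_one]
  have l120 : ev X Y Z [1, 2, 0] = X⁻¹ * Y * X := by simp only [ev, letG, mul_one, mul_assoc]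
  rw [l4, l00] at e1
  rw [l2] at e4
  rw [l120] at e5
  have memD : ∀ d ∈ D, ev X Y Z wa1 * d = d * ev X Y Z wa1 ∧ ev X Y Z wa2 * d = d * ev X Y Z wa2 ∧
      ev X Y Z wa3 * d = d * ev X Y Z wa3 := by
    intro d hd
    have h := hDc hd
    rw [Subgroup.mem_centralizer_iff] at h
    exact ⟨h _ (by simp [S7]), h _ (by simp [S7]), h _ (by simp [S7])⟩
  have hca1 : ev X Y Z wc * ev X Y Z wa1 * (ev X Y Z wc)⁻¹ ∈ Subgroup.closure
      ({ev X Y Z wa1, ev X Y Z wa2, ev X Y Z wa3} : Set G) := by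
    rw [e2]
    have h1 : ev X Y Z wa1 ∈ Subgroup.closure
        ({ev X Y Z wa1, ev X Y Z wa2, ev X Y Z wa3} : Set G) := Subgroup.subset_closure (by simp)
    have h3 : ev X Y Z wa3 ∈ Subgroup.closure
        ({ev X Y Z wa1, ev X Y Z wa2, ev X Y Z wa3} : Set G) := Subgroup.subset_closure (by simp)
    exact Subgroup.mul_mem _ (Subgroup.mul_mem _ (Subgroup.mul_mem _ h1 (Subgroup.inv_mem _ h3))
      (Subgroup.inv_mem _ h3)) h1
  have hca2 : ev X Y Z wc * ev X Y Z wa2 * (ev X Y Z wc)⁻¹ ∈ Subgroup.closure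
      ({ev X Y Z wa1, ev X Y Z wa2, ev X Y Z wa3} : Set G) := by
    rw [e3]
    exact Subgroup.subset_closure (by simp)
  have hcomm : ∀ s ∈ Subgroup.closure ({ev X Y Z wa1, ev X Y Z wa2, ev X Y Z wa3} : Set G), ∀ d ∈ D,
      s * d = d * s := by
    intro s hs d hd
    have h1 : D ≤ Subgroup.centralizer (Subgroup.closure
        ({ev X Y Z wa1, ev X Y Z wa2, ev X Y Z wa3} : Set G) : Set G) := by
      rw [Subgroup.centralizer_closure]
      exact hDc
    have h2 := h1 hd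
    rw [Subgroup.mem_centralizer_iff] at h2
    exact h2 s hs
  have hDK : D ≤ K := by
    apply h3D
    intro d hd hd3
    apply h3K _ _ hd3
    have h := memD d hd
    rw [Subgroup.mem_centralizer_iff]
    intro a ha
    simp only [S6, Set.mem_insert_iff, Set.mem_singleton_iff] at ha
    rcases ha with rfl | rfl
    · exact h.1
    · exact h.2.1
  have hcDK : ∀ d ∈ D, (ev X Y Z wc)⁻¹ * d * ev X Y Z wc ∈ K := by
    have h1 : D ≤ K.comap (MulAut.conj (ev X Y Z wc)⁻¹).toMonoidHom := by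
      apply h3D
      intro d hd hd3
      show (ev X Y Z wc)⁻¹ * d * (ev X Y Z wc)⁻¹⁻¹ ∈ K
      rw [inv_inv]
      apply h3K
      · rw [Subgroup.mem_centralizer_iff]
        intro a ha
        have key : ∀ b : G, ev X Y Z wc * b * (ev X Y Z wc)⁻¹ ∈ Subgroup.closure
            ({ev X Y Z wa1, ev X Y Z wa2, ev X Y Z wa3} : Set G) →
            b * ((ev X Y Z wc)⁻¹ * d * ev X Y Z wc) = ((ev X Y Z wc)⁻¹ * d * ev X Y Z wc) * b := by
          intro b hb
          have h2 := hcomm _ hb d hd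
          calc b * ((ev X Y Z wc)⁻¹ * d * ev X Y Z wc) = (ev X Y Z wc)⁻¹ *
                ((ev X Y Z wc * b * (ev X Y Z wc)⁻¹) * d) * ev X Y Z wc := by group
            _ = (ev X Y Z wc)⁻¹ * (d * (ev X Y Z wc * b * (ev X Y Z wc)⁻¹)) * ev X Y Z wc := by rw [h2]
            _ = _ := by group
        simp only [S6, Set.mem_insert_iff, Set.mem_singleton_iff] at ha
        rcases ha with rfl | rfl
        · exact key _ hca1
        · exact key _ hca2
      · have h2 : ((ev X Y Z wc)⁻¹ * d * ev X Y Z wc) ^ 3 = (ev X Y Z wc)⁻¹ * d ^ 3 * ev X Y Z wc := by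
          simp only [pow_succ, pow_zero, one_mul]
          group
        rw [h2, hd3]
        group
    intro d hd
    have h2 := h1 hd
    have h3 : (ev X Y Z wc)⁻¹ * d * (ev X Y Z wc)⁻¹⁻¹ ∈ K := h2
    rwa [inv_inv] at h3
  refine StepD8.exists_t (x := X) (y := Y) (z := Z) (c := ev X Y Z wc) (u := ev X Y Z wu)
    (g := ev X Y Z wg) (a1 := ev X Y Z wa1) (a2 := ev X Y Z wa2) (a3 := ev X Y Z wa3) rfl ?_ hX
    (zz hR) (z_ne_one hR hX) (z_ne_τ hR hX) ?_ (τ_comm hR (by decide +kernel))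
    (τ_comm hR (by decide +kernel)) (τ_comm hR (by decide +kernel)) (τ_comm hR (by decide +kernel))
    (z_comm hR (by decide +kernel)) (z_comm hR (by decide +kernel)) (z_comm hR (by decide +kernel))
    hu e1 hg (z_comm hR (by decide +kernel)) ?_ ?_ ?_ ?_ (ev_mem_U hR (by decide +kernel))
    (ev_mem_U hR (by decide +kernel)) (ev_mem_U hR (by decide +kernel))
    (ev_mem_U hR (by decide +kernel)) ?_ hD hK memD ?_ hDK hcDK hτD hzD hr
  · have h := ev_eq hR (a := [0, 0, 0, 0]) (b := []) (by decide +kernel)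
    simp only [ev, letG, mul_one] at h
    rw [← h]
    simp only [mul_assoc]
  · have h := τ_comm hR (w := [4]) (by decide +kernel)
    rw [l4] at h
    exact h
  · exact hca1
  · exact hca2
  · set S : Set G := {ev X Y Z wa1, ev X Y Z wa2, ev X Y Z wa3,
      (ev X Y Z wc)⁻¹ * ev X Y Z wa1 * ev X Y Z wc, (ev X Y Z wc)⁻¹ * ev X Y Z wa2 * ev X Y Z wc,
      (ev X Y Z wc)⁻¹ * ev X Y Z wa3 * ev X Y Z wc} with hS
    have h1 : ev X Y Z wa1 ∈ Subgroup.closure S := Subgroup.subset_closure (by simp [hS])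
    have h3 : ev X Y Z wa3 ∈ Subgroup.closure S := Subgroup.subset_closure (by simp [hS])
    have k1 : (ev X Y Z wc)⁻¹ * ev X Y Z wa1 * ev X Y Z wc ∈ Subgroup.closure S :=
      Subgroup.subset_closure (by simp [hS])
    have k3 : (ev X Y Z wc)⁻¹ * ev X Y Z wa3 * ev X Y Z wc ∈ Subgroup.closure S :=
      Subgroup.subset_closure (by simp [hS])
    rw [e4]
    exact Subgroup.mul_mem _ (Subgroup.mul_mem _ (Subgroup.mul_mem _ (Subgroup.mul_mem _
      (Subgroup.mul_mem _ (Subgroup.mul_mem _ h1 k1) (Subgroup.inv_mem _ h3))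
      (Subgroup.inv_mem _ k3)) h3) k1) (Subgroup.inv_mem _ k3)
  · set S : Set G := {ev X Y Z wa1, ev X Y Z wa2, ev X Y Z wa3,
      (ev X Y Z wc)⁻¹ * ev X Y Z wa1 * ev X Y Z wc, (ev X Y Z wc)⁻¹ * ev X Y Z wa2 * ev X Y Z wc,
      (ev X Y Z wc)⁻¹ * ev X Y Z wa3 * ev X Y Z wc} with hS
    have h1 : ev X Y Z wa1 ∈ Subgroup.closure S := Subgroup.subset_closure (by simp [hS])
    have h2 : ev X Y Z wa2 ∈ Subgroup.closure S := Subgroup.subset_closure (by simp [hS])
    have h3 : ev X Y Z wa3 ∈ Subgroup.closure S := Subgroup.subset_closure (by simp [hS])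
    have k3 : (ev X Y Z wc)⁻¹ * ev X Y Z wa3 * ev X Y Z wc ∈ Subgroup.closure S :=
      Subgroup.subset_closure (by simp [hS])
    rw [e5]
    exact Subgroup.mul_mem _ (Subgroup.mul_mem _ (Subgroup.mul_mem _ (Subgroup.mul_mem _
      (Subgroup.mul_mem _ (Subgroup.mul_mem _ (Subgroup.mul_mem _ (Subgroup.inv_mem _ h1) h3)
      (Subgroup.inv_mem _ h1)) (Subgroup.inv_mem _ k3)) (Subgroup.inv_mem _ h3))
      (Subgroup.inv_mem _ k3)) h2) h3
  · have h := τ_comm hR (w := [2]) (by decide +kernel)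
    rw [l2] at h
    exact h
  · intro d h1 h2 h3 h5
    apply h5D
    · rw [Subgroup.mem_centralizer_iff]
      intro a ha
      simp only [S7, Set.mem_insert_iff, Set.mem_singleton_iff] at ha
      rcases ha with rfl | rfl | rfl
      · exact h1
      · exact h2
      · exact h3
    · rw [← h5]
      simp only [pow_succ, pow_zero, one_mul]

end

end Cfsg.Agent.HN.StepD8Words
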