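import Cfsg.Agent.HN.StepDWords
import Cfsg.Agent.HN.LocalCent
import Cfsg.Agent.HN.S8Gen

set_option autoImplicit false

/-!
Glue between the local argument (C) and step (D): from `Out τ z ι x y` and the values of `ι` on four
permutations to the element `t` of order five satisfying the relations of `HN`.
-/

namespace Cfsg.Agent.HN.StepDGlue

open Equiv Equiv.Perm Cfsg.Agent.HN.Local Cfsg.Agent.HN.LocalCent Cfsg.Agent.HN.LocalMain
open Cfsg.Agent.HN.S8Gen Cfsg.Agent.HN.StepDWords Cfsg.Agent.HN.P1408 Cfsg.Agent.HN.Pres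
open Cfsg.Agent.HN.S8Aut (c3 c3_def conj_c3 c3_isThreeCycle exists_c3)

/-- `(1 5 4 3 2)` -/
def p1 : A8 := mk (swap 1 5 * swap 5 4 * (swap 4 3 * swap 3 2)) (by decide)
/-- `(0 2)(1 4)` -/
def p2 : A8 := mk (swap 0 2 * swap 1 4) (by decide)
/-- `(0 6)(1 2)(3 4 5)` -/
def p3 : A8 := mk (swap 0 6 * swap 1 2 * (swap 3 4 * swap 4 5)) (by decide)
/-- `(1 2)(6 7)` -/
def p4 : A8 := mk (swap 1 2 * swap 6 7) (by decide)

theorem gen7 {K : Subgroup A8} (h1 : p1 ∈ K) (h2 : p2 ∈ K) (h3 : p3 ∈ K) {s : A8}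
    (h7 : (s : Perm (Fin 8)) 7 = 7) : s ∈ K := by
  refine mem_of_gens_alt ?_ ?_ ?_ ?_ ?_ h7
  · have e : a22 0 1 2 3 = p3 * p2 * p3⁻¹ * p1 * p2 * p3 := by decide +kernel
    rw [e]
    exact mul_mem (mul_mem (mul_mem (mul_mem (mul_mem h3 h2) (inv_mem h3)) h1) h2) h3
  · have e : a22 0 2 1 3 = p3 * p3 * p2 * p3⁻¹ * p3⁻¹ := by decide +kernel
    rw [e]
    exact mul_mem (mul_mem (mul_mem (mul_mem h3 h3) h2) (inv_mem h3)) (inv_mem h3)
  · have e : a3 0 1 2 = p3 * p1⁻¹ * p3 * p2 := by decide +kernel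
    rw [e]
    exact mul_mem (mul_mem (mul_mem h3 (inv_mem h1)) h3) h2
  · have e : a3 4 5 6 = p1 * p1 * p3⁻¹ * p2 * p1 * p3 := by decide +kernel
    rw [e]
    exact mul_mem (mul_mem (mul_mem (mul_mem (mul_mem h1 h1) (inv_mem h3)) h2) h1) h3
  · have e : a33 = p2 * p3 * p3 * p3 * p1⁻¹ * p3 := by decide +kernel
    rw [e]
    exact mul_mem (mul_mem (mul_mem (mul_mem (mul_mem h2 h3) h3) h3) (inv_mem h1)) h3

/-- A subgroup containing the `(0 1 i)`, `2 ≤ i ≤ 5`, contains all three-cycles fixing `6`, `7`. -/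
theorem c3_mem6 {H : Subgroup (Perm (Fin 8))}
    (h : ∀ i : Fin 8, i ≠ 0 → i ≠ 1 → i ≠ 6 → i ≠ 7 → c3 0 1 i ∈ H) {p q r : Fin 8}
    (h1 : p ≠ q) (h2 : p ≠ r) (h3 : q ≠ r) (hp : p ≠ 6) (hq : q ≠ 6) (hr : r ≠ 6)
    (hp' : p ≠ 7) (hq' : q ≠ 7) (hr' : r ≠ 7) : c3 p q r ∈ H := by
  have key : ∀ i j : Fin 8, i ≠ 0 → j ≠ 0 → i ≠ j → i ≠ 6 → j ≠ 6 → i ≠ 7 → j ≠ 7 →
      c3 0 i j ∈ H := by
    intro i j hi hj hij hi6 hj6 hi7 hj7
    by_cases hi1 : i = 1
    · subst hi1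
      exact h j hj (Ne.symm hij) hj6 hj7
    by_cases hj1 : j = 1
    · subst hj1
      rw [← inv_c3 (by decide) (Ne.symm hi) (Ne.symm hi1)]
      exact inv_mem (h i hi hi1 hi6 hi7)
    · rw [c3_eq_mul_inv (b := 1) (by decide) (Ne.symm hi) (Ne.symm hj) (Ne.symm hi1) (Ne.symm hj1)
        hij]
      exact mul_mem (h j hj hj1 hj6 hj7) (inv_mem (h i hi hi1 hi6 hi7))
  by_cases hp0 : p = 0
  · subst hp0
    exact key q r h1.symm h2.symm h3 hq hr hq' hr'
  by_cases hq0 : q = 0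
  · subst hq0
    rw [c3_rot h1 h2 h3]
    exact key r p h3.symm h1 h2.symm hr hp hr' hp'
  by_cases hr0 : r = 0
  · subst hr0
    rw [c3_rot h1 h2 h3, c3_rot h3 h1.symm h2.symm]
    exact key p q hp0 hq0 h1 hp hq hp' hq'
  · rw [c3_eq_mul (a := 0) (Ne.symm hp0) (Ne.symm hq0) (Ne.symm hr0) h1 h2 h3]
    exact mul_mem (key p q hp0 hq0 h1 hp hq hp' hq') (key q r hq0 hr0 h3 hq hr hq' hr')

/-- A subgroup containing all three-cycles fixing `6`, `7` contains all even permutations fixing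
`6`, `7`. -/
theorem mem_of_c36 {H : Subgroup (Perm (Fin 8))}
    (h : ∀ p q r : Fin 8, p ≠ q → p ≠ r → q ≠ r → p ≠ 6 → q ≠ 6 → r ≠ 6 → p ≠ 7 → q ≠ 7 → r ≠ 7 →
      c3 p q r ∈ H) {σ : Perm (Fin 8)}
    (hσ : sign σ = 1) (h7 : σ 7 = 7) (h6 : σ 6 = 6) : σ ∈ H := by
  classical
  have hp : ∀ x : Fin 8, (σ x ≠ 6 ∧ σ x ≠ 7) ↔ (x ≠ 6 ∧ x ≠ 7) := by
    intro x
    refine and_congr (not_congr ⟨fun e => σ.injective (e.trans h6.symm), fun e => by rw [e, h6]⟩)
      (not_congr ⟨fun e => σ.injective (e.trans h7.symm), fun e => by rw [e, h7]⟩)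
  let τ : Perm {x : Fin 8 // x ≠ 6 ∧ x ≠ 7} := σ.subtypePerm hp
  have hτσ : ofSubtype τ = σ := ofSubtype_subtypePerm hp
    (fun x hx => ⟨fun e => hx (by rw [e, h6]), fun e => hx (by rw [e, h7])⟩)
  have hsτ : τ ∈ alternatingGroup {x : Fin 8 // x ≠ 6 ∧ x ≠ 7} := by
    rw [mem_alternatingGroup]
    rw [← hσ, ← hτσ, sign_ofSubtype]
  have hle : alternatingGroup {x : Fin 8 // x ≠ 6 ∧ x ≠ 7} ≤
      H.comap (ofSubtype : Perm {x : Fin 8 // x ≠ 6 ∧ x ≠ 7} →* Perm (Fin 8)) := by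
    rw [← closure_three_cycles_eq_alternating, Subgroup.closure_le]
    intro ρ hρ
    show ofSubtype ρ ∈ H
    have h3 : (ofSubtype ρ : Perm (Fin 8)).IsThreeCycle := by
      have : ρ.IsThreeCycle := hρ
      rw [IsThreeCycle, cycleType_ofSubtype]
      exact this
    have hfix : ofSubtype ρ (7 : Fin 8) = 7 := ofSubtype_apply_of_not_mem ρ (by simp)
    have hfix6 : ofSubtype ρ (6 : Fin 8) = 6 := ofSubtype_apply_of_not_mem ρ (by simp)
    obtain ⟨p, q, r, h1, h2, h3', he⟩ := exists_c3 h3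
    rw [he] at hfix hfix6 ⊢
    refine h p q r h1 h2 h3' ?_ ?_ ?_ ?_ ?_ ?_
    · rintro rfl
      rw [c3_apply_left h1 h2] at hfix6
      exact h1 hfix6.symm
    · rintro rfl
      rw [c3_apply_mid h2 h3'] at hfix6
      exact h3' hfix6.symm
    · rintro rfl
      rw [c3_apply_right] at hfix6
      exact h2 hfix6
    · rintro rfl
      rw [c3_apply_left h1 h2] at hfix
      exact h1 hfix.symm
    · rintro rfl
      rw [c3_apply_mid h2 h3'] at hfix
      exact h3' hfix.symm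
    · rintro rfl
      rw [c3_apply_right] at hfix
      exact h2 hfix
  have := hle hsτ
  rw [← hτσ]
  exact this

theorem gen6 {K : Subgroup A8} (h1 : p1 ∈ K) (h2 : p2 ∈ K) {s : A8}
    (h7 : (s : Perm (Fin 8)) 7 = 7) (h6 : (s : Perm (Fin 8)) 6 = 6) : s ∈ K := by
  have h := mem_of_c36 (H := K.map (alternatingGroup (Fin 8)).subtype) ?_ (σ := s) s.2 h7 h6
  · obtain ⟨t, ht, hts⟩ := h
    have : t = s := Subtype.ext hts
    rwa [← this]
  · intro p q r g1 g2 g3 g4 g5 g6 g7 g8 g9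
    refine c3_mem6 ?_ g1 g2 g3 g4 g5 g6 g7 g8 g9
    intro i hi0 hi1 hi6 hi7
    fin_cases i
    · exact absurd rfl hi0
    · exact absurd rfl hi1
    · refine ⟨p1⁻¹ * p2 * p1 * p2 * p1⁻¹ * p1⁻¹ * p2 * p1⁻¹ * p1⁻¹, ?_, by decide +kernel⟩
      exact mul_mem (mul_mem (mul_mem (mul_mem (mul_mem (mul_mem (mul_mem (mul_mem (inv_mem h1) h2)
        h1) h2) (inv_mem h1)) (inv_mem h1)) h2) (inv_mem h1)) (inv_mem h1)
    · refine ⟨p1⁻¹ * p1⁻¹ * p2 * p1⁻¹ * p2 * p1 * p2 * p1⁻¹ * p1⁻¹ * p2, ?_, by decide +kernel⟩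
      exact mul_mem (mul_mem (mul_mem (mul_mem (mul_mem (mul_mem (mul_mem (mul_mem (mul_mem
        (inv_mem h1) (inv_mem h1)) h2) (inv_mem h1)) h2) h1) h2) (inv_mem h1)) (inv_mem h1)) h2
    · refine ⟨p1 * p1 * p2 * p1 * p1 * p2 * p1⁻¹ * p2 * p1 * p2, ?_, by decide +kernel⟩
      exact mul_mem (mul_mem (mul_mem (mul_mem (mul_mem (mul_mem (mul_mem (mul_mem (mul_mem
        h1 h1) h2) h1) h1) h2) (inv_mem h1)) h2) h1) h2
    · refine ⟨p1⁻¹ * p1⁻¹ * p2 * p1 * p1 * p2 * p1⁻¹ * p2, ?_, by decide +kernel⟩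
      exact mul_mem (mul_mem (mul_mem (mul_mem (mul_mem (mul_mem (mul_mem
        (inv_mem h1) (inv_mem h1)) h2) h1) h1) h2) (inv_mem h1)) h2
    · exact absurd rfl hi6
    · exact absurd rfl hi7

section

variable {G : Type*} [Group G] {ι : A8 →* G} {X Y Z : G}

theorem cen7 (e1 : ι p1 = ev X Y Z wa1) (e2 : ι p2 = ev X Y Z wa2) (e3 : ι p3 = ev X Y Z wa3) :
    Subgroup.centralizer (StepDWords.S7 X Y Z) = cen ι LocalCent.S7 := by
  apply le_antisymm
  · intro g hg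
    rw [Subgroup.mem_centralizer_iff] at hg
    rw [mem_cen]
    intro s hs
    have h := gen7 (K := (Subgroup.centralizer ({g} : Set G)).comap ι) (s := s) ?_ ?_ ?_ hs
    · rw [Subgroup.mem_comap, Subgroup.mem_centralizer_singleton_iff] at h
      exact h.symm
    · rw [Subgroup.mem_comap, Subgroup.mem_centralizer_singleton_iff, e1]
      exact hg _ (by simp [StepDWords.S7])
    · rw [Subgroup.mem_comap, Subgroup.mem_centralizer_singleton_iff, e2]
      exact hg _ (by simp [StepDWords.S7])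
    · rw [Subgroup.mem_comap, Subgroup.mem_centralizer_singleton_iff, e3]
      exact hg _ (by simp [StepDWords.S7])
  · intro g hg
    rw [mem_cen] at hg
    rw [Subgroup.mem_centralizer_iff]
    intro h hh
    simp only [StepDWords.S7, Set.mem_insert_iff, Set.mem_singleton_iff] at hh
    rcases hh with rfl | rfl | rfl
    · rw [← e1]
      exact (hg p1 (show (p1 : Perm (Fin 8)) 7 = 7 by decide)).eq.symm
    · rw [← e2]
      exact (hg p2 (show (p2 : Perm (Fin 8)) 7 = 7 by decide)).eq.symm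
    · rw [← e3]
      exact (hg p3 (show (p3 : Perm (Fin 8)) 7 = 7 by decide)).eq.symm

theorem cen6 (e1 : ι p1 = ev X Y Z wa1) (e2 : ι p2 = ev X Y Z wa2) :
    Subgroup.centralizer (StepDWords.S6 X Y Z) = cen ι LocalCent.S6 := by
  apply le_antisymm
  · intro g hg
    rw [Subgroup.mem_centralizer_iff] at hg
    rw [mem_cen]
    intro s hs
    have h := gen6 (K := (Subgroup.centralizer ({g} : Set G)).comap ι) (s := s) ?_ ?_ hs.1 hs.2
    · rw [Subgroup.mem_comap, Subgroup.mem_centralizer_singleton_iff] at h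
      exact h.symm
    · rw [Subgroup.mem_comap, Subgroup.mem_centralizer_singleton_iff, e1]
      exact hg _ (by simp [StepDWords.S6])
    · rw [Subgroup.mem_comap, Subgroup.mem_centralizer_singleton_iff, e2]
      exact hg _ (by simp [StepDWords.S6])
  · intro g hg
    rw [mem_cen] at hg
    rw [Subgroup.mem_centralizer_iff]
    intro h hh
    simp only [StepDWords.S6, Set.mem_insert_iff, Set.mem_singleton_iff] at hh
    rcases hh with rfl | rfl
    · rw [← e1]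
      exact (hg p1 ⟨show (p1 : Perm (Fin 8)) 7 = 7 by decide, by decide⟩).eq.symm
    · rw [← e2]
      exact (hg p2 ⟨show (p2 : Perm (Fin 8)) 7 = 7 by decide, by decide⟩).eq.symm

/-- **(C) ⇒ (D)**. -/
theorem exists_t [Finite G] (hR : Rels X Y Z) (hX : X * X ≠ 1) {x y : G}
    (O : Out (X * X) Z ι x y)
    (e1 : ι p1 = ev X Y Z wa1) (e2 : ι p2 = ev X Y Z wa2) (e3 : ι p3 = ev X Y Z wa3)
    (e4 : ι p4 = ev X Y Z wg)
    (h7 : ∀ g : G, Commute g (X * X) → g ∈ cen ι LocalCent.S7 → g ∈ four (X * X) Z)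
    (h6 : Nat.card (Subgroup.centralizer ({X * X} : Set G) ⊓ cen ι LocalCent.S6 : Subgroup G) ≤ 8) :
    ∃ t : G, t ≠ 1 ∧ t * t * t * t * t = 1 ∧ t * Y = Y * t ∧ X⁻¹ * t * X * (t * t) = 1 ∧
      Z * t * (Z * t) * (Z * t) = 1 ∧ X * X * t * (X * X) * t = 1 := by
  refine StepDWords.exists_t hR hX ?_ ?_ ⟨x⁻¹, ?_, ?_⟩
  · rw [cen7 e1 e2 e3]
    exact cen7_equiv O h7
  · rw [cen6 e1 e2]
    exact cen6_equiv O h6
  · rw [Subgroup.mem_centralizer_iff]
    intro h hh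
    have key : ∀ s : A8, ι s * x⁻¹ = x⁻¹ * ι s := fun s => (O.cx s).inv_left.eq.symm
    simp only [StepDWords.S8, Set.mem_insert_iff, Set.mem_singleton_iff] at hh
    rcases hh with rfl | rfl | rfl | rfl
    · rw [← e1]; exact key _
    · rw [← e2]; exact key _
    · rw [← e3]; exact key _
    · rw [← e4]; exact key _
  · rw [inv_inv]
    exact O.xu

end

end Cfsg.Agent.HN.StepDGlue
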