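import Cfsg.Agent.HN.EmbW
import Cfsg.Agent.HN.AutHS

/-!
# Groups with `C_G(t) = W × H₀`, `W` of odd order

`H₀ = 2.HS.2`: then `G` is the Harada–Norton group (modulo the closing statement `CentW`).  The centralisers
`W × 2.HS` and `W × T` (`T` the isoclinic group) do not occur.
-/

set_option autoImplicit false

namespace Cfsg.Agent.HN.StepFive

open Subgroup Cfsg.Agent.HN.Pres Cfsg.Agent.HN.H0Basic Cfsg.Agent.HN.FusGen Cfsg.Agent.HN.Syl Cfsg.Agent.HN.EmbW
open Cfsg.Agent.HN.HS100 Cfsg.Agent.HN.P1408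

/-! ### centres -/

/-- an element of `H₀` commuting with `2.HS` is `1` or `τ`. -/
theorem eq_of_comm_K {g : H0} (hg : ∀ k ∈ HS100.K, g * k = k * g) : g = 1 ∨ g = τ := by
  apply φ_eq_one_iff.1
  apply AutHS.eq_one_of_comm
  rintro _ ⟨k, hk, rfl⟩
  rw [← map_mul, ← map_mul, hg k hk]

theorem cen_H0 (g : H0) (hg : ∀ k, g * k = k * g) : g = 1 ∨ g = τ := eq_of_comm_K fun k _ => hg k

theorem cen_K (g : HS100.K) (hg : ∀ k, g * k = k * g) : g = 1 ∨ g = FusK0.τ0 := by
  have h1 : (g : H0) = 1 ∨ (g : H0) = τ := eq_of_comm_K fun k hk => congrArg Subtype.val (hg ⟨k, hk⟩)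
  rcases h1 with h | h
  · left; exact Subtype.ext h
  · right; exact Subtype.ext h

theorem cen_T (g : Twist.T) (hg : ∀ k, g * k = k * g) : g = 1 ∨ g = Twist.τT := by
  obtain ⟨g', rfl⟩ : ∃ g' : H0, Twist.ofH g' = g := ⟨Twist.ofH.symm g, Equiv.apply_symm_apply _ _⟩
  rcases cen_H0 g' (fun k => Twist.comm_iff.1 (hg (Twist.ofH k))) with h | h
  · left; rw [h, Twist.ofH_one]
  · right; rw [h]; rfl

/-! ### the three cases -/

/-- The closing statement with a kernel of odd order. -/
def CentW (G : Type*) [Group G] : Prop :=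
  ∀ (θ : Cfsg.Spor.HN →* G) (W : Subgroup G), Function.Injective θ → Odd (Nat.card W) →
    (∀ w ∈ W, ∀ h, w * θ h = θ h * w) →
    (∀ g, g * θ (NormalH.ψ τ) = θ (NormalH.ψ τ) * g → ∃ w ∈ W, ∃ h, g = w * θ h) →
    ¬ IsConj (θ (NormalH.ψ τ)) (θ (NormalH.ψ (a * τ))) →
    ∀ g, g * θ (NormalH.ψ (a * τ)) = θ (NormalH.ψ (a * τ)) * g → ∃ w ∈ W, ∃ h, g = w * θ h

/-- **`HN` in `G`.** -/
theorem exists_theta {G : Type*} [Group G] [Finite G] [IsSimpleGroup G] {φ : H0 →* G} {W : Subgroup G}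
    (E : EmbO φ τ W) :
    ∃ θ : Cfsg.Spor.HN →* G, Function.Injective θ ∧ (∀ g, θ (NormalH.ψ g) = φ g) ∧
      (∀ w ∈ W, ∀ h, w * θ h = θ h * w) ∧ ¬ IsConj (φ τ) (φ (a * τ)) := by
  haveI : IsSimpleGroup Cfsg.Spor.HN := S1701.result.1
  haveI : Finite (QN W) := Quotient.finite _
  obtain ⟨hz, hb, hd⟩ := MainFus.main' E.emb (E.exists_inK FusOne.noncomm)
  obtain ⟨θQ, hθQ, hx, hy, hz'⟩ := FusionOut.exists_theta E.emb hz hb hd
  have cw : ∀ k, ∀ w ∈ (pr W).ker, Commute w (E.φN k) := by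
    intro k w hw
    rw [ker_pr, mem_WN] at hw
    exact Subtype.ext (E.comW _ hw _)
  obtain ⟨Θ, h1, h2, h3, h4, h5⟩ := LiftW.exists_lift (pr W) (by rw [card_ker_pr]; exact E.odd) θQ
    (FusionOut.map_rels E.φN rels_H0) hx.symm hy.symm hz'.symm
    ((MonoidHom.range_eq_top.2 (pr_surj W)).symm ▸ mem_top _) (cw gx) (cw gy) (cw gz)
  · refine ⟨(NN W).subtype.comp Θ, ?_, ?_, ?_, ?_⟩
    · apply (Subtype.val_injective).comp
      have h6 : Function.Injective (fun h => pr W (Θ h)) := by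
        intro x y hxy
        apply hθQ
        rw [← h4, ← h4]
        exact hxy
      exact Function.Injective.of_comp h6
    · intro g
      have h6 := Final.comp_eq (f := E.φN) h1 h2 h3 g
      exact congrArg Subtype.val h6
    · intro w hw h
      have h6 : (⟨w, le_normalizer hw⟩ : NN W) ∈ (pr W).ker := by
        rw [ker_pr, mem_WN]
        exact hw
      exact congrArg Subtype.val (h5 _ h6 h).eq
    · intro hc
      exact hb (E.inK_of_isConj hc)

/-- **The Harada–Norton group.** -/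
theorem iso' {G : Type*} [Group G] [Finite G] [IsSimpleGroup G] {φ : H0 →* G} {W : Subgroup G}
    (E : EmbO φ τ W) (hclose : CentW G) : Cfsg.Spor.IsoHN G := by
  haveI : IsSimpleGroup Cfsg.Spor.HN := S1701.result.1
  obtain ⟨θ, hθ, hext, hcom, hne⟩ := exists_theta E
  have hcent := hclose θ W hθ E.odd hcom
    (by
      intro g hg
      rw [hext] at hg
      obtain ⟨w, hw, h, hh⟩ := E.cent g hg
      exact ⟨w, hw, NormalH.ψ h, by rw [hext, hh]⟩)
    (by rw [hext, hext]; exact hne)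
  -- the group `W × θ(HN)`
  have hcomm : ∀ w ∈ W, ∀ y ∈ θ.range, Commute w y := by
    rintro w hw _ ⟨h, rfl⟩
    exact hcom w hw h
  have mem_of : ∀ w ∈ W, ∀ h, w * θ h ∈ W ⊔ θ.range := fun w hw h =>
    mul_mem (mem_sup_left hw) (mem_sup_right ⟨h, rfl⟩)
  have htop : W ⊔ θ.range = ⊤ := by
    refine CloseTop.eq_top (t := φ τ) (w := φ (a * τ)) _ E.orderOf_t ?_ ?_ ?_ hne ?_
    · rw [Final.orderOf_map_of_injective E.inj, Final.orderOf_aτ]
    · intro g hg
      obtain ⟨w, hw, h, rfl⟩ := E.cent g hg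
      rw [← hext]
      exact mem_of w hw _
    · intro g hg
      rw [← hext] at hg
      obtain ⟨w, hw, h, rfl⟩ := hcent g hg
      exact mem_of w hw _
    · intro v hv hvt
      obtain ⟨w, hw, h, rfl⟩ := E.cent v hvt
      have hv2 : w * φ h * (w * φ h) = 1 := by
        rw [← pow_two, ← hv, pow_orderOf_eq_one]
      have e1 : w * w = (φ (h * h))⁻¹ := by
        rw [eq_inv_iff_mul_eq_one, map_mul]
        have h3 := E.comW w hw h
        calc w * w * (φ h * φ h) = w * (w * φ h) * φ h := by group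
          _ = w * (φ h * w) * φ h := by rw [h3]
          _ = w * φ h * (w * φ h) := by group
          _ = 1 := hv2
      have e2 : h * h = 1 := by
        apply E.disj
        have : (φ (h * h))⁻¹ ∈ W := by rw [← e1]; exact W.mul_mem hw hw
        exact inv_mem_iff.1 this
      have e3 : w = 1 := eq_one_of_sq E.odd hw (by rw [e1, e2, map_one, inv_one])
      rw [e3, one_mul] at hv ⊢
      rw [Final.orderOf_map_of_injective E.inj] at hv
      obtain ⟨g, hg⟩ := InvHN.hinv h hv
      refine ⟨θ g, mem_sup_right ⟨g, rfl⟩, ?_⟩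
      rw [← hext h, ← hext τ, ← hext (a * τ), ← map_mul, ← map_inv, ← map_mul]
      rcases hg with hg | hg
      · left; rw [hg]
      · right; rw [hg]
  -- `W` is normal
  have hWn : W.Normal := by
    have h1 : (⊤ : Subgroup G) ≤ normalizer (W : Set G) := by
      rw [← htop]
      apply sup_le le_normalizer
      rintro _ ⟨h, rfl⟩
      rw [mem_normalizer_iff]
      intro w
      constructor
      · intro hw
        rw [← hcom w hw h, mul_inv_cancel_right]
        exact hw
      · intro hw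
        have h3 : θ h * w * (θ h)⁻¹ * θ h = θ h * (θ h * w * (θ h)⁻¹) := hcom _ hw h
        have h4 : θ h * w = θ h * (θ h * w * (θ h)⁻¹) := by
          rw [← h3]; group
        have h5 := mul_left_cancel h4
        rw [h5]
        exact hw
    exact normalizer_eq_top_iff.1 (top_le_iff.1 h1)
  have hbot : W = ⊥ := by
    rcases hWn.eq_bot_or_eq_top with h | h
    · exact h
    · exfalso
      have h1 : φ τ ∈ W := by rw [h]; trivial
      exact E.ne (E.disj h1)
  rw [hbot, bot_sup_eq] at htop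
  exact ⟨(MulEquiv.ofBijective θ ⟨hθ, MonoidHom.range_eq_top.1 htop⟩).symm⟩

/-- The centraliser is not `W × 2.HS`. -/
theorem false_K {G : Type*} [Group G] [Finite G] [IsSimpleGroup G] {φ : HS100.K →* G} {W : Subgroup G}
    (E : EmbO φ FusK0.τ0 W) : False := by
  haveI : Finite (QN W) := Quotient.finite _
  refine FusK0.false_of' E.emb (E.exists_inK ⟨⟨gx, gx_mem⟩, ⟨gy, gy_mem⟩, fun h => ?_⟩)
  have h1 : gx * gy = gy * gx := congrArg Subtype.val h
  have h2 : hw [0, 2] ≠ hw [2, 0] := hw_ne rfl rfl (p := 3) (by norm_num) (by decide +kernel)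
  apply h2
  rw [hw_cons 0 [2], hw_cons 2 [], hw_cons 2 [0], hw_cons 0 [], hw_nil, hw_x, hw_y, mul_one, mul_one, h1]

/-- The centraliser is not `W × T`. -/
theorem false_T {G : Type*} [Group G] [Finite G] [IsSimpleGroup G] {φ : Twist.T →* G} {W : Subgroup G}
    (E : EmbO φ Twist.τT W) : False := by
  haveI : Finite (QN W) := Quotient.finite _
  exact FusOne.isoclinic_false' E.emb (E.exists_inK FusOne.noncomm_T)

end Cfsg.Agent.HN.StepFive
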