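import Cfsg.Agent.HN.XInstW

/-!
# A simple group with `C_G(t) = W × 2.HS.2`, `W` of odd order, is the Harada–Norton group
-/

set_option autoImplicit false

namespace Cfsg.Agent.HN.StepFiveMain

open Cfsg.Agent.HN.Pres Cfsg.Agent.HN.H0Basic Cfsg.Agent.HN.EmbW

/-- **The Harada–Norton group.** -/
theorem iso {G : Type*} [Group G] [Finite G] [IsSimpleGroup G] {φ : H0 →* G} {W : Subgroup G}
    (E : EmbO φ τ W) : Cfsg.Spor.IsoHN G := StepFive.iso' E (XInstW.centW G)

end Cfsg.Agent.HN.StepFiveMain
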