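import Cfsg.Agent.HN.Rep
import Cfsg.Agent.HN.TDataA
import Cfsg.Agent.HN.TDataB

/-!
# A Sylow 2-subgroup of HN: polycyclic generators

`t 10, t 11, t 12, t 13` are involutions given by words, `t 9, …, t 0` commutators of these.  `codesT`: their packed
matrices in the 133-dimensional representation.
-/

set_option autoImplicit false

namespace Cfsg.Agent.HN.TGroup

open Cfsg.Agent.Lib.PackMat Cfsg.Agent.Lib.PackMatGroup
open Cfsg.Agent.HN.RepData Cfsg.Agent.HN.Rep

/-- packed matrix of a commutator `a b a⁻¹ b⁻¹`, checked as `z b a = a b` -/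
theorem codes_comm {a b : U C} {A B Z : ℕ} (ha : Codes C a A) (hb : Codes C b B) (hZ : okG C Z = true)
    (h : checkEq C [Z, B, A] [A, B] 0 133 = true) : Codes C (a * b * a⁻¹ * b⁻¹) Z := by
  refine ⟨hZ, ?_⟩
  have h1 := prod_eq_of_rows (good_of_check good) one_lt (w₁ := [Z, B, A]) (w₂ := [A, B])
    (by
      intro g hg
      simp only [List.mem_cons, List.not_mem_nil, or_false] at hg
      rcases hg with rfl | rfl | rfl
      · exact hZ
      · exact hb.ok
      · exact ha.ok)
    (by
      intro g hg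
      simp only [List.mem_cons, List.not_mem_nil, or_false] at hg
      rcases hg with rfl | rfl
      · exact ha.ok
      · exact hb.ok)
    (fun i hi => checkEq_spec h i (Nat.zero_le _) (by
      have hi' : i < 133 := hi
      omega))
  simp only [List.map_cons, List.map_nil, List.prod_cons, List.prod_nil, mul_one] at h1
  rw [← ha.eq, ← hb.eq] at h1
  have h2 : ((a * b * a⁻¹ * b⁻¹ : U C) : M C) = ((a : M C) * (b : M C)) * ((a⁻¹ : U C) : M C) * ((b⁻¹ : U C) : M C) := by
    rw [Units.val_mul, Units.val_mul, Units.val_mul]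
  rw [h2, ← h1]
  rw [mul_assoc, mul_assoc, mul_assoc (b : M C), ← mul_assoc (a : M C), Units.mul_inv, one_mul, Units.mul_inv, mul_one]

/-- words of the generators -/
def w10 : List ℕ := [2, 1, 3, 3, 0, 2, 2, 2, 0, 3, 4, 2, 2, 2, 0, 3]
def w11 : List ℕ := [3, 4, 2, 0, 2, 2, 6, 0, 3, 3, 4, 3, 3, 6, 4, 0, 3, 3, 6, 4, 3, 3, 0, 2, 2, 7, 0, 2, 4, 3, 3]
def w12 : List ℕ := [0, 4, 2, 4, 0, 2, 0, 4, 2]
def w13 : List ℕ := [1, 2, 2, 2, 4, 2, 2, 2, 0]
/-- generator 10 -/
def t10 : Cfsg.Spor.HN := evG gens w10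
/-- generator 11 -/
def t11 : Cfsg.Spor.HN := evG gens w11
/-- generator 12 -/
def t12 : Cfsg.Spor.HN := evG gens w12
/-- generator 13 -/
def t13 : Cfsg.Spor.HN := evG gens w13
/-- the commutator of `t10` and `t13` -/
def t9 : Cfsg.Spor.HN := t10 * t13 * t10⁻¹ * t13⁻¹
/-- the commutator of `t11` and `t13` -/
def t8 : Cfsg.Spor.HN := t11 * t13 * t11⁻¹ * t13⁻¹
/-- the commutator of `t12` and `t13` -/
def t7 : Cfsg.Spor.HN := t12 * t13 * t12⁻¹ * t13⁻¹
/-- the commutator of `t7` and `t10` -/
def t6 : Cfsg.Spor.HN := t7 * t10 * t7⁻¹ * t10⁻¹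
/-- the commutator of `t7` and `t11` -/
def t5 : Cfsg.Spor.HN := t7 * t11 * t7⁻¹ * t11⁻¹
/-- the commutator of `t5` and `t13` -/
def t4 : Cfsg.Spor.HN := t5 * t13 * t5⁻¹ * t13⁻¹
/-- the commutator of `t6` and `t13` -/
def t3 : Cfsg.Spor.HN := t6 * t13 * t6⁻¹ * t13⁻¹
/-- the commutator of `t3` and `t11` -/
def t2 : Cfsg.Spor.HN := t3 * t11 * t3⁻¹ * t11⁻¹
/-- the commutator of `t2` and `t13` -/
def t1 : Cfsg.Spor.HN := t2 * t13 * t2⁻¹ * t13⁻¹
/-- the commutator of `t1` and `t12` -/
def t0 : Cfsg.Spor.HN := t1 * t12 * t1⁻¹ * t12⁻¹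

open Cfsg.Agent.HN.TDataA Cfsg.Agent.HN.TDataB
theorem ok0 : okG C T0 = true := by decide +kernel
theorem ok1 : okG C T1 = true := by decide +kernel
theorem ok2 : okG C T2 = true := by decide +kernel
theorem ok3 : okG C T3 = true := by decide +kernel
theorem ok4 : okG C T4 = true := by decide +kernel
theorem ok5 : okG C T5 = true := by decide +kernel
theorem ok6 : okG C T6 = true := by decide +kernel
theorem ok7 : okG C T7 = true := by decide +kernel
theorem ok8 : okG C T8 = true := by decide +kernel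
theorem ok9 : okG C T9 = true := by decide +kernel
theorem ok10 : okG C T10 = true := by decide +kernel
theorem ok11 : okG C T11 = true := by decide +kernel
theorem ok12 : okG C T12 = true := by decide +kernel
theorem ok13 : okG C T13 = true := by decide +kernel
theorem ck10 : checkEq C (cw L w10) [T10] 0 133 = true := by decide +kernel
theorem ck11 : checkEq C (cw L w11) [T11] 0 133 = true := by decide +kernel
theorem ck12 : checkEq C (cw L w12) [T12] 0 133 = true := by decide +kernel
theorem ck13 : checkEq C (cw L w13) [T13] 0 133 = true := by decide +kernel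
theorem ck0 : checkEq C [T0, T12, T1] [T1, T12] 0 133 = true := by decide +kernel
theorem ck1 : checkEq C [T1, T13, T2] [T2, T13] 0 133 = true := by decide +kernel
theorem ck2 : checkEq C [T2, T11, T3] [T3, T11] 0 133 = true := by decide +kernel
theorem ck3 : checkEq C [T3, T13, T6] [T6, T13] 0 133 = true := by decide +kernel
theorem ck4 : checkEq C [T4, T13, T5] [T5, T13] 0 133 = true := by decide +kernel
theorem ck5 : checkEq C [T5, T11, T7] [T7, T11] 0 133 = true := by decide +kernel
theorem ck6 : checkEq C [T6, T10, T7] [T7, T10] 0 133 = true := by decide +kernel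
theorem ck7 : checkEq C [T7, T13, T12] [T12, T13] 0 133 = true := by decide +kernel
theorem ck8 : checkEq C [T8, T13, T11] [T11, T13] 0 133 = true := by decide +kernel
theorem ck9 : checkEq C [T9, T13, T10] [T10, T13] 0 133 = true := by decide +kernel
theorem codes13 : Codes C (rho t13) T13 := by
  rw [t13, rho_word]
  exact Codes.of_rows good one_lt codes (by decide) ok13
    (fun i hi => checkEq_spec ck13 i (Nat.zero_le _) (by
      have hi' : i < 133 := hi
      omega))
theorem codes12 : Codes C (rho t12) T12 := by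
  rw [t12, rho_word]
  exact Codes.of_rows good one_lt codes (by decide) ok12
    (fun i hi => checkEq_spec ck12 i (Nat.zero_le _) (by
      have hi' : i < 133 := hi
      omega))
theorem codes11 : Codes C (rho t11) T11 := by
  rw [t11, rho_word]
  exact Codes.of_rows good one_lt codes (by decide) ok11
    (fun i hi => checkEq_spec ck11 i (Nat.zero_le _) (by
      have hi' : i < 133 := hi
      omega))
theorem codes10 : Codes C (rho t10) T10 := by
  rw [t10, rho_word]
  exact Codes.of_rows good one_lt codes (by decide) ok10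
    (fun i hi => checkEq_spec ck10 i (Nat.zero_le _) (by
      have hi' : i < 133 := hi
      omega))
theorem codes9 : Codes C (rho t9) T9 := by
  rw [t9, map_mul, map_mul, map_mul, map_inv, map_inv]
  exact codes_comm codes10 codes13 ok9 ck9
theorem codes8 : Codes C (rho t8) T8 := by
  rw [t8, map_mul, map_mul, map_mul, map_inv, map_inv]
  exact codes_comm codes11 codes13 ok8 ck8
theorem codes7 : Codes C (rho t7) T7 := by
  rw [t7, map_mul, map_mul, map_mul, map_inv, map_inv]
  exact codes_comm codes12 codes13 ok7 ck7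
theorem codes6 : Codes C (rho t6) T6 := by
  rw [t6, map_mul, map_mul, map_mul, map_inv, map_inv]
  exact codes_comm codes7 codes10 ok6 ck6
theorem codes5 : Codes C (rho t5) T5 := by
  rw [t5, map_mul, map_mul, map_mul, map_inv, map_inv]
  exact codes_comm codes7 codes11 ok5 ck5
theorem codes4 : Codes C (rho t4) T4 := by
  rw [t4, map_mul, map_mul, map_mul, map_inv, map_inv]
  exact codes_comm codes5 codes13 ok4 ck4
theorem codes3 : Codes C (rho t3) T3 := by
  rw [t3, map_mul, map_mul, map_mul, map_inv, map_inv]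
  exact codes_comm codes6 codes13 ok3 ck3
theorem codes2 : Codes C (rho t2) T2 := by
  rw [t2, map_mul, map_mul, map_mul, map_inv, map_inv]
  exact codes_comm codes3 codes11 ok2 ck2
theorem codes1 : Codes C (rho t1) T1 := by
  rw [t1, map_mul, map_mul, map_mul, map_inv, map_inv]
  exact codes_comm codes2 codes13 ok1 ck1
theorem codes0 : Codes C (rho t0) T0 := by
  rw [t0, map_mul, map_mul, map_mul, map_inv, map_inv]
  exact codes_comm codes1 codes12 ok0 ck0

/-- the polycyclic generators -/
def TG : List Cfsg.Spor.HN := [t0, t1, t2, t3, t4, t5, t6, t7, t8, t9, t10, t11, t12, t13]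

/-- their packed matrices -/
def TL : List ℕ := [T0, T1, T2, T3, T4, T5, T6, T7, T8, T9, T10, T11, T12, T13]

theorem codesT : List.Forall₂ (Codes C) (TG.map rho) TL := by
  unfold TG TL
  exact .cons codes0 (.cons codes1 (.cons codes2 (.cons codes3 (.cons codes4 (.cons codes5 (.cons codes6 (.cons codes7 (.cons codes8 (.cons codes9 (.cons codes10 (.cons codes11 (.cons codes12 (.cons codes13 (.nil))))))))))))))

/-- the polycyclic generators as a sequence -/
def s (i : ℕ) : Cfsg.Spor.HN := TG.getD i 1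

theorem t9_def : t9 = t10 * t13 * t10⁻¹ * t13⁻¹ := rfl
theorem t8_def : t8 = t11 * t13 * t11⁻¹ * t13⁻¹ := rfl
theorem t7_def : t7 = t12 * t13 * t12⁻¹ * t13⁻¹ := rfl
theorem t6_def : t6 = t7 * t10 * t7⁻¹ * t10⁻¹ := rfl
theorem t5_def : t5 = t7 * t11 * t7⁻¹ * t11⁻¹ := rfl
theorem t4_def : t4 = t5 * t13 * t5⁻¹ * t13⁻¹ := rfl
theorem t3_def : t3 = t6 * t13 * t6⁻¹ * t13⁻¹ := rfl
theorem t2_def : t2 = t3 * t11 * t3⁻¹ * t11⁻¹ := rfl
theorem t1_def : t1 = t2 * t13 * t2⁻¹ * t13⁻¹ := rfl
theorem t0_def : t0 = t1 * t12 * t1⁻¹ * t12⁻¹ := rfl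
theorem s_0 : s 0 = t0 := rfl
theorem s_1 : s 1 = t1 := rfl
theorem s_2 : s 2 = t2 := rfl
theorem s_3 : s 3 = t3 := rfl
theorem s_4 : s 4 = t4 := rfl
theorem s_5 : s 5 = t5 := rfl
theorem s_6 : s 6 = t6 := rfl
theorem s_7 : s 7 = t7 := rfl
theorem s_8 : s 8 = t8 := rfl
theorem s_9 : s 9 = t9 := rfl
theorem s_10 : s 10 = t10 := rfl
theorem s_11 : s 11 = t11 := rfl
theorem s_12 : s 12 = t12 := rfl
theorem s_13 : s 13 = t13 := rfl

theorem evG_cons' (i : ℕ) (w : List ℕ) : evG TG (i :: w) = s i * evG TG w := rfl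

/-- Relations of HN from the kernel. -/
theorem rel (hinj : Function.Injective rho) {w₁ w₂ : List ℕ} (h1 : okW 14 w₁ = true) (h2 : okW 14 w₂ = true)
    (h : checkEq C (cw TL w₁) (cw TL w₂) 0 133 = true) : evG TG w₁ = evG TG w₂ := by
  apply hinj
  rw [← evG_map, ← evG_map]
  exact eq_of_rows good one_lt codesT h1 h2 (fun i hi => checkEq_spec h i (Nat.zero_le _) (by
    have hi' : i < 133 := hi
    omega))

attribute [irreducible] t0 t1 t2 t3 t4 t5 t6 t7 t8 t9 t10 t11 t12 t13

end Cfsg.Agent.HN.TGroup
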