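import Cfsg.Agent.HN.Rep
import Cfsg.Agent.HN.Trace

/-!
# Traces of m i
`m i = x² w⁻¹ x² w` for the representative `w` number `i` of the double cosets of `H` in HN.
-/

set_option autoImplicit false

namespace Cfsg.Agent.HN.TraceData

open Cfsg.Agent.Lib.PackMat Cfsg.Agent.Lib.PackMatGroup Cfsg.Agent.HN.RepData Cfsg.Agent.HN.Rep Cfsg.Agent.HN.Trace

/-- word number 0 -/
def m0_1 : List ℕ := [0, 0, 0, 0]
theorem m0_1_c0 : checkTr C (cw L m0_1) 0 133 133 = true := by decide +kernel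
theorem tr_m0_1 : Matrix.trace ((evG LG m0_1 : U C) : M C) = (9 : ZMod 31) := by
  rw [trace_of_chunks good one_lt codes (by decide) [(133, 133)] (by decide) ⟨m0_1_c0, trivial⟩]
  decide

/-- word number 1 -/
def m1_1 : List ℕ := [0, 0, 7, 0, 0, 6]
theorem m1_1_c0 : checkTr C (cw L m1_1) 0 133 923 = true := by decide +kernel
theorem tr_m1_1 : Matrix.trace ((evG LG m1_1 : U C) : M C) = (24 : ZMod 31) := by
  rw [trace_of_chunks good one_lt codes (by decide) [(133, 923)] (by decide) ⟨m1_1_c0, trivial⟩]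
  decide

/-- word number 2 -/
def m2_1 : List ℕ := [0, 0, 7, 5, 1, 7, 0, 0, 6, 0, 4, 6]
theorem m2_1_c0 : checkTr C (cw L m2_1) 0 83 1235 = true := by decide +kernel
theorem m2_1_c1 : checkTr C (cw L m2_1) 83 50 646 = true := by decide +kernel
theorem tr_m2_1 : Matrix.trace ((evG LG m2_1 : U C) : M C) = (21 : ZMod 31) := by
  rw [trace_of_chunks good one_lt codes (by decide) [(83, 1235), (50, 646)] (by decide) ⟨m2_1_c0, m2_1_c1, trivial⟩]
  decide

/-- word number 3 -/
def m3_1 : List ℕ := [0, 0, 7, 5, 0, 7, 0, 0, 6, 1, 4, 6]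
theorem m3_1_c0 : checkTr C (cw L m3_1) 0 83 1279 = true := by decide +kernel
theorem m3_1_c1 : checkTr C (cw L m3_1) 83 50 681 = true := by decide +kernel
theorem tr_m3_1 : Matrix.trace ((evG LG m3_1 : U C) : M C) = (7 : ZMod 31) := by
  rw [trace_of_chunks good one_lt codes (by decide) [(83, 1279), (50, 681)] (by decide) ⟨m3_1_c0, m3_1_c1, trivial⟩]
  decide

/-- word number 8 -/
def m8_1 : List ℕ := [0, 0, 7, 5, 1, 2, 5, 7, 0, 0, 6, 4, 3, 0, 4, 6]
theorem m8_1_c0 : checkTr C (cw L m8_1) 0 62 805 = true := by decide +kernel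
theorem m8_1_c1 : checkTr C (cw L m8_1) 62 62 827 = true := by decide +kernel
theorem m8_1_c2 : checkTr C (cw L m8_1) 124 9 136 = true := by decide +kernel
theorem tr_m8_1 : Matrix.trace ((evG LG m8_1 : U C) : M C) = (1 : ZMod 31) := by
  rw [trace_of_chunks good one_lt codes (by decide) [(62, 805), (62, 827), (9, 136)] (by decide) ⟨m8_1_c0, m8_1_c1, m8_1_c2, trivial⟩]
  decide

/-- word number 11 -/
def m11_1 : List ℕ := [0, 0, 7, 5, 2, 5, 2, 5, 7, 0, 0, 6, 4, 3, 4, 3, 4, 6]
theorem m11_1_c0 : checkTr C (cw L m11_1) 0 55 840 = true := by decide +kernel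
theorem m11_1_c1 : checkTr C (cw L m11_1) 55 55 820 = true := by decide +kernel
theorem m11_1_c2 : checkTr C (cw L m11_1) 110 23 389 = true := by decide +kernel
theorem tr_m11_1 : Matrix.trace ((evG LG m11_1 : U C) : M C) = (3 : ZMod 31) := by
  rw [trace_of_chunks good one_lt codes (by decide) [(55, 840), (55, 820), (23, 389)] (by decide) ⟨m11_1_c0, m11_1_c1, m11_1_c2, trivial⟩]
  decide

/-- word number 13 -/
def m13_1 : List ℕ := [0, 0, 7, 5, 1, 2, 7, 5, 1, 7, 0, 0, 6, 0, 4, 6, 3, 0, 4, 6]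
theorem m13_1_c0 : checkTr C (cw L m13_1) 0 50 770 = true := by decide +kernel
theorem m13_1_c1 : checkTr C (cw L m13_1) 50 50 770 = true := by decide +kernel
theorem m13_1_c2 : checkTr C (cw L m13_1) 100 33 540 = true := by decide +kernel
theorem tr_m13_1 : Matrix.trace ((evG LG m13_1 : U C) : M C) = (3 : ZMod 31) := by
  rw [trace_of_chunks good one_lt codes (by decide) [(50, 770), (50, 770), (33, 540)] (by decide) ⟨m13_1_c0, m13_1_c1, m13_1_c2, trivial⟩]
  decide

/-- word number 17 -/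
def m17_1 : List ℕ := [0, 0, 7, 5, 1, 3, 7, 5, 1, 2, 7, 5, 1, 7, 0, 0, 6, 0, 4, 6, 3, 0, 4, 6, 2, 0, 4, 6]
theorem m17_1_c0 : checkTr C (cw L m17_1) 0 35 523 = true := by decide +kernel
theorem m17_1_c1 : checkTr C (cw L m17_1) 35 35 551 = true := by decide +kernel
theorem m17_1_c2 : checkTr C (cw L m17_1) 70 35 603 = true := by decide +kernel
theorem m17_1_c3 : checkTr C (cw L m17_1) 105 28 436 = true := by decide +kernel
theorem tr_m17_1 : Matrix.trace ((evG LG m17_1 : U C) : M C) = (5 : ZMod 31) := by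
  rw [trace_of_chunks good one_lt codes (by decide) [(35, 523), (35, 551), (35, 603), (28, 436)] (by decide) ⟨m17_1_c0, m17_1_c1, m17_1_c2, m17_1_c3, trivial⟩]
  decide

/-- word number 19 -/
def m19_1 : List ℕ := [0, 0, 7, 5, 2, 5, 1, 7, 5, 1, 2, 5, 7, 0, 0, 6, 4, 3, 0, 4, 6, 0, 4, 3, 4, 6]
theorem m19_1_c0 : checkTr C (cw L m19_1) 0 38 562 = true := by decide +kernel
theorem m19_1_c1 : checkTr C (cw L m19_1) 38 38 582 = true := by decide +kernel
theorem m19_1_c2 : checkTr C (cw L m19_1) 76 38 522 = true := by decide +kernel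
theorem m19_1_c3 : checkTr C (cw L m19_1) 114 19 354 = true := by decide +kernel
theorem tr_m19_1 : Matrix.trace ((evG LG m19_1 : U C) : M C) = (5 : ZMod 31) := by
  rw [trace_of_chunks good one_lt codes (by decide) [(38, 562), (38, 582), (38, 522), (19, 354)] (by decide) ⟨m19_1_c0, m19_1_c1, m19_1_c2, m19_1_c3, trivial⟩]
  decide

end Cfsg.Agent.HN.TraceData
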