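import Cfsg.Agent.HN.U35

set_option autoImplicit false

/-!
`U0 = ⟨Y, X⁻¹ Y X⟩` is perfect; elements `R8`, `V2` generating a semidihedral group of order 16 in `U0`.
-/

namespace Cfsg.Agent.HN.U35P

open Cfsg.Agent.SporadicA.PermTab Cfsg.Agent.HN.Pres Cfsg.Agent.HN.HS100 Cfsg.Agent.HN.U35 Equiv
open scoped commutatorElement

/-- element of order 8 -/
def R8 : Perm (Fin 100) := Y * Y * Y * U * Y * U⁻¹
/-- involution inverting-cubing `R8` -/
def V2 : Perm (Fin 100) := R8 * (Y⁻¹ * U * Y⁻¹ * U⁻¹ * U⁻¹ * Y⁻¹ * Y⁻¹ * U)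

theorem R8_mem : R8 ∈ U0 :=
  U0.mul_mem (U0.mul_mem (U0.mul_mem (U0.mul_mem (U0.mul_mem Y_mem Y_mem) Y_mem) U_mem) Y_mem)
    (U0.inv_mem U_mem)

theorem V2_mem : V2 ∈ U0 := by
  have h1 := U0.inv_mem Y_mem
  have h2 := U0.inv_mem U_mem
  exact U0.mul_mem R8_mem (U0.mul_mem (U0.mul_mem (U0.mul_mem (U0.mul_mem (U0.mul_mem (U0.mul_mem
    (U0.mul_mem h1 U_mem) h1) h2) h2) h1) h1) U_mem)

theorem R8_pow4 : R8 ^ 4 ≠ 1 := by
  intro h
  have h1 := congrArg (fun g : Perm (Fin 100) => (g 0, g 1, g 2, g 3)) h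
  revert h1
  unfold R8 U
  decide +kernel

theorem V2_sq : V2 * V2 = 1 := by
  refine Equiv.ext fun i => Fin.ext ?_
  revert i
  unfold V2 R8 U
  decide +kernel

theorem V2_conj : V2⁻¹ * R8 * V2 = R8 ^ 3 := by
  refine Equiv.ext fun i => Fin.ext ?_
  revert i
  unfold V2 R8 U
  decide +kernel

theorem rU1 : Y ^ 6 = 1 := rels.r1

theorem rU2 : U ^ 6 = 1 := by
  refine Equiv.ext fun i => Fin.ext ?_
  revert i
  unfold U
  decide +kernel

theorem rU3 : (U⁻¹ * Y) ^ 3 = 1 := by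
  refine Equiv.ext fun i => Fin.ext ?_
  revert i
  unfold U
  decide +kernel

theorem rU4 : (U ^ 2 * Y ^ 3) ^ 3 = 1 := by
  refine Equiv.ext fun i => Fin.ext ?_
  revert i
  unfold U
  decide +kernel

theorem rU4' : (Y ^ 2 * U ^ 3) ^ 3 = 1 := by
  refine Equiv.ext fun i => Fin.ext ?_
  revert i
  unfold U
  decide +kernel

theorem rU5 : (U * Y) ^ 4 = 1 := by
  refine Equiv.ext fun i => Fin.ext ?_
  revert i
  unfold U
  decide +kernel

theorem rU6 : (U * Y ^ 3) ^ 4 = 1 := by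
  refine Equiv.ext fun i => Fin.ext ?_
  revert i
  unfold U
  decide +kernel

theorem triv {A : Type*} [CommGroup A] {a b : A} (h1 : a ^ 6 = 1) (h2 : b ^ 6 = 1)
    (h4 : (b ^ 2 * a ^ 3) ^ 3 = 1) (h4' : (a ^ 2 * b ^ 3) ^ 3 = 1) (h5 : (b * a) ^ 4 = 1)
    (h6 : (b * a ^ 3) ^ 4 = 1) : a = 1 ∧ b = 1 := by
  have key : ∀ c d : A, c ^ 6 = 1 → d ^ 6 = 1 → (d ^ 2 * c ^ 3) ^ 3 = 1 → c ^ 3 = 1 := by
    intro c d hc hd h
    rw [mul_pow, ← pow_mul, ← pow_mul, show 2 * 3 = 6 from rfl, hd, one_mul,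
      show 3 * 3 = 6 + 3 from rfl, pow_add, hc, one_mul] at h
    exact h
  have ha := key a b h1 h2 h4
  have hb := key b a h2 h1 h4'
  rw [ha, mul_one, show 4 = 3 + 1 from rfl, pow_succ, hb, one_mul] at h6
  rw [h6, one_mul, show 4 = 3 + 1 from rfl, pow_succ, ha, one_mul] at h5
  exact ⟨h5, h6⟩

theorem comm_U0 : ⁅U0, U0⁆ = U0 := by
  apply le_antisymm (Subgroup.commutator_le_self U0)
  let y' : U0 := ⟨Y, Y_mem⟩
  let u' : U0 := ⟨U, U_mem⟩
  let F : U0 →* Abelianization U0 := Abelianization.of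
  have h := triv (a := F y') (b := F u')
    (by rw [← map_pow, show y' ^ 6 = 1 from Subtype.ext rU1, map_one])
    (by rw [← map_pow, show u' ^ 6 = 1 from Subtype.ext rU2, map_one])
    (by rw [← map_pow, ← map_pow, ← map_mul, ← map_pow,
          show (u' ^ 2 * y' ^ 3) ^ 3 = 1 from Subtype.ext rU4, map_one])
    (by rw [← map_pow, ← map_pow, ← map_mul, ← map_pow,
          show (y' ^ 2 * u' ^ 3) ^ 3 = 1 from Subtype.ext rU4', map_one])
    (by rw [← map_mul, ← map_pow, show (u' * y') ^ 4 = 1 from Subtype.ext rU5, map_one])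
    (by rw [← map_pow, ← map_mul, ← map_pow, show (u' * y' ^ 3) ^ 4 = 1 from Subtype.ext rU6,
          map_one])
  have hmem : ∀ g : U0, F g = 1 → (g : Perm (Fin 100)) ∈ ⁅U0, U0⁆ := by
    intro g hg
    have h1 : g ∈ F.ker := hg
    rw [show F.ker = commutator U0 from Abelianization.ker_of U0] at h1
    rw [← Subgroup.map_subtype_commutator]
    exact ⟨g, h1, rfl⟩
  rw [U0, Subgroup.closure_le]
  rintro g (rfl | rfl)
  · exact hmem y' h.1
  · exact hmem u' h.2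

end Cfsg.Agent.HN.U35P
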