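import Cfsg.Agent.HN.UpAChk0
import Cfsg.Agent.HN.UpAChk1
import Cfsg.Agent.HN.UpAChk2
import Cfsg.Agent.HN.UpAChk3
import Cfsg.Agent.HN.UpAChk4
import Cfsg.Agent.HN.UpAChk5

set_option autoImplicit false
set_option maxRecDepth 100000

namespace Cfsg.Agent.HN.UpAAll

open Cfsg.Agent.SporadicRecognition.CosetCert Cfsg.Agent.HN.UpAData

theorem part : Part C 0 C.N 6300 := (((((Cfsg.Agent.HN.UpAChk0.all).append C Cfsg.Agent.HN.UpAChk1.all).append C Cfsg.Agent.HN.UpAChk2.all).append C Cfsg.Agent.HN.UpAChk3.all).append C Cfsg.Agent.HN.UpAChk4.all).append C Cfsg.Agent.HN.UpAChk5.all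

end Cfsg.Agent.HN.UpAAll
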