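import Cfsg.Agent.HN.UpXY

/-!
# The universal group `Q` of `UpXY` acts faithfully on 378 points
-/

set_option autoImplicit false
set_option maxRecDepth 100000

namespace Cfsg.Agent.HN.UpQ

open Cfsg.Agent.HN.UpXY Cfsg.Agent.HN.UpNets
open Cfsg.Agent.SporadicRecognition.CosetCert
open Cfsg.Agent.Lib.PermNet Cfsg.Agent.Lib.PermNetOrbit

/-- two generators -/
inductive G2
  | x
  | y
  deriving DecidableEq

abbrev fx : FreeGroup G2 := FreeGroup.of G2.x
abbrev fy : FreeGroup G2 := FreeGroup.of G2.y

/-- the relators -/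
def relsQ : List (FreeGroup G2) := [
  fx * fx,
  fy ^ 6,
  (fx * fy⁻¹ * fx * fy) ^ 3,
  (fx * fy ^ 2 * fx * fy ^ 3) ^ 3,
  (fx * fy) ^ 8,
  (fx * fy * fx * fy ^ 3) ^ 4]

/-- the universal group -/
abbrev Q : Type := PresentedGroup {r | r ∈ relsQ}

def qx : Q := PresentedGroup.of G2.x
def qy : Q := PresentedGroup.of G2.y

theorem xyQ : XY qx qy := by
  have key : ∀ r ∈ relsQ, PresentedGroup.mk {r | r ∈ relsQ} r = 1 :=
    fun r hr => PresentedGroup.one_of_mem hr
  constructor
  all_goals
    first
    | exact key _ (by simp [relsQ])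

theorem closure_Q : Subgroup.closure ({qx, qy} : Set Q) = ⊤ := by
  rw [← PresentedGroup.closure_range_of]
  congr 1
  ext g
  constructor
  · rintro (rfl | rfl)
    · exact ⟨G2.x, rfl⟩
    · exact ⟨G2.y, rfl⟩
  · rintro ⟨i, rfl⟩
    cases i
    · exact Or.inl rfl
    · exact Or.inr rfl

/-- assignment of the two generators -/
def asg {G : Type*} (x y : G) : G2 → G
  | G2.x => x
  | G2.y => y

/-- The homomorphism from `Q` given by two elements satisfying the relations. -/
def lift {G : Type*} [Group G] {x y : G} (h : XY x y) : Q →* G :=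
  PresentedGroup.toGroup (f := asg x y) (by
    intro r hr
    simp only [relsQ, Set.mem_ofPred_eq, List.mem_cons, List.not_mem_nil, or_false] at hr
    rcases hr with rfl | rfl | rfl | rfl | rfl | rfl
    · simpa only [map_mul, map_pow, map_inv, FreeGroup.lift_apply_of, asg] using h.r0
    · simpa only [map_mul, map_pow, map_inv, FreeGroup.lift_apply_of, asg] using h.r1
    · simpa only [map_mul, map_pow, map_inv, FreeGroup.lift_apply_of, asg] using h.r3
    · simpa only [map_mul, map_pow, map_inv, FreeGroup.lift_apply_of, asg] using h.r4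
    · simpa only [map_mul, map_pow, map_inv, FreeGroup.lift_apply_of, asg] using h.r5
    · simpa only [map_mul, map_pow, map_inv, FreeGroup.lift_apply_of, asg] using h.r6)

theorem lift_qx {G : Type*} [Group G] {x y : G} (h : XY x y) : lift h qx = x :=
  PresentedGroup.toGroup.of _

theorem lift_qy {G : Type*} [Group G] {x y : G} (h : XY x y) : lift h qy = y :=
  PresentedGroup.toGroup.of _

theorem lift_range {G : Type*} [Group G] {x y : G} (h : XY x y) :
    (lift h).range = Subgroup.closure {x, y} := by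
  rw [MonoidHom.range_eq_map, ← closure_Q, MonoidHom.map_closure, Set.image_pair, lift_qx, lift_qy]

theorem lift_ev {G : Type*} [Group G] {x y : G} (h : XY x y) (w : List ℕ) :
    lift h (ev (ltr qx qy) w) = ev (ltr x y) w := by
  induction w with
  | nil => rw [ev_nil, ev_nil, map_one]
  | cons a w ih =>
    rw [ev_cons, ev_cons, map_mul, ih]
    congr 1
    match a with
    | 0 => exact lift_qx h
    | 1 => exact lift_qy h
    | 2 => exact (map_inv _ _).trans (congrArg _ (lift_qy h))
    | n + 3 => exact map_one _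

theorem finite_Q : Finite Q := by
  have h := (card_le xyQ).1
  rw [closure_Q] at h
  exact Finite.of_equiv _ (Subgroup.topEquiv (G := Q)).toEquiv

theorem card_Q_le : Nat.card Q ≤ 756000 := by
  have h := (card_le xyQ).2
  rwa [closure_Q, Nat.card_congr (Subgroup.topEquiv (G := Q)).toEquiv] at h

/-! ### the action on 378 points -/

theorem okx : xN.ok (2 ^ 9) = true := by decide +kernel
theorem oky : yN.ok (2 ^ 9) = true := by decide +kernel
theorem okw : wN.ok (2 ^ 9) = true := by decide +kernel

/-- the net of a letter -/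
noncomputable def net : ℕ → Net
  | 0 => xN
  | 1 => yN
  | _ => wN

theorem net_ok (n : ℕ) : (net n).ok (2 ^ 9) = true := by
  match n with
  | 0 => exact okx
  | 1 => exact oky
  | n + 2 => exact okw

theorem wok (w : List ℕ) : WOk (2 ^ 9) (w.map net) := by
  intro L hL
  obtain ⟨n, _, rfl⟩ := List.mem_map.1 hL
  exact net_ok n

theorem yw : yN.perm * wN.perm = 1 := by
  have h := wperm_eq_one_of_checkEq (k := 9) (w := [yN, wN])
    (WOk.cons oky (WOk.cons okw (WOk.nil _))) (by decide +kernel)
  rwa [wperm_cons, wperm_cons, wperm_nil, mul_one] at h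

theorem wN_eq : wN.perm = yN.perm⁻¹ := eq_inv_of_mul_eq_one_right yw

theorem wperm_map (w : List ℕ) (hw : ∀ n ∈ w, n < 3) :
    wperm (w.map net) = ev (ltr xN.perm yN.perm) w := by
  induction w with
  | nil => rfl
  | cons a w ih =>
    rw [List.map_cons, wperm_cons, ev_cons, ih fun n hn => hw n (List.mem_cons_of_mem _ hn)]
    congr 1
    have ha := hw a List.mem_cons_self
    interval_cases a
    · rfl
    · rfl
    · exact wN_eq

theorem val_eq_one (w : List ℕ) (hw : ∀ n ∈ w, n < 3) (h : checkEq 9 (w.map net) [] = true) :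
    ev (ltr xN.perm yN.perm) w = 1 := by
  rw [← wperm_map w hw]
  exact wperm_eq_one_of_checkEq (wok w) h

theorem xyN : XY xN.perm yN.perm := by
  have h0 := val_eq_one [0, 0] (by decide) (by decide +kernel)
  have h1 := val_eq_one [1, 1, 1, 1, 1, 1] (by decide) (by decide +kernel)
  have h3 := val_eq_one [0,2,0,1,0,2,0,1,0,2,0,1] (by decide) (by decide +kernel)
  have h4 := val_eq_one [0,1,1,0,1,1,1,0,1,1,0,1,1,1,0,1,1,0,1,1,1] (by decide) (by decide +kernel)
  have h5 := val_eq_one [0,1,0,1,0,1,0,1,0,1,0,1,0,1,0,1] (by decide) (by decide +kernel)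
  have h6 := val_eq_one [0,1,0,1,1,1,0,1,0,1,1,1,0,1,0,1,1,1,0,1,0,1,1,1] (by decide) (by decide +kernel)
  simp only [ev_cons, ev_nil, mul_one, ltr] at h0 h1 h3 h4 h5 h6
  refine ⟨h0, ?_, ?_, ?_, ?_, ?_⟩
  · simpa only [pow_succ, pow_zero, one_mul, mul_assoc] using h1
  · simpa only [pow_succ, pow_zero, one_mul, mul_assoc] using h3
  · simpa only [pow_succ, pow_zero, one_mul, mul_assoc] using h4
  · simpa only [pow_succ, pow_zero, one_mul, mul_assoc] using h5
  · simpa only [pow_succ, pow_zero, one_mul, mul_assoc] using h6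

/-- the action of `Q` -/
noncomputable def φ : Q →* Equiv.Perm ℕ := lift xyN

theorem φ_ev (w : List ℕ) (hw : ∀ n ∈ w, n < 3) : φ (ev (ltr qx qy) w) = wperm (w.map net) := by
  rw [wperm_map w hw]
  exact lift_ev xyN w

theorem wsok (l : List (List ℕ)) : WsOk (2 ^ 9) (l.map fun w => w.map net) := by
  intro w hw
  obtain ⟨v, _, rfl⟩ := List.mem_map.1 hw
  exact wok v

theorem chain_step (qs : List ℕ) (p m r : ℕ) (l : List (List ℕ)) (hl : ∀ w ∈ l, ∀ n ∈ w, n < 3)
    (hfix : fixAllB (l.map fun w => w.map net) qs = true)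
    (hm : Nat.ble m (pc 9 (sat (l.map fun w => w.map net) r (Nat.pow 2 p))) = true)
    (hlt : Nat.beq (Nat.shiftRight (sat (l.map fun w => w.map net) r (Nat.pow 2 p)) (Nat.pow 2 9)) 0
      = true) :
    m * Nat.card (stabL φ (p :: qs)) ≤ Nat.card (stabL φ qs) := by
  have := finite_Q
  refine stabL_step_of_check φ qs p m r (wsok l) ?_ hfix hm hlt
  intro w hw
  obtain ⟨v, hv, rfl⟩ := List.mem_map.1 hw
  exact ⟨_, φ_ev v (hl v hv)⟩

theorem step1 : 378 * Nat.card (stabL φ [0]) ≤ Nat.card (stabL φ []) :=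
  chain_step [] 0 378 40 [[0], [1], [2]] (by decide) (by decide +kernel) (by decide +kernel)
    (by decide +kernel)

theorem step2 : 250 * Nat.card (stabL φ [294, 0]) ≤ Nat.card (stabL φ [0]) :=
  chain_step [0] 294 250 40 [[2,0,2,0,1,1,0], [1,0,1,0,2,2,2,0,1]] (by decide) (by decide +kernel)
    (by decide +kernel) (by decide +kernel)

theorem step3 : 8 * Nat.card (stabL φ [1, 294, 0]) ≤ Nat.card (stabL φ [294, 0]) :=
  chain_step [294, 0] 1 8 40 [[2,0,2,0,1,1,0,2,0,1,1,1,0,2,0,2]] (by decide) (by decide +kernel)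
    (by decide +kernel) (by decide +kernel)

theorem stab_eq_bot : stabL φ [1, 294, 0] = ⊥ := by
  have := finite_Q
  have h1 := step1
  have h2 := step2
  have h3 := step3
  have h4 : Nat.card (stabL φ []) ≤ Nat.card Q := Subgroup.card_le_card_group _
  have h5 := card_Q_le
  rw [Subgroup.eq_bot_iff_card]
  have h6 : 0 < Nat.card (stabL φ [1, 294, 0]) := Nat.card_pos
  omega

theorem φ_injective : Function.Injective φ := by
  rw [injective_iff_map_eq_one]
  intro g hg
  have h : g ∈ stabL φ [1, 294, 0] := by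
    intro q _
    rw [hg]
    rfl
  rw [stab_eq_bot] at h
  exact Subgroup.mem_bot.1 h

theorem card_Q : Nat.card Q = 756000 := by
  have := finite_Q
  have h1 := step1
  have h2 := step2
  have h3 := step3
  have h4 : Nat.card (stabL φ []) ≤ Nat.card Q := Subgroup.card_le_card_group _
  have h5 := card_Q_le
  have h6 : 0 < Nat.card (stabL φ [1, 294, 0]) := Nat.card_pos
  omega

/-- Identities between words in `x, y` can be checked on the 378 points. -/
theorem ev_eq_of_check {G : Type*} [Group G] {x y : G} (h : XY x y) (w w' : List ℕ)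
    (hw : ∀ n ∈ w, n < 3) (hw' : ∀ n ∈ w', n < 3)
    (hc : checkEq 9 (w.map net) (w'.map net) = true) : ev (ltr x y) w = ev (ltr x y) w' := by
  rw [← lift_ev h w, ← lift_ev h w']
  congr 1
  apply φ_injective
  rw [φ_ev w hw, φ_ev w' hw']
  exact wperm_eq_of_checkEq (wok w) (wok w') hc

end Cfsg.Agent.HN.UpQ
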