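import Cfsg.Agent.HN.UpTData

set_option autoImplicit false
set_option maxRecDepth 100000

namespace Cfsg.Agent.HN.UpTChk0

open Cfsg.Agent.SporadicRecognition.CosetCert Cfsg.Agent.HN.UpTData

theorem c0 : Part C 0 64 64 := runChunk_sound C 64 (by decide +kernel : runChunk C 8 255 0x10233011302010202020183020102010202020301020201010202020102020201010302020102010233010233020183020102010202730201020102011302630301011302024301020153020102010202020201010202020102010202020301010233020102024301020102011302020301010202230102020201020153010202011302020301010233020102020201020102010202020201020102010202020102020201020102010202020301010202020102010202020201020102020202 1 1 0 0 64 = 65)

theorem c1 : Part C 64 120 56 := runChunk_sound C 56 (by decide +kernel : runChunk C 8 255 0x10202011302010233010233020102011302020102020201011333010302020102010283010202021301020102010233010302010202024301010202020102930133010233011302010302020102010202021301930153020301020201010302010233010202024301930153020183020201010302010233020102010202011302024301020153020102010202020301010202020201010202020183020102020201010202930102 1 1 0 64 56 = 57)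

theorem all : Part C 0 120 120 := (c0).append C c1

end Cfsg.Agent.HN.UpTChk0
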