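import Cfsg.Agent.SporadicRecognition.CosetCert

set_option autoImplicit false
set_option maxRecDepth 100000

namespace Cfsg.Agent.HN.UpTData

open Cfsg.Agent.SporadicRecognition.CosetCert

noncomputable def tree : Tr := (.N 64 (.N 32 (.N 16 (.L 0xffff21200f88201f1ffff0e871f1e1e1d2ffff1d1c1c1b0d860ffff1a1a0c8619191ffff0b85181817172ffff161609850b071ffff1515141408840ffff1313078412121ffff0683111110102ffff0f0f0a8b05830ffff04820e0e0d0d2ffff0c0c03820a0b1ffff0281090a08092ffff0708060701810ffff0506008104051ffff030402030102f) (.L 0xffff209043363db32ffff41351f903f341ffff3d3328a41e8f0ffff3c321d8f3a311ffff1c8e30aa39302ffff372f34ad1b8e0ffff198d362e1b152ffff22a1188d342d1ffff332c322b178c0ffff302a168c2ba61ffff158b2f292e282ffff148a1a9a2d272ffff2b2626a3138a0ffff12892a2524a22ffff2824118926231ffff2422222110880)) (.N 48 (.L 0xffff5c46389c5b451ffff369b382859442ffff44b75743359a0ffff56423399351b1ffff329851bf55412ffff3ab14cbc31980ffff2f974fbe311c2ffff534041b52e960ffff513f2d9637af1ffff4f3e2c954e3d1ffff2a942c174c3c2ffff4a3b493a29930ffff27924739291e2ffff4638259227141ffff2391251344372ffff23193fb421910)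 (.L 0xffff52a9543262ca2ffff50a85cc6522c2ffff4ea77053502a2ffff6e524da757c31ffff6d514ba64d2b1ffff49a54b336b502ffff694f64cb48a50ffff684e483146a40ffff45a3674d664c2ffff452e43a2644b1ffff624a614942a00ffff409f59c442292ffff60483e9f40211ffff3c9e3e204abb2ffff3b9d5e4753c02ffff3b2b399d47b91))) (.N 96 (.N 80 (.L 0xffff8d656abb6c491ffff68ba6a4c8b642ffff67b986e18a632ffff88626ed266b80ffff866165b869cf1ffff846063b7653a1ffff61b66340825f2ffff805e6bd060b60ffff5fb47e5d7d5c2ffff5f417c5b5db20ffff5bb07a5a5d3f2ffff78595ab070d31ffff775858af5a351ffff7557583d56ae0ffff55ad745673552ffff5ec754ac72541) (.L 0xffff83cb9fee855d2ffffa16f81ca835b1ffff7fc9815c9f6e2ffff7f5584e07dc80ffff99eb7cc880de1ffff9d6d82df7bc70ffff9b6c7b5479c60ffff77c597ea79562ffff76c4996b95e92ffff74c37655976a2ffff956978d973c20ffff7edd72c275d71ffff936871c17ada1ffff916771456fbe0ffff6dbd8be46f4d2ffff6cbc8f6688e22)) (.N 112 (.L 0xffffa2e4a8f3acf52ffffa0dfaaf4a26b2ffffac759edea0601ffff9cdb9e63a4f12ffff9ada9c69aa742ffff9a5ca1ef98d80ffffa87396d798591ffff94d696589bec2ffff92d4a6f294662ffff90d39262a6722ffff906393e88ed10ffff8cd0a4718e612ffffa3708acf8c521ffff8fe689ce9ded1ffff87cd895191e72ffff85cc8de5874e2)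 (.L 0xffffb1f4b376b4772ffffaff2b3f8b1732ffffadf1af75b2f82ffffabeead70aef62ffffb278a9ecab6f1ffffa7eab0f7a9702ffffb077a5e7a7681ffffae76a56da3e50))))

noncomputable def wtree : WT := (.N 5 (.N 2 (.N 1 (.L 1 [0,0,0,0,0]) (.L 1 [2,0,2,0,2,0,2])) (.N 3 (.L 2 [1,1,2,1,1,2,1,1]) (.N 4 (.L 0 [2,1,2,1,2,1,2]) (.L 1 [0,2,0,0,2,0,0,2])))) (.N 7 (.N 6 (.L 0 [1,2,1,1,2,1,1,2]) (.L 2 [0,0,2,0,0,2,0,0])) (.N 8 (.L 2 [0,2,0,2,0,2,0]) (.N 9 (.L 0 [1,1,1,1,1]) (.L 2 [1,2,1,2,1,2,1])))))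

noncomputable def stree : ST := (.L 3 [] [])

noncomputable def C : Cert where
  data := tree
  lm := 15
  rb := 68
  fb := 16
  mask := 65535
  B := 128
  k := 3
  N := 120
  inv := fun x => bif Nat.beq x 0 then 1 else bif Nat.beq x 1 then 0 else bif Nat.beq x 2 then 2 else x
  words := wtree
  subs := stree

def rels : List (List Nat) := [[0,0,0,0,0,0], [0,2,0,2,0,2,0,2], [0,0,2,0,0,2,0,0,2]]

def subw : List (List Nat) := []

end Cfsg.Agent.HN.UpTData
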