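import Cfsg.Agent.SporadicRecognition.CosetChain
import Cfsg.Agent.HN.UpAAll
import Cfsg.Agent.HN.UpTAll
import Cfsg.Agent.HN.UpNets
import Cfsg.Agent.Lib.PermNetOrbit

/-!
# The group with two generators `x, y`, `x ^ 2 = 1` and the `x, y`-relators of Harada-Norton

Any group generated by elements `x, y` with `x ^ 2 = 1` satisfying the remaining relators has order
at most 756000, and the universal such group `Q` acts faithfully on 378 points; so identities
between words in `x, y` can be checked on these points.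
-/

set_option autoImplicit false
set_option maxRecDepth 100000

namespace Cfsg.Agent.HN.UpXY

open Cfsg.Agent.SporadicRecognition.CosetCert Cfsg.Agent.SporadicRecognition.CosetCertHyp
  Cfsg.Agent.SporadicRecognition.CosetChain
open Cfsg.Agent.Lib.PermNet Cfsg.Agent.Lib.PermNetOrbit

/-- The relations between `x` and `y`, with `x ^ 2 = 1`. -/
structure XY {G : Type*} [Group G] (x y : G) : Prop where
  r0 : x * x = 1
  r1 : y ^ 6 = 1
  r3 : (x * y⁻¹ * x * y) ^ 3 = 1
  r4 : (x * y ^ 2 * x * y ^ 3) ^ 3 = 1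
  r5 : (x * y) ^ 8 = 1
  r6 : (x * y * x * y ^ 3) ^ 4 = 1

/-- letters -/
def ltr {G : Type*} [Group G] (x y : G) : ℕ → G
  | 0 => x
  | 1 => y
  | 2 => y⁻¹
  | _ => 1

/-- formal inverse of letters -/
def linv : ℕ → ℕ
  | 0 => 0
  | 1 => 2
  | 2 => 1
  | n => n

theorem ltr_inv {G : Type*} [Group G] {x y : G} (h : XY x y) (n : ℕ) (hn : n < 3) :
    linv n < 3 ∧ ltr x y n * ltr x y (linv n) = 1 := by
  interval_cases n
  · exact ⟨by decide, h.r0⟩
  · exact ⟨by decide, mul_inv_cancel y⟩
  · exact ⟨by decide, inv_mul_cancel y⟩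

/-- the relators as expressions -/
def exsA : List Ex :=
  [.p (.g 1) 6,
   .p (.m (.m (.m (.g 0) (.i (.g 1))) (.g 0)) (.g 1)) 3,
   .p (.m (.m (.m (.g 0) (.p (.g 1) 2)) (.g 0)) (.p (.g 1) 3)) 3,
   .p (.m (.g 0) (.g 1)) 8,
   .p (.m (.m (.m (.g 0) (.g 1)) (.g 0)) (.p (.g 1) 3)) 4]

theorem exsA_val {G : Type*} [Group G] {x y : G} (h : XY x y) : ∀ e ∈ exsA, e.val (ltr x y) = 1 := by
  intro e he
  simp only [exsA, List.mem_cons, List.not_mem_nil, or_false] at he
  rcases he with rfl | rfl | rfl | rfl | rfl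
  · exact h.r1
  · exact h.r3
  · exact h.r4
  · exact h.r5
  · exact h.r6

/-- by definition (so that no unfolding lemma of `Ex.lt` is generated in this file) -/
theorem lt_pw (k n : ℕ) (a : Ex) : (Ex.p a n).lt k ↔ a.lt k := Iff.rfl
theorem lt_iv (k : ℕ) (a : Ex) : (Ex.i a).lt k ↔ a.lt k := Iff.rfl

theorem exsA_lt : ∀ e ∈ exsA, e.lt 3 := by
  simp [exsA, Ex.lt_g, Ex.lt_m, lt_pw, lt_iv]

theorem exsA_ev {G : Type*} [Group G] {x y : G} (h : XY x y) :
    ∀ r ∈ exsA.map (Ex.word linv), ev (ltr x y) r = 1 := by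
  intro r hr
  obtain ⟨e, he, rfl⟩ := List.mem_map.1 hr
  rw [Ex.ev_word (k := 3) (fun n hn => ltr_inv h n hn) e (exsA_lt e he)]
  exact exsA_val h e he

/-! ### the subgroup generated by `x y x` and `y ^ 3` -/

/-- letters for the subgroup -/
def ltrT {G : Type*} [Group G] (d a : G) : ℕ → G
  | 0 => d
  | 1 => d⁻¹
  | 2 => a
  | _ => 1

def linvT : ℕ → ℕ
  | 0 => 1
  | 1 => 0
  | n => n

def exsT : List Ex :=
  [.p (.g 0) 6, .p (.m (.g 0) (.g 2)) 4, .p (.m (.p (.g 0) 2) (.g 2)) 3]

theorem card_T {G : Type*} [Group G] {d a : G} (h1 : d ^ 6 = 1) (h2 : a * a = 1)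
    (h3 : (d * a) ^ 4 = 1) (h4 : (d ^ 2 * a) ^ 3 = 1) :
    Finite (Subgroup.closure ({d, a} : Set G)) ∧
      Nat.card (Subgroup.closure ({d, a} : Set G)) ≤ 120 := by
  have hinv : ∀ n, n < 3 → linvT n < 3 ∧ ltrT d a n * ltrT d a (linvT n) = 1 := by
    intro n hn
    interval_cases n
    · exact ⟨by decide, mul_inv_cancel d⟩
    · exact ⟨by decide, inv_mul_cancel d⟩
    · exact ⟨by decide, h2⟩
  have hval : ∀ e ∈ exsT, e.val (ltrT d a) = 1 := by
    intro e he
    simp only [exsT, List.mem_cons, List.not_mem_nil, or_false] at he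
    rcases he with rfl | rfl | rfl
    · exact h1
    · exact h3
    · exact h4
  have hlt : ∀ e ∈ exsT, e.lt 3 := by simp [exsT, Ex.lt_g, Ex.lt_m, lt_pw, lt_iv]
  have hrel : ∀ r ∈ exsT.map (Ex.word linvT), ev (ltrT d a) r = 1 := by
    intro r hr
    obtain ⟨e, he, rfl⟩ := List.mem_map.1 hr
    rw [Ex.ev_word (k := 3) (fun n hn => hinv n hn) e (hlt e he)]
    exact hval e he
  have hyp := hyp_of_checks (⊥ : Subgroup G) (ltrT d a) UpTData.C (exsT.map (Ex.word linvT)) []
    rfl (fun n hn => by
      have := hinv n hn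
      have hn' : n < 3 := hn
      interval_cases n
      · exact this
      · exact this
      · exact this) hrel (by simp) (by decide +kernel)
  have h := card_closure_le UpTData.C ⊥ (ltrT d a) hyp UpTAll.part
  have himg : ltrT d a '' {n | n < UpTData.C.k} = {d, d⁻¹, a} := by
    ext g
    constructor
    · rintro ⟨n, hn, rfl⟩
      have hn' : n < 3 := hn
      interval_cases n
      · exact Or.inl rfl
      · exact Or.inr (Or.inl rfl)
      · exact Or.inr (Or.inr rfl)
    · rintro (rfl | rfl | rfl)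
      · exact ⟨0, by decide, rfl⟩
      · exact ⟨1, by decide, rfl⟩
      · exact ⟨2, by decide, rfl⟩
  have hcl : Subgroup.closure (ltrT d a '' {n | n < UpTData.C.k}) = Subgroup.closure {d, a} := by
    rw [himg]
    apply le_antisymm
    · rw [Subgroup.closure_le]
      rintro g (rfl | rfl | rfl)
      · exact Subgroup.subset_closure (Or.inl rfl)
      · exact Subgroup.inv_mem _ (Subgroup.subset_closure (Or.inl rfl))
      · exact Subgroup.subset_closure (Or.inr rfl)
    · apply Subgroup.closure_mono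
      rintro g (rfl | rfl)
      · exact Or.inl rfl
      · exact Or.inr (Or.inr rfl)
  rw [hcl] at h
  refine ⟨h.1, h.2.trans ?_⟩
  rw [Subgroup.card_bot]

theorem closure_ltr {G : Type*} [Group G] (x y : G) :
    Subgroup.closure (ltr x y '' {n | n < 3}) = Subgroup.closure {x, y} := by
  apply le_antisymm
  · rw [Subgroup.closure_le]
    rintro _ ⟨n, hn, rfl⟩
    have hn' : n < 3 := hn
    interval_cases n
    · exact Subgroup.subset_closure (Or.inl rfl)
    · exact Subgroup.subset_closure (Or.inr rfl)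
    · exact Subgroup.inv_mem _ (Subgroup.subset_closure (Or.inr rfl))
  · apply Subgroup.closure_mono
    rintro g (rfl | rfl)
    · exact ⟨0, by decide, rfl⟩
    · exact ⟨1, by decide, rfl⟩

/-- The group has order at most 756000. -/
theorem card_le {G : Type*} [Group G] {x y : G} (h : XY x y) :
    Finite (Subgroup.closure ({x, y} : Set G)) ∧
      Nat.card (Subgroup.closure ({x, y} : Set G)) ≤ 756000 := by
  have hxinv : x⁻¹ = x := inv_eq_of_mul_eq_one_right h.r0
  have hT := card_T (d := x * y * x) (a := y ^ 3)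
    (by
      have e : x * y * x = x * y * x⁻¹ := by rw [hxinv]
      rw [e, conj_pow, h.r1]; group)
    (by rw [← pow_add]; exact h.r1)
    (by rw [← h.r6]) (by
      have e : (x * y * x) ^ 2 = x * y ^ 2 * x := by
        have : x * y * x = x * y * x⁻¹ := by rw [hxinv]
        rw [this, conj_pow, hxinv]
      rw [e]; exact h.r4)
  have := hT.1
  have hyp := hyp_of_checks (Subgroup.closure {x * y * x, y ^ 3}) (ltr x y) UpAData.C
    (exsA.map (Ex.word linv)) [[0, 1, 0], [1, 1, 1]] rfl (fun n hn => by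
      have := ltr_inv h n hn
      have hn' : n < 3 := hn
      interval_cases n
      · exact this
      · exact this
      · exact this) (exsA_ev h) (by
      intro s hs
      simp only [List.mem_cons, List.not_mem_nil, or_false] at hs
      rcases hs with rfl | rfl
      · refine Subgroup.subset_closure (Or.inl ?_)
        simp [ev, ltr, mul_assoc]
      · refine Subgroup.subset_closure (Or.inr ?_)
        simp [ev, ltr, pow_succ, mul_assoc]) (by decide +kernel)
  have hc := card_closure_le UpAData.C _ (ltr x y) hyp UpAAll.part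
  have hk : Subgroup.closure (ltr x y '' {n | n < UpAData.C.k}) = Subgroup.closure {x, y} :=
    closure_ltr x y
  rw [hk] at hc
  refine ⟨hc.1, hc.2.trans ?_⟩
  calc 6300 * Nat.card (Subgroup.closure ({x * y * x, y ^ 3} : Set G)) ≤ 6300 * 120 :=
        Nat.mul_le_mul_left _ hT.2
    _ = 756000 := by norm_num

end Cfsg.Agent.HN.UpXY
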