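import Cfsg.Agent.HN.P1408
import Cfsg.Agent.HN.Upper

set_option autoImplicit false

/-!
Unconditional word equality in `H0`, and in every group satisfying the ten relations.
-/

namespace Cfsg.Agent.HN.WordEq

open Cfsg.Agent.HN.Pres Cfsg.Agent.HN.P1408

theorem finite_H0 : Finite H0 := Upper.card_H0_le.1

theorem card_H0 : Nat.card H0 = 177408000 :=
  P1408.card_H0 Upper.card_H0_le.1 Upper.card_H0_le.2

/-- Equality of words in `H0`, checked in the kernel. -/
theorem hw_eq {a b : List ℕ} (h : eqw a b = true) : hw a = hw b :=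
  eq_of_tr Upper.card_H0_le.1 Upper.card_H0_le.2 h

/-- Boolean test for membership in `U`. -/
def inU (a : List ℕ) : Bool := cosw a []

/-- Membership in `U = ⟨y, x⁻¹yx⟩`, checked in the kernel. -/
theorem mem_U {a : List ℕ} (h : inU a = true) : hw a ∈ U := by
  obtain ⟨u, hu, h1⟩ := coset_of_tr Upper.card_H0_le.1 Upper.card_H0_le.2 h
  rw [h1, hw_nil, mul_one]
  exact hu

/-- Membership in `C = ⟨x, y⟩`, checked in the kernel. -/
theorem mem_C {a : List ℕ} (h : inC a = true) : hw a ∈ C :=
  mem_C_of_tr Upper.card_H0_le.1 Upper.card_H0_le.2 h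

section

variable {G : Type*} [Group G] {X Y Z : G} (hR : Rels X Y Z)

include hR

theorem lift_hw (a : List ℕ) : lift hR (hw a) = ev X Y Z a := by
  rw [map_hw, lift_gx, lift_gy, lift_gz]

/-- Equality of words in a group satisfying the ten relations. -/
theorem ev_eq {a b : List ℕ} (h : eqw a b = true) : ev X Y Z a = ev X Y Z b := by
  rw [← lift_hw hR, ← lift_hw hR, hw_eq h]

theorem ev_mem_U {a : List ℕ} (h : inU a = true) :
    ev X Y Z a ∈ Subgroup.closure ({Y, X⁻¹ * Y * X} : Set G) := by
  have h1 := Subgroup.mem_map_of_mem (lift hR) (mem_U h)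
  rw [lift_hw hR, U, MonoidHom.map_closure, Set.image_pair, map_mul, map_mul, map_inv, lift_gx,
    lift_gy] at h1
  exact h1

theorem ev_mem_C {a : List ℕ} (h : inC a = true) :
    ev X Y Z a ∈ Subgroup.closure ({X, Y} : Set G) := by
  have h1 := Subgroup.mem_map_of_mem (lift hR) (mem_C h)
  rw [lift_hw hR, C, MonoidHom.map_closure, Set.image_pair, lift_gx, lift_gy] at h1
  exact h1

theorem tau_sq : (X ^ 2) * (X ^ 2) = 1 := by
  have h := ev_eq hR (a := [0, 0, 0, 0]) (b := []) (by decide +kernel)
  simp only [ev, letG, mul_one] at h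
  rw [← h, pow_two]
  simp only [mul_assoc]

end

end Cfsg.Agent.HN.WordEq
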