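import Cfsg.Agent.HN.XStruct
import Cfsg.Agent.HN.GoodMask

/-!
# Closing: the normal form of all elements of `K = C_G(w)/⟨w⟩`

We put `XStruct.Hyp` (structure of the normaliser of `R`) and `GoodMask` (the ten good subspaces) into the closing lemma
`Closing.normal_of_cfg`.
-/

set_option autoImplicit false

namespace Cfsg.Agent.HN.XClose

open Cfsg.Agent.HN.XMat Cfsg.Agent.HN.XStruct Cfsg.Agent.HN.Closing Cfsg.Agent.HN.GoodMask

variable {K : Type*} [Group K] [Finite K] {k γ : ℕ → K} {D S : Set K}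

theorem coord (h : Hyp k γ D S) : Coord D S (XStruct.R h.toBas) (r k) where
  zero := Bas.r_zero
  xor := fun a _ b _ => h.toBas.r_xor a b
  inj := fun _ ha _ hb e => h.toBas.r_inj ha hb e
  mem := fun x => by
    rw [mem_R]
    constructor
    · rintro ⟨m, hm, rfl⟩
      exact ⟨m, hm, rfl⟩
    · rintro ⟨m, hm, rfl⟩
      exact ⟨m, hm, rfl⟩
  hD := fun m hm => h.mem_D_of_DD hm
  hS := fun s hs hc => by
    obtain ⟨t, ht, hA⟩ := h.acts_SL hs hc
    exact ⟨t, ht, fun m _ => h.toBas.acts_r hA m⟩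
  hS' := fun t ht => by
    obtain ⟨s, hs, hc, hA⟩ := h.exists_SL ht
    exact ⟨s, hs, hc, fun m _ => h.toBas.acts_r hA m⟩

theorem cfg (h : Hyp k γ D S) : Cfg D S (XStruct.R h.toBas) where
  sq := h.f_sq
  DR := h.f_DR
  uD := h.f_uD
  uS := h.f_uS
  neD := h.f_neD
  neS := h.f_neS
  h6 := h.f_h6
  h7 := fun s hs hc s' hs' hc' he _ => h.f_h7 s hs hc s' hs' hc' he
  g1 := (coord h).g1
  g2 := (coord h).g2
  g3 := (coord h).g3

/-- `R` is normal. -/
theorem cj_eq (h : Hyp k γ D S) (hdis : ∀ e ∈ D, e ∉ S) (x : K) : cj x (XStruct.R h.toBas) = XStruct.R h.toBas :=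
  normal_of_cfg h.cD h.cS hdis h.sqD h.sqS (cfg h) x

/-- **Normal form of all elements of `K`.** -/
theorem normal_form (h : Hyp k γ D S) (hdis : ∀ e ∈ D, e ∉ S) (x : K) :
    ∃ m < 256, ∃ w ∈ S5W, ∃ w' ∈ DW, x = r k m * evw γ w * evw γ w' :=
  h.nf_of_cj (cj_eq h hdis x)

omit [Finite K] in
theorem rr_mem {L : Subgroup K} (hk : ∀ i < 8, k i ∈ L) (m : ℕ) : ∀ n ≤ 8, rr k m n ∈ L := by
  intro n
  induction n with
  | zero => intro _; exact L.one_mem
  | succ n ih =>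
    intro hn
    rw [rr_succ]
    apply L.mul_mem (ih (by omega))
    split
    · exact hk n (by omega)
    · exact L.one_mem

omit [Finite K] in
theorem evw_mem {L : Subgroup K} (hg : ∀ g, γ g ∈ L) (w : List ℕ) : evw γ w ∈ L := by
  induction w with
  | nil => rw [evw_nil]; exact L.one_mem
  | cons g w ih => rw [evw_cons]; exact L.mul_mem (hg g) ih

/-- `K` is generated by the basis of `R` and the acting elements. -/
theorem eq_top (h : Hyp k γ D S) (hdis : ∀ e ∈ D, e ∉ S) {L : Subgroup K} (hk : ∀ i < 8, k i ∈ L)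
    (hg : ∀ g, γ g ∈ L) : L = ⊤ := by
  rw [eq_top_iff]
  intro x _
  obtain ⟨m, _, w, _, w', _, rfl⟩ := normal_form h hdis x
  exact L.mul_mem (L.mul_mem (rr_mem hk m 8 le_rfl) (evw_mem hg w)) (evw_mem hg w')

/-- Every involution of `K` is conjugate to an element of `R` or to `xi1, xi2, xi3`. -/
theorem involution_cases (h : Hyp k γ D S) (hdis : ∀ e ∈ D, e ∉ S) {x : K} (hsq : x * x = 1) :
    x ∈ XStruct.R h.toBas ∨ ∃ v, v * x * v⁻¹ = xi1 γ ∨ v * x * v⁻¹ = xi2 k γ ∨ v * x * v⁻¹ = xi3 k γ := by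
  rcases h.involution_cases (cj_eq h hdis x) hsq with h1 | ⟨v, _, h1⟩
  · exact Or.inl h1
  · exact Or.inr ⟨v, h1⟩

end Cfsg.Agent.HN.XClose
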