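import Cfsg.Agent.HN.XStruct

/-!
# Counting for the closing step: centralisers modulo a central involution

`π : C →* K` is a surjective homomorphism whose kernel is `{1, w}` with `w` central.  We bound the order of
`C_K(π s)` by the order of `C_C(s)`.  From `|C_K(k 0)| ≤ 30720` we get the field `cent0` of `XStruct.Hyp`.
-/

set_option autoImplicit false

namespace Cfsg.Agent.HN.XCount

open Subgroup

section quotient

variable {C K : Type*} [Group C] [Finite C] [Group K] {π : C →* K} {w : C}

omit [Finite C] in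
/-- the preimage of the centraliser of `π s` -/
theorem mem_comap_centralizer (hk : ∀ c, π c = 1 ↔ c = 1 ∨ c = w) {s c : C} :
    c ∈ (centralizer {π s}).comap π ↔ c * s * c⁻¹ = s ∨ c * s * c⁻¹ = w * s := by
  rw [mem_comap, mem_centralizer_singleton_iff]
  constructor
  · intro h
    have h1 : π (c * s * c⁻¹ * s⁻¹) = 1 := by
      rw [map_mul, map_mul, map_mul, map_inv, map_inv, h]; group
    rcases (hk _).1 h1 with h2 | h2
    · left
      rwa [mul_inv_eq_one] at h2
    · right
      rw [← h2]; group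
  · intro h
    have h1 : π (c * s * c⁻¹ * s⁻¹) = 1 := by
      rcases h with h | h
      · rw [h, mul_inv_cancel, map_one]
      · rw [h]
        have : w * s * s⁻¹ = w := by group
        rw [this]
        exact (hk w).2 (Or.inr rfl)
    rw [map_mul, map_mul, map_mul, map_inv, map_inv, mul_inv_eq_one, mul_inv_eq_iff_eq_mul] at h1
    exact h1

theorem card_comap (hπ : Function.Surjective π) (hw : w ≠ 1) (hk : ∀ c, π c = 1 ↔ c = 1 ∨ c = w)
    (L : Subgroup K) : Nat.card (L.comap π) = 2 * Nat.card L := by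
  have h1 : Nat.card π.ker = 2 := by
    have : (π.ker : Set C) = {1, w} := by
      ext c
      simp only [SetLike.mem_coe, MonoidHom.mem_ker, hk, Set.mem_insert_iff, Set.mem_singleton_iff]
    have h2 : Nat.card π.ker = Set.ncard (π.ker : Set C) := rfl
    rw [h2, this, Set.ncard_pair (Ne.symm hw)]
  have h3 := Subgroup.index_comap_of_surjective L hπ
  have h4 := (L.comap π).card_mul_index
  have h5 := L.card_mul_index
  have h6 : Nat.card C = 2 * Nat.card K := by
    have h7 := π.ker.card_mul_index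
    rw [h1, Subgroup.index_ker, MonoidHom.range_eq_top.2 hπ, Subgroup.card_top] at h7
    exact h7.symm
  have hfin : Finite K := Finite.of_surjective π hπ
  have h8 : 0 < L.index := Nat.pos_of_ne_zero L.index_ne_zero_of_finite
  rw [h3] at h4
  apply Nat.eq_of_mul_eq_mul_right h8
  rw [h4, h6, mul_assoc, h5]

/-- conjugation of `s` inside the preimage of the centraliser -/
theorem card_comap_le (hk : ∀ c, π c = 1 ↔ c = 1 ∨ c = w) {s : C} :
    Nat.card ((centralizer {π s}).comap π) ≤ 2 * Nat.card (centralizer {s}) := by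
  set B := (centralizer {π s}).comap π with hB
  have hle : centralizer {s} ≤ B := by
    intro c hc
    rw [hB, mem_comap_centralizer hk]
    left
    rw [mem_centralizer_singleton_iff] at hc
    rw [hc]; group
  by_cases h : ∃ b ∈ B, b * s * b⁻¹ ≠ s
  · obtain ⟨b, hb, hbs⟩ := h
    have hbw : b * s * b⁻¹ = w * s := by
      rcases (mem_comap_centralizer hk).1 hb with h1 | h1
      · exact absurd h1 hbs
      · exact h1
    -- every element of `B` is in `centralizer s` or `b * centralizer s`
    have hcov : (B : Set C) ⊆ (centralizer {s} : Set C) ∪ (fun c => b * c) '' (centralizer {s} : Set C) := by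
      intro c hc
      rcases (mem_comap_centralizer hk).1 hc with h1 | h1
      · left
        rw [SetLike.mem_coe, mem_centralizer_singleton_iff]
        rw [mul_inv_eq_iff_eq_mul] at h1
        exact h1
      · right
        refine ⟨b⁻¹ * c, ?_, by group⟩
        rw [SetLike.mem_coe, mem_centralizer_singleton_iff]
        rw [← hbw] at h1
        have h2 : c * s = b * s * b⁻¹ * c := by rw [← h1]; group
        rw [mul_assoc, h2]; group
    have h2 := Set.ncard_le_ncard hcov (Set.toFinite _)
    have h3 := Set.ncard_union_le (centralizer {s} : Set C) ((fun c => b * c) '' (centralizer {s} : Set C))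
    have h4 : Set.ncard ((fun c => b * c) '' (centralizer {s} : Set C)) ≤ Set.ncard (centralizer {s} : Set C) :=
      Set.ncard_image_le (Set.toFinite _)
    have h5 : Nat.card B = Set.ncard (B : Set C) := rfl
    have h6 : Nat.card (centralizer {s} : Subgroup C) = Set.ncard (centralizer {s} : Set C) := rfl
    omega
  · have h7 : B ≤ centralizer {s} := by
      intro c hc
      by_contra hcs
      apply h
      refine ⟨c, hc, fun h1 => hcs ?_⟩
      rw [mem_centralizer_singleton_iff]
      rw [mul_inv_eq_iff_eq_mul] at h1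
      exact h1
    have h8 : Nat.card B ≤ Nat.card (centralizer {s}) := Subgroup.card_le_of_le h7
    omega

/-- `|C_K(π s)| ≤ |C_C(s)|`. -/
theorem card_centralizer_le (hπ : Function.Surjective π) (hw : w ≠ 1) (hk : ∀ c, π c = 1 ↔ c = 1 ∨ c = w)
    {s : C} : Nat.card (centralizer {π s}) ≤ Nat.card (centralizer {s}) := by
  have h1 := card_comap hπ hw hk (centralizer {π s})
  have h2 := card_comap_le hk (s := s)
  omega

/-- `2 |C_K(π s)| ≤ |C_C(s)|` if `s` and `w s` are not conjugate. -/
theorem two_card_centralizer_le (hπ : Function.Surjective π) (hw : w ≠ 1) (hk : ∀ c, π c = 1 ↔ c = 1 ∨ c = w)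
    {s : C} (hs : ¬ IsConj s (w * s)) : 2 * Nat.card (centralizer {π s}) ≤ Nat.card (centralizer {s}) := by
  rw [← card_comap hπ hw hk]
  apply Subgroup.card_le_of_le
  intro c hc
  rcases (mem_comap_centralizer hk).1 hc with h1 | h1
  · rw [mem_centralizer_singleton_iff]
    rw [mul_inv_eq_iff_eq_mul] at h1
    exact h1
  · exact absurd (isConj_iff.2 ⟨c, h1⟩) hs

end quotient

/-! ### The field `cent0` -/

section cent0

open Cfsg.Agent.HN.XMat Cfsg.Agent.HN.XStruct

variable {K : Type*} [Group K] [Finite K] {k γ : ℕ → K}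

theorem chkRow0 : S5M.all (fun M => Nat.beq (row M 0) 1) = true := by decide +kernel

theorem card_S5W : S5W.length = 120 := by decide +kernel

theorem nodup_S5W : S5W.Nodup := by decide +kernel

omit [Finite K] in
theorem evw_comm (h : Bas k γ) {w : List ℕ} (hw : w ∈ S5W) : evw γ w * k 0 = k 0 * evw γ w := by
  have h1 := h.acts_evw w 0 (by norm_num)
  rw [Nat.eq_of_beq_eq_true (List.all_eq_true.1 chkRow0 _ (mem_S5M hw)), Bas.r_one] at h1
  have h2 : k 0 * evw γ w = evw γ w * ((evw γ w)⁻¹ * k 0 * evw γ w) := by group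
  rw [h2, h1]

/-- the field `cent0` from the order of the centraliser of `k 0` -/
theorem cent0_of_card (h : Bas k γ) (hc : Nat.card (centralizer {k 0}) ≤ 30720) {x : K} (hx : x * k 0 = k 0 * x) :
    ∃ m < 256, ∃ w ∈ S5W, x = r k m * evw γ w := by
  classical
  obtain ⟨P, hP, hPm⟩ : ∃ P : Finset (ℕ × List ℕ), P.card = 30720 ∧ ∀ p, p ∈ P ↔ p.1 < 256 ∧ p.2 ∈ S5W := by
    refine ⟨(Finset.range 256) ×ˢ S5W.toFinset, ?_, fun p => ?_⟩
    · have e1 : ((Finset.range 256) ×ˢ S5W.toFinset).card = (Finset.range 256).card * S5W.toFinset.card :=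
        Finset.card_product _ _
      rw [e1, Finset.card_range, List.toFinset_card_of_nodup nodup_S5W, card_S5W]
    · rw [Finset.mem_product, Finset.mem_range, List.mem_toFinset]
  obtain ⟨f, hfd⟩ : ∃ f : ℕ × List ℕ → K, ∀ p, f p = r k p.1 * evw γ p.2 := ⟨_, fun _ => rfl⟩
  have hf : ∀ p ∈ P, f p ∈ (centralizer {k 0} : Subgroup K) := by
    rintro ⟨m, w⟩ hp
    have hp2 := (hPm _).1 hp
    rw [mem_centralizer_singleton_iff, hfd]
    change r k m * evw γ w * k 0 = k 0 * (r k m * evw γ w)
    rw [mul_assoc, evw_comm h hp2.2, ← mul_assoc, h.k_comm_r (by norm_num), mul_assoc]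
  have hinj : Set.InjOn f P := by
    rintro ⟨m, w⟩ hp ⟨m', w'⟩ hp' e
    have hp2 := (hPm _).1 (Finset.mem_coe.1 hp)
    have hp2' := (hPm _).1 (Finset.mem_coe.1 hp')
    rw [hfd, hfd] at e
    change r k m * evw γ w = r k m' * evw γ w' at e
    have a1 := h.acts_rmul (h.acts_evw w) m
    have a2 := h.acts_rmul (h.acts_evw w') m'
    rw [← e] at a2
    have e1 : mw w = mw w' := pack_ext (mw_lt _) (mw_lt _) fun i hi => h.acts_unique a1 a2 hi
    have e2 := mw_injOn hp2.2 hp2'.2 e1
    subst e2
    have e3 : m = m' := h.r_inj hp2.1 hp2'.1 (mul_right_cancel e)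
    rw [e3]
  have h1 : (P.image f).card = 30720 := by rw [Finset.card_image_of_injOn hinj, hP]
  have h2 : (↑(P.image f) : Set K) = (centralizer {k 0} : Set K) := by
    apply Set.eq_of_subset_of_ncard_le
    · intro y hy
      obtain ⟨p, hp, hpy⟩ := Finset.mem_image.1 (Finset.mem_coe.1 hy)
      rw [← hpy]
      exact hf p hp
    · rw [Set.ncard_coe_finset, h1]
      exact hc
    · exact Set.toFinite _
  have h3 : x ∈ (↑(P.image f) : Set K) := by
    rw [h2, SetLike.mem_coe, mem_centralizer_singleton_iff]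
    exact hx
  obtain ⟨⟨m, w⟩, hp, hx'⟩ := Finset.mem_image.1 (Finset.mem_coe.1 h3)
  have hp2 := (hPm _).1 hp
  exact ⟨m, hp2.1, w, hp2.2, by rw [← hx', hfd]⟩

omit [Finite K] in
theorem W_comm_rr {W : Subgroup K} (Wk : ∀ o ∈ W, ∀ i < 8, o * k i = k i * o) {o : K} (ho : o ∈ W) (m : ℕ) :
    ∀ n ≤ 8, o * rr k m n = rr k m n * o := by
  intro n
  induction n with
  | zero => intro _; rw [rr_zero, one_mul, mul_one]
  | succ n ih =>
    intro hn
    rw [rr_succ]
    split
    · rw [← mul_assoc, ih (by omega), mul_assoc, Wk o ho n (by omega), mul_assoc]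
    · rw [mul_one, ih (by omega)]

omit [Finite K] in
theorem W_comm_evw {W : Subgroup K} (Wγ : ∀ o ∈ W, ∀ g, o * γ g = γ g * o) {o : K} (ho : o ∈ W) (w : List ℕ) :
    o * evw γ w = evw γ w * o := by
  induction w with
  | nil => rw [evw_nil, one_mul, mul_one]
  | cons g w ih => rw [evw_cons, ← mul_assoc, Wγ o ho g, mul_assoc, ih, mul_assoc]

/-- the field `cent0` of `XStructW.HypW` from the order of the centraliser of `k 0` -/
theorem cent0W_of_card (h : Bas k γ) {W : Subgroup K} (hodd : Odd (Nat.card W))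
    (Wk : ∀ o ∈ W, ∀ i < 8, o * k i = k i * o) (Wγ : ∀ o ∈ W, ∀ g, o * γ g = γ g * o)
    (hc : Nat.card (centralizer {k 0}) ≤ 30720 * Nat.card W) {x : K} (hx : x * k 0 = k 0 * x) :
    ∃ m < 256, ∃ w ∈ S5W, ∃ o ∈ W, x = r k m * evw γ w * o := by
  classical
  have hWr : ∀ o ∈ W, ∀ m, o * r k m = r k m * o := fun o ho m => W_comm_rr Wk ho m 8 le_rfl
  obtain ⟨P, hP, hPm⟩ : ∃ P : Finset ((ℕ × List ℕ) × K), P.card = 30720 * Nat.card W ∧
      ∀ p, p ∈ P ↔ (p.1.1 < 256 ∧ p.1.2 ∈ S5W) ∧ p.2 ∈ W := by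
    refine ⟨((Finset.range 256) ×ˢ S5W.toFinset) ×ˢ (Set.toFinite (W : Set K)).toFinset, ?_, fun p => ?_⟩
    · have e1 : (((Finset.range 256) ×ˢ S5W.toFinset) ×ˢ (Set.toFinite (W : Set K)).toFinset).card =
          ((Finset.range 256) ×ˢ S5W.toFinset).card * (Set.toFinite (W : Set K)).toFinset.card :=
        Finset.card_product _ _
      have e2 : ((Finset.range 256) ×ˢ S5W.toFinset).card = (Finset.range 256).card * S5W.toFinset.card :=
        Finset.card_product _ _
      have e3 : (Set.toFinite (W : Set K)).toFinset.card = Nat.card W := by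
        rw [← Set.ncard_eq_toFinset_card]; rfl
      rw [e1, e2, e3, Finset.card_range, List.toFinset_card_of_nodup nodup_S5W, card_S5W]
    · rw [Finset.mem_product, Finset.mem_product, Finset.mem_range, List.mem_toFinset, Set.Finite.mem_toFinset,
        SetLike.mem_coe]
  obtain ⟨f, hfd⟩ : ∃ f : (ℕ × List ℕ) × K → K, ∀ p, f p = r k p.1.1 * evw γ p.1.2 * p.2 := ⟨_, fun _ => rfl⟩
  have hf : ∀ p ∈ P, f p ∈ (centralizer {k 0} : Subgroup K) := by
    rintro ⟨⟨m, w⟩, o⟩ hp
    have hp2 := (hPm _).1 hp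
    rw [mem_centralizer_singleton_iff, hfd]
    change r k m * evw γ w * o * k 0 = k 0 * (r k m * evw γ w * o)
    calc r k m * evw γ w * o * k 0 = r k m * evw γ w * (o * k 0) := by group
      _ = r k m * (evw γ w * k 0) * o := by rw [Wk o hp2.2 0 (by norm_num)]; group
      _ = (r k m * k 0) * evw γ w * o := by rw [evw_comm h hp2.1.2]; group
      _ = k 0 * (r k m * evw γ w * o) := by rw [h.k_comm_r (by norm_num)]; group
  have hinj : Set.InjOn f P := by
    rintro ⟨⟨m, w⟩, o⟩ hp ⟨⟨m', w'⟩, o'⟩ hp' e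
    have hp2 := (hPm _).1 (Finset.mem_coe.1 hp)
    have hp2' := (hPm _).1 (Finset.mem_coe.1 hp')
    rw [hfd, hfd] at e
    change r k m * evw γ w * o = r k m' * evw γ w' * o' at e
    have act : ∀ {y : K} {Q : ℕ} {c : K}, Acts k y Q → c ∈ W → Acts k (y * c) Q := by
      intro y Q c hy hcW i hi
      calc (y * c)⁻¹ * k i * (y * c) = c⁻¹ * (y⁻¹ * k i * y) * c := by group
        _ = c⁻¹ * (r k (row Q i) * c) := by rw [hy i hi]; group
        _ = r k (row Q i) := by rw [← hWr c hcW]; group
    have a1 := act (h.acts_rmul (h.acts_evw w) m) hp2.2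
    have a2 := act (h.acts_rmul (h.acts_evw w') m') hp2'.2
    rw [← e] at a2
    have e1 : mw w = mw w' := pack_ext (mw_lt _) (mw_lt _) fun i hi => h.acts_unique a1 a2 hi
    have e2 := mw_injOn hp2.1.2 hp2'.1.2 e1
    subst e2
    have e4 : r k m * o = r k m' * o' := by
      have h1 : r k m * o * evw γ w = r k m' * o' * evw γ w := by
        rw [mul_assoc, W_comm_evw Wγ hp2.2, ← mul_assoc, e, mul_assoc, ← W_comm_evw Wγ hp2'.2, ← mul_assoc]
      exact mul_right_cancel h1
    have e5 : r k (m ^^^ m') = o' * o⁻¹ := by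
      rw [h.r_xor, h.r_comm]
      have : r k m' * r k m = r k m' * (r k m * o) * o⁻¹ := by group
      rw [this, e4, ← mul_assoc, h.r_sq, one_mul]
    have e6 : r k (m ^^^ m') ∈ W := by rw [e5]; exact W.mul_mem hp2'.2 (W.inv_mem hp2.2)
    have e7 : r k (m ^^^ m') = 1 := by
      have h1 : orderOf (⟨_, e6⟩ : W) ∣ 2 := by
        rw [orderOf_dvd_iff_pow_eq_one, pow_two]
        exact Subtype.ext (h.r_sq _)
      have h2 : orderOf (⟨_, e6⟩ : W) ∣ Nat.card W := orderOf_dvd_natCard _
      have h3 : orderOf (⟨_, e6⟩ : W) = 1 := by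
        rcases (Nat.dvd_prime Nat.prime_two).1 h1 with h4 | h4
        · exact h4
        · rw [h4] at h2
          exact absurd h2 (by
            obtain ⟨q, hq⟩ := hodd
            rw [hq]; omega)
      rw [orderOf_eq_one_iff] at h3
      exact congrArg Subtype.val h3
    have e8 : m ^^^ m' = 0 := h.inj _ (Nat.xor_lt_two_pow (n := 8) hp2.1.1 hp2'.1.1) e7
    have e9 : m = m' := Nat.xor_eq_zero_iff.1 e8
    subst e9
    have e10 : o = o' := mul_left_cancel e4
    rw [e10]
  have h1 : (P.image f).card = 30720 * Nat.card W := by rw [Finset.card_image_of_injOn hinj, hP]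
  have h2 : (↑(P.image f) : Set K) = (centralizer {k 0} : Set K) := by
    apply Set.eq_of_subset_of_ncard_le
    · intro y hy
      obtain ⟨p, hp, hpy⟩ := Finset.mem_image.1 (Finset.mem_coe.1 hy)
      rw [← hpy]
      exact hf p hp
    · rw [Set.ncard_coe_finset, h1]
      exact hc
    · exact Set.toFinite _
  have h3 : x ∈ (↑(P.image f) : Set K) := by
    rw [h2, SetLike.mem_coe, mem_centralizer_singleton_iff]
    exact hx
  obtain ⟨⟨⟨m, w⟩, o⟩, hp, hx'⟩ := Finset.mem_image.1 (Finset.mem_coe.1 h3)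
  have hp2 := (hPm _).1 hp
  exact ⟨m, hp2.1.1, w, hp2.1.2, o, hp2.2, by rw [← hx', hfd]⟩

end cent0

end Cfsg.Agent.HN.XCount
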