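import Cfsg.Agent.HN.A12Group
import Cfsg.Agent.HN.SlpWords

/-!
Word identities in the presented Harada-Norton group used in the closing argument, checked by a straight line program
in the 133-dimensional representation over the field with 31 elements (part B).
Letters: 0 = x, 1 = x⁻¹, 2 = y, 3 = y⁻¹, 4 = z, 6 = t, 7 = t⁻¹.
-/

set_option autoImplicit false

namespace Cfsg.Agent.HN.XIds

open Cfsg.Agent.Lib.PackMat Cfsg.Agent.Lib.PackMatGroup Cfsg.Agent.Lib.PackMatMul Cfsg.Agent.HN.RepData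
open Cfsg.Agent.HN.Rep (L LG gens rho)

/-- straight line program (results: newest first) -/
def wsB : List (ℕ × List ℕ) :=
  [(2, [4]),
    (4, [5]),
    (5, [9]),
    (6, [1]),
    (8, [6]),
    (8, [1]),
    (1, [8]),
    (13, [6]),
    (7, [5]),
    (6, [7]),
    (0, [16]),
    (0, [5]),
    (5, [11]),
    (16, [19]),
    (21, [13]),
    (16, [16]),
    (20, [10]),
    (8, [5]),
    (21, [21]),
    (0, [22]),
    (24, [17]),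
    (16, [20]),
    (0, [8]),
    (0, [10]),
    (0, [16]),
    (0, [21]),
    (0, [11]),
    (13, [22]),
    (0, [19]),
    (0, [12]),
    (0, [15]),
    (0, [27]),
    (0, [24]),
    (26, [35]),
    (0, [41]),
    (0, [30]),
    (0, [42]),
    (0, [39]),
    (0, [30]),
    (21, [21]),
    (40, [40]),
    (0, [20]),
    (15, [26]),
    (47, [10]),
    (44, [31]),
    (0, [46]),
    (0, [25]),
    (47, [30]),
    (0, [49]),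
    (36, [29]),
    (0, [47]),
    (35, [12]),
    (52, [53]),
    (11, [10, 33, 37, 9]),
    (7, [27, 5, 10]),
    (4, [12, 49, 57, 57, 54, 35, 22]),
    (14, [45, 39, 4]),
    (10, [45, 8, 18]),
    (7, [46, 6]),
    (19, [19, 19, 43, 39])]

/-- the results which have to be equal -/
def esB : List (ℕ × ℕ) := [(6, 7), (5, 7), (4, 7), (3, 7), (2, 7), (1, 7), (0, 7)]

theorem checkB : checkS C wsB esB [] L = true := by decide +kernel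

theorem eq_allB : ∀ q ∈ esB, (runG wsB LG).getD q.1 1 = (runG wsB LG).getD q.2 1 :=
  (checkS_sound (good_of_check Rep.good) A12Group.codesR checkB (by decide +kernel)).1

/-- word c0 -/
def w_c0 : List ℕ := [0, 0, 4, 3, 7, 4, 2, 2, 4, 3, 6, 4, 2, 2, 2, 4, 6, 2, 4, 3, 3, 4, 7, 2, 4, 1, 1, 3, 3, 3, 1, 1, 4, 3, 6, 4, 2, 2, 4, 3, 7, 4, 3, 3, 3, 4, 7, 2, 4, 3, 3, 4, 6, 2, 4]
theorem c0 [IsSimpleGroup Cfsg.Spor.HN] : evG gens w_c0 = 1 :=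
  SlpWords.eq_one wsB eq_allB (q := (6, 7)) (by decide) (by decide +kernel)

/-- word c1 -/
def w_c1 : List ℕ := [0, 4, 2, 2, 2, 4, 1, 4, 3, 7, 4, 2, 2, 4, 3, 6, 4, 2, 2, 2, 4, 6, 2, 4, 3, 3, 4, 7, 2, 4, 0, 4, 3, 3, 3, 4, 1, 4, 3, 6, 4, 2, 2, 4, 3, 7, 4, 3, 3, 3, 4, 7, 2, 4, 3, 3, 4, 6, 2, 4]
theorem c1 [IsSimpleGroup Cfsg.Spor.HN] : evG gens w_c1 = 1 :=
  SlpWords.eq_one wsB eq_allB (q := (5, 7)) (by decide) (by decide +kernel)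

/-- word c2 -/
def w_c2 : List ℕ := [4, 2, 2, 2, 4, 3, 3, 3, 3, 7, 4, 2, 2, 4, 3, 6, 4, 2, 2, 2, 4, 6, 2, 4, 3, 3, 4, 7, 2, 4, 1, 1, 3, 3, 3, 4, 2, 2, 2, 4, 3, 3, 3, 3, 6, 4, 2, 2, 4, 3, 7, 4, 3, 3, 3, 4, 7, 2, 4, 3, 3, 4, 6, 2, 4]
theorem c2 [IsSimpleGroup Cfsg.Spor.HN] : evG gens w_c2 = 1 :=
  SlpWords.eq_one wsB eq_allB (q := (4, 7)) (by decide) (by decide +kernel)

/-- word h0 -/
def w_h0 : List ℕ := [0, 0, 4, 3, 7, 3, 7, 3, 4, 6, 4, 3, 3, 3, 4, 1, 1, 4, 2, 2, 2, 7, 4, 2, 6, 2, 6, 2, 4]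
theorem h0 [IsSimpleGroup Cfsg.Spor.HN] : evG gens w_h0 = 1 :=
  SlpWords.eq_one wsB eq_allB (q := (3, 7)) (by decide) (by decide +kernel)

/-- word h1 -/
def w_h1 : List ℕ := [0, 4, 2, 2, 2, 4, 1, 4, 3, 7, 3, 7, 3, 4, 6, 3, 3, 3, 4, 0, 4, 3, 3, 3, 4, 1, 4, 2, 2, 2, 7, 4, 2, 6, 2, 6, 2, 4]
theorem h1 [IsSimpleGroup Cfsg.Spor.HN] : evG gens w_h1 = 1 :=
  SlpWords.eq_one wsB eq_allB (q := (2, 7)) (by decide) (by decide +kernel)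

/-- word h2 -/
def w_h2 : List ℕ := [4, 2, 2, 2, 4, 3, 3, 3, 3, 7, 3, 7, 3, 4, 6, 3, 3, 3, 4, 1, 1, 4, 2, 2, 2, 7, 4, 2, 6, 2, 6, 2, 4]
theorem h2 [IsSimpleGroup Cfsg.Spor.HN] : evG gens w_h2 = 1 :=
  SlpWords.eq_one wsB eq_allB (q := (1, 7)) (by decide) (by decide +kernel)

/-- word yh6 -/
def w_yh6 : List ℕ := [2, 4, 3, 7, 3, 7, 3, 4, 6, 3, 3, 3, 4, 2, 4, 3, 7, 3, 7, 3, 4, 6, 3, 3, 3, 4, 2, 4, 3, 7, 3, 7, 3, 4, 6, 3, 3, 3, 4, 2, 4, 3, 7, 3, 7, 3, 4, 6, 3, 3, 3, 4, 2, 4, 3, 7, 3, 7, 3, 4, 6, 3, 3, 3, 4, 2, 4, 3, 7, 3, 7, 3, 4, 6, 3, 3, 3, 4, 1, 1, 3, 3, 3]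
theorem yh6 [IsSimpleGroup Cfsg.Spor.HN] : evG gens w_yh6 = 1 :=
  SlpWords.eq_one wsB eq_allB (q := (0, 7)) (by decide) (by decide +kernel)

end Cfsg.Agent.HN.XIds
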