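import Cfsg.Agent.HN.A12Group
import Cfsg.Agent.HN.SlpWords

/-!
Word identities in the presented Harada-Norton group used in the closing argument, checked by a straight line program
in the 133-dimensional representation over the field with 31 elements (part C).
Letters: 0 = x, 1 = x⁻¹, 2 = y, 3 = y⁻¹, 4 = z, 6 = t, 7 = t⁻¹.
-/

set_option autoImplicit false

namespace Cfsg.Agent.HN.XIds

open Cfsg.Agent.Lib.PackMat Cfsg.Agent.Lib.PackMatGroup Cfsg.Agent.Lib.PackMatMul Cfsg.Agent.HN.RepData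
open Cfsg.Agent.HN.Rep (L LG gens rho)

/-- straight line program (results: newest first) -/
def wsC : List (ℕ × List ℕ) :=
  [(2, [4]),
    (4, [4]),
    (4, [1]),
    (7, [0]),
    (2, [8]),
    (3, [8]),
    (8, [8]),
    (5, [8]),
    (4, [11]),
    (15, [8]),
    (4, [14]),
    (4, [11]),
    (19, [11]),
    (15, [10]),
    (17, [14]),
    (22, [6]),
    (0, [22]),
    (0, [21]),
    (0, [4]),
    (0, [9]),
    (0, [15]),
    (9, [18]),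
    (28, [13]),
    (0, [30]),
    (0, [28]),
    (0, [14]),
    (0, [13]),
    (0, [22]),
    (0, [18]),
    (21, [23]),
    (9, [17]),
    (0, [32]),
    (0, [33]),
    (0, [22]),
    (19, [22]),
    (0, [31]),
    (0, [31]),
    (0, [38]),
    (0, [30]),
    (39, [40]),
    (40, [25, 33, 37, 39, 32, 38, 19, 47, 18, 43, 44, 38, 32, 42, 41, 44, 43, 11]),
    (45, [19, 27, 11, 7, 19, 30, 11, 12]),
    (46, [3, 8, 3, 13])]

/-- the results which have to be equal -/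
def esC : List (ℕ × ℕ) := [(2, 3), (1, 3), (0, 3)]

theorem checkC : checkS C wsC esC [] L = true := by decide +kernel

theorem eq_allC : ∀ q ∈ esC, (runG wsC LG).getD q.1 1 = (runG wsC LG).getD q.2 1 :=
  (checkS_sound (good_of_check Rep.good) A12Group.codesR checkC (by decide +kernel)).1

/-- word c3 -/
def w_c3 : List ℕ := [0, 3, 0, 2, 2, 2, 2, 4, 2, 4, 3, 3, 1, 3, 3, 7, 4, 2, 2, 4, 3, 6, 4, 2, 2, 2, 4, 6, 2, 4, 3, 3, 4, 7, 2, 2, 0, 2, 2, 4, 3, 4, 3, 3, 3, 3, 1, 2, 1, 4, 3, 6, 4, 2, 2, 4, 3, 7, 4, 3, 3, 3, 4, 7, 2, 4, 3, 3, 4, 6, 2, 4]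
theorem c3 [IsSimpleGroup Cfsg.Spor.HN] : evG gens w_c3 = 1 :=
  SlpWords.eq_one wsC eq_allC (q := (2, 3)) (by decide) (by decide +kernel)

/-- word c4 -/
def w_c4 : List ℕ := [4, 2, 2, 0, 2, 2, 4, 2, 2, 2, 4, 3, 3, 1, 3, 3, 3, 7, 4, 2, 2, 4, 3, 6, 4, 2, 2, 2, 4, 6, 2, 4, 3, 3, 4, 7, 2, 4, 1, 1, 3, 3, 3, 4, 2, 2, 0, 2, 2, 4, 3, 3, 3, 4, 3, 3, 1, 3, 3, 3, 6, 4, 2, 2, 4, 3, 7, 4, 3, 3, 3, 4, 7, 2, 4, 3, 3, 4, 6, 2, 4]
theorem c4 [IsSimpleGroup Cfsg.Spor.HN] : evG gens w_c4 = 1 :=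
  SlpWords.eq_one wsC eq_allC (q := (1, 3)) (by decide) (by decide +kernel)

/-- word c5 -/
def w_c5 : List ℕ := [4, 3, 0, 2, 2, 0, 4, 2, 2, 4, 3, 3, 4, 1, 3, 3, 1, 7, 4, 2, 2, 4, 3, 6, 4, 2, 2, 2, 4, 6, 2, 4, 3, 3, 4, 7, 2, 4, 1, 1, 3, 3, 3, 4, 3, 0, 2, 2, 0, 4, 2, 2, 4, 3, 3, 4, 1, 3, 3, 1, 6, 4, 2, 2, 4, 3, 7, 4, 3, 3, 3, 4, 7, 2, 4, 3, 3, 4, 6, 2, 4]
theorem c5 [IsSimpleGroup Cfsg.Spor.HN] : evG gens w_c5 = 1 :=
  SlpWords.eq_one wsC eq_allC (q := (0, 3)) (by decide) (by decide +kernel)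

end Cfsg.Agent.HN.XIds
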