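import Cfsg.Agent.HN.XIdsA
import Cfsg.Agent.HN.XIdsB
import Cfsg.Agent.HN.XIdsC
import Cfsg.Agent.HN.XIdsD

/-!
Word identities in the presented Harada-Norton group used in the closing argument (namespace `Cfsg.Agent.HN.XIds`):
four straight line programs in the 133-dimensional representation over the field with 31 elements, one in each of the
imported files.
-/
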