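import Cfsg.Agent.HN.A12Group
import Cfsg.Agent.HN.SlpWords

/-!
Word identities in the presented Harada-Norton group used in the closing argument, checked by a straight line program
in the 133-dimensional representation over the field with 31 elements (part A).
Letters: 0 = x, 1 = x⁻¹, 2 = y, 3 = y⁻¹, 4 = z, 6 = t, 7 = t⁻¹.
-/

set_option autoImplicit false

namespace Cfsg.Agent.HN.XIds

open Cfsg.Agent.Lib.PackMat Cfsg.Agent.Lib.PackMatGroup Cfsg.Agent.Lib.PackMatMul Cfsg.Agent.HN.RepData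
open Cfsg.Agent.HN.Rep (L LG gens rho)

/-- straight line program (results: newest first) -/
def wsA : List (ℕ × List ℕ) :=
  [(4, [3]),
    (3, [3]),
    (6, [0]),
    (2, [6]),
    (5, [7]),
    (5, [7]),
    (8, [10]),
    (4, [6]),
    (10, [4]),
    (0, [13]),
    (5, [13]),
    (5, [5]),
    (0, [9]),
    (0, [9]),
    (0, [13]),
    (0, [10]),
    (12, [19]),
    (24, [9]),
    (0, [24]),
    (0, [16]),
    (0, [13]),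
    (0, [27]),
    (0, [12]),
    (0, [30]),
    (7, [28]),
    (24, [1]),
    (15, [29]),
    (31, [29]),
    (12, [17]),
    (35, [21]),
    (0, [37]),
    (0, [6]),
    (0, [39]),
    (0, [23]),
    (0, [40]),
    (36, [8]),
    (8, [7]),
    (2, [35]),
    (0, [22]),
    (0, [40]),
    (37, [34]),
    (41, [39]),
    (46, [43]),
    (0, [44]),
    (51, [47]),
    (45, [46]),
    (20, [22, 39, 10]),
    (10, [23, 45, 18, 12, 40]),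
    (22, [41, 50, 12, 47, 8, 46, 23, 48, 23, 43]),
    (23, [47, 8, 7, 48, 22, 9, 51, 7, 32, 45, 38, 5, 8, 45, 44, 38, 48, 53]),
    (13, [5, 5, 54, 56, 53, 53, 34, 45, 6, 47, 52, 57, 22, 56, 52, 56, 43])]

/-- the results which have to be equal -/
def esA : List (ℕ × ℕ) := [(4, 5), (3, 5), (2, 5), (1, 5), (0, 5)]

theorem checkA : checkS C wsA esA [] L = true := by decide +kernel

theorem eq_allA : ∀ q ∈ esA, (runG wsA LG).getD q.1 1 = (runG wsA LG).getD q.2 1 :=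
  (checkS_sound (good_of_check Rep.good) A12Group.codesR checkA (by decide +kernel)).1

/-- word q7sq -/
def w_q7sq : List ℕ := [4, 3, 7, 4, 2, 2, 4, 3, 6, 4, 2, 2, 2, 4, 6, 2, 4, 3, 3, 4, 7, 7, 4, 2, 2, 4, 3, 6, 4, 2, 2, 2, 4, 6, 2, 4, 3, 3, 4, 7, 2, 4, 1, 1, 3, 3, 3]
theorem q7sq [IsSimpleGroup Cfsg.Spor.HN] : evG gens w_q7sq = 1 :=
  SlpWords.eq_one wsA eq_allA (q := (4, 5)) (by decide) (by decide +kernel)

/-- word c6 -/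
def w_c6 : List ℕ := [4, 2, 0, 2, 0, 2, 4, 2, 2, 4, 3, 3, 4, 3, 1, 3, 1, 3, 3, 7, 4, 2, 2, 4, 3, 6, 4, 2, 2, 2, 4, 6, 2, 4, 3, 3, 4, 7, 2, 2, 0, 2, 0, 2, 4, 2, 2, 4, 3, 3, 4, 3, 1, 3, 1, 3, 3, 6, 4, 2, 2, 4, 3, 7, 4, 3, 3, 3, 4, 7, 2, 4, 3, 3, 4, 6, 2, 4]
theorem c6 [IsSimpleGroup Cfsg.Spor.HN] : evG gens w_c6 = 1 :=
  SlpWords.eq_one wsA eq_allA (q := (3, 5)) (by decide) (by decide +kernel)

/-- word q7y -/
def w_q7y : List ℕ := [4, 3, 7, 4, 2, 2, 4, 3, 6, 4, 2, 2, 2, 4, 6, 2, 4, 3, 3, 4, 7, 2, 4, 2, 1, 1, 3, 3, 3, 4, 3, 6, 4, 2, 2, 4, 3, 7, 4, 3, 3, 3, 4, 7, 2, 4, 3, 3, 4, 6, 2, 2, 0, 2, 0, 2, 4, 2, 2, 4, 3, 3, 4, 3, 1, 3, 1, 2, 2, 4, 3, 3, 3, 4, 0, 4, 3, 3, 3, 4, 1, 3]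
theorem q7y [IsSimpleGroup Cfsg.Spor.HN] : evG gens w_q7y = 1 :=
  SlpWords.eq_one wsA eq_allA (q := (2, 5)) (by decide) (by decide +kernel)

/-- word q7c -/
def w_q7c : List ℕ := [4, 3, 7, 4, 2, 2, 4, 3, 6, 4, 2, 2, 2, 4, 6, 2, 4, 3, 3, 4, 7, 2, 2, 4, 2, 2, 0, 2, 0, 2, 2, 4, 3, 1, 3, 3, 3, 6, 4, 2, 2, 4, 3, 7, 4, 3, 3, 3, 4, 7, 2, 4, 3, 3, 4, 6, 2, 2, 0, 2, 0, 2, 4, 2, 2, 4, 3, 3, 4, 3, 1, 3, 1, 2, 0, 2, 2, 4, 3, 3, 3, 4, 3, 3, 1, 3, 3, 4, 1, 1, 4, 2, 2, 0, 2, 4, 3, 3, 1, 3, 1, 3, 3, 4, 3, 4]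
theorem q7c [IsSimpleGroup Cfsg.Spor.HN] : evG gens w_q7c = 1 :=
  SlpWords.eq_one wsA eq_allA (q := (1, 5)) (by decide) (by decide +kernel)

/-- word h6 -/
def w_h6 : List ℕ := [4, 2, 0, 2, 0, 2, 4, 2, 2, 4, 3, 3, 4, 3, 1, 3, 1, 3, 3, 7, 3, 7, 3, 4, 6, 3, 3, 0, 2, 0, 2, 4, 2, 2, 4, 3, 3, 4, 3, 1, 3, 1, 3, 4, 1, 1, 4, 2, 2, 2, 7, 4, 2, 6, 2, 6, 2, 4]
theorem h6 [IsSimpleGroup Cfsg.Spor.HN] : evG gens w_h6 = 1 :=
  SlpWords.eq_one wsA eq_allA (q := (0, 5)) (by decide) (by decide +kernel)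

end Cfsg.Agent.HN.XIds
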