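import Cfsg.Agent.HN.Closing

/-!
# The quotient `C_G(w)/⟨w⟩` for an involution `w`

A total map `π w : G → C_G(w)/⟨w⟩` and the two sets of involutions of the closing lemma.
-/

set_option autoImplicit false

namespace Cfsg.Agent.HN.XQuot

open Subgroup Cfsg.Agent.HN.Closing

variable {G : Type*} [Group G]

/-- `⟨w⟩` inside its centraliser -/
def Zw (w : G) : Subgroup (centralizer ({w} : Set G)) := zpowers ⟨w, mem_centralizer_singleton_iff.2 rfl⟩

instance normal_Zw (w : G) : (Zw w).Normal := by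
  refine ⟨fun n hn g => ?_⟩
  have h1 : g * n = n * g := by
    have hg : (g : G) * w = w * g := mem_centralizer_singleton_iff.1 g.2
    obtain ⟨k, rfl⟩ := mem_zpowers_iff.1 hn
    have : Commute g (⟨w, mem_centralizer_singleton_iff.2 rfl⟩ : centralizer ({w} : Set G)) := Subtype.ext hg
    exact (this.zpow_right k).eq
  rwa [h1, mul_inv_cancel_right]

/-- `C_G(w)/⟨w⟩` -/
abbrev KK (w : G) : Type _ := centralizer ({w} : Set G) ⧸ Zw w

open Classical in
/-- the projection, as a total map -/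
noncomputable def π (w u : G) : KK w :=
  if h : u * w = w * u then QuotientGroup.mk ⟨u, mem_centralizer_singleton_iff.2 h⟩ else 1

variable {w : G}

theorem π_of {u : G} (h : u * w = w * u) :
    π w u = QuotientGroup.mk ⟨u, mem_centralizer_singleton_iff.2 h⟩ := dif_pos h

theorem comm_mul {u v : G} (hu : u * w = w * u) (hv : v * w = w * v) : (u * v) * w = w * (u * v) := by
  rw [mul_assoc, hv, ← mul_assoc, hu, mul_assoc]

theorem comm_inv {u : G} (hu : u * w = w * u) : u⁻¹ * w = w * u⁻¹ := by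
  have : Commute u w := hu
  exact this.inv_left.eq

theorem π_mul {u v : G} (hu : u * w = w * u) (hv : v * w = w * v) : π w (u * v) = π w u * π w v := by
  rw [π_of (comm_mul hu hv), π_of hu, π_of hv]
  rfl

theorem π_one : π w 1 = 1 := by
  rw [π_of (by rw [one_mul, mul_one])]
  rfl

theorem π_inv {u : G} (hu : u * w = w * u) : π w u⁻¹ = (π w u)⁻¹ := by
  rw [π_of (comm_inv hu), π_of hu]
  rfl

theorem π_surj (x : KK w) : ∃ u : G, u * w = w * u ∧ π w u = x := by
  induction x using QuotientGroup.induction_on with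
  | _ c => exact ⟨c, mem_centralizer_singleton_iff.1 c.2, π_of (mem_centralizer_singleton_iff.1 c.2)⟩

section

variable (hw : w * w = 1)

include hw

theorem π_eq_one_iff {u : G} (hu : u * w = w * u) : π w u = 1 ↔ u = 1 ∨ u = w := by
  rw [π_of hu, QuotientGroup.eq_one_iff, Zw, mem_zpowers_iff]
  constructor
  · rintro ⟨k, hk⟩
    have h1 : w ^ k = u := by
      have := congrArg Subtype.val hk
      simpa using this
    rcases Int.even_or_odd' k with ⟨j, rfl | rfl⟩
    · left
      rw [← h1, zpow_mul, zpow_ofNat, pow_two, hw, one_zpow]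
    · right
      rw [← h1, zpow_add, zpow_mul, zpow_ofNat, pow_two, hw, one_zpow, one_mul, zpow_one]
  · rintro (rfl | rfl)
    · exact ⟨0, by rw [zpow_zero]; rfl⟩
    · exact ⟨1, by rw [zpow_one]⟩

theorem π_w : π w w = 1 := (π_eq_one_iff hw rfl).2 (Or.inr rfl)

theorem π_eq_iff {u v : G} (hu : u * w = w * u) (hv : v * w = w * v) : π w u = π w v ↔ v = u ∨ v = u * w := by
  have h1 : π w u = π w v ↔ π w (u⁻¹ * v) = 1 := by
    rw [π_mul (comm_inv hu) hv, π_inv hu, inv_mul_eq_one]
  rw [h1, π_eq_one_iff hw (comm_mul (comm_inv hu) hv)]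
  constructor
  · rintro (h | h)
    · left; rw [inv_mul_eq_one] at h; exact h.symm
    · right; rw [inv_mul_eq_iff_eq_mul] at h; exact h
  · rintro (h | h)
    · left; rw [h, inv_mul_cancel]
    · right; rw [h, inv_mul_cancel_left]

theorem π_mul_w {u : G} (hu : u * w = w * u) : π w (u * w) = π w u := by
  rw [π_mul hu rfl, π_w hw, mul_one]

end

/-! ### the two sets -/

/-- both lifts conjugate to `t` -/
def DS (w t : G) : Set (KK w) := {x | ∃ u, u * w = w * u ∧ π w u = x ∧ IsConj t u ∧ IsConj t (u * w)}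

/-- exactly one lift conjugate to `t` -/
def SS (w t : G) : Set (KK w) := {x | ∃ u, u * w = w * u ∧ π w u = x ∧ IsConj t u ∧ ¬ IsConj t (u * w)}

section

variable (hw : w * w = 1) {t : G}

include hw

theorem mem_D_iff {u : G} (hu : u * w = w * u) : π w u ∈ DS w t ↔ IsConj t u ∧ IsConj t (u * w) := by
  constructor
  · rintro ⟨v, hv, he, h1, h2⟩
    rcases (π_eq_iff hw hv hu).1 he with rfl | rfl
    · exact ⟨h1, h2⟩
    · rw [mul_assoc, hw, mul_one]; exact ⟨h2, h1⟩
  · rintro ⟨h1, h2⟩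
    exact ⟨u, hu, rfl, h1, h2⟩

theorem not_mem_of {u : G} (hu : u * w = w * u) (h1 : ¬ IsConj t u) (h2 : ¬ IsConj t (u * w)) :
    π w u ∉ DS w t ∧ π w u ∉ SS w t := by
  constructor
  · rw [mem_D_iff hw hu]
    exact fun h => h1 h.1
  · rintro ⟨v, hv, he, h3, -⟩
    rcases (π_eq_iff hw hv hu).1 he with rfl | rfl
    · exact h1 h3
    · apply h2
      rwa [mul_assoc, hw, mul_one]

theorem not_mem_S_of {u : G} (hu : u * w = w * u) (h1 : IsConj t u) (h2 : IsConj t (u * w)) :
    π w u ∉ SS w t := by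
  rintro ⟨v, hv, he, h3, h4⟩
  rcases (π_eq_iff hw hv hu).1 he with rfl | rfl
  · exact h4 h2
  · exact h4 h1

theorem not_mem_D_of {u : G} (hu : u * w = w * u) (h2 : ¬ IsConj t (u * w)) :
    π w u ∉ DS w t := by
  rw [mem_D_iff hw hu]
  exact fun h => h2 h.2

omit hw in
theorem isConj_conj {a x : G} (h : IsConj a x) (g : G) : IsConj a (g * x * g⁻¹) :=
  h.trans (isConj_iff.2 ⟨g, rfl⟩)

omit hw in
theorem isConj_conj_iff {a x : G} (g : G) : IsConj a (g * x * g⁻¹) ↔ IsConj a x :=
  ⟨fun h => h.trans (isConj_iff.2 ⟨g⁻¹, by group⟩), fun h => isConj_conj h g⟩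

omit hw in
theorem cinv_D : CInv (DS w t) := by
  rintro g _ ⟨u, hu, rfl, h1, h2⟩
  obtain ⟨v, hv, rfl⟩ := π_surj g
  refine ⟨v * u * v⁻¹, comm_mul (comm_mul hv hu) (comm_inv hv), ?_, isConj_conj h1 v, ?_⟩
  · rw [π_mul (comm_mul hv hu) (comm_inv hv), π_mul hv hu, π_inv hv]
  · have : v * u * v⁻¹ * w = v * (u * w) * v⁻¹ := by
      rw [mul_assoc, comm_inv hv]; group
    rw [this]
    exact isConj_conj h2 v

omit hw in
theorem cinv_S : CInv (SS w t) := by
  rintro g _ ⟨u, hu, rfl, h1, h2⟩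
  obtain ⟨v, hv, rfl⟩ := π_surj g
  refine ⟨v * u * v⁻¹, comm_mul (comm_mul hv hu) (comm_inv hv), ?_, isConj_conj h1 v, ?_⟩
  · rw [π_mul (comm_mul hv hu) (comm_inv hv), π_mul hv hu, π_inv hv]
  · have : v * u * v⁻¹ * w = v * (u * w) * v⁻¹ := by
      rw [mul_assoc, comm_inv hv]; group
    rw [this, isConj_conj_iff]
    exact h2

omit hw in
theorem sq_of_isConj (ht : t * t = 1) {u : G} (h : IsConj t u) : u * u = 1 := by
  obtain ⟨c, rfl⟩ := isConj_iff.1 h
  calc c * t * c⁻¹ * (c * t * c⁻¹) = c * (t * t) * c⁻¹ := by group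
    _ = 1 := by rw [ht]; group

omit hw in
theorem sq_D (ht : t * t = 1) : ∀ e ∈ DS w t, e * e = 1 := by
  rintro _ ⟨u, hu, rfl, h1, -⟩
  rw [← π_mul hu hu, sq_of_isConj ht h1, π_one]

omit hw in
theorem sq_S (ht : t * t = 1) : ∀ e ∈ SS w t, e * e = 1 := by
  rintro _ ⟨u, hu, rfl, h1, -⟩
  rw [← π_mul hu hu, sq_of_isConj ht h1, π_one]

end

/-! ### counting -/

theorem card_le {A K : Type*} [Finite A] (F : A → K) (s : A → A) (hs : ∀ a, F (s a) = F a) (hne : ∀ a, s a ≠ a)
    (X : Set K) (hX : ∀ x ∈ X, ∃ a, F a = x) : Nat.card X * 2 ≤ Nat.card A := by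
  choose g hg using fun x : X => hX x x.2
  have hinj : Function.Injective (fun p : X × Bool => bif p.2 then s (g p.1) else g p.1) := by
    rintro ⟨x, b⟩ ⟨y, c⟩ h
    have hF : ∀ (x : X) (b : Bool), F (bif b then s (g x) else g x) = x := by
      intro x b
      cases b
      · exact hg x
      · exact (hs _).trans (hg x)
    have h1 : x = y := by
      apply Subtype.ext
      rw [← hF x b, ← hF y c]
      exact congrArg F h
    subst h1
    cases b <;> cases c
    · rfl
    · exact absurd h.symm (hne _)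
    · exact absurd h (hne _)
    · rfl
  have h2 := Nat.card_le_card_of_injective _ hinj
  rwa [Nat.card_prod, Nat.card_eq_fintype_card (α := Bool), Fintype.card_bool] at h2

end Cfsg.Agent.HN.XQuot
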