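import Cfsg.Agent.HN.XWords
import Cfsg.Agent.HN.XQuot
import Cfsg.Agent.HN.FusGen
import Cfsg.Agent.HN.Classes
import Cfsg.Agent.HN.CentUp

/-!
# The configuration `XStruct.Hyp` in `C_G(w)/⟨w⟩`
-/

set_option autoImplicit false
set_option linter.unusedSectionVars false

namespace Cfsg.Agent.HN.XInst

open Cfsg.Agent.HN.Pres Cfsg.Agent.HN.P1408 Cfsg.Agent.HN.H0Basic Cfsg.Agent.HN.XMat Cfsg.Agent.HN.XStruct
open Cfsg.Agent.HN.XWords Cfsg.Agent.HN.XQuot Cfsg.Agent.HN.FusGen Cfsg.Agent.HN.Closing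
open Cfsg.Agent.SporadicA.PermTab (band_eq_true allB allB_iff)

/-- The situation: `f` identifies `H0` with the centraliser of the involution `t = f τ`, `θ` extends `f`; `z` is fused to
`t`, `a τ` and `d` are not. -/
structure Inst {G : Type*} [Group G] (f : H0 →* G) (θ : Cfsg.Spor.HN →* G) : Prop where
  E : Emb f τ
  ext : ∀ g, θ (NormalH.ψ g) = f g
  hz : InK f τ gz
  hb : ¬ InK f τ (Syl.a * τ)
  hd : ¬ InK f τ Syl.d

variable {G : Type*} [Group G] {f : H0 →* G} {θ : Cfsg.Spor.HN →* G}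

/-- image of an element of `HN` in the quotient -/
noncomputable def P (θ : Cfsg.Spor.HN →* G) (u : Cfsg.Spor.HN) : KK (θ W0) := π (θ W0) (θ u)

/-- basis -/
noncomputable def kk (θ : Cfsg.Spor.HN →* G) (i : ℕ) : KK (θ W0) := P θ (Q i)

/-- generators -/
noncomputable def gg (θ : Cfsg.Spor.HN →* G) (g : ℕ) : KK (θ W0) := P θ (Γ g)

theorem ww : θ W0 * θ W0 = 1 := by rw [← map_mul, W0_sq, map_one]

theorem cθ {u : Cfsg.Spor.HN} (hu : W0 * u = u * W0) : θ u * θ W0 = θ W0 * θ u := by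
  rw [← map_mul, ← map_mul, hu]

theorem P_mul {u v : Cfsg.Spor.HN} (hu : W0 * u = u * W0) (hv : W0 * v = v * W0) :
    P θ (u * v) = P θ u * P θ v := by
  rw [P, map_mul, π_mul (cθ hu) (cθ hv)]
  rfl

theorem P_one : P θ 1 = 1 := by rw [P, map_one, π_one]

theorem P_W0 : P θ W0 = 1 := π_w ww

theorem P_sgn (b : Bool) : P θ (sgn0 b) = 1 := by
  cases b
  · exact P_one
  · exact P_W0

theorem csgn (b : Bool) : W0 * sgn0 b = sgn0 b * W0 := by
  cases b
  · exact (mul_one _).trans (one_mul _).symm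
  · rfl

theorem P_mul_sgn {u : Cfsg.Spor.HN} (hu : W0 * u = u * W0) (b : Bool) : P θ (u * sgn0 b) = P θ u := by
  rw [P_mul hu (csgn b), P_sgn, mul_one]

theorem P_rr (m : ℕ) : ∀ n ≤ 8, P θ (rr Q m n) = rr (kk θ) m n := by
  intro n
  induction n with
  | zero => intro _; exact P_one
  | succ n ih =>
    intro hn
    rw [rr_succ, rr_succ, ← ih (by omega)]
    cases h : m.testBit n
    · simp only [Bool.false_eq_true, if_false, mul_one]
    · simp only [if_true]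
      rw [P_mul (cwrr m n (by omega)) (cw (by omega))]
      rfl

theorem P_r (m : ℕ) : P θ (r Q m) = r (kk θ) m := P_rr m 8 le_rfl

theorem P_evw (w : List ℕ) : P θ (evw Γ w) = evw (gg θ) w := by
  induction w with
  | nil => exact P_one
  | cons g w ih =>
    rw [evw_cons, evw_cons, ← ih, P_mul (cwg g) (cwe w)]
    rfl

theorem P_nf (m : ℕ) (w : List ℕ) : P θ (r Q m * evw Γ w) = r (kk θ) m * evw (gg θ) w := by
  rw [P_mul (cwr m) (cwe w), P_r, P_evw]

theorem f_comm {i j : ℕ} (hi : i < 8) (hj : j < 8) : kk θ i * kk θ j = kk θ j * kk θ i := by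
  have hij : W0 * (Q i * Q j) = Q i * Q j * W0 := by
    rw [← mul_assoc, cw hi, mul_assoc, cw hj, mul_assoc]
  rw [kk, kk, ← P_mul (cw hi) (cw hj), Q_comm hi hj, ← mul_assoc, P_mul_sgn, P_mul (cw hj) (cw hi)]
  rw [← mul_assoc, cw hj, mul_assoc, cw hi, mul_assoc]

theorem f_sq {i : ℕ} (hi : i < 8) : kk θ i * kk θ i = 1 := by
  rw [kk, ← P_mul (cw hi) (cw hi)]
  rcases Nat.lt_or_ge i 7 with h | h
  · rw [Q_sq h, P_one]
  · obtain rfl : i = 7 := by omega
    rw [Q7_sq, P_W0]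

theorem f_act (g : ℕ) : Acts (kk θ) (gg θ g) (gen g) := by
  intro i hi
  have h := act g hi
  unfold ActAt at h
  have h1 : kk θ i * gg θ g = gg θ g * r (kk θ) (row (gen g) i) := by
    rw [kk, gg, ← P_mul (cw hi) (cwg g), h, ← mul_assoc, P_mul_sgn, P_mul (cwg g) (cwr _), P_r]
    rw [← mul_assoc, cwg, mul_assoc, cwr, mul_assoc]
  rw [mul_assoc, h1, inv_mul_cancel_left]

namespace Inst

variable (I : Inst f θ)

include I

theorem w_eq : θ W0 = f (Syl.a * τ) := by rw [W0_eq, I.ext]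

theorem t_eq : θ (Q 0) = f τ := by
  rw [← hw_τ, ← I.ext, V_hw (by decide +kernel)]
  rfl

theorem w_ne : θ W0 ≠ 1 := by
  rw [I.w_eq, ← map_one f]
  exact fun h => Classes.aτ_ne_one (I.E.inj h)

theorem θV {a : List ℕ} (h : okw a = true) : θ (V a) = f (hw a) := by rw [← V_hw h, I.ext]

/-- `a` is fused to `τ` -/
theorem ha : InK f τ Syl.a := by
  have h1 := Q_comm (i := 0) (j := 7) (by norm_num) (by norm_num)
  have h2 : (Bm 7).testBit 0 = true := by decide +kernel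
  rw [h2] at h1
  have h3 : Q 0 * Q 7 = Q 7 * (Q 0 * W0) := h1
  have h4 := congrArg θ h3
  rw [map_mul, map_mul, map_mul, I.t_eq, I.w_eq, ← map_mul] at h4
  have h5 : τ * (Syl.a * τ) = Syl.a := by rw [← mul_assoc, ← τ_comm, mul_assoc, τ_mul_τ, mul_one]
  rw [h5] at h4
  refine isConj_iff.2 ⟨(θ (Q 7))⁻¹, ?_⟩
  rw [inv_inv, mul_assoc, h4, inv_mul_cancel_left]

theorem bas : Bas (kk θ) (gg θ) where
  comm i hi j hj := f_comm hi hj
  sq i hi := f_sq hi
  act g := f_act g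
  inj m hm h := by
    rw [← P_r] at h
    have h1 := (π_eq_one_iff ww (cθ (cwr m))).1 h
    refine mask_zero θ hm I.w_ne fun j hj => ?_
    rcases h1 with h1 | h1
    · rw [h1, one_mul, mul_one]
    · rw [h1, cθ (cw hj)]

theorem inK_iff {a : List ℕ} (h : okw a = true) : InK f τ (hw a) ↔ IsConj (f τ) (θ (V a)) := by
  rw [I.θV h]
  rfl

theorem not_t_w : ¬ IsConj (f τ) (θ W0) := by rw [I.w_eq]; exact I.hb

theorem tt : f τ * f τ = 1 := I.E.t_sq

theorem not_one : ¬ IsConj (f τ) 1 := by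
  intro h
  have := isConj_one_left.1 h
  exact I.E.t_ne this

/-- an element whose square is `w` is not fused to `t` -/
theorem not_of_sq {u : Cfsg.Spor.HN} (h : u * u = W0) : ¬ IsConj (f τ) (θ u) := by
  intro h1
  have h2 := sq_of_isConj I.tt h1
  rw [← map_mul, h] at h2
  exact I.w_ne h2

theorem out_of_sq {u : Cfsg.Spor.HN} (hu : W0 * u = u * W0) (h : u * u = W0) :
    P θ u ∉ DS (θ W0) (f τ) ∧ P θ u ∉ SS (θ W0) (f τ) := by
  refine not_mem_of ww (cθ hu) (I.not_of_sq h) ?_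
  rw [← map_mul]
  refine I.not_of_sq ?_
  calc u * W0 * (u * W0) = u * (W0 * u) * W0 := by group
    _ = (u * u) * (W0 * W0) := by rw [hu]; group
    _ = W0 := by rw [h, W0_sq, mul_one]

theorem out_of_words {a : List ℕ} (h0 : okw a = true) (hc : W0 * V a = V a * W0) (h1 : ¬ InK f τ (hw a))
    (h2 : ¬ InK f τ (hw (a ++ w0w))) : P θ (V a) ∉ DS (θ W0) (f τ) ∧ P θ (V a) ∉ SS (θ W0) (f τ) := by
  rw [I.inK_iff h0] at h1
  rw [I.inK_iff (okw_append h0 (by decide +kernel)), V_append, map_mul] at h2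
  exact not_mem_of ww (cθ hc) h1 h2

theorem not_d {v : H0} (h : IsConj Syl.d v) : ¬ InK f τ v := fun h1 => I.hd ((InK.iff_of_isConj h).2 h1)
theorem not_b {v : H0} (h : IsConj (Syl.a * τ) v) : ¬ InK f τ v := fun h1 => I.hb ((InK.iff_of_isConj h).2 h1)

theorem c_r3 : W0 * V (qw 0 ++ qw 1) = V (qw 0 ++ qw 1) * W0 := by rw [← r3_eq, cwr]

theorem c_x2 : W0 * V x2w = V x2w * W0 := by
  rw [← x2_eq, ← mul_assoc, cwr, mul_assoc, cwe, mul_assoc]

theorem c_x3 : W0 * V x3w = V x3w * W0 := by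
  rw [← x3_eq, ← mul_assoc, cwr, mul_assoc, cwe, mul_assoc]

theorem r3_out : r (kk θ) 3 ∉ DS (θ W0) (f τ) ∧ r (kk θ) 3 ∉ SS (θ W0) (f τ) := by
  rw [← P_r, r3_eq]
  exact I.out_of_words (by decide +kernel) I.c_r3 (I.not_b conj_r3) (I.not_b (by
    rw [List.append_assoc]; exact conj_r3w))

theorem r12_out : r (kk θ) 12 ∉ DS (θ W0) (f τ) ∧ r (kk θ) 12 ∉ SS (θ W0) (f τ) := by
  rw [← P_r]
  exact I.out_of_sq (cwr _) r12_sq

theorem x1_eq : xi1 (gg θ) = P θ (evw Γ [0, 2, 0, 2, 0, 2]) := (P_evw _).symm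

theorem x2_eq' : xi2 (kk θ) (gg θ) = P θ (V x2w) := by
  rw [← x2_eq, P_nf]; rfl

theorem x3_eq' : xi3 (kk θ) (gg θ) = P θ (V x3w) := by
  rw [← x3_eq, P_nf]; rfl

theorem x1_out : xi1 (gg θ) ∉ DS (θ W0) (f τ) ∧ xi1 (gg θ) ∉ SS (θ W0) (f τ) := by
  rw [I.x1_eq]
  exact I.out_of_sq (cwe _) yh6

theorem x2_out : xi2 (kk θ) (gg θ) ∉ DS (θ W0) (f τ) ∧ xi2 (kk θ) (gg θ) ∉ SS (θ W0) (f τ) := by
  rw [I.x2_eq']
  exact I.out_of_words (by decide +kernel) I.c_x2 (I.not_d conj_x2) (I.not_d conj_x2w)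

theorem P_sq {u : Cfsg.Spor.HN} (hu : W0 * u = u * W0) (h : u * u = 1 ∨ u * u = W0) : P θ u * P θ u = 1 := by
  rw [← P_mul hu hu]
  rcases h with h | h
  · rw [h, P_one]
  · rw [h, P_W0]

theorem x2_sq : V x2w * V x2w = 1 := by
  rw [← V_append, ← V_nil]; exact V_eq (by decide +kernel)

theorem x3_sq : V x3w * V x3w = 1 := by
  rw [← V_append, ← V_nil]; exact V_eq (by decide +kernel)

theorem t_x3 : IsConj (f τ) (θ (V x3w)) := by
  rw [← I.inK_iff (by decide +kernel)]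
  exact I.hz.conj conj_e

theorem not_t_x3w : ¬ IsConj (f τ) (θ (V x3w) * θ W0) := by
  have h := I.not_d conj_ew
  rwa [I.inK_iff (by decide +kernel), V_append, map_mul] at h

theorem x3_S : xi3 (kk θ) (gg θ) ∈ SS (θ W0) (f τ) := by
  rw [I.x3_eq']
  exact ⟨θ (V x3w), cθ I.c_x3, rfl, I.t_x3, I.not_t_x3w⟩

theorem x3_D : xi3 (kk θ) (gg θ) ∉ DS (θ W0) (f τ) := by
  rw [I.x3_eq']
  exact not_mem_D_of ww (cθ I.c_x3) I.not_t_x3w

theorem k0_labels : IsConj (f τ) (θ (Q 0)) ∧ IsConj (f τ) (θ (Q 0) * θ W0) := by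
  rw [I.t_eq, I.w_eq, ← map_mul]
  have h5 : τ * (Syl.a * τ) = Syl.a := by rw [← mul_assoc, ← τ_comm, mul_assoc, τ_mul_τ, mul_one]
  rw [h5]
  exact ⟨IsConj.refl _, I.ha⟩

theorem k0_D : kk θ 0 ∈ DS (θ W0) (f τ) := by
  rw [kk, P, mem_D_iff ww (cθ (cw (by norm_num)))]
  exact I.k0_labels

theorem k0_S : kk θ 0 ∉ SS (θ W0) (f τ) :=
  not_mem_S_of ww (cθ (cw (by norm_num))) I.k0_labels.1 I.k0_labels.2

theorem one_out : (1 : KK (θ W0)) ∉ DS (θ W0) (f τ) ∧ (1 : KK (θ W0)) ∉ SS (θ W0) (f τ) := by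
  rw [← π_one]
  refine not_mem_of ww (by rw [one_mul, mul_one]) I.not_one ?_
  rw [one_mul]
  exact I.not_t_w

/-! ### The centraliser of `k 0` -/

theorem chk_okr : allB (fun m => okw (rmw m)) 128 = true := by decide +kernel

theorem chk_oke : S5W.all (fun w => okw (ew w)) = true := by decide +kernel

theorem comm_aτ {v : H0} (h : θ W0 * f v = f v * θ W0) : v * (Syl.a * τ) = Syl.a * τ * v := by
  apply I.E.inj
  rw [map_mul f v, map_mul f (Syl.a * τ), ← I.w_eq, h]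

theorem comm_aτ' {v : H0} (h : v * (Syl.a * τ) = Syl.a * τ * v) : f v * θ W0 = θ W0 * f v := by
  rw [I.w_eq, ← map_mul, ← map_mul, h]

/-- the images of the elements of `C_{H0}(aτ)` -/
theorem cent_H0 [Finite G] {v : H0} (hv : v * (Syl.a * τ) = Syl.a * τ * v) :
    ∃ m < 128, ∃ w ∈ S5W, π (θ W0) (f v) = r (kk θ) m * evw (gg θ) w := by
  classical
  have : Finite H0 := I.E.finite
  have B := I.bas
  let A := (Subgroup.centralizer ({Syl.a * τ} : Set H0))
  have hA : ∀ v : A, (v : H0) * (Syl.a * τ) = Syl.a * τ * v := fun v =>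
    Subgroup.mem_centralizer_singleton_iff.1 v.2
  let F : A → KK (θ W0) := fun v => π (θ W0) (f v)
  let s : A → A := fun v => ⟨v * (Syl.a * τ), A.mul_mem v.2 (Subgroup.mem_centralizer_singleton_iff.2 rfl)⟩
  have hs : ∀ v, F (s v) = F v := by
    intro v
    change π (θ W0) (f ((v : H0) * (Syl.a * τ))) = π (θ W0) (f v)
    rw [map_mul, ← I.w_eq, π_mul_w ww (I.comm_aτ' (hA v))]
  have hne : ∀ v, s v ≠ v := by
    intro v h
    have h1 : (v : H0) * (Syl.a * τ) = v := congrArg Subtype.val h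
    exact Classes.aτ_ne_one (mul_eq_left.1 h1)
  have hcard := card_le F s hs hne (Set.range F) (fun x hx => hx)
  have hA' : Nat.card A = 30720 := CentUp.card_centralizer_aτ
  rw [hA'] at hcard
  have l120 : S5W.length = 120 := by decide +kernel
  have hnd : S5W.Nodup := List.Nodup.of_map mw (by rw [chkS]; exact nodupS)
  have hmem : ∀ m < 128, ∀ w ∈ S5W, r (kk θ) m * evw (gg θ) w ∈ Set.range F := by
    intro m hm w hwS
    have h1 : okw (rmw m ++ ew w) = true :=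
      okw_append ((allB_iff _ _).1 I.chk_okr m hm) (List.all_eq_true.1 I.chk_oke w hwS)
    have h2 : V (rmw m ++ ew w) = r Q m * evw Γ w := by rw [V_append, V_rmw, V_ew]
    have h3 : θ (V (rmw m ++ ew w)) = f (hw (rmw m ++ ew w)) := I.θV h1
    have h4 : W0 * V (rmw m ++ ew w) = V (rmw m ++ ew w) * W0 := by
      rw [h2, ← mul_assoc, cwr, mul_assoc, cwe, mul_assoc]
    refine ⟨⟨hw (rmw m ++ ew w), ?_⟩, ?_⟩
    · rw [Subgroup.mem_centralizer_singleton_iff]
      apply I.comm_aτ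
      rw [← h3, ← cθ h4]
    · change π (θ W0) (f (hw (rmw m ++ ew w))) = _
      rw [← h3, ← P_nf, h2]
      rfl
  let F' : Fin 128 × Fin S5W.length → Set.range F := fun p =>
    ⟨r (kk θ) p.1 * evw (gg θ) (S5W.get p.2), hmem p.1 p.1.2 _ (List.get_mem _ _)⟩
  have hinj : Function.Injective F' := by
    rintro ⟨m, w⟩ ⟨m', w'⟩ h
    have h1 : r (kk θ) m * evw (gg θ) (S5W.get w) = r (kk θ) m' * evw (gg θ) (S5W.get w') :=
      congrArg Subtype.val h
    have hA1 : Acts (kk θ) (r (kk θ) m * evw (gg θ) (S5W.get w)) (mw (S5W.get w)) := B.acts_rmul (B.acts_evw _) _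
    have hA2 : Acts (kk θ) (r (kk θ) m' * evw (gg θ) (S5W.get w')) (mw (S5W.get w')) :=
      B.acts_rmul (B.acts_evw _) _
    rw [← h1] at hA2
    have h2 : mw (S5W.get w) = mw (S5W.get w') :=
      pack_ext (mw_lt _) (mw_lt _) fun i hi => B.acts_unique hA1 hA2 hi
    have h3 : S5W.get w = S5W.get w' := mw_injOn (List.get_mem _ _) (List.get_mem _ _) h2
    have h4 : w = w' := (List.nodup_iff_injective_get.1 hnd) h3
    subst h4
    have h5 : r (kk θ) m = r (kk θ) m' := mul_right_cancel h1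
    have h6 : (m : ℕ) = m' := B.r_inj (by omega) (by omega) h5
    rw [Fin.ext h6]
  have hc2 : Nat.card (Set.range F) ≤ Nat.card (Fin 128 × Fin S5W.length) := by
    rw [Nat.card_prod, Nat.card_fin, Nat.card_fin, l120]
    omega
  have hb := hinj.bijective_of_nat_card_le hc2
  obtain ⟨⟨m, w⟩, h⟩ := hb.2 ⟨F ⟨v, Subgroup.mem_centralizer_singleton_iff.2 hv⟩, ⟨_, rfl⟩⟩
  exact ⟨m, m.2, S5W.get w, List.get_mem _ _, (congrArg Subtype.val h).symm⟩

theorem cent_t [Finite G] {u : G} (hu : u * θ W0 = θ W0 * u) (ht : u * f τ = f τ * u) :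
    ∃ m < 128, ∃ w ∈ S5W, π (θ W0) u = r (kk θ) m * evw (gg θ) w := by
  obtain ⟨v, rfl⟩ := I.E.cent u ht
  exact I.cent_H0 (I.comm_aτ hu.symm)

/-- the centraliser of `k 0` -/
theorem f_cent0 [Finite G] (x : KK (θ W0)) (hx : x * kk θ 0 = kk θ 0 * x) :
    ∃ m < 256, ∃ w ∈ S5W, x = r (kk θ) m * evw (gg θ) w := by
  have B := I.bas
  obtain ⟨u, hu, rfl⟩ := π_surj x
  have c0 := cθ (θ := θ) (cw (i := 0) (by norm_num))
  have c7 := cθ (θ := θ) (cw (i := 7) (by norm_num))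
  rw [kk, P, ← π_mul hu c0, ← π_mul c0 hu, π_eq_iff ww (comm_mul hu c0) (comm_mul c0 hu), I.t_eq] at hx
  rcases hx with hx | hx
  · obtain ⟨m, hm, w, hw, h⟩ := I.cent_t hu hx.symm
    exact ⟨m, by omega, w, hw, h⟩
  · have h7 : f τ * θ (Q 7) = θ (Q 7) * (f τ * θ W0) := by
      have h1 := Q_comm (i := 0) (j := 7) (by norm_num) (by norm_num)
      have h2 : (Bm 7).testBit 0 = true := by decide +kernel
      rw [h2] at h1
      have h3 : Q 0 * Q 7 = Q 7 * (Q 0 * W0) := h1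
      have h4 := congrArg θ h3
      rwa [map_mul, map_mul, map_mul, I.t_eq] at h4
    have hq : (θ (Q 7) * u) * f τ = f τ * (θ (Q 7) * u) := by
      calc (θ (Q 7) * u) * f τ = θ (Q 7) * (u * f τ) * (θ W0 * θ W0) := by rw [ww]; group
        _ = θ (Q 7) * (u * f τ * θ W0) * θ W0 := by group
        _ = θ (Q 7) * (f τ * u) * θ W0 := by rw [hx]
        _ = θ (Q 7) * f τ * (u * θ W0) := by group
        _ = θ (Q 7) * (f τ * θ W0) * u := by rw [hu]; group
        _ = f τ * (θ (Q 7) * u) := by rw [← h7, mul_assoc]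
    obtain ⟨m, hm, w, hw, h⟩ := I.cent_t (comm_mul c7 hu) hq
    rw [π_mul c7 hu] at h
    have h8 : kk θ 7 * π (θ W0) u = r (kk θ) m * evw (gg θ) w := h
    refine ⟨2 ^ 7 ^^^ m, Nat.xor_lt_two_pow (n := 8) (by norm_num) (by omega), w, hw, ?_⟩
    rw [B.r_xor, Bas.r_pow (by norm_num), mul_assoc, ← h8, ← mul_assoc, B.sq 7 (by norm_num), one_mul]

/-! ### The centraliser of `xi3` -/

theorem f_card3 [Finite G] : Nat.card (Subgroup.centralizer {xi3 (kk θ) (gg θ)}) ≤ 1920 := by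
  classical
  have : Finite H0 := I.E.finite
  -- conjugate `e` to `t`
  obtain ⟨g, hg, hcent⟩ := I.E.exists_conj I.t_x3
  obtain ⟨v, hv⟩ := hcent (θ W0) (cθ I.c_x3).symm
  have hwg : θ W0 = g⁻¹ * f v * g := by rw [hv]; group
  have heg : θ (V x3w) = g⁻¹ * f τ * g := by rw [← hg]; group
  -- `v` is conjugate to `d`
  have hv2 : v ^ 2 = 1 := by
    apply I.E.inj
    rw [map_pow, map_one, hv, pow_two]
    calc g * θ W0 * g⁻¹ * (g * θ W0 * g⁻¹) = g * (θ W0 * θ W0) * g⁻¹ := by group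
      _ = 1 := by rw [ww]; group
  have hnv : ¬ InK f τ v := by
    intro h
    apply I.not_t_w
    rw [hwg]
    refine h.trans (isConj_iff.2 ⟨g⁻¹, by group⟩)
  have hnvτ : ¬ InK f τ (v * τ) := by
    intro h
    apply I.not_t_x3w
    have : θ (V x3w) * θ W0 = g⁻¹ * f (v * τ) * g := by
      rw [I.E.comm v, map_mul, hwg, heg]; group
    rw [this]
    refine h.trans (isConj_iff.2 ⟨g⁻¹, by group⟩)
  have hvd : IsConj Syl.d v := by
    rcases Syl.involution_cases hv2 with h | h | h | h | h | h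
    · exfalso
      apply I.w_ne
      rw [hwg, h, map_one]; group
    · exact absurd (h ▸ InK.refl) hnv
    · exact absurd (I.ha.conj h) hnv
    · exfalso
      apply hnvτ
      refine I.ha.conj ?_
      have h1 := I.E.isConj_mul_τ h
      rwa [mul_assoc, τ_mul_τ, mul_one] at h1
    · exact absurd (I.hz.conj h) hnv
    · exact h
  obtain ⟨c, hc⟩ := isConj_iff.1 hvd
  let A := (Subgroup.centralizer ({Syl.d} : Set H0))
  have hA : ∀ a : A, (a : H0) * Syl.d = Syl.d * a := fun a => Subgroup.mem_centralizer_singleton_iff.1 a.2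
  let F : A → KK (θ W0) := fun a => π (θ W0) (g⁻¹ * f (c * a * c⁻¹) * g)
  let s : A → A := fun a => ⟨a * Syl.d, A.mul_mem a.2 (Subgroup.mem_centralizer_singleton_iff.2 rfl)⟩
  have hcomm : ∀ a : A, (g⁻¹ * f (c * a * c⁻¹) * g) * θ W0 = θ W0 * (g⁻¹ * f (c * a * c⁻¹) * g) := by
    intro a
    have h1 : (c * a * c⁻¹) * v = v * (c * a * c⁻¹) := by
      rw [← hc]
      calc c * a * c⁻¹ * (c * Syl.d * c⁻¹) = c * (a * Syl.d) * c⁻¹ := by group
        _ = c * (Syl.d * a) * c⁻¹ := by rw [hA]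
        _ = c * Syl.d * c⁻¹ * (c * a * c⁻¹) := by group
    calc (g⁻¹ * f (c * a * c⁻¹) * g) * θ W0 = g⁻¹ * (f (c * a * c⁻¹) * f v) * g := by rw [hwg]; group
      _ = g⁻¹ * (f v * f (c * a * c⁻¹)) * g := by rw [← map_mul, h1, map_mul]
      _ = θ W0 * (g⁻¹ * f (c * a * c⁻¹) * g) := by rw [hwg]; group
  have hs : ∀ a, F (s a) = F a := by
    intro a
    change π (θ W0) (g⁻¹ * f (c * (a * Syl.d) * c⁻¹) * g) = π (θ W0) (g⁻¹ * f (c * a * c⁻¹) * g)
    have h1 : g⁻¹ * f (c * (a * Syl.d) * c⁻¹) * g = (g⁻¹ * f (c * a * c⁻¹) * g) * θ W0 := by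
      have h2 : c * (a * Syl.d) * c⁻¹ = c * a * c⁻¹ * v := by rw [← hc]; group
      rw [h2, map_mul, hwg]; group
    rw [h1, π_mul_w ww (hcomm a)]
  have hne : ∀ a, s a ≠ a := by
    intro a h
    have h1 : (a : H0) * Syl.d = a := congrArg Subtype.val h
    exact Classes.d_ne_one (mul_eq_left.1 h1)
  have hcard := card_le F s hs hne (Subgroup.centralizer {xi3 (kk θ) (gg θ)} : Set (KK (θ W0))) ?_
  · have hA' : Nat.card A ≤ 3840 := CentUp.card_centralizer_d_le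
    have : Nat.card (Subgroup.centralizer {xi3 (kk θ) (gg θ)} : Set (KK (θ W0))) =
      Nat.card (Subgroup.centralizer {xi3 (kk θ) (gg θ)}) := rfl
    omega
  · intro x hx
    rw [SetLike.mem_coe, Subgroup.mem_centralizer_singleton_iff, I.x3_eq'] at hx
    obtain ⟨u, hu, rfl⟩ := π_surj x
    have ce := cθ (θ := θ) I.c_x3
    rw [P, ← π_mul hu ce, ← π_mul ce hu, π_eq_iff ww (comm_mul hu ce) (comm_mul ce hu)] at hx
    rcases hx with hx | hx
    · obtain ⟨b, hb⟩ := hcent u hx.symm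
      have hbv : b * v = v * b := by
        apply I.E.inj
        rw [map_mul, map_mul, hv, hb]
        calc g * u * g⁻¹ * (g * θ W0 * g⁻¹) = g * (u * θ W0) * g⁻¹ := by group
          _ = g * (θ W0 * u) * g⁻¹ := by rw [hu]
          _ = g * θ W0 * g⁻¹ * (g * u * g⁻¹) := by group
      refine ⟨⟨c⁻¹ * b * c, ?_⟩, ?_⟩
      · rw [Subgroup.mem_centralizer_singleton_iff]
        have hd : Syl.d = c⁻¹ * v * c := by rw [← hc]; group
        rw [hd]
        calc c⁻¹ * b * c * (c⁻¹ * v * c) = c⁻¹ * (b * v) * c := by group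
          _ = c⁻¹ * (v * b) * c := by rw [hbv]
          _ = c⁻¹ * v * c * (c⁻¹ * b * c) := by group
      · change π (θ W0) (g⁻¹ * f (c * (c⁻¹ * b * c) * c⁻¹) * g) = π (θ W0) u
        have h1 : c * (c⁻¹ * b * c) * c⁻¹ = b := by group
        rw [h1, hb]
        congr 1
        group
    · exfalso
      -- `e` would be conjugate to `e w`
      apply I.not_t_x3w
      refine I.t_x3.trans (isConj_iff.2 ⟨u⁻¹, ?_⟩)
      rw [inv_inv, mul_assoc, hx]
      have h1 : u⁻¹ * (u * θ (V x3w) * θ W0) = θ (V x3w) * θ W0 := by group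
      exact h1

/-- **The configuration** -/
theorem hyp [Finite G] : Hyp (kk θ) (gg θ) (DS (θ W0) (f τ)) (SS (θ W0) (f τ)) where
  toBas := I.bas
  cD := cinv_D
  cS := cinv_S
  sqD := sq_D I.tt
  sqS := sq_S I.tt
  cent0 := I.f_cent0
  k0D := I.k0_D
  oneD := I.one_out.1
  r3D := I.r3_out.1
  r12D := I.r12_out.1
  oneS := I.one_out.2
  k0S := I.k0_S
  r3S := I.r3_out.2
  r12S := I.r12_out.2
  sq1 := by rw [I.x1_eq]; exact I.P_sq (cwe _) (Or.inr yh6)
  x1D := I.x1_out.1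
  x1S := I.x1_out.2
  sq2 := by rw [I.x2_eq']; exact I.P_sq I.c_x2 (Or.inl I.x2_sq)
  x2D := I.x2_out.1
  x2S := I.x2_out.2
  sq3 := by rw [I.x3_eq']; exact I.P_sq I.c_x3 (Or.inl I.x3_sq)
  x3D := I.x3_D
  x3S := I.x3_S
  card3 := I.f_card3

end Inst

end Cfsg.Agent.HN.XInst
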