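import Cfsg.Agent.HN.XInst
import Cfsg.Agent.HN.XCloseW
import Cfsg.Agent.HN.XCount
import Cfsg.Agent.HN.StepFive
import Cfsg.Agent.HN.Main
import Cfsg.Agent.HN.XSq
import Cfsg.Agent.HN.Central

/-!
# The configuration `XStructW.HypW` in `C_G(w)/⟨w⟩`, with a kernel of odd order

The centraliser of `t = f τ` is `W × f(H0)`, `W` of odd order commuting with `θ(HN)`.
-/

set_option autoImplicit false
set_option linter.unusedSectionVars false

namespace Cfsg.Agent.HN.XInstW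

open Cfsg.Agent.HN.Pres Cfsg.Agent.HN.P1408 Cfsg.Agent.HN.H0Basic Cfsg.Agent.HN.XMat Cfsg.Agent.HN.XStruct
open Cfsg.Agent.HN.XWords Cfsg.Agent.HN.XQuot Cfsg.Agent.HN.FusGen Cfsg.Agent.HN.Closing Cfsg.Agent.HN.XInst
open Cfsg.Agent.HN.XStructW
open Cfsg.Agent.SporadicA.PermTab (band_eq_true allB allB_iff)

/-- The situation: the centraliser of the involution `t = f τ` is `W × f(H0)`, `θ` extends `f` and commutes with `W`. -/
structure InstW {G : Type*} [Group G] (f : H0 →* G) (θ : Cfsg.Spor.HN →* G) (W : Subgroup G) : Prop where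
  inj : Function.Injective f
  ext : ∀ g, θ (NormalH.ψ g) = f g
  odd : Odd (Nat.card W)
  comW : ∀ o ∈ W, ∀ h, o * θ h = θ h * o
  cent : ∀ g, g * f τ = f τ * g → ∃ o ∈ W, ∃ h, g = o * f h
  hb : ¬ InK f τ (Syl.a * τ)

variable {G : Type*} [Group G] {f : H0 →* G} {θ : Cfsg.Spor.HN →* G} {W : Subgroup G}

namespace InstW

variable (I : InstW f θ W)

include I

theorem w_eq : θ W0 = f (Syl.a * τ) := by rw [W0_eq, I.ext]

theorem t_eq : θ (Q 0) = f τ := by
  rw [← hw_τ, ← I.ext, V_hw (by decide +kernel)]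
  rfl

theorem w_ne : θ W0 ≠ 1 := by
  rw [I.w_eq, ← map_one f]
  exact fun h => Classes.aτ_ne_one (I.inj h)

theorem θV {a : List ℕ} (h : okw a = true) : θ (V a) = f (hw a) := by rw [← V_hw h, I.ext]

theorem ha : InK f τ Syl.a := by
  have := Main.simple_HN
  have h := θ.map_isConj InvHN.isConj_a
  rw [I.ext, I.ext] at h
  exact h.symm

theorem hz : InK f τ gz := by
  have := Main.simple_HN
  have h := θ.map_isConj InvHN.isConj_z
  rw [I.ext, I.ext] at h
  exact h.symm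

theorem hd : ¬ InK f τ Syl.d := by
  intro h1
  have := Main.simple_HN
  have h := θ.map_isConj InvHN.isConj_d
  rw [I.ext, I.ext] at h
  exact I.hb (IsConj.trans h1 h)

theorem comf {o : G} (ho : o ∈ W) (h : H0) : o * f h = f h * o := by
  rw [← I.ext]
  exact I.comW o ho _

theorem tt : f τ * f τ = 1 := by rw [← map_mul, τ_mul_τ, map_one]

theorem t_ne : f τ ≠ 1 := fun h => τ_ne_one (I.inj (h.trans (map_one f).symm))

theorem disj {h : H0} (hh : f h ∈ W) : h = 1 := by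
  have h1 : ∀ k, h * k = k * h := by
    intro k
    apply I.inj
    rw [map_mul, map_mul]
    exact I.comf hh k
  have h2 : h * h = 1 := by
    rcases StepFive.cen_H0 h h1 with rfl | rfl
    · rw [one_mul]
    · exact τ_mul_τ
  apply I.inj
  rw [map_one]
  apply EmbW.eq_one_of_sq I.odd hh
  rw [← map_mul, h2, map_one]

/-- an involution in `W f(h)` -/
theorem split {o u : G} {h : H0} (ho : o ∈ W) (hu : u = o * f h) (h2 : u * u = 1) : o = 1 ∧ h * h = 1 := by
  have h3 := I.comf ho h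
  have e1 : o * o = (f (h * h))⁻¹ := by
    rw [eq_inv_iff_mul_eq_one, map_mul]
    calc o * o * (f h * f h) = o * (o * f h) * f h := by group
      _ = o * (f h * o) * f h := by rw [h3]
      _ = u * u := by rw [hu]; group
      _ = 1 := h2
  have e2 : h * h = 1 := by
    apply I.disj
    have : (f (h * h))⁻¹ ∈ W := by rw [← e1]; exact W.mul_mem ho ho
    exact inv_mem_iff.1 this
  exact ⟨EmbW.eq_one_of_sq I.odd ho (by rw [e1, e2, map_one, inv_one]), e2⟩

/-- conjugating a conjugate of `t` back to `t` -/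
theorem exists_conj {k : G} (hk : IsConj (f τ) k) :
    ∃ g : G, g * k * g⁻¹ = f τ ∧ ∀ j, j * k = k * j → ∃ o ∈ W, ∃ c, g * j * g⁻¹ = o * f c := by
  obtain ⟨c, hc⟩ := isConj_iff.1 hk.symm
  refine ⟨c, hc, fun j hj => I.cent _ ?_⟩
  rw [← hc]
  calc c * j * c⁻¹ * (c * k * c⁻¹) = c * (j * k) * c⁻¹ := by group
    _ = c * (k * j) * c⁻¹ := by rw [hj]
    _ = c * k * c⁻¹ * (c * j * c⁻¹) := by group

theorem bas : Bas (kk θ) (gg θ) where
  comm i hi j hj := f_comm hi hj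
  sq i hi := f_sq hi
  act g := f_act g
  inj m hm h := by
    rw [← P_r] at h
    have h1 := (π_eq_one_iff ww (cθ (cwr m))).1 h
    refine mask_zero θ hm I.w_ne fun j hj => ?_
    rcases h1 with h1 | h1
    · rw [h1, one_mul, mul_one]
    · rw [h1, cθ (cw hj)]

theorem inK_iff {a : List ℕ} (h : okw a = true) : InK f τ (hw a) ↔ IsConj (f τ) (θ (V a)) := by
  rw [I.θV h]
  rfl

theorem not_t_w : ¬ IsConj (f τ) (θ W0) := by rw [I.w_eq]; exact I.hb

theorem not_one : ¬ IsConj (f τ) 1 := by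
  intro h
  have := isConj_one_left.1 h
  exact I.t_ne this

/-- an element whose square is `w` is not fused to `t` -/
theorem not_of_sq {u : Cfsg.Spor.HN} (h : u * u = W0) : ¬ IsConj (f τ) (θ u) := by
  intro h1
  have h2 := sq_of_isConj I.tt h1
  rw [← map_mul, h] at h2
  exact I.w_ne h2

theorem out_of_sq {u : Cfsg.Spor.HN} (hu : W0 * u = u * W0) (h : u * u = W0) :
    P θ u ∉ DS (θ W0) (f τ) ∧ P θ u ∉ SS (θ W0) (f τ) := by
  refine not_mem_of ww (cθ hu) (I.not_of_sq h) ?_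
  rw [← map_mul]
  refine I.not_of_sq ?_
  calc u * W0 * (u * W0) = u * (W0 * u) * W0 := by group
    _ = (u * u) * (W0 * W0) := by rw [hu]; group
    _ = W0 := by rw [h, W0_sq, mul_one]

theorem out_of_words {a : List ℕ} (h0 : okw a = true) (hc : W0 * V a = V a * W0) (h1 : ¬ InK f τ (hw a))
    (h2 : ¬ InK f τ (hw (a ++ w0w))) : P θ (V a) ∉ DS (θ W0) (f τ) ∧ P θ (V a) ∉ SS (θ W0) (f τ) := by
  rw [I.inK_iff h0] at h1
  rw [I.inK_iff (okw_append h0 (by decide +kernel)), V_append, map_mul] at h2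
  exact not_mem_of ww (cθ hc) h1 h2

theorem not_d {v : H0} (h : IsConj Syl.d v) : ¬ InK f τ v := fun h1 => I.hd ((InK.iff_of_isConj h).2 h1)
theorem not_b {v : H0} (h : IsConj (Syl.a * τ) v) : ¬ InK f τ v := fun h1 => I.hb ((InK.iff_of_isConj h).2 h1)

theorem c_r3 : W0 * V (qw 0 ++ qw 1) = V (qw 0 ++ qw 1) * W0 := by rw [← r3_eq, cwr]

theorem c_x2 : W0 * V x2w = V x2w * W0 := by
  rw [← x2_eq, ← mul_assoc, cwr, mul_assoc, cwe, mul_assoc]

theorem c_x3 : W0 * V x3w = V x3w * W0 := by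
  rw [← x3_eq, ← mul_assoc, cwr, mul_assoc, cwe, mul_assoc]

theorem r3_out : r (kk θ) 3 ∉ DS (θ W0) (f τ) ∧ r (kk θ) 3 ∉ SS (θ W0) (f τ) := by
  rw [← P_r, r3_eq]
  exact I.out_of_words (by decide +kernel) I.c_r3 (I.not_b conj_r3) (I.not_b (by
    rw [List.append_assoc]; exact conj_r3w))

theorem r12_out : r (kk θ) 12 ∉ DS (θ W0) (f τ) ∧ r (kk θ) 12 ∉ SS (θ W0) (f τ) := by
  rw [← P_r]
  exact I.out_of_sq (cwr _) r12_sq

theorem x1_eq : xi1 (gg θ) = P θ (evw Γ [0, 2, 0, 2, 0, 2]) := (P_evw _).symm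

theorem x2_eq' : xi2 (kk θ) (gg θ) = P θ (V x2w) := by
  rw [← x2_eq, P_nf]; rfl

theorem x3_eq' : xi3 (kk θ) (gg θ) = P θ (V x3w) := by
  rw [← x3_eq, P_nf]; rfl

theorem x1_out : xi1 (gg θ) ∉ DS (θ W0) (f τ) ∧ xi1 (gg θ) ∉ SS (θ W0) (f τ) := by
  rw [I.x1_eq]
  exact I.out_of_sq (cwe _) yh6

theorem x2_out : xi2 (kk θ) (gg θ) ∉ DS (θ W0) (f τ) ∧ xi2 (kk θ) (gg θ) ∉ SS (θ W0) (f τ) := by
  rw [I.x2_eq']
  exact I.out_of_words (by decide +kernel) I.c_x2 (I.not_d conj_x2) (I.not_d conj_x2w)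

theorem P_sq {u : Cfsg.Spor.HN} (hu : W0 * u = u * W0) (h : u * u = 1 ∨ u * u = W0) : P θ u * P θ u = 1 := by
  rw [← P_mul hu hu]
  rcases h with h | h
  · rw [h, P_one]
  · rw [h, P_W0]

theorem x2_sq : V x2w * V x2w = 1 := by
  rw [← V_append, ← V_nil]; exact V_eq (by decide +kernel)

theorem x3_sq : V x3w * V x3w = 1 := by
  rw [← V_append, ← V_nil]; exact V_eq (by decide +kernel)

theorem t_x3 : IsConj (f τ) (θ (V x3w)) := by
  rw [← I.inK_iff (by decide +kernel)]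
  exact I.hz.conj conj_e

theorem not_t_x3w : ¬ IsConj (f τ) (θ (V x3w) * θ W0) := by
  have h := I.not_d conj_ew
  rwa [I.inK_iff (by decide +kernel), V_append, map_mul] at h

theorem x3_S : xi3 (kk θ) (gg θ) ∈ SS (θ W0) (f τ) := by
  rw [I.x3_eq']
  exact ⟨θ (V x3w), cθ I.c_x3, rfl, I.t_x3, I.not_t_x3w⟩

theorem x3_D : xi3 (kk θ) (gg θ) ∉ DS (θ W0) (f τ) := by
  rw [I.x3_eq']
  exact not_mem_D_of ww (cθ I.c_x3) I.not_t_x3w

theorem k0_labels : IsConj (f τ) (θ (Q 0)) ∧ IsConj (f τ) (θ (Q 0) * θ W0) := by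
  rw [I.t_eq, I.w_eq, ← map_mul]
  have h5 : τ * (Syl.a * τ) = Syl.a := by rw [← mul_assoc, ← τ_comm, mul_assoc, τ_mul_τ, mul_one]
  rw [h5]
  exact ⟨IsConj.refl _, I.ha⟩

theorem k0_D : kk θ 0 ∈ DS (θ W0) (f τ) := by
  rw [kk, P, mem_D_iff ww (cθ (cw (by norm_num)))]
  exact I.k0_labels

theorem k0_S : kk θ 0 ∉ SS (θ W0) (f τ) :=
  not_mem_S_of ww (cθ (cw (by norm_num))) I.k0_labels.1 I.k0_labels.2

theorem one_out : (1 : KK (θ W0)) ∉ DS (θ W0) (f τ) ∧ (1 : KK (θ W0)) ∉ SS (θ W0) (f τ) := by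
  rw [← π_one]
  refine not_mem_of ww (by rw [one_mul, mul_one]) I.not_one ?_
  rw [one_mul]
  exact I.not_t_w

/-! ### The centraliser of `k 0` -/

theorem chk_okr : allB (fun m => okw (rmw m)) 128 = true := by decide +kernel

theorem chk_oke : S5W.all (fun w => okw (ew w)) = true := by decide +kernel

theorem comm_aτ {v : H0} (h : θ W0 * f v = f v * θ W0) : v * (Syl.a * τ) = Syl.a * τ * v := by
  apply I.inj
  rw [map_mul f v, map_mul f (Syl.a * τ), ← I.w_eq, h]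

theorem comm_aτ' {v : H0} (h : v * (Syl.a * τ) = Syl.a * τ * v) : f v * θ W0 = θ W0 * f v := by
  rw [I.w_eq, ← map_mul, ← map_mul, h]

/-- the images of the elements of `C_{H0}(aτ)` -/
theorem cent_H0 [Finite G] {v : H0} (hv : v * (Syl.a * τ) = Syl.a * τ * v) :
    ∃ m < 128, ∃ w ∈ S5W, π (θ W0) (f v) = r (kk θ) m * evw (gg θ) w := by
  classical
  have : Finite H0 := H0Basic.finite_H0
  have B := I.bas
  let A := (Subgroup.centralizer ({Syl.a * τ} : Set H0))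
  have hA : ∀ v : A, (v : H0) * (Syl.a * τ) = Syl.a * τ * v := fun v =>
    Subgroup.mem_centralizer_singleton_iff.1 v.2
  let F : A → KK (θ W0) := fun v => π (θ W0) (f v)
  let s : A → A := fun v => ⟨v * (Syl.a * τ), A.mul_mem v.2 (Subgroup.mem_centralizer_singleton_iff.2 rfl)⟩
  have hs : ∀ v, F (s v) = F v := by
    intro v
    change π (θ W0) (f ((v : H0) * (Syl.a * τ))) = π (θ W0) (f v)
    rw [map_mul, ← I.w_eq, π_mul_w ww (I.comm_aτ' (hA v))]
  have hne : ∀ v, s v ≠ v := by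
    intro v h
    have h1 : (v : H0) * (Syl.a * τ) = v := congrArg Subtype.val h
    exact Classes.aτ_ne_one (mul_eq_left.1 h1)
  have hcard := card_le F s hs hne (Set.range F) (fun x hx => hx)
  have hA' : Nat.card A = 30720 := CentUp.card_centralizer_aτ
  rw [hA'] at hcard
  have l120 : S5W.length = 120 := by decide +kernel
  have hnd : S5W.Nodup := List.Nodup.of_map mw (by rw [chkS]; exact nodupS)
  have hmem : ∀ m < 128, ∀ w ∈ S5W, r (kk θ) m * evw (gg θ) w ∈ Set.range F := by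
    intro m hm w hwS
    have h1 : okw (rmw m ++ ew w) = true :=
      okw_append ((allB_iff _ _).1 I.chk_okr m hm) (List.all_eq_true.1 I.chk_oke w hwS)
    have h2 : V (rmw m ++ ew w) = r Q m * evw Γ w := by rw [V_append, V_rmw, V_ew]
    have h3 : θ (V (rmw m ++ ew w)) = f (hw (rmw m ++ ew w)) := I.θV h1
    have h4 : W0 * V (rmw m ++ ew w) = V (rmw m ++ ew w) * W0 := by
      rw [h2, ← mul_assoc, cwr, mul_assoc, cwe, mul_assoc]
    refine ⟨⟨hw (rmw m ++ ew w), ?_⟩, ?_⟩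
    · rw [Subgroup.mem_centralizer_singleton_iff]
      apply I.comm_aτ
      rw [← h3, ← cθ h4]
    · change π (θ W0) (f (hw (rmw m ++ ew w))) = _
      rw [← h3, ← P_nf, h2]
      rfl
  let F' : Fin 128 × Fin S5W.length → Set.range F := fun p =>
    ⟨r (kk θ) p.1 * evw (gg θ) (S5W.get p.2), hmem p.1 p.1.2 _ (List.get_mem _ _)⟩
  have hinj : Function.Injective F' := by
    rintro ⟨m, w⟩ ⟨m', w'⟩ h
    have h1 : r (kk θ) m * evw (gg θ) (S5W.get w) = r (kk θ) m' * evw (gg θ) (S5W.get w') :=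
      congrArg Subtype.val h
    have hA1 : Acts (kk θ) (r (kk θ) m * evw (gg θ) (S5W.get w)) (mw (S5W.get w)) := B.acts_rmul (B.acts_evw _) _
    have hA2 : Acts (kk θ) (r (kk θ) m' * evw (gg θ) (S5W.get w')) (mw (S5W.get w')) :=
      B.acts_rmul (B.acts_evw _) _
    rw [← h1] at hA2
    have h2 : mw (S5W.get w) = mw (S5W.get w') :=
      pack_ext (mw_lt _) (mw_lt _) fun i hi => B.acts_unique hA1 hA2 hi
    have h3 : S5W.get w = S5W.get w' := mw_injOn (List.get_mem _ _) (List.get_mem _ _) h2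
    have h4 : w = w' := (List.nodup_iff_injective_get.1 hnd) h3
    subst h4
    have h5 : r (kk θ) m = r (kk θ) m' := mul_right_cancel h1
    have h6 : (m : ℕ) = m' := B.r_inj (by omega) (by omega) h5
    rw [Fin.ext h6]
  have hc2 : Nat.card (Set.range F) ≤ Nat.card (Fin 128 × Fin S5W.length) := by
    rw [Nat.card_prod, Nat.card_fin, Nat.card_fin, l120]
    omega
  have hb := hinj.bijective_of_nat_card_le hc2
  obtain ⟨⟨m, w⟩, h⟩ := hb.2 ⟨F ⟨v, Subgroup.mem_centralizer_singleton_iff.2 hv⟩, ⟨_, rfl⟩⟩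
  exact ⟨m, m.2, S5W.get w, List.get_mem _ _, (congrArg Subtype.val h).symm⟩

theorem cWw {o : G} (ho : o ∈ W) : o * θ W0 = θ W0 * o := I.comW o ho _

omit I in
/-- the image of `W` -/
noncomputable def ρ (I : InstW f θ W) : W →* KK (θ W0) :=
  MonoidHom.mk' (fun o => π (θ W0) o) (fun a b => π_mul (I.cWw a.2) (I.cWw b.2))

omit I in
theorem ρ_apply (I : InstW f θ W) (o : W) : I.ρ o = π (θ W0) o := rfl

omit I in
/-- the image of `W` -/
noncomputable def WK (I : InstW f θ W) : Subgroup (KK (θ W0)) := I.ρ.range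

theorem ρ_inj : Function.Injective I.ρ := by
  rw [injective_iff_map_eq_one]
  intro o ho
  rw [ρ_apply, π_eq_one_iff ww (I.cWw o.2)] at ho
  rcases ho with h | h
  · exact Subtype.ext h
  · exfalso
    apply I.w_ne
    apply EmbW.eq_one_of_sq I.odd (w := θ W0) _ ww
    rw [← h]
    exact o.2

theorem card_WK : Nat.card I.WK = Nat.card W :=
  (Nat.card_congr (MonoidHom.ofInjective I.ρ_inj).toEquiv).symm

theorem mem_WK {x : KK (θ W0)} : x ∈ I.WK ↔ ∃ o ∈ W, π (θ W0) o = x := by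
  constructor
  · rintro ⟨o, rfl⟩
    exact ⟨o, o.2, rfl⟩
  · rintro ⟨o, ho, rfl⟩
    exact ⟨⟨o, ho⟩, rfl⟩

theorem odd_WK : Odd (Nat.card I.WK) := by rw [I.card_WK]; exact I.odd

/-- the image of `W` commutes with the image of `θ` -/
theorem WK_comm {x : KK (θ W0)} (hx : x ∈ I.WK) {u : Cfsg.Spor.HN} (hu : W0 * u = u * W0) :
    x * P θ u = P θ u * x := by
  obtain ⟨o, ho, rfl⟩ := I.mem_WK.1 hx
  rw [P, ← π_mul (I.cWw ho) (cθ hu), ← π_mul (cθ hu) (I.cWw ho), I.comW o ho]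

theorem cent_t [Finite G] {u : G} (hu : u * θ W0 = θ W0 * u) (ht : u * f τ = f τ * u) :
    ∃ m < 128, ∃ w ∈ S5W, ∃ o ∈ I.WK, π (θ W0) u = r (kk θ) m * evw (gg θ) w * o := by
  obtain ⟨o, ho, v, rfl⟩ := I.cent u ht
  have hv : f v * θ W0 = θ W0 * f v := by
    have h1 := comm_mul (comm_inv (I.cWw ho)) hu
    rwa [inv_mul_cancel_left] at h1
  obtain ⟨m, hm, w, hw, h⟩ := I.cent_H0 (I.comm_aτ hv.symm)
  refine ⟨m, hm, w, hw, π (θ W0) o, I.mem_WK.2 ⟨o, ho, rfl⟩, ?_⟩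
  rw [← h, ← π_mul hv (I.cWw ho), I.comf ho]

/-- the centraliser of `k 0` -/
theorem f_cent0 [Finite G] (x : KK (θ W0)) (hx : x * kk θ 0 = kk θ 0 * x) :
    ∃ m < 256, ∃ w ∈ S5W, ∃ o ∈ I.WK, x = r (kk θ) m * evw (gg θ) w * o := by
  have B := I.bas
  obtain ⟨u, hu, rfl⟩ := π_surj x
  have c0 := cθ (θ := θ) (cw (i := 0) (by norm_num))
  have c7 := cθ (θ := θ) (cw (i := 7) (by norm_num))
  rw [kk, P, ← π_mul hu c0, ← π_mul c0 hu, π_eq_iff ww (comm_mul hu c0) (comm_mul c0 hu), I.t_eq] at hx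
  rcases hx with hx | hx
  · obtain ⟨m, hm, w, hw, o, ho, h⟩ := I.cent_t hu hx.symm
    exact ⟨m, by omega, w, hw, o, ho, h⟩
  · have h7 : f τ * θ (Q 7) = θ (Q 7) * (f τ * θ W0) := by
      have h1 := Q_comm (i := 0) (j := 7) (by norm_num) (by norm_num)
      have h2 : (Bm 7).testBit 0 = true := by decide +kernel
      rw [h2] at h1
      have h3 : Q 0 * Q 7 = Q 7 * (Q 0 * W0) := h1
      have h4 := congrArg θ h3
      rwa [map_mul, map_mul, map_mul, I.t_eq] at h4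
    have hq : (θ (Q 7) * u) * f τ = f τ * (θ (Q 7) * u) := by
      calc (θ (Q 7) * u) * f τ = θ (Q 7) * (u * f τ) * (θ W0 * θ W0) := by rw [ww]; group
        _ = θ (Q 7) * (u * f τ * θ W0) * θ W0 := by group
        _ = θ (Q 7) * (f τ * u) * θ W0 := by rw [hx]
        _ = θ (Q 7) * f τ * (u * θ W0) := by group
        _ = θ (Q 7) * (f τ * θ W0) * u := by rw [hu]; group
        _ = f τ * (θ (Q 7) * u) := by rw [← h7, mul_assoc]
    obtain ⟨m, hm, w, hw, o, ho, h⟩ := I.cent_t (comm_mul c7 hu) hq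
    rw [π_mul c7 hu] at h
    have h8 : kk θ 7 * π (θ W0) u = r (kk θ) m * evw (gg θ) w * o := h
    refine ⟨2 ^ 7 ^^^ m, Nat.xor_lt_two_pow (n := 8) (by norm_num) (by omega), w, hw, o, ho, ?_⟩
    rw [B.r_xor, Bas.r_pow (by norm_num), mul_assoc, mul_assoc, ← mul_assoc (r (kk θ) m), ← h8, ← mul_assoc,
      B.sq 7 (by norm_num), one_mul]

/-! ### The centraliser of `xi3` -/

theorem f_card3 [Finite G] : Nat.card (Subgroup.centralizer {xi3 (kk θ) (gg θ)}) ≤ 1920 * Nat.card I.WK := by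
  classical
  have : Finite H0 := H0Basic.finite_H0
  -- conjugate `e` to `t`
  obtain ⟨g, hg, hcent⟩ := I.exists_conj I.t_x3
  obtain ⟨o', ho', v, hv'⟩ := hcent (θ W0) (cθ I.c_x3).symm
  have hsq' : g * θ W0 * g⁻¹ * (g * θ W0 * g⁻¹) = 1 := by
    calc g * θ W0 * g⁻¹ * (g * θ W0 * g⁻¹) = g * (θ W0 * θ W0) * g⁻¹ := by group
      _ = 1 := by rw [ww]; group
  obtain ⟨hoo, hvv⟩ := I.split ho' hv' hsq'
  have hv : f v = g * θ W0 * g⁻¹ := by rw [hv', hoo, one_mul]
  have hwg : θ W0 = g⁻¹ * f v * g := by rw [hv]; group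
  have heg : θ (V x3w) = g⁻¹ * f τ * g := by rw [← hg]; group
  -- `v` is conjugate to `d`
  have hv2 : v ^ 2 = 1 := by rw [pow_two, hvv]
  have hnv : ¬ InK f τ v := by
    intro h
    apply I.not_t_w
    rw [hwg]
    refine IsConj.trans h (isConj_iff.2 ⟨g⁻¹, by group⟩)
  have hnvτ : ¬ InK f τ (v * τ) := by
    intro h
    apply I.not_t_x3w
    have : θ (V x3w) * θ W0 = g⁻¹ * f (v * τ) * g := by
      rw [τ_comm v, map_mul, hwg, heg]; group
    rw [this]
    refine IsConj.trans h (isConj_iff.2 ⟨g⁻¹, by group⟩)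
  have hvd : IsConj Syl.d v := by
    rcases Syl.involution_cases hv2 with h | h | h | h | h | h
    · exfalso
      apply I.w_ne
      rw [hwg, h, map_one]; group
    · exact absurd (h ▸ InK.refl) hnv
    · exact absurd (I.ha.conj h) hnv
    · exfalso
      apply hnvτ
      refine I.ha.conj ?_
      obtain ⟨c, hc⟩ := isConj_iff.1 h
      refine isConj_iff.2 ⟨c, ?_⟩
      rw [← hc]
      have h1 := τ_comm c⁻¹
      calc c * Syl.a * c⁻¹ = c * Syl.a * (τ * τ) * c⁻¹ := by rw [τ_mul_τ, mul_one]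
        _ = c * (Syl.a * τ) * (τ * c⁻¹) := by group
        _ = c * (Syl.a * τ) * (c⁻¹ * τ) := by rw [h1]
        _ = c * (Syl.a * τ) * c⁻¹ * τ := by group
    · exact absurd (I.hz.conj h) hnv
    · exact h
  obtain ⟨c, hc⟩ := isConj_iff.1 hvd
  let A := (Subgroup.centralizer ({Syl.d} : Set H0))
  have hA : ∀ a : A, (a : H0) * Syl.d = Syl.d * a := fun a => Subgroup.mem_centralizer_singleton_iff.1 a.2
  let F : A × W → KK (θ W0) := fun a => π (θ W0) (g⁻¹ * ((a.2 : G) * f (c * a.1 * c⁻¹)) * g)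
  let s : A × W → A × W := fun a =>
    (⟨a.1 * Syl.d, A.mul_mem a.1.2 (Subgroup.mem_centralizer_singleton_iff.2 rfl)⟩, a.2)
  have hcomm : ∀ a : A × W, (g⁻¹ * ((a.2 : G) * f (c * a.1 * c⁻¹)) * g) * θ W0 =
      θ W0 * (g⁻¹ * ((a.2 : G) * f (c * a.1 * c⁻¹)) * g) := by
    intro a
    have h1 : (c * a.1 * c⁻¹) * v = v * (c * a.1 * c⁻¹) := by
      rw [← hc]
      calc c * a.1 * c⁻¹ * (c * Syl.d * c⁻¹) = c * (a.1 * Syl.d) * c⁻¹ := by group
        _ = c * (Syl.d * a.1) * c⁻¹ := by rw [hA]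
        _ = c * Syl.d * c⁻¹ * (c * a.1 * c⁻¹) := by group
    have h2 := I.comf a.2.2 v
    calc (g⁻¹ * ((a.2 : G) * f (c * a.1 * c⁻¹)) * g) * θ W0
        = g⁻¹ * ((a.2 : G) * (f (c * a.1 * c⁻¹) * f v)) * g := by rw [hwg]; group
      _ = g⁻¹ * ((a.2 : G) * (f v * f (c * a.1 * c⁻¹))) * g := by rw [← map_mul, h1, map_mul]
      _ = g⁻¹ * (((a.2 : G) * f v) * f (c * a.1 * c⁻¹)) * g := by group
      _ = g⁻¹ * ((f v * (a.2 : G)) * f (c * a.1 * c⁻¹)) * g := by rw [h2]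
      _ = θ W0 * (g⁻¹ * ((a.2 : G) * f (c * a.1 * c⁻¹)) * g) := by rw [hwg]; group
  have hs : ∀ a, F (s a) = F a := by
    intro a
    change π (θ W0) (g⁻¹ * ((a.2 : G) * f (c * (a.1 * Syl.d) * c⁻¹)) * g) =
      π (θ W0) (g⁻¹ * ((a.2 : G) * f (c * a.1 * c⁻¹)) * g)
    have h1 : g⁻¹ * ((a.2 : G) * f (c * (a.1 * Syl.d) * c⁻¹)) * g =
        (g⁻¹ * ((a.2 : G) * f (c * a.1 * c⁻¹)) * g) * θ W0 := by
      have h2 : c * (a.1 * Syl.d) * c⁻¹ = c * a.1 * c⁻¹ * v := by rw [← hc]; group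
      rw [h2, map_mul, hwg]; group
    rw [h1, π_mul_w ww (hcomm a)]
  have hne : ∀ a, s a ≠ a := by
    intro a h
    have h1 : (a.1 : H0) * Syl.d = a.1 := congrArg (fun x : A × W => (x.1 : H0)) h
    exact Classes.d_ne_one (mul_eq_left.1 h1)
  have hcard := card_le F s hs hne (Subgroup.centralizer {xi3 (kk θ) (gg θ)} : Set (KK (θ W0))) ?_
  · have hA' : Nat.card A ≤ 3840 := CentUp.card_centralizer_d_le
    have h1 : Nat.card (Subgroup.centralizer {xi3 (kk θ) (gg θ)} : Set (KK (θ W0))) =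
      Nat.card (Subgroup.centralizer {xi3 (kk θ) (gg θ)}) := rfl
    rw [h1, Nat.card_prod] at hcard
    rw [I.card_WK]
    have h2 : Nat.card A * Nat.card W ≤ 3840 * Nat.card W := Nat.mul_le_mul_right _ hA'
    omega
  · intro x hx
    rw [SetLike.mem_coe, Subgroup.mem_centralizer_singleton_iff, I.x3_eq'] at hx
    obtain ⟨u, hu, rfl⟩ := π_surj x
    have ce := cθ (θ := θ) I.c_x3
    rw [P, ← π_mul hu ce, ← π_mul ce hu, π_eq_iff ww (comm_mul hu ce) (comm_mul ce hu)] at hx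
    rcases hx with hx | hx
    · obtain ⟨o, ho, b, hb⟩ := hcent u hx.symm
      have hbv : b * v = v * b := by
        apply I.inj
        rw [map_mul, map_mul]
        have h1 : (o * f b) * f v = f v * (o * f b) := by
          rw [← hb, hv]
          calc g * u * g⁻¹ * (g * θ W0 * g⁻¹) = g * (u * θ W0) * g⁻¹ := by group
            _ = g * (θ W0 * u) * g⁻¹ := by rw [hu]
            _ = g * θ W0 * g⁻¹ * (g * u * g⁻¹) := by group
        have h2 := I.comf ho v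
        apply mul_left_cancel (a := o)
        calc o * (f b * f v) = o * f b * f v := by group
          _ = f v * (o * f b) := h1
          _ = (f v * o) * f b := by group
          _ = (o * f v) * f b := by rw [h2]
          _ = o * (f v * f b) := by group
      refine ⟨(⟨c⁻¹ * b * c, ?_⟩, ⟨o, ho⟩), ?_⟩
      · rw [Subgroup.mem_centralizer_singleton_iff]
        have hd : Syl.d = c⁻¹ * v * c := by rw [← hc]; group
        rw [hd]
        calc c⁻¹ * b * c * (c⁻¹ * v * c) = c⁻¹ * (b * v) * c := by group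
          _ = c⁻¹ * (v * b) * c := by rw [hbv]
          _ = c⁻¹ * v * c * (c⁻¹ * b * c) := by group
      · change π (θ W0) (g⁻¹ * (o * f (c * (c⁻¹ * b * c) * c⁻¹)) * g) = π (θ W0) u
        have h1 : c * (c⁻¹ * b * c) * c⁻¹ = b := by group
        rw [h1, ← hb]
        congr 1
        group
    · exfalso
      -- `e` would be conjugate to `e w`
      apply I.not_t_x3w
      refine I.t_x3.trans (isConj_iff.2 ⟨u⁻¹, ?_⟩)
      rw [inv_inv, mul_assoc, hx]
      have h1 : u⁻¹ * (u * θ (V x3w) * θ W0) = θ (V x3w) * θ W0 := by group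
      exact h1

/-- **The configuration** -/
theorem hyp [Finite G] : HypW (kk θ) (gg θ) (DS (θ W0) (f τ)) (SS (θ W0) (f τ)) I.WK where
  toBas := I.bas
  cD := cinv_D
  cS := cinv_S
  sqD := sq_D I.tt
  sqS := sq_S I.tt
  oddW := I.odd_WK
  Wk := fun _ ho _ hi => I.WK_comm ho (cw hi)
  Wγ := fun _ ho g => I.WK_comm ho (cwg g)
  cent0 := I.f_cent0
  k0D := I.k0_D
  oneD := I.one_out.1
  r3D := I.r3_out.1
  r12D := I.r12_out.1
  oneS := I.one_out.2
  k0S := I.k0_S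
  r3S := I.r3_out.2
  r12S := I.r12_out.2
  sq1 := by rw [I.x1_eq]; exact I.P_sq (cwe _) (Or.inr yh6)
  x1D := I.x1_out.1
  x1S := I.x1_out.2
  sq2 := by rw [I.x2_eq']; exact I.P_sq I.c_x2 (Or.inl I.x2_sq)
  x2D := I.x2_out.1
  x2S := I.x2_out.2
  sq3 := by rw [I.x3_eq']; exact I.P_sq I.c_x3 (Or.inl I.x3_sq)
  x3D := I.x3_D
  x3S := I.x3_S
  card3 := I.f_card3

theorem disjDS : ∀ e ∈ DS (θ W0) (f τ), e ∉ SS (θ W0) (f τ) := by
  rintro _ ⟨u, hu, rfl, h1, h2⟩
  exact not_mem_S_of ww hu h1 h2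

/-- **The centraliser of `w`** -/
theorem cent_w [Finite G] (u : G) (hu : u * f (Syl.a * τ) = f (Syl.a * τ) * u) : ∃ o ∈ W, ∃ h, u = o * θ h := by
  rw [← I.w_eq] at hu
  obtain ⟨m, _, w, _, w', _, x, hx, h⟩ := XCloseW.normal_form I.hyp I.disjDS (π (θ W0) u)
  obtain ⟨o, ho, rfl⟩ := I.mem_WK.1 hx
  have hc1 : W0 * (r Q m * evw Γ w) = r Q m * evw Γ w * W0 := by
    rw [← mul_assoc, cwr, mul_assoc, cwe, mul_assoc]
  have hc : W0 * (r Q m * evw Γ w * evw Γ w') = r Q m * evw Γ w * evw Γ w' * W0 := by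
    rw [← mul_assoc, hc1, mul_assoc _ W0, cwe, ← mul_assoc]
  have h1 : π (θ W0) (θ (r Q m * evw Γ w * evw Γ w') * o) = π (θ W0) u := by
    have h2 : P θ (r Q m * evw Γ w * evw Γ w') = r (kk θ) m * evw (gg θ) w * evw (gg θ) w' := by
      rw [P_mul hc1 (cwe w'), P_nf, P_evw]
    rw [h, ← h2]
    exact π_mul (cθ hc) (I.cWw ho)
  rcases (π_eq_iff ww (comm_mul (cθ hc) (I.cWw ho)) hu).1 h1 with h3 | h3
  · exact ⟨o, ho, _, by rw [h3, I.comW o ho]⟩
  · refine ⟨o, ho, r Q m * evw Γ w * evw Γ w' * W0, ?_⟩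
    rw [h3, map_mul θ _ W0, ← I.comW o ho, mul_assoc]

end InstW

/-- **The closing with a kernel of odd order.** -/
theorem centW (G : Type*) [Group G] [Finite G] : StepFive.CentW G := by
  intro θ W hinj hodd hcom hcent hne g hg
  have I : InstW (θ.comp NormalH.ψ) θ W := by
    refine ⟨?_, fun _ => rfl, hodd, hcom, ?_, ?_⟩
    · exact hinj.comp (NormalH.ψ_injective H0Basic.finite_H0 H0Basic.card_H0_le XSq.hx_sq_ne)
    · intro g hg
      obtain ⟨w, hw, h, rfl⟩ := hcent g hg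
      have h1 : θ h * θ (NormalH.ψ τ) = θ (NormalH.ψ τ) * θ h := by
        have h2 := hcom w hw (NormalH.ψ τ)
        have h3 : w * θ h * θ (NormalH.ψ τ) = θ (NormalH.ψ τ) * (w * θ h) := hg
        apply mul_left_cancel (a := w)
        calc w * (θ h * θ (NormalH.ψ τ)) = w * θ h * θ (NormalH.ψ τ) := by group
          _ = (θ (NormalH.ψ τ) * w) * θ h := by rw [h3]; group
          _ = w * (θ (NormalH.ψ τ) * θ h) := by rw [← h2]; group
      have h4 : h * NormalH.ψ τ = NormalH.ψ τ * h := hinj (by rw [map_mul, map_mul, h1])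
      have h5 : NormalH.ψ τ = Pres.hx ^ 2 := by
        rw [show τ = gx ^ 2 from rfl, map_pow, NormalH.ψ_gx]
      have h6 : h ∈ NormalH.ψ.range := by
        rw [NormalH.range_ψ, ← Central.centralizer_eq, Subgroup.mem_centralizer_singleton_iff, ← h5, h4]
      obtain ⟨v, rfl⟩ := h6
      exact ⟨w, hw, v, rfl⟩
    · exact hne
  exact I.cent_w g hg

end Cfsg.Agent.HN.XInstW
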