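import Cfsg.Agent.HN.XFinal
import Cfsg.Agent.HN.Main

/-!
The closing and the classification of the involutions commuting with `w`, in the form wanted by `Main`.
-/

set_option autoImplicit false

namespace Cfsg.Agent.HN.XMain

open Cfsg.Agent.HN.Main Cfsg.Agent.HN.XInst

theorem close (G : Type*) [Group G] [Finite G] : CloseStatement G :=
  fun _ _ E _ hext hz hb hd => XFinal.cent_w ⟨E, hext, hz, hb, hd⟩

theorem inv (G : Type*) [Group G] [Finite G] : InvStatement G :=
  fun _ _ E _ hext hz hb hd v hv hc => XFinal.inv_w ⟨E, hext, hz, hb, hd⟩ v hv hc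

end Cfsg.Agent.HN.XMain
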