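import Cfsg.Agent.HN.XMat

/-!
Kernel checks on the group of order 7200 of `XMat`.
-/

set_option autoImplicit false

namespace Cfsg.Agent.HN.XMat

theorem chkS : S5W.map mw = S5M := by decide +kernel

theorem chkD : DW.map mw = DM := by decide +kernel

theorem chkDD : DM.map (fun P => app P 1) = DD := by decide +kernel

theorem nodupS : S5M.Nodup := by decide +kernel

theorem nodupC : C3M.Nodup := by decide +kernel

theorem nodupD : DD.Nodup := by decide +kernel

theorem chkC : C3W.map mw = C3M := by decide +kernel

/-- some mask of `DD` is fixed -/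
def fixD (M : ℕ) : Bool := DD.any (fun m => Nat.beq (app M m) m)

/-- number of masks of `DD` which are fixed -/
def cntD (M : ℕ) : ℕ := (DD.filter (fun m => Nat.beq (app M m) m)).length

/-- an involution is of type (2,1) or fixes a mask in `DD` -/
def cls (M : ℕ) : Bool :=
  force (mul M M) fun Q => bif Nat.beq Q MI then
    (Nat.beq M MI || fixD M || T1.any (fun t => Nat.beq t.1 M)) else true

theorem chkCls : S5M.all (fun A => DM.all (fun B => force (mul A B) cls)) = true := by decide +kernel

/-- an involution fixing ten masks is in the list `SL` -/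
def clsS (M : ℕ) : Bool :=
  force (mul M M) fun Q => bif Nat.beq Q MI then
    (bif Nat.beq (cntD M) 10 then SL.any (fun t => Nat.beq t.1 M) else true) else true

theorem chkClsS : S5M.all (fun A => DM.all (fun B => force (mul A B) clsS)) = true := by decide +kernel

/-- `t` is the conjugate of `M` by the word -/
def cjw (M : ℕ) (t : ℕ) (w : List ℕ) : Bool := force (mw w) fun V => Nat.beq (mul V t) (mul M V)

theorem chkT1 : T1.all (fun t => cjw M1 t.1 t.2) = true := by decide +kernel

theorem chkSL : SL.all (fun t => cjw M3 t.1 t.2) = true := by decide +kernel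

theorem chkS5a : S5M.all (fun A => force (mul A A) fun Q => bif Nat.beq Q MI then
    (Nat.beq A MI || S5I.any (fun t => Nat.beq t.1 A)) else true) = true := by decide +kernel

theorem chkS5b : S5I.all (fun t => bif t.2.1 then cjw M3 t.1 t.2.2 else cjw M2 t.1 t.2.2) = true := by
  decide +kernel

/-- check of a tree of masks: entries (mask, parent, generator) -/
def tree (L : List (ℕ × ℕ × ℕ)) : List ℕ → Bool :=
  List.rec (fun _ => true) (fun t _ ih seen => seen.any (fun p => Nat.beq p t.2.1) &&
    (Nat.beq (app (gen t.2.2) t.2.1) t.1 && ih (t.1 :: seen))) L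

theorem chkJJ : tree JJ [3] = true := by decide +kernel

theorem chkFF : tree FF [12] = true := by decide +kernel

theorem chkMasks : (List.range 256).all (fun m => Nat.beq m 0 || DD.any (fun d => Nat.beq d m) ||
    Nat.beq m 3 || JJ.any (fun d => Nat.beq d.1 m) || Nat.beq m 12 || FF.any (fun d => Nat.beq d.1 m)) = true := by
  decide +kernel

/-- fixed masks are commutators -/
def kerIm (M : ℕ) : Bool := (List.range 256).all fun m => bif Nat.beq (app M m) m then
  (List.range 256).any (fun j => Nat.beq (Nat.xor (app M j) j) m) else true

theorem chkK1 : kerIm M1 = true := by decide +kernel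
theorem chkK2 : kerIm M2 = true := by decide +kernel
theorem chkK3 : kerIm M3 = true := by decide +kernel

theorem cnt1 : cntD M1 = 0 := by decide +kernel
theorem cnt2 : cntD M2 = 4 := by decide +kernel
theorem cnt3 : cntD M3 = 10 := by decide +kernel

/-- the fixed masks of the swap -/
def fix3 : List ℕ := [0, 1, 10, 11, 34, 35, 40, 41, 80, 81, 90, 91, 114, 115, 120, 121]

theorem chkFix3 : fix3.all (fun m => Nat.beq (app M3 m) m && Nat.blt m 256) = true := by decide +kernel

theorem nodupFix3 : fix3.Nodup := by decide +kernel

theorem chkCM : C3M.all (fun C => Nat.beq (mul C M3) (mul M3 C)) = true := by decide +kernel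

theorem chkH7 : C3M.all (fun C => bif Nat.beq (mul C C) MI && Nat.beq (cntD C) 10 then
    force (mul M3 C) fixD else true) = true := by decide +kernel

theorem mw1 : mw [0, 2, 0, 2, 0, 2] = M1 := by decide +kernel
theorem mw2 : mw [0, 1, 1, 1, 0, 0, 1] = M2 := by decide +kernel
theorem mw3 : mw [0, 1, 0, 1, 1] = M3 := by decide +kernel

end Cfsg.Agent.HN.XMat
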