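import Cfsg.Agent.HN.XMatChk
import Cfsg.Agent.HN.Closing

/-!
# The normaliser of `R` in `K = C_G(w)/⟨w⟩` (closing step of the Harada-Norton recognition)

`K` is a finite group, `k 0, .., k 7` a basis of an elementary abelian subgroup `R` of order `256` acted on by
`γ 0, γ 1, γ 2` through the matrices `MY, MC, MH` of `XMat`.  Under the hypotheses of `Hyp` we determine the normaliser of
`R` and its involutions, and prove the fields of `Closing.Cfg` except `g1, g2, g3`.
-/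

set_option autoImplicit false

namespace Cfsg.Agent.HN.XStruct

open Cfsg.Agent.HN.XMat Cfsg.Agent.HN.Closing

variable {K : Type*} [Group K]

/-- partial product over the bits of a mask -/
def rr (k : ℕ → K) (m : ℕ) (n : ℕ) : K :=
  Nat.rec 1 (fun i acc => acc * (if m.testBit i then k i else 1)) n

/-- the element of `R` with mask `m` -/
def r (k : ℕ → K) (m : ℕ) : K := rr k m 8

/-- value of a word -/
def evw (γ : ℕ → K) (w : List ℕ) : K := (w.map γ).prod

/-- `x` acts on the basis by the packed matrix `P` -/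
def Acts (k : ℕ → K) (x : K) (P : ℕ) : Prop := ∀ i < 8, x⁻¹ * k i * x = r k (row P i)

theorem rr_zero (k : ℕ → K) (m : ℕ) : rr k m 0 = 1 := rfl

theorem rr_succ (k : ℕ → K) (m n : ℕ) :
    rr k m (n + 1) = rr k m n * (if m.testBit n then k n else 1) := rfl

theorem evw_nil (γ : ℕ → K) : evw γ [] = 1 := rfl

theorem evw_cons (γ : ℕ → K) (g : ℕ) (w : List ℕ) : evw γ (g :: w) = γ g * evw γ w := by
  unfold evw; rw [List.map_cons, List.prod_cons]

/-- Basis and action. -/
structure Bas (k γ : ℕ → K) : Prop where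
  comm : ∀ i < 8, ∀ j < 8, k i * k j = k j * k i
  sq : ∀ i < 8, k i * k i = 1
  inj : ∀ m < 256, r k m = 1 → m = 0
  act : ∀ g, Acts k (γ g) (gen g)

namespace Bas

variable {k γ : ℕ → K} (h : Bas k γ)

include h

theorem rr_comm {m n i : ℕ} (hn : n ≤ 8) (hi : i < 8) : rr k m n * k i = k i * rr k m n := by
  induction n with
  | zero => rw [rr_zero, one_mul, mul_one]
  | succ n ih =>
    rw [rr_succ]
    split
    · rw [mul_assoc, h.comm n (by omega) i hi, ← mul_assoc, ih (by omega), mul_assoc]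
    · rw [mul_one, ih (by omega)]

theorem rr_xor {m m' n : ℕ} (hn : n ≤ 8) : rr k (m ^^^ m') n = rr k m n * rr k m' n := by
  induction n with
  | zero => simp [rr_zero]
  | succ n ih =>
    have hc := h.rr_comm (m := m') (n := n) (i := n) (by omega) (by omega)
    have hs := h.sq n (by omega)
    rw [rr_succ, rr_succ, rr_succ, Nat.testBit_xor, ih (by omega)]
    rcases m.testBit n with _ | _ <;> rcases m'.testBit n with _ | _
    · simp
    · simp [mul_assoc]
    · simp only [Bool.true_bne, Bool.not_false, if_true, Bool.false_eq_true, if_false, mul_one]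
      rw [mul_assoc, hc, mul_assoc]
    · simp only [Bool.true_bne, Bool.not_true, if_true, Bool.false_eq_true, if_false, mul_one]
      calc rr k m n * rr k m' n = rr k m n * rr k m' n * (k n * k n) := by rw [hs, mul_one]
        _ = rr k m n * (rr k m' n * k n) * k n := by group
        _ = rr k m n * (k n * rr k m' n) * k n := by rw [hc]
        _ = rr k m n * k n * (rr k m' n * k n) := by group

theorem r_xor (m m' : ℕ) : r k (m ^^^ m') = r k m * r k m' := h.rr_xor le_rfl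

omit h in
theorem rr_of_zero (n : ℕ) : rr k 0 n = 1 := by
  induction n with
  | zero => rfl
  | succ n ih => rw [rr_succ, ih]; simp

omit h in
theorem r_zero : r k 0 = 1 := rr_of_zero 8

theorem r_sq (m : ℕ) : r k m * r k m = 1 := by
  rw [← h.r_xor, Nat.xor_self, r_zero]

theorem r_inv (m : ℕ) : (r k m)⁻¹ = r k m := by
  rw [inv_eq_iff_mul_eq_one, h.r_sq]

theorem r_comm (m m' : ℕ) : r k m * r k m' = r k m' * r k m := by
  rw [← h.r_xor, ← h.r_xor, Nat.xor_comm]

omit h in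
theorem rr_pow {i n : ℕ} : rr k (2 ^ i) n = if i < n then k i else 1 := by
  induction n with
  | zero => simp [rr_zero]
  | succ n ih =>
    rw [rr_succ, ih, Nat.testBit_two_pow]
    by_cases hi : i = n
    · subst hi; simp
    · have h1 : i < n + 1 ↔ i < n := by omega
      simp [hi, h1]

omit h in
theorem r_pow {i : ℕ} (hi : i < 8) : r k (2 ^ i) = k i := by
  unfold r
  rw [rr_pow, if_pos hi]

omit h in
theorem r_one : r k 1 = k 0 := r_pow (i := 0) (by norm_num)

theorem k_comm_r {m i : ℕ} (hi : i < 8) : r k m * k i = k i * r k m := h.rr_comm le_rfl hi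

theorem r_inj {m m' : ℕ} (hm : m < 256) (hm' : m' < 256) (e : r k m = r k m') : m = m' := by
  have h1 : r k (m ^^^ m') = 1 := by rw [h.r_xor, e, h.r_sq]
  have h2 := h.inj _ (Nat.xor_lt_two_pow (n := 8) hm hm') h1
  exact Nat.xor_eq_zero_iff.1 h2

theorem acts_rr {x : K} {P : ℕ} (hx : Acts k x P) {m n : ℕ} (hn : n ≤ 8) :
    x⁻¹ * rr k m n * x = r k (appn P m n) := by
  induction n with
  | zero => rw [rr_zero, appn_zero, r_zero]; group
  | succ n ih =>
    rw [rr_succ, appn_succ, h.r_xor, ← ih (by omega)]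
    split
    · rw [← hx n (by omega)]; group
    · rw [r_zero]; group

theorem acts_r {x : K} {P : ℕ} (hx : Acts k x P) (m : ℕ) : x⁻¹ * r k m * x = r k (app P m) :=
  h.acts_rr hx le_rfl

theorem acts_mul {x y : K} {P Q : ℕ} (hx : Acts k x P) (hy : Acts k y Q) : Acts k (x * y) (mul P Q) := by
  intro i hi
  rw [row_mul P Q hi, ← h.acts_r hy, ← hx i hi]
  group

omit h in
theorem acts_one : Acts k 1 MI := by
  intro i hi
  rw [row_MI hi, r_pow hi]
  group

theorem acts_rmul {x : K} {P : ℕ} (hx : Acts k x P) (m : ℕ) : Acts k (r k m * x) P := by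
  intro i hi
  rw [← hx i hi]
  have h1 := h.k_comm_r (m := m) hi
  calc (r k m * x)⁻¹ * k i * (r k m * x) = x⁻¹ * ((r k m)⁻¹ * (k i * r k m)) * x := by group
    _ = x⁻¹ * ((r k m)⁻¹ * (r k m * k i)) * x := by rw [h1]
    _ = x⁻¹ * k i * x := by group

theorem acts_evw (w : List ℕ) : Acts k (evw γ w) (mw w) := by
  induction w with
  | nil => exact acts_one
  | cons g w ih =>
    rw [evw_cons, mw_cons]
    exact h.acts_mul (h.act g) ih

theorem acts_unique {x : K} {P Q : ℕ} (hP : Acts k x P) (hQ : Acts k x Q) {i : ℕ} (hi : i < 8) :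
    row P i = row Q i :=
  h.r_inj (row_lt _ _) (row_lt _ _) ((hP i hi).symm.trans (hQ i hi))

end Bas

theorem appn_xor (P m m' n : ℕ) : appn P (m ^^^ m') n = appn P m n ^^^ appn P m' n := by
  induction n with
  | zero => simp [appn_zero]
  | succ n ih =>
    rw [appn_succ, appn_succ, appn_succ, ih, Nat.testBit_xor]
    rcases m.testBit n with _ | _ <;> rcases m'.testBit n with _ | _ <;> simp [Nat.xor_assoc]
    rw [Nat.xor_comm (row P n) (appn P m' n)]

theorem app_xor (P m m' : ℕ) : app P (m ^^^ m') = app P m ^^^ app P m' := appn_xor P m m' 8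

theorem app_zero (P : ℕ) : app P 0 = 0 := by
  have h := app_xor P 0 0
  rw [Nat.xor_self, Nat.xor_self] at h
  exact h

theorem appn_pow (P : ℕ) {i n : ℕ} : appn P (2 ^ i) n = if i < n then row P i else 0 := by
  induction n with
  | zero => simp [appn_zero]
  | succ n ih =>
    rw [appn_succ, ih, Nat.testBit_two_pow]
    by_cases hi : i = n
    · subst hi; simp
    · have h1 : i < n + 1 ↔ i < n := by omega
      simp [hi, h1]

theorem app_pow (P : ℕ) {i : ℕ} (hi : i < 8) : app P (2 ^ i) = row P i := by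
  unfold app
  rw [appn_pow, if_pos hi]

theorem app_mul (V T m : ℕ) : app (mul V T) m = app T (app V m) := by
  have h : ∀ n ≤ 8, appn (mul V T) m n = app T (appn V m n) := by
    intro n
    induction n with
    | zero => intro _; rw [appn_zero, appn_zero, app_zero]
    | succ n ih =>
      intro hn
      rw [appn_succ, appn_succ, app_xor, ih (by omega)]
      split
      · rw [row_mul V T (by omega)]
      · rw [app_zero]
  exact h 8 le_rfl

/-- packed matrices are determined by their rows -/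
theorem pack_ext {P Q : ℕ} (hP : P < 2 ^ 64) (hQ : Q < 2 ^ 64) (h : ∀ i < 8, row P i = row Q i) : P = Q := by
  apply Nat.eq_of_testBit_eq
  intro j
  by_cases hj : j < 64
  · have h1 := h (j / 8) (by omega)
    rw [row_eq, row_eq] at h1
    have h2 := congrArg (fun x => Nat.testBit x (j % 8)) h1
    have hb : ∀ x : ℕ, ((x >>> (8 * (j / 8))) % 256).testBit (j % 8) = x.testBit j := by
      intro x
      rw [show (256 : ℕ) = 2 ^ 8 by norm_num, Nat.testBit_mod_two_pow, Nat.testBit_shiftRight]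
      have h3 : j % 8 < 8 := Nat.mod_lt _ (by norm_num)
      have h4 : 8 * (j / 8) + j % 8 = j := by omega
      simp [h3, h4]
    simpa only [hb] using h2
  · rw [Nat.testBit_lt_two_pow (hP.trans_le (Nat.pow_le_pow_right (by norm_num) (by omega))),
      Nat.testBit_lt_two_pow (hQ.trans_le (Nat.pow_le_pow_right (by norm_num) (by omega)))]

theorem mul_lt (P Q : ℕ) : mul P Q < 2 ^ 64 := muln_lt P Q 8

theorem MI_lt : MI < 2 ^ 64 := by decide +kernel

theorem mw_lt (w : List ℕ) : mw w < 2 ^ 64 := by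
  cases w with
  | nil => exact MI_lt
  | cons g w => exact mul_lt _ _

theorem mw_injOn {v w : List ℕ} (hv : v ∈ S5W) (hw : w ∈ S5W) (e : mw v = mw w) : v = w := by
  have h : (S5W.map mw).Nodup := by rw [chkS]; exact nodupS
  exact List.inj_on_of_nodup_map h hv hw e

theorem mwC_injOn {v w : List ℕ} (hv : v ∈ C3W) (hw : w ∈ C3W) (e : mw v = mw w) : v = w := by
  have h : (C3W.map mw).Nodup := by rw [chkC]; exact nodupC
  exact List.inj_on_of_nodup_map h hv hw e

theorem nil_mem_S5W : ([] : List ℕ) ∈ S5W := by decide +kernel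

theorem mem_S5M {w : List ℕ} (h : w ∈ S5W) : mw w ∈ S5M := by
  rw [← chkS]; exact List.mem_map_of_mem h

theorem mem_DM {w : List ℕ} (h : w ∈ DW) : mw w ∈ DM := by
  rw [← chkD]; exact List.mem_map_of_mem h

theorem mem_C3M {w : List ℕ} (h : w ∈ C3W) : mw w ∈ C3M := by
  rw [← chkC]; exact List.mem_map_of_mem h

theorem exists_DW {m : ℕ} (h : m ∈ DD) : ∃ w ∈ DW, app (mw w) 1 = m := by
  rw [← chkDD, ← chkD, List.map_map, List.mem_map] at h
  exact h

theorem DD_lt {m : ℕ} (h : m ∈ DD) : m < 256 := by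
  obtain ⟨w, _, rfl⟩ := exists_DW h
  exact app_lt _ _

theorem app_mem_DD {w : List ℕ} (h : w ∈ DW) : app (mw w) 1 ∈ DD := by
  rw [← chkDD, ← chkD, List.map_map]
  exact List.mem_map_of_mem h

theorem tree_spec {P : ℕ → Prop} (hP : ∀ p g, P p → P (app (gen g) p)) :
    ∀ (L : List (ℕ × ℕ × ℕ)) (seen : List ℕ), tree L seen = true → (∀ p ∈ seen, P p) → ∀ t ∈ L, P t.1 := by
  intro L
  induction L with
  | nil => intro _ _ _ t ht; exact absurd ht List.not_mem_nil
  | cons t L ih =>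
    intro seen h hs u hu
    have h' : (seen.any (fun p => Nat.beq p t.2.1) &&
      (Nat.beq (app (gen t.2.2) t.2.1) t.1 && tree L (t.1 :: seen))) = true := h
    rw [Bool.and_eq_true, Bool.and_eq_true, List.any_eq_true] at h'
    obtain ⟨⟨p, hp, hpe⟩, h2, h3⟩ := h'
    have hpe' := Nat.eq_of_beq_eq_true hpe
    have h2' := Nat.eq_of_beq_eq_true h2
    have hPt : P t.1 := by
      rw [← h2', ← hpe']
      exact hP _ _ (hs p hp)
    rcases List.mem_cons.1 hu with rfl | hu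
    · exact hPt
    · refine ih _ h3 ?_ u hu
      intro q hq
      rcases List.mem_cons.1 hq with rfl | hq
      · exact hPt
      · exact hs q hq

theorem mask_cases {m : ℕ} (hm : m < 256) : m = 0 ∨ m ∈ DD ∨ m = 3 ∨ (∃ t ∈ JJ, t.1 = m) ∨ m = 12 ∨
    (∃ t ∈ FF, t.1 = m) := by
  have h := List.all_eq_true.1 chkMasks m (List.mem_range.2 hm)
  simp only [Bool.or_eq_true, List.any_eq_true] at h
  rcases h with ((((h | ⟨d, hd, he⟩) | h) | ⟨t, ht, he⟩) | h) | ⟨t, ht, he⟩
  · exact Or.inl (Nat.eq_of_beq_eq_true h)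
  · right; left
    rw [← Nat.eq_of_beq_eq_true he]; exact hd
  · right; right; left; exact Nat.eq_of_beq_eq_true h
  · right; right; right; left; exact ⟨t, ht, Nat.eq_of_beq_eq_true he⟩
  · right; right; right; right; left; exact Nat.eq_of_beq_eq_true h
  · right; right; right; right; right; exact ⟨t, ht, Nat.eq_of_beq_eq_true he⟩

theorem kerIm_spec {M : ℕ} (h : kerIm M = true) {m : ℕ} (hm : m < 256) (he : app M m = m) :
    ∃ j < 256, app M j ^^^ j = m := by
  have h1 := List.all_eq_true.1 h m (List.mem_range.2 hm)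
  have h2 : Nat.beq (app M m) m = true := by rw [he]; exact Nat.beq_refl m
  rw [h2, cond_true, List.any_eq_true] at h1
  obtain ⟨j, hj, hje⟩ := h1
  exact ⟨j, List.mem_range.1 hj, Nat.eq_of_beq_eq_true hje⟩

theorem fixD_spec {M : ℕ} (h : fixD M = true) : ∃ m ∈ DD, app M m = m := by
  unfold fixD at h
  rw [List.any_eq_true] at h
  obtain ⟨m, hm, he⟩ := h
  exact ⟨m, hm, Nat.eq_of_beq_eq_true he⟩

theorem cjw_spec {M t : ℕ} {w : List ℕ} (h : cjw M t w = true) : mul (mw w) t = mul M (mw w) := by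
  unfold cjw at h
  rw [force_eq] at h
  exact Nat.eq_of_beq_eq_true h

/-! ### The hypotheses -/

/-- type (2,1) -/
def xi1 (γ : ℕ → K) : K := evw γ [0, 2, 0, 2, 0, 2]
/-- type (2,2) -/
def xi2 (k γ : ℕ → K) : K := r k 45 * evw γ [0, 1, 1, 1, 0, 0, 1]
/-- swap -/
def xi3 (k γ : ℕ → K) : K := r k 92 * evw γ [0, 1, 0, 1, 1]

/-- The data coming from `C_G(w)/⟨w⟩`. -/
structure Hyp (k γ : ℕ → K) (D S : Set K) : Prop extends Bas k γ where
  cD : CInv D
  cS : CInv S
  sqD : ∀ e ∈ D, e * e = 1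
  sqS : ∀ e ∈ S, e * e = 1
  cent0 : ∀ x, x * k 0 = k 0 * x → ∃ m < 256, ∃ w ∈ S5W, x = r k m * evw γ w
  k0D : k 0 ∈ D
  oneD : (1 : K) ∉ D
  r3D : r k 3 ∉ D
  r12D : r k 12 ∉ D
  oneS : (1 : K) ∉ S
  k0S : k 0 ∉ S
  r3S : r k 3 ∉ S
  r12S : r k 12 ∉ S
  sq1 : xi1 γ * xi1 γ = 1
  x1D : xi1 γ ∉ D
  x1S : xi1 γ ∉ S
  sq2 : xi2 k γ * xi2 k γ = 1
  x2D : xi2 k γ ∉ D
  x2S : xi2 k γ ∉ S
  sq3 : xi3 k γ * xi3 k γ = 1
  x3D : xi3 k γ ∉ D
  x3S : xi3 k γ ∈ S
  card3 : Nat.card (Subgroup.centralizer {xi3 k γ}) ≤ 1920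

/-- The subgroup `R`. -/
def R {k γ : ℕ → K} (h : Bas k γ) : Subgroup K where
  carrier := {x | ∃ m < 256, x = r k m}
  one_mem' := ⟨0, by norm_num, Bas.r_zero.symm⟩
  mul_mem' := by
    rintro _ _ ⟨m, hm, rfl⟩ ⟨m', hm', rfl⟩
    exact ⟨m ^^^ m', Nat.xor_lt_two_pow (n := 8) hm hm', (h.r_xor m m').symm⟩
  inv_mem' := by
    rintro _ ⟨m, hm, rfl⟩
    exact ⟨m, hm, h.r_inv m⟩

theorem mem_R {k γ : ℕ → K} {h : Bas k γ} {x : K} : x ∈ R h ↔ ∃ m < 256, x = r k m := Iff.rfl

theorem r_mem_R {k γ : ℕ → K} (h : Bas k γ) {m : ℕ} (hm : m < 256) : r k m ∈ R h := ⟨m, hm, rfl⟩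

theorem Bas.k0_mem {k γ : ℕ → K} (h : Bas k γ) : k 0 ∈ R h := by
  have := r_mem_R h (m := 1) (by norm_num)
  rwa [Bas.r_one] at this

namespace Hyp

variable {k γ : ℕ → K} {D S : Set K} (h : Hyp k γ D S)

include h

theorem acts_xi1 : Acts k (xi1 γ) M1 := by
  rw [← mw1]; exact h.acts_evw _

theorem acts_xi2 : Acts k (xi2 k γ) M2 := by
  rw [← mw2]; exact h.acts_rmul (h.acts_evw _) _

theorem acts_xi3 : Acts k (xi3 k γ) M3 := by
  rw [← mw3]; exact h.acts_rmul (h.acts_evw _) _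

/-- `C_K(R) = R` -/
theorem mem_R_of_comm {x : K} (hx : ∀ i < 8, x * k i = k i * x) : x ∈ R h.toBas := by
  obtain ⟨m, hm, w, hw, e⟩ := h.cent0 x (hx 0 (by norm_num))
  have h1 : Acts k x (mw w) := by
    rw [e]; exact h.acts_rmul (h.acts_evw w) m
  have h2 : Acts k x MI := by
    intro i hi
    rw [row_MI hi, Bas.r_pow hi]
    rw [mul_assoc, ← hx i hi]
    group
  have h3 : mw w = mw [] := by
    apply pack_ext (mw_lt _) (mw_lt _)
    intro i hi
    exact h.toBas.acts_unique h1 h2 hi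
  have h4 := mw_injOn hw nil_mem_S5W h3
  rw [e, h4, evw_nil, mul_one]
  exact r_mem_R _ hm

/-- elements with the same matrix differ by an element of `R` -/
theorem quot_mem {a b : K} {P : ℕ} (ha : Acts k a P) (hb : Acts k b P) : b * a⁻¹ ∈ R h.toBas := by
  apply h.mem_R_of_comm
  intro i hi
  have h1 : a * (b⁻¹ * k i * b) * a⁻¹ = k i := by
    rw [hb i hi, ← ha i hi]; group
  calc b * a⁻¹ * k i = b * a⁻¹ * (a * (b⁻¹ * k i * b) * a⁻¹) := by rw [h1]
    _ = k i * (b * a⁻¹) := by group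

/-- adjusting an involution by an element of `R` -/
theorem adjust {M : ℕ} {ξ x : K} (hξ : Acts k ξ M) (hsq : ξ * ξ = 1) (hM : kerIm M = true)
    (hx : x * x = 1) {m : ℕ} (hm : m < 256) (e : x = r k m * ξ) :
    ∃ j < 256, r k j * x * (r k j)⁻¹ = ξ := by
  have hinv : ξ⁻¹ = ξ := by rw [inv_eq_iff_mul_eq_one, hsq]
  have hc : ∀ j, ξ * r k j * ξ = r k (app M j) := by
    intro j
    rw [← h.toBas.acts_r hξ, hinv]
  have h1 : app M m = m := by
    apply h.toBas.r_inj (app_lt _ _) hm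
    rw [← hc m]
    have h2 : r k m * (ξ * r k m * ξ) = 1 := by
      rw [← hx, e]; group
    calc ξ * r k m * ξ = r k m * (r k m * (ξ * r k m * ξ)) := by rw [← mul_assoc (r k m), h.toBas.r_sq, one_mul]
      _ = r k m := by rw [h2, mul_one]
  obtain ⟨j, hj, hje⟩ := kerIm_spec hM hm h1
  refine ⟨j, hj, ?_⟩
  rw [h.toBas.r_inv, e]
  have h3 : r k (app M j) * r k j = r k m := by rw [← h.toBas.r_xor, hje]
  calc r k j * (r k m * ξ) * r k j = r k j * r k m * (ξ * r k j * ξ) * ξ := by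
        have h4 : ξ * r k j * ξ * ξ = ξ * r k j := by rw [mul_assoc, hsq, mul_one]
        rw [mul_assoc (r k j * r k m), h4]; group
    _ = r k j * r k m * r k (app M j) * ξ := by rw [hc]
    _ = r k m * (r k (app M j) * r k j) * ξ := by
        rw [h.toBas.r_comm j m, mul_assoc (r k m), h.toBas.r_comm j]
    _ = ξ := by rw [h3, h.toBas.r_sq, one_mul]

/-- transfer of a conjugation of matrices -/
theorem transfer {M A : ℕ} {ξ x v : K} {V : ℕ} (hξ : Acts k ξ M) (hsq : ξ * ξ = 1) (hM : kerIm M = true)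
    (hx : x * x = 1) (hA : Acts k x A) (hv : Acts k v V) (e : mul V A = mul M V) :
    ∃ j < 256, (r k j * v) * x * (r k j * v)⁻¹ = ξ := by
  have h1 := h.toBas.acts_mul hv hA
  have h2 := h.toBas.acts_mul hξ hv
  rw [← e] at h2
  obtain ⟨m, hm, hme⟩ := h.quot_mem h2 h1
  have h3 : v * x * v⁻¹ = r k m * ξ := by
    rw [← hme]; group
  have h4 : (v * x * v⁻¹) * (v * x * v⁻¹) = 1 := by
    calc (v * x * v⁻¹) * (v * x * v⁻¹) = v * (x * x) * v⁻¹ := by group
      _ = 1 := by rw [hx]; group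
  obtain ⟨j, hj, hje⟩ := h.adjust hξ hsq hM h4 hm h3
  refine ⟨j, hj, ?_⟩
  rw [← hje]; group

theorem r_conj (g m : ℕ) : r k (app (gen g) m) = (γ g)⁻¹ * r k m * γ g := (h.toBas.acts_r (h.act g) m).symm

/-- masks of elements of `D` -/
theorem mem_DD {m : ℕ} (hm : m < 256) (hD : r k m ∈ D) : m ∈ DD := by
  have step : ∀ p g, (r k p ∉ D) → r k (app (gen g) p) ∉ D := by
    intro p g hp hq
    apply hp
    rw [h.r_conj] at hq
    have := h.cD (γ g) _ hq
    have e : γ g * ((γ g)⁻¹ * r k p * γ g) * (γ g)⁻¹ = r k p := by group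
    rwa [e] at this
  rcases mask_cases hm with rfl | h1 | rfl | ⟨t, ht, rfl⟩ | rfl | ⟨t, ht, rfl⟩
  · rw [Bas.r_zero] at hD; exact absurd hD h.oneD
  · exact h1
  · exact absurd hD h.r3D
  · exact absurd hD (tree_spec (P := fun m => r k m ∉ D) step JJ [3] chkJJ
      (by intro p hp; rw [List.mem_singleton.1 hp]; exact h.r3D) t ht)
  · exact absurd hD h.r12D
  · exact absurd hD (tree_spec (P := fun m => r k m ∉ D) step FF [12] chkFF
      (by intro p hp; rw [List.mem_singleton.1 hp]; exact h.r12D) t ht)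

theorem r_DD {w : List ℕ} : r k (app (mw w) 1) = (evw γ w)⁻¹ * k 0 * evw γ w := by
  rw [← h.toBas.acts_r (h.toBas.acts_evw w), Bas.r_one]

theorem mem_D_of_DD {m : ℕ} (hm : m ∈ DD) : r k m ∈ D := by
  obtain ⟨w, hw, rfl⟩ := exists_DW hm
  rw [h.r_DD]
  exact h.cD.inv h.k0D

/-- no element of `S` in `R` -/
theorem not_mem_S {m : ℕ} (hm : m < 256) : r k m ∉ S := by
  have step : ∀ p g, (r k p ∉ S) → r k (app (gen g) p) ∉ S := by
    intro p g hp hq
    apply hp
    rw [h.r_conj] at hq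
    have := h.cS (γ g) _ hq
    have e : γ g * ((γ g)⁻¹ * r k p * γ g) * (γ g)⁻¹ = r k p := by group
    rwa [e] at this
  rcases mask_cases hm with rfl | h1 | rfl | ⟨t, ht, rfl⟩ | rfl | ⟨t, ht, rfl⟩
  · rw [Bas.r_zero]; exact h.oneS
  · obtain ⟨w, hw, rfl⟩ := exists_DW h1
    rw [h.r_DD]
    intro hS
    have := h.cS (evw γ w) _ hS
    have e : evw γ w * ((evw γ w)⁻¹ * k 0 * evw γ w) * (evw γ w)⁻¹ = k 0 := by group
    rw [e] at this
    exact h.k0S this
  · exact h.r3S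
  · exact tree_spec (P := fun m => r k m ∉ S) step JJ [3] chkJJ
      (by intro p hp; rw [List.mem_singleton.1 hp]; exact h.r3S) t ht
  · exact h.r12S
  · exact tree_spec (P := fun m => r k m ∉ S) step FF [12] chkFF
      (by intro p hp; rw [List.mem_singleton.1 hp]; exact h.r12S) t ht

/-- normal form of the elements `x` with `k 0 ^ x ∈ R` -/
theorem normal_form {x : K} (hx : x⁻¹ * k 0 * x ∈ R h.toBas) :
    ∃ m < 256, ∃ w ∈ S5W, ∃ w' ∈ DW, x = r k m * evw γ w * evw γ w' := by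
  obtain ⟨m, hm, e⟩ := hx
  have h1 : r k m ∈ D := by rw [← e]; exact h.cD.inv h.k0D
  obtain ⟨w', hw', rfl⟩ := exists_DW (h.mem_DD hm h1)
  rw [h.r_DD] at e
  have h2 : (x * (evw γ w')⁻¹) * k 0 = k 0 * (x * (evw γ w')⁻¹) := by
    calc (x * (evw γ w')⁻¹) * k 0 = x * ((evw γ w')⁻¹ * k 0 * evw γ w') * (evw γ w')⁻¹ := by group
      _ = x * (x⁻¹ * k 0 * x) * (evw γ w')⁻¹ := by rw [e]
      _ = k 0 * (x * (evw γ w')⁻¹) := by group
  obtain ⟨m', hm', w, hw, e'⟩ := h.cent0 _ h2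
  refine ⟨m', hm', w, hw, w', hw', ?_⟩
  rw [← e']; group

theorem acts_nf (m : ℕ) (w w' : List ℕ) : Acts k (r k m * evw γ w * evw γ w') (mul (mw w) (mw w')) :=
  h.toBas.acts_mul (h.toBas.acts_rmul (h.toBas.acts_evw w) m) (h.toBas.acts_evw w')

omit h in
theorem cj_of_acts [Finite K] {hB : Bas k γ} {v : K} {V : ℕ} (hv : Acts k v V) :
    cj v (R hB) = R hB := by
  symm
  apply Subgroup.eq_of_le_of_card_ge
  · rintro _ ⟨m, hm, rfl⟩
    rw [mem_cj]
    rw [hB.acts_r hv]
    exact r_mem_R _ (app_lt _ _)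
  · have : Nat.card (cj v (R hB)) = Nat.card (R hB) := by
      unfold cj
      exact (Nat.card_congr (Subgroup.equivSMul (MulAut.conj v) (R hB)).toEquiv).symm
    rw [this]

theorem conj_mem {x : K} (hx : cj x (R h.toBas) = R h.toBas) {y : K} (hy : y ∈ R h.toBas) :
    x⁻¹ * y * x ∈ R h.toBas := by
  rw [← hx, mem_cj] at hy
  exact hy

theorem nf_of_cj {x : K} (hx : cj x (R h.toBas) = R h.toBas) :
    ∃ m < 256, ∃ w ∈ S5W, ∃ w' ∈ DW, x = r k m * evw γ w * evw γ w' :=
  h.normal_form (h.conj_mem hx h.toBas.k0_mem)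

/-- the elements of `R` normalise `R` -/
theorem cj_r {m : ℕ} (hm : m < 256) : cj (r k m) (R h.toBas) = R h.toBas := cj_of_mem (r_mem_R _ hm)

theorem cj_evw [Finite K] (w : List ℕ) : cj (evw γ w) (R h.toBas) = R h.toBas :=
  cj_of_acts (h.toBas.acts_evw w)

theorem cj_mul_of {a b : K} (ha : cj a (R h.toBas) = R h.toBas) (hb : cj b (R h.toBas) = R h.toBas) :
    cj (a * b) (R h.toBas) = R h.toBas := by rw [cj_mul, hb, ha]

theorem cj_inv_of {a : K} (ha : cj a (R h.toBas) = R h.toBas) : cj a⁻¹ (R h.toBas) = R h.toBas :=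
  cj_inv_eq ha

/-- the elements commuting with `k 0` normalise `R` -/
theorem cj_of_comm0 [Finite K] {x : K} (hx : x * k 0 = k 0 * x) : cj x (R h.toBas) = R h.toBas := by
  obtain ⟨m, hm, w, _, rfl⟩ := h.cent0 x hx
  exact h.cj_mul_of (h.cj_r hm) (h.cj_evw w)

/-- **The involutions of the normaliser of `R`**. -/
theorem involution_cases [Finite K] {x : K} (hx : cj x (R h.toBas) = R h.toBas) (hsq : x * x = 1) :
    x ∈ R h.toBas ∨ ∃ v, cj v (R h.toBas) = R h.toBas ∧
      (v * x * v⁻¹ = xi1 γ ∨ v * x * v⁻¹ = xi2 k γ ∨ v * x * v⁻¹ = xi3 k γ) := by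
  obtain ⟨m, hm, w, hw, w', hw', e⟩ := h.nf_of_cj hx
  have hA : Acts k x (mul (mw w) (mw w')) := by rw [e]; exact h.acts_nf m w w'
  have hI : ∀ {y : K} {P : ℕ}, P < 2 ^ 64 → y * y = 1 → Acts k y P → mul P P = MI := by
    intro y P hP hy ha
    have h1 := h.toBas.acts_mul ha ha
    rw [hy] at h1
    exact pack_ext (mul_lt _ _) MI_lt fun i hi => h.toBas.acts_unique h1 Bas.acts_one hi
  have hRI : ∀ {y : K}, Acts k y MI → y ∈ R h.toBas := by
    intro y hy
    have := h.quot_mem (a := 1) (b := y) Bas.acts_one hy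
    simpa using this
  have hAI := hI (mul_lt _ _) hsq hA
  have h1 := List.all_eq_true.1 (List.all_eq_true.1 chkCls _ (mem_S5M hw)) _ (mem_DM hw')
  rw [force_eq] at h1
  unfold cls at h1
  rw [force_eq, hAI, Nat.beq_refl, cond_true, Bool.or_eq_true, Bool.or_eq_true] at h1
  rcases h1 with (h1 | h1) | h1
  · left
    apply hRI
    rw [← Nat.eq_of_beq_eq_true h1]
    exact hA
  · -- fixes a mask of `DD`
    obtain ⟨d, hd, hde⟩ := fixD_spec h1
    obtain ⟨u, hu, rfl⟩ := exists_DW hd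
    have hr := h.toBas.acts_r hA (app (mw u) 1)
    rw [hde, h.r_DD] at hr
    -- `y = u x u⁻¹` commutes with `k 0`
    set y := evw γ u * x * (evw γ u)⁻¹ with hy
    have hyc : y * k 0 = k 0 * y := by
      calc y * k 0 = evw γ u * x * ((evw γ u)⁻¹ * k 0 * evw γ u) * (evw γ u)⁻¹ := by rw [hy]; group
        _ = evw γ u * x * (x⁻¹ * ((evw γ u)⁻¹ * k 0 * evw γ u) * x) * (evw γ u)⁻¹ := by rw [hr]
        _ = k 0 * y := by rw [hy]; group
    have hysq : y * y = 1 := by
      rw [hy]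
      calc evw γ u * x * (evw γ u)⁻¹ * (evw γ u * x * (evw γ u)⁻¹) = evw γ u * (x * x) * (evw γ u)⁻¹ := by group
        _ = 1 := by rw [hsq]; group
    obtain ⟨m2, hm2, w2, hw2, e2⟩ := h.cent0 y hyc
    have hyA : Acts k y (mw w2) := by rw [e2]; exact h.toBas.acts_rmul (h.toBas.acts_evw w2) m2
    have hyI := hI (mw_lt _) hysq hyA
    have h2 := List.all_eq_true.1 chkS5a _ (mem_S5M hw2)
    rw [force_eq, hyI, Nat.beq_refl, cond_true, Bool.or_eq_true] at h2
    rcases h2 with h2 | h2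
    · left
      have h3 : y ∈ R h.toBas := by
        apply hRI
        rw [← Nat.eq_of_beq_eq_true h2]
        exact hyA
      have h4 := h.conj_mem (h.cj_evw u) h3
      have h5 : (evw γ u)⁻¹ * y * evw γ u = x := by rw [hy]; group
      rwa [h5] at h4
    · right
      rw [List.any_eq_true] at h2
      obtain ⟨t, ht, hte⟩ := h2
      have hte' := Nat.eq_of_beq_eq_true hte
      have h3 := List.all_eq_true.1 chkS5b _ ht
      rcases hb : t.2.1 with _ | _
      · rw [hb, cond_false] at h3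
        have h4 := cjw_spec h3
        rw [hte'] at h4
        obtain ⟨j, hj, hje⟩ := h.transfer h.acts_xi2 h.sq2 chkK2 hysq hyA (h.toBas.acts_evw t.2.2) h4
        refine ⟨r k j * evw γ t.2.2 * evw γ u, h.cj_mul_of (h.cj_mul_of (h.cj_r hj) (h.cj_evw _)) (h.cj_evw _),
          Or.inr (Or.inl ?_)⟩
        rw [← hje, hy]; group
      · rw [hb, cond_true] at h3
        have h4 := cjw_spec h3
        rw [hte'] at h4
        obtain ⟨j, hj, hje⟩ := h.transfer h.acts_xi3 h.sq3 chkK3 hysq hyA (h.toBas.acts_evw t.2.2) h4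
        refine ⟨r k j * evw γ t.2.2 * evw γ u, h.cj_mul_of (h.cj_mul_of (h.cj_r hj) (h.cj_evw _)) (h.cj_evw _),
          Or.inr (Or.inr ?_)⟩
        rw [← hje, hy]; group
  · -- type (2,1)
    right
    rw [List.any_eq_true] at h1
    obtain ⟨t, ht, hte⟩ := h1
    have hte' := Nat.eq_of_beq_eq_true hte
    have h3 := cjw_spec (List.all_eq_true.1 chkT1 _ ht)
    rw [hte'] at h3
    obtain ⟨j, hj, hje⟩ := h.transfer h.acts_xi1 h.sq1 chkK1 hsq hA (h.toBas.acts_evw t.2) h3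
    exact ⟨r k j * evw γ t.2, h.cj_mul_of (h.cj_r hj) (h.cj_evw _), Or.inl hje⟩

/-- elements of `D` normalising `R` are in `R` -/
theorem DR [Finite K] {e : K} (he : e ∈ D) (hsq : e * e = 1) (hc : cj e (R h.toBas) = R h.toBas) :
    e ∈ R h.toBas := by
  rcases h.involution_cases hc hsq with h1 | ⟨v, _, h1 | h1 | h1⟩
  · exact h1
  · exact absurd (h1 ▸ h.cD v _ he) h.x1D
  · exact absurd (h1 ▸ h.cD v _ he) h.x2D
  · exact absurd (h1 ▸ h.cD v _ he) h.x3D

/-- elements of `S` normalising `R` are conjugate to `xi3` -/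
theorem S_conj [Finite K] {s : K} (hs : s ∈ S) (hsq : s * s = 1) (hc : cj s (R h.toBas) = R h.toBas) :
    ∃ v, cj v (R h.toBas) = R h.toBas ∧ v * s * v⁻¹ = xi3 k γ := by
  rcases h.involution_cases hc hsq with ⟨m, hm, rfl⟩ | ⟨v, hv, h1 | h1 | h1⟩
  · exact absurd hs (h.not_mem_S hm)
  · exact absurd (h1 ▸ h.cS v _ hs) h.x1S
  · exact absurd (h1 ▸ h.cS v _ hs) h.x2S
  · exact ⟨v, hv, h1⟩

/-- an element of the class `DD` is conjugate to `k 0` -/
theorem D_conj [Finite K] {e : K} (he : e ∈ D) (hR : e ∈ R h.toBas) :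
    ∃ v, cj v (R h.toBas) = R h.toBas ∧ v * e * v⁻¹ = k 0 := by
  obtain ⟨m, hm, rfl⟩ := hR
  obtain ⟨w, hw, rfl⟩ := exists_DW (h.mem_DD hm he)
  refine ⟨evw γ w, h.cj_evw w, ?_⟩
  rw [h.r_DD]; group

/-! ### The centraliser of `xi3` -/

theorem lift3 {w : List ℕ} (hw : w ∈ C3W) :
    ∃ j < 256, (r k j * evw γ w) * xi3 k γ * (r k j * evw γ w)⁻¹ = xi3 k γ := by
  have e : mul (mw w) M3 = mul M3 (mw w) :=
    Nat.eq_of_beq_eq_true (List.all_eq_true.1 chkCM _ (mem_C3M hw))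
  exact h.transfer h.acts_xi3 h.sq3 chkK3 h.sq3 h.acts_xi3 (h.toBas.acts_evw w) e

set_option linter.unusedSectionVars false in
theorem fix3_spec {m : ℕ} (hm : m ∈ fix3) : app M3 m = m ∧ m < 256 := by
  have h1 := List.all_eq_true.1 chkFix3 m hm
  rw [Bool.and_eq_true] at h1
  exact ⟨Nat.eq_of_beq_eq_true h1.1, by have := h1.2; rwa [Nat.blt_eq] at this⟩

theorem comm_of_app {x : K} {P m : ℕ} (hx : Acts k x P) (hm : app P m = m) : r k m * x = x * r k m := by
  have h1 := h.toBas.acts_r hx m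
  rw [hm] at h1
  calc r k m * x = x * (x⁻¹ * r k m * x) := by group
    _ = x * r k m := by rw [h1]

theorem cent3 [Finite K] {x : K} (hx : x * xi3 k γ = xi3 k γ * x) :
    ∃ m < 256, ∃ w ∈ C3W, x = r k m * evw γ w := by
  classical
  have hC : C3W.Nodup := List.Nodup.of_map mw (by rw [chkC]; exact nodupC)
  choose f hf hfe using fun (w : {w // w ∈ C3W}) => h.lift3 w.2
  have hmem : ∀ y, y * xi3 k γ * y⁻¹ = xi3 k γ → y ∈ Subgroup.centralizer {xi3 k γ} := by
    intro y hy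
    rw [Subgroup.mem_centralizer_singleton_iff]
    calc y * xi3 k γ = y * xi3 k γ * y⁻¹ * y := by group
      _ = xi3 k γ * y := by rw [hy]
  have l16 : fix3.length = 16 := rfl
  have l120 : C3W.length = 120 := by decide +kernel
  let F : Fin fix3.length × Fin C3W.length → Subgroup.centralizer {xi3 k γ} := fun a =>
    ⟨r k (fix3.get a.1) * (r k (f ⟨C3W.get a.2, List.get_mem _ _⟩) * evw γ (C3W.get a.2)), by
      apply Subgroup.mul_mem
      · rw [Subgroup.mem_centralizer_singleton_iff]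
        exact h.comm_of_app h.acts_xi3 (h.fix3_spec (List.get_mem _ _)).1
      · exact hmem _ (hfe ⟨C3W.get a.2, List.get_mem _ _⟩)⟩
  have hFi : Function.Injective F := by
    rintro ⟨a, b⟩ ⟨a', b'⟩ hab
    have h1 : r k (fix3.get a) * (r k (f ⟨C3W.get b, List.get_mem _ _⟩) * evw γ (C3W.get b))
        = r k (fix3.get a') * (r k (f ⟨C3W.get b', List.get_mem _ _⟩) * evw γ (C3W.get b')) :=
      congrArg Subtype.val hab
    have hA1 : Acts k (r k (fix3.get a) * (r k (f ⟨C3W.get b, List.get_mem _ _⟩) * evw γ (C3W.get b)))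
        (mw (C3W.get b)) := h.toBas.acts_rmul (h.toBas.acts_rmul (h.toBas.acts_evw _) _) _
    have hA2 : Acts k (r k (fix3.get a') * (r k (f ⟨C3W.get b', List.get_mem _ _⟩) * evw γ (C3W.get b')))
        (mw (C3W.get b')) := h.toBas.acts_rmul (h.toBas.acts_rmul (h.toBas.acts_evw _) _) _
    rw [← h1] at hA2
    have h2 : mw (C3W.get b) = mw (C3W.get b') :=
      pack_ext (mw_lt _) (mw_lt _) fun i hi => h.toBas.acts_unique hA1 hA2 hi
    have h3 : C3W.get b = C3W.get b' := mwC_injOn (List.get_mem _ _) (List.get_mem _ _) h2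
    have h4 : b = b' := (List.nodup_iff_injective_get.1 hC) h3
    subst h4
    have h5 : r k (fix3.get a) = r k (fix3.get a') := mul_right_cancel h1
    have h6 : fix3.get a = fix3.get a' :=
      h.toBas.r_inj (h.fix3_spec (List.get_mem _ _)).2 (h.fix3_spec (List.get_mem _ _)).2 h5
    have h7 : a = a' := (List.nodup_iff_injective_get.1 nodupFix3) h6
    rw [h7]
  have hcard : Nat.card (Subgroup.centralizer {xi3 k γ}) ≤ Nat.card (Fin fix3.length × Fin C3W.length) := by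
    rw [Nat.card_prod, Nat.card_fin, Nat.card_fin, l16, l120]
    exact h.card3
  have hb := hFi.bijective_of_nat_card_le hcard
  obtain ⟨⟨a, b⟩, hab⟩ := hb.2 ⟨x, Subgroup.mem_centralizer_singleton_iff.2 hx⟩
  have h1 := congrArg Subtype.val hab
  have h2 : x = r k (fix3.get a) * (r k (f ⟨C3W.get b, List.get_mem _ _⟩) * evw γ (C3W.get b)) := h1.symm
  refine ⟨fix3.get a ^^^ f ⟨C3W.get b, List.get_mem _ _⟩, ?_, C3W.get b, List.get_mem _ _, ?_⟩
  · exact Nat.xor_lt_two_pow (n := 8) (h.fix3_spec (List.get_mem _ _)).2 (hf _)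
  · rw [h2, h.toBas.r_xor, mul_assoc]

theorem cj_of_comm3 [Finite K] {x : K} (hx : x * xi3 k γ = xi3 k γ * x) : cj x (R h.toBas) = R h.toBas := by
  obtain ⟨m, hm, w, _, rfl⟩ := h.cent3 hx
  exact h.cj_mul_of (h.cj_r hm) (h.cj_evw w)

/-! ### The number of elements of `D ∩ R` commuting with an element -/

/-- number of elements of `D ∩ R` commuting with `x` -/
noncomputable def cnt (h : Hyp k γ D S) (x : K) : ℕ := Set.ncard {e : K | e ∈ D ∧ e ∈ R h.toBas ∧ e * x = x * e}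

theorem cnt_conj {v : K} (hv : cj v (R h.toBas) = R h.toBas) (x : K) : h.cnt (v * x * v⁻¹) = h.cnt x := by
  unfold cnt
  have hv' := h.cj_inv_of hv
  rw [← Set.ncard_image_of_injective {e : K | e ∈ D ∧ e ∈ R h.toBas ∧ e * x = x * e}
    (f := fun e => v * e * v⁻¹) (by intro a b hab; simpa using hab)]
  congr 1
  ext e
  simp only [Set.mem_ofPred_eq, Set.mem_image]
  constructor
  · rintro ⟨h1, h2, h3⟩
    refine ⟨v⁻¹ * e * v, ⟨h.cD.inv h1, h.conj_mem hv h2, ?_⟩, by group⟩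
    calc v⁻¹ * e * v * x = v⁻¹ * (e * (v * x * v⁻¹)) * v := by group
      _ = v⁻¹ * ((v * x * v⁻¹) * e) * v := by rw [h3]
      _ = x * (v⁻¹ * e * v) := by group
  · rintro ⟨e', ⟨h1, h2, h3⟩, rfl⟩
    refine ⟨h.cD v _ h1, ?_, ?_⟩
    · have := h.conj_mem hv' h2
      simpa using this
    · calc v * e' * v⁻¹ * (v * x * v⁻¹) = v * (e' * x) * v⁻¹ := by group
        _ = v * (x * e') * v⁻¹ := by rw [h3]
        _ = v * x * v⁻¹ * (v * e' * v⁻¹) := by group

theorem cnt_acts {x : K} {M : ℕ} (hx : Acts k x M) : h.cnt x = cntD M := by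
  classical
  unfold cnt cntD
  set l := DD.filter (fun m => Nat.beq (app M m) m) with hl
  have hnd : l.Nodup := List.Nodup.filter _ nodupD
  have e1 : {e : K | e ∈ D ∧ e ∈ R h.toBas ∧ e * x = x * e} = (r k) '' {m | m ∈ l} := by
    ext e
    simp only [Set.mem_ofPred_eq, Set.mem_image]
    constructor
    · rintro ⟨h1, ⟨m, hm, rfl⟩, h3⟩
      refine ⟨m, ?_, rfl⟩
      rw [hl, List.mem_filter]
      refine ⟨h.mem_DD hm h1, ?_⟩
      have h4 : r k (app M m) = r k m := by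
        rw [← h.toBas.acts_r hx, mul_assoc, h3]; group
      rw [h.toBas.r_inj (app_lt _ _) hm h4]
      exact Nat.beq_refl m
    · rintro ⟨m, hm, rfl⟩
      rw [hl, List.mem_filter] at hm
      exact ⟨h.mem_D_of_DD hm.1, r_mem_R _ (DD_lt hm.1), h.comm_of_app hx (Nat.eq_of_beq_eq_true hm.2)⟩
  rw [e1, Set.InjOn.ncard_image]
  · have e2 : {m | m ∈ l} = (l.toFinset : Set ℕ) := by ext m; simp
    rw [e2, Set.ncard_coe_finset, List.toFinset_card_of_nodup hnd]
  · intro a ha b hb hab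
    have ha' : a ∈ l := ha
    have hb' : b ∈ l := hb
    rw [hl, List.mem_filter] at ha' hb'
    exact h.toBas.r_inj (DD_lt ha'.1) (DD_lt hb'.1) hab

theorem cnt_xi1 : h.cnt (xi1 γ) = 0 := by rw [h.cnt_acts h.acts_xi1, cnt1]
theorem cnt_xi2 : h.cnt (xi2 k γ) = 4 := by rw [h.cnt_acts h.acts_xi2, cnt2]
theorem cnt_xi3 : h.cnt (xi3 k γ) = 10 := by rw [h.cnt_acts h.acts_xi3, cnt3]

theorem cnt_S [Finite K] {s : K} (hs : s ∈ S) (hc : cj s (R h.toBas) = R h.toBas) : h.cnt s = 10 := by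
  obtain ⟨v, hv, e⟩ := h.S_conj hs (h.sqS s hs) hc
  rw [← h.cnt_conj hv, e, h.cnt_xi3]

/-! ### The fields of the closing lemma -/

theorem f_sq : ∀ x ∈ R h.toBas, x * x = 1 := by
  rintro _ ⟨m, _, rfl⟩
  exact h.toBas.r_sq m

theorem f_DR [Finite K] : ∀ e ∈ D, cj e (R h.toBas) = R h.toBas → e ∈ R h.toBas :=
  fun e he hc => h.DR he (h.sqD e he) hc

theorem f_uD [Finite K] : ∀ e ∈ D, cj e (R h.toBas) = R h.toBas → ∀ g,
    cj e (cj g (R h.toBas)) = cj g (R h.toBas) → cj g (R h.toBas) = R h.toBas := by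
  intro e he hc g hg
  have h1 := cj_conj' hg
  have he1 : g⁻¹ * e * g ∈ D := h.cD.inv he
  obtain ⟨v, hv, e1⟩ := h.D_conj he (h.f_DR e he hc)
  obtain ⟨v', hv', e2⟩ := h.D_conj he1 (h.f_DR _ he1 h1)
  have h2 : (v * g * v'⁻¹) * k 0 = k 0 * (v * g * v'⁻¹) := by
    calc (v * g * v'⁻¹) * k 0 = (v * g * v'⁻¹) * (v' * (g⁻¹ * e * g) * v'⁻¹) := by rw [e2]
      _ = (v * e * v⁻¹) * (v * g * v'⁻¹) := by group
      _ = k 0 * (v * g * v'⁻¹) := by rw [e1]
  have h3 := h.cj_of_comm0 h2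
  have h4 : g = v⁻¹ * (v * g * v'⁻¹) * v' := by group
  rw [h4]
  exact h.cj_mul_of (h.cj_mul_of (h.cj_inv_of hv) h3) hv'

theorem f_uS [Finite K] : ∀ e ∈ S, cj e (R h.toBas) = R h.toBas → ∀ g,
    cj e (cj g (R h.toBas)) = cj g (R h.toBas) → cj g (R h.toBas) = R h.toBas := by
  intro e he hc g hg
  have h1 := cj_conj' hg
  have he1 : g⁻¹ * e * g ∈ S := h.cS.inv he
  obtain ⟨v, hv, e1⟩ := h.S_conj he (h.sqS e he) hc
  obtain ⟨v', hv', e2⟩ := h.S_conj he1 (h.sqS _ he1) h1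
  have h2 : (v * g * v'⁻¹) * xi3 k γ = xi3 k γ * (v * g * v'⁻¹) := by
    calc (v * g * v'⁻¹) * xi3 k γ = (v * g * v'⁻¹) * (v' * (g⁻¹ * e * g) * v'⁻¹) := by rw [e2]
      _ = (v * e * v⁻¹) * (v * g * v'⁻¹) := by group
      _ = xi3 k γ * (v * g * v'⁻¹) := by rw [e1]
  have h3 := h.cj_of_comm3 h2
  have h4 : g = v⁻¹ * (v * g * v'⁻¹) * v' := by group
  rw [h4]
  exact h.cj_mul_of (h.cj_mul_of (h.cj_inv_of hv) h3) hv'

theorem f_neD : ∃ e ∈ D, e ∈ R h.toBas := ⟨k 0, h.k0D, h.toBas.k0_mem⟩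

theorem f_neS [Finite K] : ∃ s ∈ S, cj s (R h.toBas) = R h.toBas :=
  ⟨xi3 k γ, h.x3S, cj_of_acts h.acts_xi3⟩

theorem f_h6 [Finite K] : ∀ s ∈ S, cj s (R h.toBas) = R h.toBas → ∀ d ∈ D, d ∈ R h.toBas →
    s * d = d * s → s * d ∈ S := by
  intro s hs hsR d hd hdR hc
  have h1 : cj (s * d) (R h.toBas) = R h.toBas := h.cj_mul_of hsR (cj_of_mem hdR)
  have h2 : (s * d) * (s * d) = 1 := by
    calc (s * d) * (s * d) = s * (d * s) * d := by group
      _ = s * (s * d) * d := by rw [hc]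
      _ = (s * s) * (d * d) := by group
      _ = 1 := by rw [h.sqS s hs, h.sqD d hd, one_mul]
  have h3 : h.cnt (s * d) = 10 := by
    rw [← h.cnt_S hs hsR]
    unfold cnt
    congr 1
    ext e
    simp only [Set.mem_ofPred_eq]
    refine and_congr_right fun _ => and_congr_right fun heR => ?_
    obtain ⟨m, _, rfl⟩ := heR
    obtain ⟨m', _, rfl⟩ := hdR
    have hcomm := h.toBas.r_comm m m'
    constructor
    · intro h4
      apply mul_right_cancel (b := r k m')
      rw [mul_assoc, h4, mul_assoc, mul_assoc, hcomm]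
    · intro h4
      rw [← mul_assoc, h4, mul_assoc, mul_assoc, hcomm]
  rcases h.involution_cases h1 h2 with h4 | ⟨v, hv, h4 | h4 | h4⟩
  · exfalso
    have h5 : s ∈ R h.toBas := by
      have := (R h.toBas).mul_mem h4 ((R h.toBas).inv_mem hdR)
      simpa using this
    obtain ⟨m, hm, e⟩ := h5
    exact h.not_mem_S hm (e ▸ hs)
  · rw [← h.cnt_conj hv, h4, h.cnt_xi1] at h3; exact absurd h3 (by norm_num)
  · rw [← h.cnt_conj hv, h4, h.cnt_xi2] at h3; exact absurd h3 (by norm_num)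
  · have h5 : s * d = v⁻¹ * xi3 k γ * v := by rw [← h4]; group
    rw [h5]
    exact h.cS.inv h.x3S

theorem f_h7 [Finite K] : ∀ s ∈ S, cj s (R h.toBas) = R h.toBas → ∀ s' ∈ S, cj s' (R h.toBas) = R h.toBas →
    s * s' = s' * s → ∃ d ∈ D, d ∈ R h.toBas ∧ d * (s * s') = (s * s') * d := by
  intro s hs hsR s' hs' hsR' hc
  obtain ⟨v, hv, e⟩ := h.S_conj hs (h.sqS s hs) hsR
  set t := v * s' * v⁻¹ with ht
  have htS : t ∈ S := h.cS v _ hs'
  have htR : cj t (R h.toBas) = R h.toBas := h.cj_mul_of (h.cj_mul_of hv hsR') (h.cj_inv_of hv)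
  have htc : t * xi3 k γ = xi3 k γ * t := by
    rw [← e, ht]
    calc v * s' * v⁻¹ * (v * s * v⁻¹) = v * (s' * s) * v⁻¹ := by group
      _ = v * (s * s') * v⁻¹ := by rw [hc]
      _ = v * s * v⁻¹ * (v * s' * v⁻¹) := by group
  obtain ⟨m, hm, w, hw, e2⟩ := h.cent3 htc
  have htA : Acts k t (mw w) := by rw [e2]; exact h.toBas.acts_rmul (h.toBas.acts_evw w) m
  have hc10 : cntD (mw w) = 10 := by rw [← h.cnt_acts htA, h.cnt_S htS htR]
  have hI : mul (mw w) (mw w) = MI := by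
    have h1 := h.toBas.acts_mul htA htA
    rw [h.sqS t htS] at h1
    exact pack_ext (mul_lt _ _) MI_lt fun i hi => h.toBas.acts_unique h1 Bas.acts_one hi
  have h2 := List.all_eq_true.1 chkH7 _ (mem_C3M hw)
  rw [hI, hc10, force_eq] at h2
  simp only [Nat.beq_refl, Bool.and_self, cond_true] at h2
  obtain ⟨d, hd, hde⟩ := fixD_spec h2
  have h3 := h.comm_of_app (h.toBas.acts_mul h.acts_xi3 htA) hde
  refine ⟨v⁻¹ * r k d * v, h.cD.inv (h.mem_D_of_DD hd), h.conj_mem hv (r_mem_R _ (DD_lt hd)), ?_⟩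
  have h4 : xi3 k γ * t = v * (s * s') * v⁻¹ := by rw [← e, ht]; group
  rw [h4] at h3
  calc v⁻¹ * r k d * v * (s * s') = v⁻¹ * (r k d * (v * (s * s') * v⁻¹)) * v := by group
    _ = v⁻¹ * ((v * (s * s') * v⁻¹) * r k d) * v := by rw [h3]
    _ = s * s' * (v⁻¹ * r k d * v) := by group

/-- matrices of the elements of `S` normalising `R` -/
theorem acts_SL [Finite K] {s : K} (hs : s ∈ S) (hc : cj s (R h.toBas) = R h.toBas) :
    ∃ t ∈ SL, Acts k s t.1 := by
  obtain ⟨m, hm, w, hw, w', hw', e⟩ := h.nf_of_cj hc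
  have hA : Acts k s (mul (mw w) (mw w')) := by rw [e]; exact h.acts_nf m w w'
  have hI : mul (mul (mw w) (mw w')) (mul (mw w) (mw w')) = MI := by
    have h1 := h.toBas.acts_mul hA hA
    rw [h.sqS s hs] at h1
    exact pack_ext (mul_lt _ _) MI_lt fun i hi => h.toBas.acts_unique h1 Bas.acts_one hi
  have h1 := List.all_eq_true.1 (List.all_eq_true.1 chkClsS _ (mem_S5M hw)) _ (mem_DM hw')
  rw [force_eq] at h1
  unfold clsS at h1
  rw [force_eq, hI, Nat.beq_refl, cond_true, ← h.cnt_acts hA, h.cnt_S hs hc, Nat.beq_refl, cond_true,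
    List.any_eq_true] at h1
  obtain ⟨t, ht, hte⟩ := h1
  refine ⟨t, ht, ?_⟩
  rw [Nat.eq_of_beq_eq_true hte]
  exact hA

/-- every matrix of the list `SL` is the matrix of an element of `S` -/
theorem exists_SL [Finite K] {t : ℕ × List ℕ} (ht : t ∈ SL) :
    ∃ s ∈ S, cj s (R h.toBas) = R h.toBas ∧ Acts k s t.1 := by
  have e := cjw_spec (List.all_eq_true.1 chkSL _ ht)
  have hv := h.cj_evw t.2
  have hA := h.toBas.acts_mul h.acts_xi3 (h.toBas.acts_evw t.2)
  refine ⟨(evw γ t.2)⁻¹ * xi3 k γ * evw γ t.2, h.cS.inv h.x3S,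
    h.cj_mul_of (h.cj_mul_of (h.cj_inv_of hv) (cj_of_acts h.acts_xi3)) hv, ?_⟩
  intro i hi
  have hk : k i ∈ R h.toBas := by rw [← Bas.r_pow (k := k) hi]; exact r_mem_R _ (by interval_cases i <;> norm_num)
  obtain ⟨m, hm, hme⟩ := h.conj_mem (h.cj_inv_of hv) hk
  rw [inv_inv] at hme
  have h1 : app (mw t.2) m = 2 ^ i := by
    apply h.toBas.r_inj (app_lt _ _) (by interval_cases i <;> norm_num)
    rw [← h.toBas.acts_r (h.toBas.acts_evw t.2), ← hme, Bas.r_pow hi]
    group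
  have h2 := h.toBas.acts_r hA m
  rw [← e, app_mul, h1, app_pow _ hi, ← hme] at h2
  rw [← h2]
  group

end Hyp

end Cfsg.Agent.HN.XStruct
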