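import Cfsg.Agent.HN.XStruct

/-!
# The normaliser of `R` in `K = C_G(w)/⟨w⟩`, version with a kernel of odd order

The same as `XStruct`, but the centraliser of `k 0` may contain a group `W` of odd order commuting with everything.
-/

set_option autoImplicit false

namespace Cfsg.Agent.HN.XStructW

open Cfsg.Agent.HN.XMat Cfsg.Agent.HN.Closing Cfsg.Agent.HN.XStruct

variable {K : Type*} [Group K]

/-- The data coming from `C_G(w)/⟨w⟩`. -/
structure HypW (k γ : ℕ → K) (D S : Set K) (W : Subgroup K) : Prop extends Bas k γ where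
  cD : CInv D
  cS : CInv S
  sqD : ∀ e ∈ D, e * e = 1
  sqS : ∀ e ∈ S, e * e = 1
  oddW : Odd (Nat.card W)
  Wk : ∀ o ∈ W, ∀ i < 8, o * k i = k i * o
  Wγ : ∀ o ∈ W, ∀ g, o * γ g = γ g * o
  cent0 : ∀ x, x * k 0 = k 0 * x → ∃ m < 256, ∃ w ∈ S5W, ∃ o ∈ W, x = r k m * evw γ w * o
  k0D : k 0 ∈ D
  oneD : (1 : K) ∉ D
  r3D : r k 3 ∉ D
  r12D : r k 12 ∉ D
  oneS : (1 : K) ∉ S
  k0S : k 0 ∉ S
  r3S : r k 3 ∉ S
  r12S : r k 12 ∉ S
  sq1 : xi1 γ * xi1 γ = 1
  x1D : xi1 γ ∉ D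
  x1S : xi1 γ ∉ S
  sq2 : xi2 k γ * xi2 k γ = 1
  x2D : xi2 k γ ∉ D
  x2S : xi2 k γ ∉ S
  sq3 : xi3 k γ * xi3 k γ = 1
  x3D : xi3 k γ ∉ D
  x3S : xi3 k γ ∈ S
  card3 : Nat.card (Subgroup.centralizer {xi3 k γ}) ≤ 1920 * Nat.card W

namespace HypW

variable {k γ : ℕ → K} {D S : Set K} {W : Subgroup K} (h : HypW k γ D S W)

include h

theorem acts_xi1 : Acts k (xi1 γ) M1 := by
  rw [← mw1]; exact h.acts_evw _

theorem acts_xi2 : Acts k (xi2 k γ) M2 := by
  rw [← mw2]; exact h.acts_rmul (h.acts_evw _) _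

theorem acts_xi3 : Acts k (xi3 k γ) M3 := by
  rw [← mw3]; exact h.acts_rmul (h.acts_evw _) _

theorem W_rr {o : K} (ho : o ∈ W) {m n : ℕ} (hn : n ≤ 8) : o * rr k m n = rr k m n * o := by
  induction n with
  | zero => rw [rr_zero, one_mul, mul_one]
  | succ n ih =>
    rw [rr_succ]
    split
    · rw [← mul_assoc, ih (by omega), mul_assoc, h.Wk o ho n (by omega), mul_assoc]
    · rw [mul_one, ih (by omega)]

theorem W_r {o : K} (ho : o ∈ W) (m : ℕ) : o * r k m = r k m * o := h.W_rr ho le_rfl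

theorem W_evw {o : K} (ho : o ∈ W) (w : List ℕ) : o * evw γ w = evw γ w * o := by
  induction w with
  | nil => rw [evw_nil, mul_one, one_mul]
  | cons g w ih => rw [evw_cons, ← mul_assoc, h.Wγ o ho, mul_assoc, ih, mul_assoc]

theorem W_one {o : K} (ho : o ∈ W) (h2 : o * o = 1) : o = 1 := by
  have h1 : orderOf (⟨o, ho⟩ : W) ∣ Nat.card W := orderOf_dvd_natCard _
  have h3 : orderOf (⟨o, ho⟩ : W) ∣ 2 := orderOf_dvd_of_pow_eq_one (by rw [pow_two]; exact Subtype.ext h2)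
  have h4 : Nat.Coprime 2 (Nat.card W) := (Nat.coprime_two_left (n := Nat.card W)).2 h.oddW
  have h5 : orderOf (⟨o, ho⟩ : W) = 1 := Nat.eq_one_of_dvd_coprimes h4 h3 h1
  exact congrArg Subtype.val (orderOf_eq_one_iff.1 h5)

/-- an element of `W` which is an element of `R` -/
theorem W_eq_r {o : K} (ho : o ∈ W) {m : ℕ} (e : o = r k m) : o = 1 :=
  h.W_one ho (by rw [e, h.toBas.r_sq])

theorem acts_mulW {x o : K} {P : ℕ} (hx : Acts k x P) (ho : o ∈ W) : Acts k (x * o) P := by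
  intro i hi
  rw [← hx i hi]
  have h1 := h.W_r ho (row P i)
  rw [← hx i hi] at h1
  calc (x * o)⁻¹ * k i * (x * o) = o⁻¹ * (x⁻¹ * k i * x * o) := by group
    _ = o⁻¹ * (o * (x⁻¹ * k i * x)) := by rw [h1]
    _ = x⁻¹ * k i * x := by group

/-- `C_K(R) = R × W` -/
theorem mem_R_of_comm {x : K} (hx : ∀ i < 8, x * k i = k i * x) : ∃ m < 256, ∃ o ∈ W, x = r k m * o := by
  obtain ⟨m, hm, w, hw, o, ho, e⟩ := h.cent0 x (hx 0 (by norm_num))
  have h1 : Acts k x (mw w) := by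
    rw [e]; exact h.acts_mulW (h.acts_rmul (h.acts_evw w) m) ho
  have h2 : Acts k x MI := by
    intro i hi
    rw [row_MI hi, Bas.r_pow hi]
    rw [mul_assoc, ← hx i hi]
    group
  have h3 : mw w = mw [] := by
    apply pack_ext (mw_lt _) (mw_lt _)
    intro i hi
    exact h.toBas.acts_unique h1 h2 hi
  have h4 := mw_injOn hw nil_mem_S5W h3
  rw [h4, evw_nil, mul_one] at e
  exact ⟨m, hm, o, ho, e⟩

/-- elements with the same matrix differ by an element of `R × W` -/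
theorem quot_mem {a b : K} {P : ℕ} (ha : Acts k a P) (hb : Acts k b P) :
    ∃ m < 256, ∃ o ∈ W, b * a⁻¹ = r k m * o := by
  apply h.mem_R_of_comm
  intro i hi
  have h1 : a * (b⁻¹ * k i * b) * a⁻¹ = k i := by
    rw [hb i hi, ← ha i hi]; group
  calc b * a⁻¹ * k i = b * a⁻¹ * (a * (b⁻¹ * k i * b) * a⁻¹) := by rw [h1]
    _ = k i * (b * a⁻¹) := by group

theorem xi1_W {o : K} (ho : o ∈ W) : o * xi1 γ = xi1 γ * o := h.W_evw ho _

theorem xi2_W {o : K} (ho : o ∈ W) : o * xi2 k γ = xi2 k γ * o := by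
  unfold xi2
  rw [← mul_assoc, h.W_r ho, mul_assoc, h.W_evw ho, mul_assoc]

theorem xi3_W {o : K} (ho : o ∈ W) : o * xi3 k γ = xi3 k γ * o := by
  unfold xi3
  rw [← mul_assoc, h.W_r ho, mul_assoc, h.W_evw ho, mul_assoc]

/-- adjusting an involution by an element of `R` -/
theorem adjust {M : ℕ} {ξ x : K} (hξ : Acts k ξ M) (hsq : ξ * ξ = 1) (hM : kerIm M = true)
    (hx : x * x = 1) {m : ℕ} (hm : m < 256) (e : x = r k m * ξ) :
    ∃ j < 256, r k j * x * (r k j)⁻¹ = ξ := by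
  have hinv : ξ⁻¹ = ξ := by rw [inv_eq_iff_mul_eq_one, hsq]
  have hc : ∀ j, ξ * r k j * ξ = r k (app M j) := by
    intro j
    rw [← h.toBas.acts_r hξ, hinv]
  have h1 : app M m = m := by
    apply h.toBas.r_inj (app_lt _ _) hm
    rw [← hc m]
    have h2 : r k m * (ξ * r k m * ξ) = 1 := by
      rw [← hx, e]; group
    calc ξ * r k m * ξ = r k m * (r k m * (ξ * r k m * ξ)) := by rw [← mul_assoc (r k m), h.toBas.r_sq, one_mul]
      _ = r k m := by rw [h2, mul_one]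
  obtain ⟨j, hj, hje⟩ := kerIm_spec hM hm h1
  refine ⟨j, hj, ?_⟩
  rw [h.toBas.r_inv, e]
  have h3 : r k (app M j) * r k j = r k m := by rw [← h.toBas.r_xor, hje]
  calc r k j * (r k m * ξ) * r k j = r k j * r k m * (ξ * r k j * ξ) * ξ := by
        have h4 : ξ * r k j * ξ * ξ = ξ * r k j := by rw [mul_assoc, hsq, mul_one]
        rw [mul_assoc (r k j * r k m), h4]; group
    _ = r k j * r k m * r k (app M j) * ξ := by rw [hc]
    _ = r k m * (r k (app M j) * r k j) * ξ := by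
        rw [h.toBas.r_comm j m, mul_assoc (r k m), h.toBas.r_comm j]
    _ = ξ := by rw [h3, h.toBas.r_sq, one_mul]

/-- an involution of the form `r(m) o ξ` with `o ∈ W` has `o = 1`. -/
theorem kill_o {M : ℕ} {ξ x : K} (hξ : Acts k ξ M) (hsq : ξ * ξ = 1) (hW : ∀ o ∈ W, o * ξ = ξ * o)
    (hx : x * x = 1) {m : ℕ} {o : K} (ho : o ∈ W) (e : x = r k m * o * ξ) : o = 1 := by
  have hinv : ξ⁻¹ = ξ := by rw [inv_eq_iff_mul_eq_one, hsq]
  have hc : ξ * r k m * ξ = r k (app M m) := by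
    rw [← h.toBas.acts_r hξ, hinv]
  have h1 := h.W_r ho m
  have h2 := hW o ho
  have h3 : x * x = r k (m ^^^ app M m) * (o * o) := by
    rw [h.toBas.r_xor, ← hc, e]
    calc r k m * o * ξ * (r k m * o * ξ) = r k m * (o * ξ) * (r k m * (o * ξ)) := by group
      _ = r k m * (ξ * o) * (r k m * (ξ * o)) := by rw [h2]
      _ = r k m * ξ * (o * r k m) * ξ * o := by group
      _ = r k m * ξ * (r k m * o) * ξ * o := by rw [h1]
      _ = r k m * ξ * r k m * (o * ξ) * o := by group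
      _ = r k m * ξ * r k m * (ξ * o) * o := by rw [h2]
      _ = r k m * (ξ * r k m * ξ) * (o * o) := by group
  rw [hx] at h3
  have h4 : o * o = r k (m ^^^ app M m) := by
    rw [← h.toBas.r_inv]
    exact eq_inv_of_mul_eq_one_right h3.symm
  exact h.W_one ho (h.W_eq_r (W.mul_mem ho ho) h4)

/-- transfer of a conjugation of matrices -/
theorem transfer {M A : ℕ} {ξ x v : K} {V : ℕ} (hξ : Acts k ξ M) (hsq : ξ * ξ = 1) (hM : kerIm M = true)
    (hW : ∀ o ∈ W, o * ξ = ξ * o)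
    (hx : x * x = 1) (hA : Acts k x A) (hv : Acts k v V) (e : mul V A = mul M V) :
    ∃ j < 256, (r k j * v) * x * (r k j * v)⁻¹ = ξ := by
  have h1 := h.toBas.acts_mul hv hA
  have h2 := h.toBas.acts_mul hξ hv
  rw [← e] at h2
  obtain ⟨m, hm, o, ho, hme⟩ := h.quot_mem h2 h1
  have h3 : v * x * v⁻¹ = r k m * o * ξ := by
    rw [← hme]; group
  have h4 : (v * x * v⁻¹) * (v * x * v⁻¹) = 1 := by
    calc (v * x * v⁻¹) * (v * x * v⁻¹) = v * (x * x) * v⁻¹ := by group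
      _ = 1 := by rw [hx]; group
  have h5 := h.kill_o hξ hsq hW h4 ho h3
  rw [h5, mul_one] at h3
  obtain ⟨j, hj, hje⟩ := h.adjust hξ hsq hM h4 hm h3
  refine ⟨j, hj, ?_⟩
  rw [← hje]; group

theorem r_conj (g m : ℕ) : r k (app (gen g) m) = (γ g)⁻¹ * r k m * γ g := (h.toBas.acts_r (h.act g) m).symm

/-- masks of elements of `D` -/
theorem mem_DD {m : ℕ} (hm : m < 256) (hD : r k m ∈ D) : m ∈ DD := by
  have step : ∀ p g, (r k p ∉ D) → r k (app (gen g) p) ∉ D := by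
    intro p g hp hq
    apply hp
    rw [h.r_conj] at hq
    have := h.cD (γ g) _ hq
    have e : γ g * ((γ g)⁻¹ * r k p * γ g) * (γ g)⁻¹ = r k p := by group
    rwa [e] at this
  rcases mask_cases hm with rfl | h1 | rfl | ⟨t, ht, rfl⟩ | rfl | ⟨t, ht, rfl⟩
  · rw [Bas.r_zero] at hD; exact absurd hD h.oneD
  · exact h1
  · exact absurd hD h.r3D
  · exact absurd hD (tree_spec (P := fun m => r k m ∉ D) step JJ [3] chkJJ
      (by intro p hp; rw [List.mem_singleton.1 hp]; exact h.r3D) t ht)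
  · exact absurd hD h.r12D
  · exact absurd hD (tree_spec (P := fun m => r k m ∉ D) step FF [12] chkFF
      (by intro p hp; rw [List.mem_singleton.1 hp]; exact h.r12D) t ht)

theorem r_DD {w : List ℕ} : r k (app (mw w) 1) = (evw γ w)⁻¹ * k 0 * evw γ w := by
  rw [← h.toBas.acts_r (h.toBas.acts_evw w), Bas.r_one]

theorem mem_D_of_DD {m : ℕ} (hm : m ∈ DD) : r k m ∈ D := by
  obtain ⟨w, hw, rfl⟩ := exists_DW hm
  rw [h.r_DD]
  exact h.cD.inv h.k0D

/-- no element of `S` in `R` -/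
theorem not_mem_S {m : ℕ} (hm : m < 256) : r k m ∉ S := by
  have step : ∀ p g, (r k p ∉ S) → r k (app (gen g) p) ∉ S := by
    intro p g hp hq
    apply hp
    rw [h.r_conj] at hq
    have := h.cS (γ g) _ hq
    have e : γ g * ((γ g)⁻¹ * r k p * γ g) * (γ g)⁻¹ = r k p := by group
    rwa [e] at this
  rcases mask_cases hm with rfl | h1 | rfl | ⟨t, ht, rfl⟩ | rfl | ⟨t, ht, rfl⟩
  · rw [Bas.r_zero]; exact h.oneS
  · obtain ⟨w, hw, rfl⟩ := exists_DW h1
    rw [h.r_DD]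
    intro hS
    have := h.cS (evw γ w) _ hS
    have e : evw γ w * ((evw γ w)⁻¹ * k 0 * evw γ w) * (evw γ w)⁻¹ = k 0 := by group
    rw [e] at this
    exact h.k0S this
  · exact h.r3S
  · exact tree_spec (P := fun m => r k m ∉ S) step JJ [3] chkJJ
      (by intro p hp; rw [List.mem_singleton.1 hp]; exact h.r3S) t ht
  · exact h.r12S
  · exact tree_spec (P := fun m => r k m ∉ S) step FF [12] chkFF
      (by intro p hp; rw [List.mem_singleton.1 hp]; exact h.r12S) t ht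

/-- normal form of the elements `x` with `k 0 ^ x ∈ R` -/
theorem normal_form {x : K} (hx : x⁻¹ * k 0 * x ∈ R h.toBas) :
    ∃ m < 256, ∃ w ∈ S5W, ∃ w' ∈ DW, ∃ o ∈ W, x = r k m * evw γ w * evw γ w' * o := by
  obtain ⟨m, hm, e⟩ := hx
  have h1 : r k m ∈ D := by rw [← e]; exact h.cD.inv h.k0D
  obtain ⟨w', hw', rfl⟩ := exists_DW (h.mem_DD hm h1)
  rw [h.r_DD] at e
  have h2 : (x * (evw γ w')⁻¹) * k 0 = k 0 * (x * (evw γ w')⁻¹) := by
    calc (x * (evw γ w')⁻¹) * k 0 = x * ((evw γ w')⁻¹ * k 0 * evw γ w') * (evw γ w')⁻¹ := by group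
      _ = x * (x⁻¹ * k 0 * x) * (evw γ w')⁻¹ := by rw [e]
      _ = k 0 * (x * (evw γ w')⁻¹) := by group
  obtain ⟨m', hm', w, hw, o, ho, e'⟩ := h.cent0 _ h2
  refine ⟨m', hm', w, hw, w', hw', o, ho, ?_⟩
  rw [mul_assoc _ _ o, ← h.W_evw ho, ← mul_assoc, ← e']; group

theorem acts_nf (m : ℕ) (w w' : List ℕ) {o : K} (ho : o ∈ W) :
    Acts k (r k m * evw γ w * evw γ w' * o) (mul (mw w) (mw w')) :=
  h.acts_mulW (h.toBas.acts_mul (h.toBas.acts_rmul (h.toBas.acts_evw w) m) (h.toBas.acts_evw w')) ho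

omit h in
theorem cj_of_acts [Finite K] {hB : Bas k γ} {v : K} {V : ℕ} (hv : Acts k v V) :
    cj v (R hB) = R hB := by
  symm
  apply Subgroup.eq_of_le_of_card_ge
  · rintro _ ⟨m, hm, rfl⟩
    rw [mem_cj]
    rw [hB.acts_r hv]
    exact r_mem_R _ (app_lt _ _)
  · have : Nat.card (cj v (R hB)) = Nat.card (R hB) := by
      unfold cj
      exact (Nat.card_congr (Subgroup.equivSMul (MulAut.conj v) (R hB)).toEquiv).symm
    rw [this]

theorem conj_mem {x : K} (hx : cj x (R h.toBas) = R h.toBas) {y : K} (hy : y ∈ R h.toBas) :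
    x⁻¹ * y * x ∈ R h.toBas := by
  rw [← hx, mem_cj] at hy
  exact hy

theorem nf_of_cj {x : K} (hx : cj x (R h.toBas) = R h.toBas) :
    ∃ m < 256, ∃ w ∈ S5W, ∃ w' ∈ DW, ∃ o ∈ W, x = r k m * evw γ w * evw γ w' * o :=
  h.normal_form (h.conj_mem hx h.toBas.k0_mem)

/-- the elements of `R` normalise `R` -/
theorem cj_r {m : ℕ} (hm : m < 256) : cj (r k m) (R h.toBas) = R h.toBas := cj_of_mem (r_mem_R _ hm)

theorem cj_evw [Finite K] (w : List ℕ) : cj (evw γ w) (R h.toBas) = R h.toBas :=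
  cj_of_acts (h.toBas.acts_evw w)

theorem cj_mul_of {a b : K} (ha : cj a (R h.toBas) = R h.toBas) (hb : cj b (R h.toBas) = R h.toBas) :
    cj (a * b) (R h.toBas) = R h.toBas := by rw [cj_mul, hb, ha]

theorem cj_inv_of {a : K} (ha : cj a (R h.toBas) = R h.toBas) : cj a⁻¹ (R h.toBas) = R h.toBas :=
  cj_inv_eq ha

theorem cj_W [Finite K] {o : K} (ho : o ∈ W) : cj o (R h.toBas) = R h.toBas := by
  have h1 : Acts k (1 * o) MI := h.acts_mulW Bas.acts_one ho
  rw [one_mul] at h1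
  exact cj_of_acts h1

/-- the elements commuting with `k 0` normalise `R` -/
theorem cj_of_comm0 [Finite K] {x : K} (hx : x * k 0 = k 0 * x) : cj x (R h.toBas) = R h.toBas := by
  obtain ⟨m, hm, w, _, o, ho, rfl⟩ := h.cent0 x hx
  exact h.cj_mul_of (h.cj_mul_of (h.cj_r hm) (h.cj_evw w)) (h.cj_W ho)

/-- **The involutions of the normaliser of `R`**. -/
theorem involution_cases [Finite K] {x : K} (hx : cj x (R h.toBas) = R h.toBas) (hsq : x * x = 1) :
    x ∈ R h.toBas ∨ ∃ v, cj v (R h.toBas) = R h.toBas ∧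
      (v * x * v⁻¹ = xi1 γ ∨ v * x * v⁻¹ = xi2 k γ ∨ v * x * v⁻¹ = xi3 k γ) := by
  obtain ⟨m, hm, w, hw, w', hw', o, ho, e⟩ := h.nf_of_cj hx
  have hA : Acts k x (mul (mw w) (mw w')) := by rw [e]; exact h.acts_nf m w w' ho
  have hI : ∀ {y : K} {P : ℕ}, P < 2 ^ 64 → y * y = 1 → Acts k y P → mul P P = MI := by
    intro y P hP hy ha
    have h1 := h.toBas.acts_mul ha ha
    rw [hy] at h1
    exact pack_ext (mul_lt _ _) MI_lt fun i hi => h.toBas.acts_unique h1 Bas.acts_one hi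
  have hRI : ∀ {y : K}, y * y = 1 → Acts k y MI → y ∈ R h.toBas := by
    intro y hy2 hy
    obtain ⟨m1, hm1, o1, ho1, e1⟩ := h.quot_mem (a := 1) (b := y) Bas.acts_one hy
    rw [inv_one, mul_one] at e1
    have h1 : o1 * o1 = 1 := by
      have h2 := h.W_r ho1 m1
      have h3 := h.toBas.r_sq m1
      calc o1 * o1 = r k m1 * r k m1 * (o1 * o1) := by rw [h3, one_mul]
        _ = r k m1 * (r k m1 * o1) * o1 := by group
        _ = r k m1 * (o1 * r k m1) * o1 := by rw [h2]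
        _ = (r k m1 * o1) * (r k m1 * o1) := by group
        _ = 1 := by rw [← e1, hy2]
    rw [h.W_one ho1 h1, mul_one] at e1
    rw [e1]
    exact r_mem_R _ hm1
  have hAI := hI (mul_lt _ _) hsq hA
  have h1 := List.all_eq_true.1 (List.all_eq_true.1 chkCls _ (mem_S5M hw)) _ (mem_DM hw')
  rw [force_eq] at h1
  unfold cls at h1
  rw [force_eq, hAI, Nat.beq_refl, cond_true, Bool.or_eq_true, Bool.or_eq_true] at h1
  rcases h1 with (h1 | h1) | h1
  · left
    apply hRI hsq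
    rw [← Nat.eq_of_beq_eq_true h1]
    exact hA
  · -- fixes a mask of `DD`
    obtain ⟨d, hd, hde⟩ := fixD_spec h1
    obtain ⟨u, hu, rfl⟩ := exists_DW hd
    have hr := h.toBas.acts_r hA (app (mw u) 1)
    rw [hde, h.r_DD] at hr
    -- `y = u x u⁻¹` commutes with `k 0`
    set y := evw γ u * x * (evw γ u)⁻¹ with hy
    have hyc : y * k 0 = k 0 * y := by
      calc y * k 0 = evw γ u * x * ((evw γ u)⁻¹ * k 0 * evw γ u) * (evw γ u)⁻¹ := by rw [hy]; group
        _ = evw γ u * x * (x⁻¹ * ((evw γ u)⁻¹ * k 0 * evw γ u) * x) * (evw γ u)⁻¹ := by rw [hr]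
        _ = k 0 * y := by rw [hy]; group
    have hysq : y * y = 1 := by
      rw [hy]
      calc evw γ u * x * (evw γ u)⁻¹ * (evw γ u * x * (evw γ u)⁻¹) = evw γ u * (x * x) * (evw γ u)⁻¹ := by group
        _ = 1 := by rw [hsq]; group
    obtain ⟨m2, hm2, w2, hw2, o2, ho2, e2⟩ := h.cent0 y hyc
    have hyA : Acts k y (mw w2) := by
      rw [e2]; exact h.acts_mulW (h.toBas.acts_rmul (h.toBas.acts_evw w2) m2) ho2
    have hyI := hI (mw_lt _) hysq hyA
    have h2 := List.all_eq_true.1 chkS5a _ (mem_S5M hw2)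
    rw [force_eq, hyI, Nat.beq_refl, cond_true, Bool.or_eq_true] at h2
    rcases h2 with h2 | h2
    · left
      have h3 : y ∈ R h.toBas := by
        apply hRI hysq
        rw [← Nat.eq_of_beq_eq_true h2]
        exact hyA
      have h4 := h.conj_mem (h.cj_evw u) h3
      have h5 : (evw γ u)⁻¹ * y * evw γ u = x := by rw [hy]; group
      rwa [h5] at h4
    · right
      rw [List.any_eq_true] at h2
      obtain ⟨t, ht, hte⟩ := h2
      have hte' := Nat.eq_of_beq_eq_true hte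
      have h3 := List.all_eq_true.1 chkS5b _ ht
      rcases hb : t.2.1 with _ | _
      · rw [hb, cond_false] at h3
        have h4 := cjw_spec h3
        rw [hte'] at h4
        obtain ⟨j, hj, hje⟩ := h.transfer h.acts_xi2 h.sq2 chkK2 (fun _ => h.xi2_W) hysq hyA (h.toBas.acts_evw t.2.2) h4
        refine ⟨r k j * evw γ t.2.2 * evw γ u, h.cj_mul_of (h.cj_mul_of (h.cj_r hj) (h.cj_evw _)) (h.cj_evw _),
          Or.inr (Or.inl ?_)⟩
        rw [← hje, hy]; group
      · rw [hb, cond_true] at h3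
        have h4 := cjw_spec h3
        rw [hte'] at h4
        obtain ⟨j, hj, hje⟩ := h.transfer h.acts_xi3 h.sq3 chkK3 (fun _ => h.xi3_W) hysq hyA (h.toBas.acts_evw t.2.2) h4
        refine ⟨r k j * evw γ t.2.2 * evw γ u, h.cj_mul_of (h.cj_mul_of (h.cj_r hj) (h.cj_evw _)) (h.cj_evw _),
          Or.inr (Or.inr ?_)⟩
        rw [← hje, hy]; group
  · -- type (2,1)
    right
    rw [List.any_eq_true] at h1
    obtain ⟨t, ht, hte⟩ := h1
    have hte' := Nat.eq_of_beq_eq_true hte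
    have h3 := cjw_spec (List.all_eq_true.1 chkT1 _ ht)
    rw [hte'] at h3
    obtain ⟨j, hj, hje⟩ := h.transfer h.acts_xi1 h.sq1 chkK1 (fun _ => h.xi1_W) hsq hA (h.toBas.acts_evw t.2) h3
    exact ⟨r k j * evw γ t.2, h.cj_mul_of (h.cj_r hj) (h.cj_evw _), Or.inl hje⟩

/-- elements of `D` normalising `R` are in `R` -/
theorem DR [Finite K] {e : K} (he : e ∈ D) (hsq : e * e = 1) (hc : cj e (R h.toBas) = R h.toBas) :
    e ∈ R h.toBas := by
  rcases h.involution_cases hc hsq with h1 | ⟨v, _, h1 | h1 | h1⟩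
  · exact h1
  · exact absurd (h1 ▸ h.cD v _ he) h.x1D
  · exact absurd (h1 ▸ h.cD v _ he) h.x2D
  · exact absurd (h1 ▸ h.cD v _ he) h.x3D

/-- elements of `S` normalising `R` are conjugate to `xi3` -/
theorem S_conj [Finite K] {s : K} (hs : s ∈ S) (hsq : s * s = 1) (hc : cj s (R h.toBas) = R h.toBas) :
    ∃ v, cj v (R h.toBas) = R h.toBas ∧ v * s * v⁻¹ = xi3 k γ := by
  rcases h.involution_cases hc hsq with ⟨m, hm, rfl⟩ | ⟨v, hv, h1 | h1 | h1⟩
  · exact absurd hs (h.not_mem_S hm)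
  · exact absurd (h1 ▸ h.cS v _ hs) h.x1S
  · exact absurd (h1 ▸ h.cS v _ hs) h.x2S
  · exact ⟨v, hv, h1⟩

/-- an element of the class `DD` is conjugate to `k 0` -/
theorem D_conj [Finite K] {e : K} (he : e ∈ D) (hR : e ∈ R h.toBas) :
    ∃ v, cj v (R h.toBas) = R h.toBas ∧ v * e * v⁻¹ = k 0 := by
  obtain ⟨m, hm, rfl⟩ := hR
  obtain ⟨w, hw, rfl⟩ := exists_DW (h.mem_DD hm he)
  refine ⟨evw γ w, h.cj_evw w, ?_⟩
  rw [h.r_DD]; group

/-! ### The centraliser of `xi3` -/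

theorem lift3 {w : List ℕ} (hw : w ∈ C3W) :
    ∃ j < 256, (r k j * evw γ w) * xi3 k γ * (r k j * evw γ w)⁻¹ = xi3 k γ := by
  have e : mul (mw w) M3 = mul M3 (mw w) :=
    Nat.eq_of_beq_eq_true (List.all_eq_true.1 chkCM _ (mem_C3M hw))
  exact h.transfer h.acts_xi3 h.sq3 chkK3 (fun _ => h.xi3_W) h.sq3 h.acts_xi3 (h.toBas.acts_evw w) e

set_option linter.unusedSectionVars false in
theorem fix3_spec {m : ℕ} (hm : m ∈ fix3) : app M3 m = m ∧ m < 256 := by
  have h1 := List.all_eq_true.1 chkFix3 m hm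
  rw [Bool.and_eq_true] at h1
  exact ⟨Nat.eq_of_beq_eq_true h1.1, by have := h1.2; rwa [Nat.blt_eq] at this⟩

theorem comm_of_app {x : K} {P m : ℕ} (hx : Acts k x P) (hm : app P m = m) : r k m * x = x * r k m := by
  have h1 := h.toBas.acts_r hx m
  rw [hm] at h1
  calc r k m * x = x * (x⁻¹ * r k m * x) := by group
    _ = x * r k m := by rw [h1]

theorem cent3 [Finite K] {x : K} (hx : x * xi3 k γ = xi3 k γ * x) :
    ∃ m < 256, ∃ w ∈ C3W, ∃ o ∈ W, x = r k m * evw γ w * o := by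
  classical
  have hC : C3W.Nodup := List.Nodup.of_map mw (by rw [chkC]; exact nodupC)
  choose f hf hfe using fun (w : {w // w ∈ C3W}) => h.lift3 w.2
  have hmem : ∀ y, y * xi3 k γ * y⁻¹ = xi3 k γ → y ∈ Subgroup.centralizer {xi3 k γ} := by
    intro y hy
    rw [Subgroup.mem_centralizer_singleton_iff]
    calc y * xi3 k γ = y * xi3 k γ * y⁻¹ * y := by group
      _ = xi3 k γ * y := by rw [hy]
  have l16 : fix3.length = 16 := rfl
  have l120 : C3W.length = 120 := by decide +kernel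
  let F : Fin fix3.length × Fin C3W.length × W → Subgroup.centralizer {xi3 k γ} := fun a =>
    ⟨r k (fix3.get a.1) * (r k (f ⟨C3W.get a.2.1, List.get_mem _ _⟩) * evw γ (C3W.get a.2.1)) * (a.2.2 : K), by
      apply Subgroup.mul_mem
      · apply Subgroup.mul_mem
        · rw [Subgroup.mem_centralizer_singleton_iff]
          exact h.comm_of_app h.acts_xi3 (h.fix3_spec (List.get_mem _ _)).1
        · exact hmem _ (hfe ⟨C3W.get a.2.1, List.get_mem _ _⟩)
      · rw [Subgroup.mem_centralizer_singleton_iff]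
        exact h.xi3_W a.2.2.2⟩
  have hFi : Function.Injective F := by
    rintro ⟨a, b, o⟩ ⟨a', b', o'⟩ hab
    have h1 : r k (fix3.get a) * (r k (f ⟨C3W.get b, List.get_mem _ _⟩) * evw γ (C3W.get b)) * (o : K)
        = r k (fix3.get a') * (r k (f ⟨C3W.get b', List.get_mem _ _⟩) * evw γ (C3W.get b')) * (o' : K) :=
      congrArg Subtype.val hab
    have hA1 : Acts k (r k (fix3.get a) * (r k (f ⟨C3W.get b, List.get_mem _ _⟩) * evw γ (C3W.get b)) * (o : K))
        (mw (C3W.get b)) := h.acts_mulW (h.toBas.acts_rmul (h.toBas.acts_rmul (h.toBas.acts_evw _) _) _) o.2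
    have hA2 : Acts k (r k (fix3.get a') * (r k (f ⟨C3W.get b', List.get_mem _ _⟩) * evw γ (C3W.get b')) * (o' : K))
        (mw (C3W.get b')) := h.acts_mulW (h.toBas.acts_rmul (h.toBas.acts_rmul (h.toBas.acts_evw _) _) _) o'.2
    rw [← h1] at hA2
    have h2 : mw (C3W.get b) = mw (C3W.get b') :=
      pack_ext (mw_lt _) (mw_lt _) fun i hi => h.toBas.acts_unique hA1 hA2 hi
    have h3 : C3W.get b = C3W.get b' := mwC_injOn (List.get_mem _ _) (List.get_mem _ _) h2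
    have h4 : b = b' := (List.nodup_iff_injective_get.1 hC) h3
    subst h4
    obtain ⟨y, hy⟩ : ∃ y, y = r k (f ⟨C3W.get b, List.get_mem _ _⟩) * evw γ (C3W.get b) := ⟨_, rfl⟩
    rw [← hy] at h1
    have hyW : ∀ o : K, o ∈ W → y * o = o * y := by
      intro o ho
      rw [hy, mul_assoc, ← h.W_evw ho, ← mul_assoc, ← h.W_r ho, mul_assoc]
    have h5 : r k (fix3.get a) * (o : K) = r k (fix3.get a') * (o' : K) := by
      apply mul_right_cancel (b := y)
      calc r k (fix3.get a) * (o : K) * y = r k (fix3.get a) * (y * (o : K)) := by rw [hyW _ o.2, mul_assoc]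
        _ = r k (fix3.get a') * (y * (o' : K)) := by rw [← mul_assoc, h1, mul_assoc]
        _ = r k (fix3.get a') * (o' : K) * y := by rw [hyW _ o'.2, mul_assoc]
    have h6 : (o : K) * (o' : K)⁻¹ = r k (fix3.get a ^^^ fix3.get a') := by
      rw [h.toBas.r_xor, ← h.toBas.r_inv (fix3.get a)]
      calc (o : K) * (o' : K)⁻¹ = (r k (fix3.get a))⁻¹ * (r k (fix3.get a) * (o : K)) * (o' : K)⁻¹ := by group
        _ = (r k (fix3.get a))⁻¹ * (r k (fix3.get a') * (o' : K)) * (o' : K)⁻¹ := by rw [h5]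
        _ = (r k (fix3.get a))⁻¹ * r k (fix3.get a') := by group
    have h7 : (o : K) * (o' : K)⁻¹ = 1 := h.W_eq_r (W.mul_mem o.2 (W.inv_mem o'.2)) h6
    have h8 : (o : K) = (o' : K) := mul_inv_eq_one.1 h7
    have h9 : o = o' := Subtype.ext h8
    subst h9
    have h10 : r k (fix3.get a) = r k (fix3.get a') := mul_right_cancel h5
    have h11 : fix3.get a = fix3.get a' :=
      h.toBas.r_inj (h.fix3_spec (List.get_mem _ _)).2 (h.fix3_spec (List.get_mem _ _)).2 h10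
    have h12 : a = a' := (List.nodup_iff_injective_get.1 nodupFix3) h11
    rw [h12]
  have hcard : Nat.card (Subgroup.centralizer {xi3 k γ}) ≤ Nat.card (Fin fix3.length × Fin C3W.length × W) := by
    rw [Nat.card_prod, Nat.card_prod, Nat.card_fin, Nat.card_fin, l16, l120, ← mul_assoc]
    exact h.card3
  have hb := hFi.bijective_of_nat_card_le hcard
  obtain ⟨⟨a, b, o⟩, hab⟩ := hb.2 ⟨x, Subgroup.mem_centralizer_singleton_iff.2 hx⟩
  have h1 := congrArg Subtype.val hab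
  have h2 : x = r k (fix3.get a) * (r k (f ⟨C3W.get b, List.get_mem _ _⟩) * evw γ (C3W.get b)) * (o : K) := h1.symm
  refine ⟨fix3.get a ^^^ f ⟨C3W.get b, List.get_mem _ _⟩, ?_, C3W.get b, List.get_mem _ _, o, o.2, ?_⟩
  · exact Nat.xor_lt_two_pow (n := 8) (h.fix3_spec (List.get_mem _ _)).2 (hf _)
  · rw [h2, h.toBas.r_xor]
    simp only [mul_assoc]

theorem cj_of_comm3 [Finite K] {x : K} (hx : x * xi3 k γ = xi3 k γ * x) : cj x (R h.toBas) = R h.toBas := by
  obtain ⟨m, hm, w, _, o, ho, rfl⟩ := h.cent3 hx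
  exact h.cj_mul_of (h.cj_mul_of (h.cj_r hm) (h.cj_evw w)) (h.cj_W ho)

/-! ### The number of elements of `D ∩ R` commuting with an element -/

/-- number of elements of `D ∩ R` commuting with `x` -/
noncomputable def cnt (h : HypW k γ D S W) (x : K) : ℕ := Set.ncard {e : K | e ∈ D ∧ e ∈ R h.toBas ∧ e * x = x * e}

theorem cnt_conj {v : K} (hv : cj v (R h.toBas) = R h.toBas) (x : K) : h.cnt (v * x * v⁻¹) = h.cnt x := by
  unfold cnt
  have hv' := h.cj_inv_of hv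
  rw [← Set.ncard_image_of_injective {e : K | e ∈ D ∧ e ∈ R h.toBas ∧ e * x = x * e}
    (f := fun e => v * e * v⁻¹) (by intro a b hab; simpa using hab)]
  congr 1
  ext e
  simp only [Set.mem_ofPred_eq, Set.mem_image]
  constructor
  · rintro ⟨h1, h2, h3⟩
    refine ⟨v⁻¹ * e * v, ⟨h.cD.inv h1, h.conj_mem hv h2, ?_⟩, by group⟩
    calc v⁻¹ * e * v * x = v⁻¹ * (e * (v * x * v⁻¹)) * v := by group
      _ = v⁻¹ * ((v * x * v⁻¹) * e) * v := by rw [h3]
      _ = x * (v⁻¹ * e * v) := by group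
  · rintro ⟨e', ⟨h1, h2, h3⟩, rfl⟩
    refine ⟨h.cD v _ h1, ?_, ?_⟩
    · have := h.conj_mem hv' h2
      simpa using this
    · calc v * e' * v⁻¹ * (v * x * v⁻¹) = v * (e' * x) * v⁻¹ := by group
        _ = v * (x * e') * v⁻¹ := by rw [h3]
        _ = v * x * v⁻¹ * (v * e' * v⁻¹) := by group

theorem cnt_acts {x : K} {M : ℕ} (hx : Acts k x M) : h.cnt x = cntD M := by
  classical
  unfold cnt cntD
  set l := DD.filter (fun m => Nat.beq (app M m) m) with hl
  have hnd : l.Nodup := List.Nodup.filter _ nodupD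
  have e1 : {e : K | e ∈ D ∧ e ∈ R h.toBas ∧ e * x = x * e} = (r k) '' {m | m ∈ l} := by
    ext e
    simp only [Set.mem_ofPred_eq, Set.mem_image]
    constructor
    · rintro ⟨h1, ⟨m, hm, rfl⟩, h3⟩
      refine ⟨m, ?_, rfl⟩
      rw [hl, List.mem_filter]
      refine ⟨h.mem_DD hm h1, ?_⟩
      have h4 : r k (app M m) = r k m := by
        rw [← h.toBas.acts_r hx, mul_assoc, h3]; group
      rw [h.toBas.r_inj (app_lt _ _) hm h4]
      exact Nat.beq_refl m
    · rintro ⟨m, hm, rfl⟩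
      rw [hl, List.mem_filter] at hm
      exact ⟨h.mem_D_of_DD hm.1, r_mem_R _ (DD_lt hm.1), h.comm_of_app hx (Nat.eq_of_beq_eq_true hm.2)⟩
  rw [e1, Set.InjOn.ncard_image]
  · have e2 : {m | m ∈ l} = (l.toFinset : Set ℕ) := by ext m; simp
    rw [e2, Set.ncard_coe_finset, List.toFinset_card_of_nodup hnd]
  · intro a ha b hb hab
    have ha' : a ∈ l := ha
    have hb' : b ∈ l := hb
    rw [hl, List.mem_filter] at ha' hb'
    exact h.toBas.r_inj (DD_lt ha'.1) (DD_lt hb'.1) hab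

theorem cnt_xi1 : h.cnt (xi1 γ) = 0 := by rw [h.cnt_acts h.acts_xi1, cnt1]
theorem cnt_xi2 : h.cnt (xi2 k γ) = 4 := by rw [h.cnt_acts h.acts_xi2, cnt2]
theorem cnt_xi3 : h.cnt (xi3 k γ) = 10 := by rw [h.cnt_acts h.acts_xi3, cnt3]

theorem cnt_S [Finite K] {s : K} (hs : s ∈ S) (hc : cj s (R h.toBas) = R h.toBas) : h.cnt s = 10 := by
  obtain ⟨v, hv, e⟩ := h.S_conj hs (h.sqS s hs) hc
  rw [← h.cnt_conj hv, e, h.cnt_xi3]

/-! ### The fields of the closing lemma -/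

theorem f_sq : ∀ x ∈ R h.toBas, x * x = 1 := by
  rintro _ ⟨m, _, rfl⟩
  exact h.toBas.r_sq m

theorem f_DR [Finite K] : ∀ e ∈ D, cj e (R h.toBas) = R h.toBas → e ∈ R h.toBas :=
  fun e he hc => h.DR he (h.sqD e he) hc

theorem f_uD [Finite K] : ∀ e ∈ D, cj e (R h.toBas) = R h.toBas → ∀ g,
    cj e (cj g (R h.toBas)) = cj g (R h.toBas) → cj g (R h.toBas) = R h.toBas := by
  intro e he hc g hg
  have h1 := cj_conj' hg
  have he1 : g⁻¹ * e * g ∈ D := h.cD.inv he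
  obtain ⟨v, hv, e1⟩ := h.D_conj he (h.f_DR e he hc)
  obtain ⟨v', hv', e2⟩ := h.D_conj he1 (h.f_DR _ he1 h1)
  have h2 : (v * g * v'⁻¹) * k 0 = k 0 * (v * g * v'⁻¹) := by
    calc (v * g * v'⁻¹) * k 0 = (v * g * v'⁻¹) * (v' * (g⁻¹ * e * g) * v'⁻¹) := by rw [e2]
      _ = (v * e * v⁻¹) * (v * g * v'⁻¹) := by group
      _ = k 0 * (v * g * v'⁻¹) := by rw [e1]
  have h3 := h.cj_of_comm0 h2
  have h4 : g = v⁻¹ * (v * g * v'⁻¹) * v' := by group
  rw [h4]
  exact h.cj_mul_of (h.cj_mul_of (h.cj_inv_of hv) h3) hv'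

theorem f_uS [Finite K] : ∀ e ∈ S, cj e (R h.toBas) = R h.toBas → ∀ g,
    cj e (cj g (R h.toBas)) = cj g (R h.toBas) → cj g (R h.toBas) = R h.toBas := by
  intro e he hc g hg
  have h1 := cj_conj' hg
  have he1 : g⁻¹ * e * g ∈ S := h.cS.inv he
  obtain ⟨v, hv, e1⟩ := h.S_conj he (h.sqS e he) hc
  obtain ⟨v', hv', e2⟩ := h.S_conj he1 (h.sqS _ he1) h1
  have h2 : (v * g * v'⁻¹) * xi3 k γ = xi3 k γ * (v * g * v'⁻¹) := by
    calc (v * g * v'⁻¹) * xi3 k γ = (v * g * v'⁻¹) * (v' * (g⁻¹ * e * g) * v'⁻¹) := by rw [e2]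
      _ = (v * e * v⁻¹) * (v * g * v'⁻¹) := by group
      _ = xi3 k γ * (v * g * v'⁻¹) := by rw [e1]
  have h3 := h.cj_of_comm3 h2
  have h4 : g = v⁻¹ * (v * g * v'⁻¹) * v' := by group
  rw [h4]
  exact h.cj_mul_of (h.cj_mul_of (h.cj_inv_of hv) h3) hv'

theorem f_neD : ∃ e ∈ D, e ∈ R h.toBas := ⟨k 0, h.k0D, h.toBas.k0_mem⟩

theorem f_neS [Finite K] : ∃ s ∈ S, cj s (R h.toBas) = R h.toBas :=
  ⟨xi3 k γ, h.x3S, cj_of_acts h.acts_xi3⟩

theorem f_h6 [Finite K] : ∀ s ∈ S, cj s (R h.toBas) = R h.toBas → ∀ d ∈ D, d ∈ R h.toBas →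
    s * d = d * s → s * d ∈ S := by
  intro s hs hsR d hd hdR hc
  have h1 : cj (s * d) (R h.toBas) = R h.toBas := h.cj_mul_of hsR (cj_of_mem hdR)
  have h2 : (s * d) * (s * d) = 1 := by
    calc (s * d) * (s * d) = s * (d * s) * d := by group
      _ = s * (s * d) * d := by rw [hc]
      _ = (s * s) * (d * d) := by group
      _ = 1 := by rw [h.sqS s hs, h.sqD d hd, one_mul]
  have h3 : h.cnt (s * d) = 10 := by
    rw [← h.cnt_S hs hsR]
    unfold cnt
    congr 1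
    ext e
    simp only [Set.mem_ofPred_eq]
    refine and_congr_right fun _ => and_congr_right fun heR => ?_
    obtain ⟨m, _, rfl⟩ := heR
    obtain ⟨m', _, rfl⟩ := hdR
    have hcomm := h.toBas.r_comm m m'
    constructor
    · intro h4
      apply mul_right_cancel (b := r k m')
      rw [mul_assoc, h4, mul_assoc, mul_assoc, hcomm]
    · intro h4
      rw [← mul_assoc, h4, mul_assoc, mul_assoc, hcomm]
  rcases h.involution_cases h1 h2 with h4 | ⟨v, hv, h4 | h4 | h4⟩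
  · exfalso
    have h5 : s ∈ R h.toBas := by
      have := (R h.toBas).mul_mem h4 ((R h.toBas).inv_mem hdR)
      simpa using this
    obtain ⟨m, hm, e⟩ := h5
    exact h.not_mem_S hm (e ▸ hs)
  · rw [← h.cnt_conj hv, h4, h.cnt_xi1] at h3; exact absurd h3 (by norm_num)
  · rw [← h.cnt_conj hv, h4, h.cnt_xi2] at h3; exact absurd h3 (by norm_num)
  · have h5 : s * d = v⁻¹ * xi3 k γ * v := by rw [← h4]; group
    rw [h5]
    exact h.cS.inv h.x3S

theorem f_h7 [Finite K] : ∀ s ∈ S, cj s (R h.toBas) = R h.toBas → ∀ s' ∈ S, cj s' (R h.toBas) = R h.toBas →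
    s * s' = s' * s → ∃ d ∈ D, d ∈ R h.toBas ∧ d * (s * s') = (s * s') * d := by
  intro s hs hsR s' hs' hsR' hc
  obtain ⟨v, hv, e⟩ := h.S_conj hs (h.sqS s hs) hsR
  set t := v * s' * v⁻¹ with ht
  have htS : t ∈ S := h.cS v _ hs'
  have htR : cj t (R h.toBas) = R h.toBas := h.cj_mul_of (h.cj_mul_of hv hsR') (h.cj_inv_of hv)
  have htc : t * xi3 k γ = xi3 k γ * t := by
    rw [← e, ht]
    calc v * s' * v⁻¹ * (v * s * v⁻¹) = v * (s' * s) * v⁻¹ := by group
      _ = v * (s * s') * v⁻¹ := by rw [hc]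
      _ = v * s * v⁻¹ * (v * s' * v⁻¹) := by group
  obtain ⟨m, hm, w, hw, o, ho, e2⟩ := h.cent3 htc
  have htA : Acts k t (mw w) := by rw [e2]; exact h.acts_mulW (h.toBas.acts_rmul (h.toBas.acts_evw w) m) ho
  have hc10 : cntD (mw w) = 10 := by rw [← h.cnt_acts htA, h.cnt_S htS htR]
  have hI : mul (mw w) (mw w) = MI := by
    have h1 := h.toBas.acts_mul htA htA
    rw [h.sqS t htS] at h1
    exact pack_ext (mul_lt _ _) MI_lt fun i hi => h.toBas.acts_unique h1 Bas.acts_one hi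
  have h2 := List.all_eq_true.1 chkH7 _ (mem_C3M hw)
  rw [hI, hc10, force_eq] at h2
  simp only [Nat.beq_refl, Bool.and_self, cond_true] at h2
  obtain ⟨d, hd, hde⟩ := fixD_spec h2
  have h3 := h.comm_of_app (h.toBas.acts_mul h.acts_xi3 htA) hde
  refine ⟨v⁻¹ * r k d * v, h.cD.inv (h.mem_D_of_DD hd), h.conj_mem hv (r_mem_R _ (DD_lt hd)), ?_⟩
  have h4 : xi3 k γ * t = v * (s * s') * v⁻¹ := by rw [← e, ht]; group
  rw [h4] at h3
  calc v⁻¹ * r k d * v * (s * s') = v⁻¹ * (r k d * (v * (s * s') * v⁻¹)) * v := by group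
    _ = v⁻¹ * ((v * (s * s') * v⁻¹) * r k d) * v := by rw [h3]
    _ = s * s' * (v⁻¹ * r k d * v) := by group

/-- matrices of the elements of `S` normalising `R` -/
theorem acts_SL [Finite K] {s : K} (hs : s ∈ S) (hc : cj s (R h.toBas) = R h.toBas) :
    ∃ t ∈ SL, Acts k s t.1 := by
  obtain ⟨m, hm, w, hw, w', hw', o, ho, e⟩ := h.nf_of_cj hc
  have hA : Acts k s (mul (mw w) (mw w')) := by rw [e]; exact h.acts_nf m w w' ho
  have hI : mul (mul (mw w) (mw w')) (mul (mw w) (mw w')) = MI := by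
    have h1 := h.toBas.acts_mul hA hA
    rw [h.sqS s hs] at h1
    exact pack_ext (mul_lt _ _) MI_lt fun i hi => h.toBas.acts_unique h1 Bas.acts_one hi
  have h1 := List.all_eq_true.1 (List.all_eq_true.1 chkClsS _ (mem_S5M hw)) _ (mem_DM hw')
  rw [force_eq] at h1
  unfold clsS at h1
  rw [force_eq, hI, Nat.beq_refl, cond_true, ← h.cnt_acts hA, h.cnt_S hs hc, Nat.beq_refl, cond_true,
    List.any_eq_true] at h1
  obtain ⟨t, ht, hte⟩ := h1
  refine ⟨t, ht, ?_⟩
  rw [Nat.eq_of_beq_eq_true hte]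
  exact hA

/-- every matrix of the list `SL` is the matrix of an element of `S` -/
theorem exists_SL [Finite K] {t : ℕ × List ℕ} (ht : t ∈ SL) :
    ∃ s ∈ S, cj s (R h.toBas) = R h.toBas ∧ Acts k s t.1 := by
  have e := cjw_spec (List.all_eq_true.1 chkSL _ ht)
  have hv := h.cj_evw t.2
  have hA := h.toBas.acts_mul h.acts_xi3 (h.toBas.acts_evw t.2)
  refine ⟨(evw γ t.2)⁻¹ * xi3 k γ * evw γ t.2, h.cS.inv h.x3S,
    h.cj_mul_of (h.cj_mul_of (h.cj_inv_of hv) (cj_of_acts h.acts_xi3)) hv, ?_⟩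
  intro i hi
  have hk : k i ∈ R h.toBas := by rw [← Bas.r_pow (k := k) hi]; exact r_mem_R _ (by interval_cases i <;> norm_num)
  obtain ⟨m, hm, hme⟩ := h.conj_mem (h.cj_inv_of hv) hk
  rw [inv_inv] at hme
  have h1 : app (mw t.2) m = 2 ^ i := by
    apply h.toBas.r_inj (app_lt _ _) (by interval_cases i <;> norm_num)
    rw [← h.toBas.acts_r (h.toBas.acts_evw t.2), ← hme, Bas.r_pow hi]
    group
  have h2 := h.toBas.acts_r hA m
  rw [← e, app_mul, h1, app_pow _ hi, ← hme] at h2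
  rw [← h2]
  group

end HypW

end Cfsg.Agent.HN.XStructW
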