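import Cfsg.Agent.HN.H0Basic
import Cfsg.Agent.HN.Rep
import Cfsg.Agent.HN.Syl
import Cfsg.Agent.HN.XStruct
import Cfsg.Agent.HN.XIds
import Cfsg.Agent.S1701

/-!
# Words for the centraliser of a 2-central involution in `HN`

The involution is `w = a τ = y³ x²`; `Q i` (`i < 8`) generate an extraspecial group with centre `⟨w⟩`; `Γ 0 = y`, `Γ 1 = c`,
`Γ 2 = h` normalise it.
-/

set_option autoImplicit false

namespace Cfsg.Agent.HN.XWords

open Cfsg.Agent.HN.Pres Cfsg.Agent.HN.P1408 Cfsg.Agent.HN.H0Basic Cfsg.Agent.HN.XMat Cfsg.Agent.HN.XStruct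
open Cfsg.Agent.Lib.PackMatGroup (evG evG_nil evG_cons evG_append)
open Cfsg.Agent.SporadicA.PermTab (band_eq_true allB allB_iff)

/-- value of a word in `HN` (letters `x x⁻¹ y y⁻¹ z z⁻¹ t t⁻¹`) -/
def V (a : List ℕ) : Cfsg.Spor.HN := evG Rep.gens a

theorem V_nil : V [] = 1 := rfl
theorem V_cons (l : ℕ) (a : List ℕ) : V (l :: a) = Rep.gens.getD l 1 * V a := rfl
theorem V_append (a b : List ℕ) : V (a ++ b) = V a * V b := evG_append _ a b

theorem zz : Rep.z * Rep.z = 1 := by
  have h : Pres.hz ^ 2 = 1 := rels_HN.r7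
  rw [pow_two] at h
  exact h

theorem V_hw {a : List ℕ} (h : okw a = true) : NormalH.ψ (hw a) = V a := by
  rw [map_hw, NormalH.ψ_gx, NormalH.ψ_gy, NormalH.ψ_gz]
  induction a with
  | nil => rfl
  | cons l a ih =>
    obtain ⟨h1, h2⟩ := okw_cons h
    rw [P1408.ev_cons, V_cons, ih h2]
    congr 1
    match l, h1 with
    | 0, _ => rfl
    | 1, _ => rfl
    | 2, _ => rfl
    | 3, _ => rfl
    | 4, _ => rfl

/-- equality of words without `t` -/
theorem V_eq {a b : List ℕ} (h : eqw a b = true) : V a = V b := by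
  have h' := h
  unfold eqw at h'
  rw [Cfsg.Agent.SporadicA.PermTab.band_eq_true, Cfsg.Agent.SporadicA.PermTab.band_eq_true] at h'
  rw [← V_hw h'.1, ← V_hw h'.2.1, hw_eq h]

/-! ### free reduction -/

/-- inverse letter -/
def inv8 (l : ℕ) : ℕ :=
  match l with
  | 0 => 1
  | 1 => 0
  | 2 => 3
  | 3 => 2
  | 6 => 7
  | 7 => 6
  | l => l

theorem getD_inv8 (l : ℕ) : Rep.gens.getD l 1 * Rep.gens.getD (inv8 l) 1 = 1 := by
  have hz := zz
  have hz' : Rep.z⁻¹ * Rep.z⁻¹ = 1 := by rw [← mul_inv_rev, hz, inv_one]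
  match l with
  | 0 => exact mul_inv_cancel _
  | 1 => exact inv_mul_cancel _
  | 2 => exact mul_inv_cancel _
  | 3 => exact inv_mul_cancel _
  | 4 => exact hz
  | 5 => exact hz'
  | 6 => exact mul_inv_cancel _
  | 7 => exact inv_mul_cancel _
  | n + 8 => exact mul_one _

theorem inv8_inv8 (l : ℕ) : inv8 (inv8 l) = l := by
  match l with
  | 0 => rfl
  | 1 => rfl
  | 2 => rfl
  | 3 => rfl
  | 4 => rfl
  | 5 => rfl
  | 6 => rfl
  | 7 => rfl
  | n + 8 => rfl

/-- add a letter and cancel -/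
def push (l : ℕ) (a : List ℕ) : List ℕ :=
  match a with
  | [] => [l]
  | k :: a => bif Nat.beq k (inv8 l) then a else l :: k :: a

/-- free reduction -/
def fred (a : List ℕ) : List ℕ := List.rec [] (fun l _ ih => push l ih) a

theorem V_push (l : ℕ) (a : List ℕ) : V (push l a) = V (l :: a) := by
  match a with
  | [] => rfl
  | k :: a =>
    cases h : Nat.beq k (inv8 l)
    · simp only [push, h, cond_false]
    · simp only [push, h, cond_true]
      have h1 := Nat.eq_of_beq_eq_true h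
      subst h1
      rw [V_cons, V_cons, ← mul_assoc, getD_inv8, one_mul]

theorem V_fred (a : List ℕ) : V (fred a) = V a := by
  induction a with
  | nil => rfl
  | cons l a ih =>
    change V (push l (fred a)) = V (l :: a)
    rw [V_push, V_cons, V_cons, ih]

/-- inverse word -/
def iw8 (a : List ℕ) : List ℕ := (a.map inv8).reverse

theorem V_iw8 (a : List ℕ) : V (iw8 a) = (V a)⁻¹ := by
  induction a with
  | nil => exact inv_one.symm
  | cons l a ih =>
    have h : iw8 (l :: a) = iw8 a ++ [inv8 l] := by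
      rw [iw8, iw8, List.map_cons, List.reverse_cons]
    rw [h, V_append, ih, V_cons, V_cons, V_nil, mul_one, mul_inv_rev, eq_comm]
    congr 1
    rw [inv_eq_iff_mul_eq_one]
    exact getD_inv8 l

/-- from a reduced identity to an unreduced one -/
theorem V_one {a b : List ℕ} (h : V b = 1) (e : fred a = b) : V a = 1 := by
  rw [← V_fred, e, h]

/-! ### the identities involving `t` -/

theorem simple_HN : IsSimpleGroup Cfsg.Spor.HN := Cfsg.Agent.S1701.result.1

theorem id_c0 : V XIds.w_c0 = 1 := by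
  have := simple_HN
  exact XIds.c0
theorem id_c1 : V XIds.w_c1 = 1 := by
  have := simple_HN
  exact XIds.c1
theorem id_c2 : V XIds.w_c2 = 1 := by
  have := simple_HN
  exact XIds.c2
theorem id_c3 : V XIds.w_c3 = 1 := by
  have := simple_HN
  exact XIds.c3
theorem id_c4 : V XIds.w_c4 = 1 := by
  have := simple_HN
  exact XIds.c4
theorem id_c5 : V XIds.w_c5 = 1 := by
  have := simple_HN
  exact XIds.c5
theorem id_c6 : V XIds.w_c6 = 1 := by
  have := simple_HN
  exact XIds.c6
theorem id_h0 : V XIds.w_h0 = 1 := by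
  have := simple_HN
  exact XIds.h0
theorem id_h1 : V XIds.w_h1 = 1 := by
  have := simple_HN
  exact XIds.h1
theorem id_h2 : V XIds.w_h2 = 1 := by
  have := simple_HN
  exact XIds.h2
theorem id_h3 : V XIds.w_h3 = 1 := by
  have := simple_HN
  exact XIds.h3
theorem id_h4 : V XIds.w_h4 = 1 := by
  have := simple_HN
  exact XIds.h4
theorem id_h5 : V XIds.w_h5 = 1 := by
  have := simple_HN
  exact XIds.h5
theorem id_h6 : V XIds.w_h6 = 1 := by
  have := simple_HN
  exact XIds.h6
theorem id_h7 : V XIds.w_h7 = 1 := by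
  have := simple_HN
  exact XIds.h7
theorem id_q7c : V XIds.w_q7c = 1 := by
  have := simple_HN
  exact XIds.q7c
theorem id_q7sq : V XIds.w_q7sq = 1 := by
  have := simple_HN
  exact XIds.q7sq
theorem id_q7y : V XIds.w_q7y = 1 := by
  have := simple_HN
  exact XIds.q7y
theorem id_yh6 : V XIds.w_yh6 = 1 := by
  have := simple_HN
  exact XIds.yh6

/-! ### the generators -/

/-- the word of `w` -/
def w0w : List ℕ := [2, 2, 2, 0, 0]

/-- words of the basis of the extraspecial group -/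
def qw (i : ℕ) : List ℕ :=
  match i with
  | 0 => [0, 0]
  | 1 => [0, 4, 2, 2, 2, 4, 1]
  | 2 => [4, 2, 2, 2, 4, 3, 3, 3, 4]
  | 3 => [0, 3, 0, 2, 2, 2, 2, 4, 2, 4, 3, 3, 1, 3, 4]
  | 4 => [4, 2, 2, 0, 2, 2, 4, 2, 2, 2, 4, 3, 3, 1, 3, 3, 4]
  | 5 => [4, 3, 0, 2, 2, 0, 4, 2, 2, 4, 3, 3, 4, 1, 3, 3, 1, 2, 4]
  | 6 => [4, 2, 0, 2, 0, 2, 4, 2, 2, 4, 3, 3, 4, 3, 1, 3, 1, 3, 4]
  | 7 => [4, 3, 7, 4, 2, 2, 4, 3, 6, 4, 2, 2, 2, 4, 6, 2, 4, 3, 3, 4, 7, 2, 4]
  | _ => []

/-- words of the generators of the normaliser -/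
def gw (g : ℕ) : List ℕ :=
  match g with
  | 0 => [2]
  | 1 => [4, 2, 4, 2, 2, 0, 2, 0, 2, 2, 4, 3, 1, 3, 3, 4]
  | _ => [4, 3, 7, 3, 7, 3, 4, 6, 3, 3, 3, 4]

/-- word of the mask `m` (partial) -/
def rwn (m n : ℕ) : List ℕ := Nat.rec [] (fun i acc => acc ++ (bif m.testBit i then qw i else [])) n

/-- word of the mask `m` -/
def rmw (m : ℕ) : List ℕ := rwn m 8

/-- word of a word in the generators -/
def ew (w : List ℕ) : List ℕ := List.rec [] (fun g _ ih => gw g ++ ih) w

/-- sign -/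
def sg (b : Bool) : List ℕ := bif b then w0w else []

/-- the involution -/
def W0 : Cfsg.Spor.HN := V w0w

/-- generators of the extraspecial group -/
def Q (i : ℕ) : Cfsg.Spor.HN := V (qw i)

/-- generators of the normaliser -/
def Γ (g : ℕ) : Cfsg.Spor.HN := V (gw g)

theorem V_rwn (m n : ℕ) : V (rwn m n) = rr Q m n := by
  induction n with
  | zero => rfl
  | succ n ih =>
    have h : rwn m (n + 1) = rwn m n ++ (bif m.testBit n then qw n else []) := rfl
    rw [h, V_append, ih, rr_succ]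
    cases m.testBit n
    · rfl
    · rfl

theorem V_rmw (m : ℕ) : V (rmw m) = r Q m := V_rwn m 8

theorem V_ew (w : List ℕ) : V (ew w) = evw Γ w := by
  induction w with
  | nil => rfl
  | cons g w ih =>
    have h : ew (g :: w) = gw g ++ ew w := rfl
    rw [h, V_append, ih, evw_cons]
    rfl

theorem W0_sq : W0 * W0 = 1 := by
  rw [W0, ← V_append, ← V_nil]
  exact V_eq (by decide +kernel)

theorem W0_inv : W0⁻¹ = W0 := by rw [inv_eq_iff_mul_eq_one, W0_sq]

theorem W0_eq : W0 = NormalH.ψ (Syl.a * τ) := by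
  rw [← Syl.hw_a, ← hw_τ, ← hw_append, V_hw (by decide +kernel)]
  rfl

/-- the sign as a group element -/
def sgn0 (b : Bool) : Cfsg.Spor.HN := bif b then W0 else 1

theorem V_sg (b : Bool) : V (sg b) = sgn0 b := by cases b <;> rfl

theorem sgn0_inv (b : Bool) : (sgn0 b)⁻¹ = sgn0 b := by
  cases b
  · exact inv_one
  · exact W0_inv

theorem sgn0_mul (b c : Bool) : sgn0 b * sgn0 c = sgn0 (b ^^ c) := by
  cases b <;> cases c
  · exact one_mul _
  · exact one_mul _
  · exact mul_one _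
  · exact W0_sq

theorem chk_sq : allB (fun i => eqw (qw i ++ qw i) []) 7 = true := by decide +kernel

theorem Q_sq {i : ℕ} (hi : i < 7) : Q i * Q i = 1 := by
  rw [Q, ← V_append, ← V_nil]
  exact V_eq ((allB_iff _ _).1 chk_sq i hi)

/-- the masks of the commutator form -/
def Bm (j : ℕ) : ℕ :=
  match j with
  | 0 => 128
  | 1 => 64
  | 2 => 136
  | 3 => 68
  | 4 => 160
  | 5 => 144
  | 6 => 10
  | 7 => 53
  | _ => 0

theorem chk_comm : allB (fun i => allB (fun j => eqw (qw i ++ qw j)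
    (qw j ++ (qw i ++ sg ((Bm j).testBit i)))) 7) 7 = true := by decide +kernel

theorem chk_cw : allB (fun i => eqw (w0w ++ qw i) (qw i ++ w0w)) 7 = true := by decide +kernel

theorem chk_cg : allB (fun i => eqw (w0w ++ gw i) (gw i ++ w0w)) 2 = true := by decide +kernel

theorem Q7_sq : Q 7 * Q 7 = W0 := by
  have h : V (qw 7 ++ (qw 7 ++ iw8 w0w)) = 1 := V_one id_q7sq (by decide +kernel)
  rw [V_append, V_append, V_iw8, ← mul_assoc, mul_inv_eq_one] at h
  exact h

theorem cw {i : ℕ} (hi : i < 8) : W0 * Q i = Q i * W0 := by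
  rcases Nat.lt_or_ge i 7 with h | h
  · rw [Q, W0, ← V_append, ← V_append]
    exact V_eq ((allB_iff _ _).1 chk_cw i h)
  · obtain rfl : i = 7 := by omega
    rw [← Q7_sq, mul_assoc]

theorem cws {i : ℕ} (hi : i < 8) (b : Bool) : sgn0 b * Q i = Q i * sgn0 b := by
  cases b
  · exact (one_mul _).trans (mul_one _).symm
  · exact cw hi

theorem comm7_aux {i : ℕ} (h : V (qw i ++ (qw 7 ++ (iw8 (sg ((Bm 7).testBit i)) ++
    (iw8 (qw i) ++ iw8 (qw 7))))) = 1) : Q i * Q 7 = Q 7 * (Q i * sgn0 ((Bm 7).testBit i)) := by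
  rw [V_append, V_append, V_append, V_append, V_iw8, V_iw8, V_iw8, V_sg] at h
  have e : Q i * (Q 7 * ((sgn0 ((Bm 7).testBit i))⁻¹ * ((Q i)⁻¹ * (Q 7)⁻¹))) = 1 := h
  calc Q i * Q 7 = Q i * (Q 7 * ((sgn0 ((Bm 7).testBit i))⁻¹ * ((Q i)⁻¹ * (Q 7)⁻¹))) * Q 7 * Q i *
        sgn0 ((Bm 7).testBit i) := by group
    _ = Q 7 * (Q i * sgn0 ((Bm 7).testBit i)) := by rw [e]; group

theorem comm7 {i : ℕ} (hi : i < 7) : Q i * Q 7 = Q 7 * (Q i * sgn0 ((Bm 7).testBit i)) := by
  match i, hi with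
  | 0, _ => exact comm7_aux (V_one id_c0 (by decide +kernel))
  | 1, _ => exact comm7_aux (V_one id_c1 (by decide +kernel))
  | 2, _ => exact comm7_aux (V_one id_c2 (by decide +kernel))
  | 3, _ => exact comm7_aux (V_one id_c3 (by decide +kernel))
  | 4, _ => exact comm7_aux (V_one id_c4 (by decide +kernel))
  | 5, _ => exact comm7_aux (V_one id_c5 (by decide +kernel))
  | 6, _ => exact comm7_aux (V_one id_c6 (by decide +kernel))

theorem Bm_symm : allB (fun i => Bool.not (Bool.xor ((Bm 7).testBit i) ((Bm i).testBit 7))) 8 = true := by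
  decide +kernel

/-- **the commutator form** -/
theorem Q_comm {i j : ℕ} (hi : i < 8) (hj : j < 8) : Q i * Q j = Q j * (Q i * sgn0 ((Bm j).testBit i)) := by
  rcases Nat.lt_or_ge j 7 with h | h
  · rcases Nat.lt_or_ge i 7 with h' | h'
    · rw [← V_sg, Q, Q, ← V_append, ← V_append, ← V_append]
      exact V_eq ((allB_iff _ _).1 ((allB_iff _ _).1 chk_comm i h') j h)
    · obtain rfl : i = 7 := by omega
      have h1 := comm7 h
      have h2 : (Bm j).testBit 7 = (Bm 7).testBit j := by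
        have := (allB_iff _ _).1 Bm_symm j hj
        revert this
        cases (Bm 7).testBit j <;> cases (Bm j).testBit 7 <;> simp
      rw [h2]
      set b := (Bm 7).testBit j
      have h3 : sgn0 b * sgn0 b = 1 := by rw [sgn0_mul, Bool.xor_self]; rfl
      calc Q 7 * Q j = Q 7 * (Q j * (sgn0 b * sgn0 b)) := by rw [h3, mul_one]
        _ = (Q 7 * (Q j * sgn0 b)) * sgn0 b := by group
        _ = Q j * Q 7 * sgn0 b := by rw [← h1]
        _ = Q j * (Q 7 * sgn0 b) := by group
  · obtain rfl : j = 7 := by omega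
    rcases Nat.lt_or_ge i 7 with h' | h'
    · exact comm7 h'
    · obtain rfl : i = 7 := by omega
      have : (Bm 7).testBit 7 = false := by decide +kernel
      rw [this]
      change _ = Q 7 * (Q 7 * 1)
      rw [mul_one]

/-- signs of the action -/
def ep (g : ℕ) : ℕ :=
  match g with
  | 0 => 206
  | 1 => 2
  | _ => 136

theorem chk_act : allB (fun g => allB (fun i => eqw (qw i ++ gw g)
    (gw g ++ (rmw (row (gen g) i) ++ sg ((ep g).testBit i)))) 7) 2 = true := by decide +kernel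

/-- the relation `q_i^g` -/
def ActAt (g i : ℕ) : Prop := Q i * Γ g = Γ g * (r Q (row (gen g) i) * sgn0 ((ep g).testBit i))

theorem act_aux {g i : ℕ} (h : V (qw i ++ (gw g ++ (iw8 (sg ((ep g).testBit i)) ++
    (iw8 (rmw (row (gen g) i)) ++ iw8 (gw g))))) = 1) : ActAt g i := by
  rw [V_append, V_append, V_append, V_append, V_iw8, V_iw8, V_iw8, V_sg, V_rmw] at h
  have e : Q i * (Γ g * ((sgn0 ((ep g).testBit i))⁻¹ * ((r Q (row (gen g) i))⁻¹ * (Γ g)⁻¹))) = 1 := h
  unfold ActAt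
  calc Q i * Γ g = Q i * (Γ g * ((sgn0 ((ep g).testBit i))⁻¹ * ((r Q (row (gen g) i))⁻¹ * (Γ g)⁻¹))) *
        (Γ g * (r Q (row (gen g) i) * sgn0 ((ep g).testBit i))) := by group
    _ = Γ g * (r Q (row (gen g) i) * sgn0 ((ep g).testBit i)) := by rw [e, one_mul]

theorem act_lt {g i : ℕ} (hg : g < 2) (hi : i < 7) : ActAt g i := by
  unfold ActAt
  rw [← V_sg, ← V_rmw, Q, Γ, ← V_append, ← V_append, ← V_append]
  exact V_eq ((allB_iff _ _).1 ((allB_iff _ _).1 chk_act g hg) i hi)

theorem act_y7 : ActAt 0 7 := act_aux (V_one id_q7y (by decide +kernel))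
theorem act_c7 : ActAt 1 7 := act_aux (V_one id_q7c (by decide +kernel))

theorem act_h {i : ℕ} (hi : i < 8) : ActAt 2 i := by
  match i, hi with
  | 0, _ => exact act_aux (V_one id_h0 (by decide +kernel))
  | 1, _ => exact act_aux (V_one id_h1 (by decide +kernel))
  | 2, _ => exact act_aux (V_one id_h2 (by decide +kernel))
  | 3, _ => exact act_aux (V_one id_h3 (by decide +kernel))
  | 4, _ => exact act_aux (V_one id_h4 (by decide +kernel))
  | 5, _ => exact act_aux (V_one id_h5 (by decide +kernel))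
  | 6, _ => exact act_aux (V_one id_h6 (by decide +kernel))
  | 7, _ => exact act_aux (V_one id_h7 (by decide +kernel))

/-- **the action of the generators** -/
theorem act (g : ℕ) {i : ℕ} (hi : i < 8) : ActAt g i := by
  match g with
  | 0 =>
    rcases Nat.lt_or_ge i 7 with h | h
    · exact act_lt (by norm_num) h
    · obtain rfl : i = 7 := by omega
      exact act_y7
  | 1 =>
    rcases Nat.lt_or_ge i 7 with h | h
    · exact act_lt (by norm_num) h
    · obtain rfl : i = 7 := by omega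
      exact act_c7
  | n + 2 => exact act_h hi

/-- `w` is a product of conjugates -/
theorem W0_word : V (qw 1 ++ (qw 6 ++ (qw 1 ++ qw 6))) = W0 := V_eq (by decide +kernel)

theorem W0_word' : V (rmw 2 ++ (rmw 65 ++ (rmw 2 ++ rmw 65))) = W0 := V_eq (by decide +kernel)

theorem row_h1 : row (gen 2) 1 = 2 := by decide +kernel
theorem row_h6 : row (gen 2) 6 = 65 := by decide +kernel

/-- `w` commutes with the generators of the normaliser -/
theorem cwg (g : ℕ) : W0 * Γ g = Γ g * W0 := by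
  match g with
  | 0 =>
    rw [W0, Γ, ← V_append, ← V_append]
    exact V_eq ((allB_iff _ _).1 chk_cg 0 (by norm_num))
  | 1 =>
    rw [W0, Γ, ← V_append, ← V_append]
    exact V_eq ((allB_iff _ _).1 chk_cg 1 (by norm_num))
  | n + 2 =>
    change W0 * Γ 2 = Γ 2 * W0
    have h1 : Q 1 * Γ 2 = Γ 2 * (r Q (row (gen 2) 1) * sgn0 ((ep 2).testBit 1)) := act_h (by norm_num)
    have h6 : Q 6 * Γ 2 = Γ 2 * (r Q (row (gen 2) 6) * sgn0 ((ep 2).testBit 6)) := act_h (by norm_num)
    have e1 : (ep 2).testBit 1 = false := by decide +kernel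
    have e6 : (ep 2).testBit 6 = false := by decide +kernel
    rw [e1, row_h1] at h1
    rw [e6, row_h6] at h6
    change _ = Γ 2 * (r Q 2 * 1) at h1
    change _ = Γ 2 * (r Q 65 * 1) at h6
    rw [mul_one] at h1 h6
    have hw1 := W0_word
    have hw2 := W0_word'
    rw [V_append, V_append, V_append] at hw1 hw2
    rw [V_rmw, V_rmw] at hw2
    change Q 1 * (Q 6 * (Q 1 * Q 6)) = W0 at hw1
    calc W0 * Γ 2 = Q 1 * (Q 6 * (Q 1 * Q 6)) * Γ 2 := by rw [hw1]
      _ = Q 1 * (Q 6 * (Q 1 * (Q 6 * Γ 2))) := by group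
      _ = Q 1 * (Q 6 * ((Q 1 * Γ 2) * r Q 65)) := by rw [h6]; group
      _ = Q 1 * ((Q 6 * Γ 2) * (r Q 2 * r Q 65)) := by rw [h1]; group
      _ = (Q 1 * Γ 2) * (r Q 65 * (r Q 2 * r Q 65)) := by rw [h6]; group
      _ = Γ 2 * (r Q 2 * (r Q 65 * (r Q 2 * r Q 65))) := by rw [h1]; group
      _ = Γ 2 * W0 := by rw [hw2]

/-! ### products over masks -/

/-- number of common bits -/
def cnt (m b n : ℕ) : Bool := Nat.rec false (fun i acc => Bool.xor acc (m.testBit i && b.testBit i)) n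

theorem rr_comm (m : ℕ) {j n : ℕ} (hj : j < 8) (hn : n ≤ 8) :
    rr Q m n * Q j = Q j * (rr Q m n * sgn0 (cnt m (Bm j) n)) := by
  induction n with
  | zero =>
    change 1 * Q j = Q j * (1 * 1)
    group
  | succ n ih =>
    have ih' := ih (by omega)
    have hc : cnt m (Bm j) (n + 1) = Bool.xor (cnt m (Bm j) n) (m.testBit n && (Bm j).testBit n) := rfl
    rw [rr_succ, hc]
    cases h : m.testBit n
    · simp only [Bool.false_and, Bool.xor_false, Bool.false_eq_true, if_false, mul_one]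
      exact ih'
    · simp only [Bool.true_and, if_true]
      set b := (Bm j).testBit n with hb
      set c := cnt m (Bm j) n
      have h1 : Q n * Q j = Q j * (Q n * sgn0 b) := Q_comm (by omega) hj
      have h2 : sgn0 c * Q n = Q n * sgn0 c := cws (by omega) c
      calc rr Q m n * Q n * Q j = rr Q m n * (Q n * Q j) := by group
        _ = (rr Q m n * Q j) * (Q n * sgn0 b) := by rw [h1]; group
        _ = Q j * (rr Q m n * (sgn0 c * Q n)) * sgn0 b := by rw [ih']; group
        _ = Q j * (rr Q m n * Q n * (sgn0 c * sgn0 b)) := by rw [h2]; group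
        _ = Q j * (rr Q m n * Q n * sgn0 (c ^^ b)) := by rw [sgn0_mul]

theorem chk_form : allB (fun m => Bool.or (Nat.beq m 0)
    (Bool.not (allB (fun j => Bool.not (cnt m (Bm j) 8)) 8))) 256 = true := by decide +kernel

/-- nondegeneracy -/
theorem mask_zero {G : Type*} [Group G] (θ : Cfsg.Spor.HN →* G) {m : ℕ} (hm : m < 256) (hw1 : θ W0 ≠ 1)
    (h : ∀ j < 8, θ (r Q m) * θ (Q j) = θ (Q j) * θ (r Q m)) : m = 0 := by
  have h1 := (allB_iff _ _).1 chk_form m hm
  rw [Bool.or_eq_true] at h1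
  rcases h1 with h1 | h1
  · exact Nat.eq_of_beq_eq_true h1
  · exfalso
    rw [Bool.not_eq_true', ← Bool.not_eq_true, allB_iff] at h1
    apply h1
    intro j hj
    have h2 := rr_comm m (n := 8) hj le_rfl
    have h3 : r Q m * Q j = Q j * (r Q m * sgn0 (cnt m (Bm j) 8)) := h2
    have h3' := congrArg θ h3
    rw [map_mul, map_mul, map_mul, h j hj] at h3'
    have h4 : θ (sgn0 (cnt m (Bm j) 8)) = 1 := by
      have h5 := mul_left_cancel h3'
      exact (mul_eq_left.1 h5.symm)
    cases hc : cnt m (Bm j) 8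
    · rfl
    · rw [hc] at h4
      exact absurd h4 hw1

/-- `w` commutes with all partial products -/
theorem cwrr (m : ℕ) : ∀ n ≤ 8, W0 * rr Q m n = rr Q m n * W0 := by
  intro n
  induction n with
  | zero => intro _; exact (mul_one _).trans (one_mul _).symm
  | succ n ih =>
    intro hn
    rw [rr_succ]
    split
    · rw [← mul_assoc, ih (by omega), mul_assoc, cw (by omega), mul_assoc]
    · rw [mul_one]; exact ih (by omega)

/-- `w` commutes with all `r Q m` -/
theorem cwr (m : ℕ) : W0 * r Q m = r Q m * W0 := cwrr m 8 le_rfl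

theorem cwe (w : List ℕ) : W0 * evw Γ w = evw Γ w * W0 := by
  induction w with
  | nil => exact (mul_one _).trans (one_mul _).symm
  | cons g w ih => rw [evw_cons, ← mul_assoc, cwg, mul_assoc, ih, mul_assoc]

/-! ### the representatives -/

theorem yh6 : evw Γ [0, 2, 0, 2, 0, 2] * evw Γ [0, 2, 0, 2, 0, 2] = W0 := by
  have h : V (ew [0, 2, 0, 2, 0, 2] ++ (ew [0, 2, 0, 2, 0, 2] ++ iw8 w0w)) = 1 := V_one id_yh6 (by decide +kernel)
  rw [V_append, V_append, V_iw8, V_ew, ← mul_assoc, mul_inv_eq_one] at h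
  exact h

/-- word of the second representative -/
def x2w : List ℕ := [0, 2, 0, 3, 4, 3, 4, 2, 4, 1, 2, 4, 3, 3, 4]

/-- word of the third representative -/
def x3w : List ℕ := [0, 2, 4, 3, 1]

theorem x2_eq : r Q 45 * evw Γ [0, 1, 1, 1, 0, 0, 1] = V x2w := by
  rw [← V_rmw, ← V_ew, ← V_append]
  exact V_eq (by decide +kernel)

theorem x3_eq : r Q 92 * evw Γ [0, 1, 0, 1, 1] = V x3w := by
  rw [← V_rmw, ← V_ew, ← V_append]
  exact V_eq (by decide +kernel)

theorem r3_eq : r Q 3 = V (qw 0 ++ qw 1) := by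
  rw [← V_rmw]
  exact V_eq (by decide +kernel)

theorem r12_sq : r Q 12 * r Q 12 = W0 := by
  rw [← V_rmw, ← V_append]
  exact V_eq (by decide +kernel)

/-- conjugation from words -/
theorem isConj_of {a b u : List ℕ} (h : eqw (a ++ u) (u ++ b) = true) : IsConj (hw a) (hw b) := by
  have h1 := hw_eq h
  rw [hw_append, hw_append] at h1
  refine isConj_iff.2 ⟨(hw u)⁻¹, ?_⟩
  rw [inv_inv, mul_assoc, h1, inv_mul_cancel_left]

theorem conj_e : IsConj gz (hw x3w) := by
  rw [← hw_z]; exact isConj_of (u := [3, 0]) (by decide +kernel)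

theorem conj_ew : IsConj Syl.d (hw (x3w ++ w0w)) :=
  isConj_of (u := [0, 2, 0, 4, 2, 0, 3, 0, 3, 3, 4, 3, 4, 3, 4, 3]) (by decide +kernel)

theorem conj_x2 : IsConj Syl.d (hw x2w) :=
  isConj_of (u := [2, 2, 4, 2, 0, 4, 3, 3, 4, 3, 3, 0, 2, 2, 2, 4]) (by decide +kernel)

theorem conj_x2w : IsConj Syl.d (hw (x2w ++ w0w)) :=
  isConj_of (u := [2, 0, 4, 2, 2, 0, 3, 3, 0, 3, 0, 3, 3, 0, 3]) (by decide +kernel)

theorem conj_r3 : IsConj (Syl.a * τ) (hw (qw 0 ++ qw 1)) := by
  rw [← Syl.hw_a, ← hw_τ, ← hw_append]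
  exact isConj_of (u := [0, 4]) (by decide +kernel)

theorem conj_r3w : IsConj (Syl.a * τ) (hw (qw 0 ++ (qw 1 ++ w0w))) := by
  rw [← Syl.hw_a, ← hw_τ, ← hw_append]
  exact isConj_of (u := [4, 2, 4, 2, 2, 4, 2, 2, 2, 0, 3]) (by decide +kernel)

end Cfsg.Agent.HN.XWords
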